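import Cfsg.Agent.Base.R0
import Cfsg.Agent.Base.R1
import Cfsg.Agent.Base.R2
import Cfsg.Agent.Base.R3
import Cfsg.Agent.Base.R4
import Cfsg.Agent.Base.R5
import Cfsg.Agent.Base.R6
import Cfsg.Agent.Base.R7
import Cfsg.Agent.Base.R8
import Cfsg.Agent.Base.R9
import Cfsg.Agent.Base.R10
import Cfsg.Agent.Base.R11
import Cfsg.Agent.Base.R12
import Cfsg.Agent.Base.R13
import Cfsg.Agent.Base.R14
import Cfsg.Agent.Base.R15
import Cfsg.Agent.Base.R16
import Cfsg.Agent.Base.R17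
import Cfsg.Agent.Base.R18
import Cfsg.Agent.Base.R19
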