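import Cfsg.Statements.S0660
import Cfsg.Agent.Base
import Cfsg.Agent.Solv.CoprimeAbelian

set_option autoImplicit false
open Cfsg

namespace Cfsg.Agent.S0660

open scoped IsMulCommutative in
theorem aux {G : Type*} [Group G] [Finite G] (V A U : Subgroup G) [IsMulCommutative V]
    (hAV : A ≤ Subgroup.normalizer (V : Set G)) (hcop : (Nat.card A).Coprime (Nat.card V))
    (hUV : U ≤ V) (hAU : A ≤ Subgroup.normalizer (U : Set G)) (π : V →* V)
    (h1 : ∀ v, (π v : G) ∈ U) (h2 : ∀ v : V, (v : G) ∈ U → π v = v) :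
    ∃ W' : Subgroup G, W' ≤ V ∧ A ≤ Subgroup.normalizer (W' : Set G) ∧ U ⊓ W' = ⊥ ∧
      U ⊔ W' = V := by
  classical
  have := Fintype.ofFinite A
  let φ : V →* V := ∏ a : A, (CL.conjOn hAV a⁻¹).comp (π.comp (CL.conjOn hAV a))
  have hφ : ∀ v, φ v = ∏ a : A, CL.conjOn hAV a⁻¹ (π (CL.conjOn hAV a v)) :=
    fun v => MonoidHom.finsetProd_apply _ _ _
  have hU : ∀ (a : A) (v : V), (v : G) ∈ U → (CL.conjOn hAV a v : G) ∈ U := fun a v hv =>
    CL.conj_mem_of_le_normalizer hAU a.2 hv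
  have e1 : ∀ (b : A) (v : V), φ (CL.conjOn hAV b v) = CL.conjOn hAV b (φ v) := by
    intro b v
    rw [hφ, hφ, map_prod]
    simp only [← CL.conjOn_mul]
    refine Fintype.prod_equiv (Equiv.mulRight b) _ _ (fun a => ?_)
    simp
  have e2 : ∀ v, φ v ∈ U.subgroupOf V := by
    intro v
    rw [hφ]
    exact Subgroup.prod_mem _ fun a _ => hU _ _ (h1 _)
  have e3 : ∀ v : V, (v : G) ∈ U → φ v = v ^ Nat.card A := by
    intro v hv
    rw [hφ, Finset.prod_congr rfl (g := fun _ => v)]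
    · simp
    · intro a _
      rw [h2 _ (hU a v hv), ← CL.conjOn_mul, inv_mul_cancel, CL.conjOn_one]
  have hc : ∀ v : V, (Nat.card A).Coprime (orderOf v) := fun v =>
    hcop.coprime_dvd_right (orderOf_dvd_natCard v)
  refine ⟨φ.ker.map V.subtype, Subgroup.map_subtype_le _, ?_, ?_, ?_⟩
  · refine Subgroup.le_normalizer_iff.2 ?_
    rintro a ha _ ⟨v, hv, rfl⟩
    refine ⟨CL.conjOn hAV ⟨a, ha⟩ v, ?_, rfl⟩
    show φ _ = 1
    rw [e1, show φ v = 1 from hv, map_one]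
  · rw [eq_bot_iff]
    rintro _ ⟨hv, v, hv', rfl⟩
    have h3 : v ^ Nat.card A = 1 := (e3 v hv).symm.trans hv'
    have h4 : v = 1 := orderOf_eq_one_iff.1
      (Nat.eq_one_of_dvd_coprimes (hc v) (orderOf_dvd_of_pow_eq_one h3) dvd_rfl)
    simp [h4]
  · refine le_antisymm (sup_le hUV (Subgroup.map_subtype_le _)) fun x hx => ?_
    obtain ⟨m, hm⟩ := exists_pow_eq_self_of_coprime (hc (φ ⟨x, hx⟩))
    have h3 : (((φ ⟨x, hx⟩) ^ m : V) : G) ∈ U := U.pow_mem (e2 _) m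
    have h4 : x = ((φ ⟨x, hx⟩) ^ m : V) * ((((φ ⟨x, hx⟩) ^ m)⁻¹ * ⟨x, hx⟩ : V) : G) := by simp
    rw [h4]
    refine Subgroup.mul_mem_sup h3 ⟨((φ ⟨x, hx⟩) ^ m)⁻¹ * ⟨x, hx⟩, ?_, rfl⟩
    show φ _ = 1
    rw [map_mul, map_inv, e3 _ h3, ← pow_mul, mul_comm m, pow_mul, hm, inv_mul_cancel]

/-- Under a coprime action on an abelian group, an invariant subgroup that is complemented admits an invariant complement. -/
theorem result {G : Type*} [Group G] [Finite G] (V A U : Subgroup G) (hVab : IsMulCommutative V) (hAV : A ≤ Subgroup.normalizer (V : Set G)) (hcop : (Nat.card A).Coprime (Nat.card V)) (hUV : U ≤ V) (hAU : A ≤ Subgroup.normalizer (U : Set G)) (W : Subgroup G) (hWV : W ≤ V) (hUW : U ⊓ W = ⊥) (hUWV : U ⊔ W = V) : ∃ W' : Subgroup G, W' ≤ V ∧ A ≤ Subgroup.normalizer (W' : Set G) ∧ U ⊓ W' = ⊥ ∧ U ⊔ W' = V := by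
  have hn : (W.subgroupOf V).Normal := Subgroup.normal_of_isMulCommutative _
  have hc : (U.subgroupOf V).IsComplement' (W.subgroupOf V) := by
    refine Subgroup.isComplement'_of_disjoint_and_mul_eq_univ ?_ ?_
    · rw [disjoint_iff, Subgroup.subgroupOf, Subgroup.subgroupOf, ← Subgroup.comap_inf, hUW]
      exact Subgroup.bot_subgroupOf V
    · rw [← Subgroup.mul_normal, ← Subgroup.subgroupOf_sup hUV hWV, hUWV,
        Subgroup.subgroupOf_self, Subgroup.coe_top]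
  refine aux V A U hAV hcop hUV hAU ((U.subgroupOf V).subtype.comp
    (hc.QuotientMulEquiv.toMonoidHom.comp (QuotientGroup.mk' _))) 
    (fun v => (hc.QuotientMulEquiv (QuotientGroup.mk v)).2)
    fun v hv => ?_
  have : hc.QuotientMulEquiv (QuotientGroup.mk v) = ⟨v, hv⟩ :=
    hc.QuotientMulEquiv.symm.injective (by simp; rfl)
  exact congrArg Subtype.val this

end Cfsg.Agent.S0660
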