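import Cfsg.Agent.Base
import Cfsg.Statements.S0028

set_option autoImplicit false
open Cfsg

namespace Cfsg.Agent.S0028

/-- Thompson's P × Q Lemma: let a p-subgroup P and a subgroup Q of order prime to p centralise each other and normalise a p-subgroup U; if every element of U fixed by P is fixed by Q, then Q centralises U. -/
theorem result {G : Type*} [Group G] [Finite G] (p : ℕ) [Fact p.Prime]
    (P Q U : Subgroup G) (hP : IsPGroup p P) (hQ : (Nat.card Q).Coprime p) (hU : IsPGroup p U)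
    (hPQ : P ≤ Subgroup.centralizer (Q : Set G))
    (hPU : P ≤ Subgroup.normalizer (U : Set G)) (hQU : Q ≤ Subgroup.normalizer (U : Set G))
    (hC : U ⊓ Subgroup.centralizer (P : Set G) ≤ Subgroup.centralizer (Q : Set G)) :
    Q ≤ Subgroup.centralizer (U : Set G) := by
  rw [Subgroup.le_centralizer_iff]
  set S : Subgroup G := P ⊔ U with hS
  have hSp : IsPGroup p S := hP.to_sup_of_normal_right' hU hPU
  have : Group.IsNilpotent S := hSp.isNilpotent
  set C : Subgroup G := Subgroup.centralizer (Q : Set G) with hCdef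
  by_contra hne
  have hlt : C.subgroupOf S < ⊤ := by
    rw [lt_top_iff_ne_top]
    intro h
    rw [Subgroup.subgroupOf_eq_top] at h
    exact hne (le_sup_right.trans h)
  obtain ⟨s, hsN, hsC⟩ :=
    SetLike.exists_of_lt (Group.normalizerCondition_of_isNilpotent (G := S) _ hlt)
  have hs : (s : G) ∈ ((P ⊔ U : Subgroup G) : Set G) := s.2
  rw [Subgroup.coe_mul_of_left_le_normalizer_right P U hPU] at hs
  obtain ⟨x, hx, d, hd, hxd⟩ := hs
  have hxS : x ∈ S := Subgroup.mem_sup_left hx
  have hdS : d ∈ S := Subgroup.mem_sup_right hd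
  have hxC : (⟨x, hxS⟩ : S) ∈ C.subgroupOf S := hPQ hx
  have hds : (⟨d, hdS⟩ : S) = (⟨x, hxS⟩ : S)⁻¹ * s := by
    apply Subtype.ext
    simp [← hxd]
  have hdN : (⟨d, hdS⟩ : S) ∈ Subgroup.normalizer ((C.subgroupOf S : Subgroup S) : Set S) := by
    rw [hds]
    exact Subgroup.mul_mem _ (Subgroup.inv_mem _ (Subgroup.le_normalizer hxC)) hsN
  have hdC : d ∉ C := by
    intro h
    apply hsC
    have : s = (⟨x, hxS⟩ : S) * ⟨d, hdS⟩ := by rw [hds]; group
    rw [this]
    exact Subgroup.mul_mem _ hxC h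
  apply hdC
  -- `d⁻¹ y d ∈ C` for all `y ∈ P`
  have h1 : ∀ y ∈ P, d⁻¹ * y * d ∈ C := by
    intro y hy
    have hyC : (⟨y, Subgroup.mem_sup_left hy⟩ : S) ∈ C.subgroupOf S := hPQ hy
    have := (Subgroup.mem_normalizer_iff''.1 hdN _).1 hyC
    exact this
  intro q hq
  -- `c = q d q⁻¹ d⁻¹` is centralized by `P`
  set c := q * d * q⁻¹ * d⁻¹ with hc
  have hcU : c ∈ U :=
    U.mul_mem ((Subgroup.mem_normalizer_iff.1 (hQU hq) d).1 hd) (U.inv_mem hd)
  have hcP : c ∈ Subgroup.centralizer (P : Set G) := by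
    intro y hy
    have e1 : q * y = y * q := hPQ hy q hq
    have e2 : q⁻¹ * (d⁻¹ * y * d) = (d⁻¹ * y * d) * q⁻¹ := h1 y hy _ (Q.inv_mem hq)
    calc y * c = (y * q) * d * q⁻¹ * d⁻¹ := by rw [hc]; group
      _ = q * d * ((d⁻¹ * y * d) * q⁻¹) * d⁻¹ := by rw [← e1]; group
      _ = c * y := by rw [← e2, hc]; group
  have hcC : c ∈ C := hC ⟨hcU, hcP⟩
  have hcq : q * c = c * q := hcC q hq
  have hpow : ∀ n : ℕ, q ^ n * d = c ^ n * d * q ^ n := by
    intro n
    induction n with
    | zero => simp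
    | succ n ih =>
      have e : q * c ^ n = c ^ n * q := (Commute.pow_right (show Commute q c from hcq) n).eq
      calc q ^ (n + 1) * d = q * (q ^ n * d) := by rw [pow_succ']; group
        _ = (q * c ^ n) * d * q ^ n := by rw [ih]; group
        _ = c ^ n * (q * d * q⁻¹ * d⁻¹) * d * (q * q ^ n) := by rw [e]; group
        _ = c ^ (n + 1) * d * q ^ (n + 1) := by rw [← hc, pow_succ, pow_succ']
  have hqn : q ^ Nat.card Q = 1 := by
    have : (⟨q, hq⟩ : Q) ^ Nat.card Q = 1 := pow_card_eq_one'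
    exact congrArg Subtype.val this
  have hcn : c ^ Nat.card Q = 1 := by
    have := hpow (Nat.card Q)
    rw [hqn, one_mul, mul_one] at this
    exact mul_right_cancel (b := d) (by rw [← this, one_mul])
  obtain ⟨k, hk⟩ := hU ⟨c, hcU⟩
  have hk' : c ^ p ^ k = 1 := congrArg Subtype.val hk
  have hc1 : c = 1 := by
    have h2 := pow_gcd_eq_one.2 ⟨hcn, hk'⟩
    rwa [(hQ.pow_right k).gcd_eq_one, pow_one] at h2
  have : q * d = c * (d * q) := by rw [hc]; group
  rw [this, hc1, one_mul]

end Cfsg.Agent.S0028
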