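import Cfsg.Statements.S1302
import Cfsg.Agent.Base
import Cfsg.Agent.PLoc.OpE
import Cfsg.Agent.PLocal.Constraint

set_option autoImplicit false
open Cfsg

namespace Cfsg.Agent.S1302

open scoped commutatorElement

/-- Let X be a finite p-constrained group, p an odd prime, and A an abelian p-subgroup of X containing every element of order p of C_X(A). Then every subgroup of X of order prime to p that is normalized by A lies in O_{p'}(X). -/
theorem result {X : Type*} [Group X] [Finite X] (p : ℕ) [Fact p.Prime] (hp : p ≠ 2) (hX : Cfsg.IsPConstrained p X) (A : Subgroup X) (hA : IsMulCommutative ↥A) (hAp : IsPGroup p ↥A) (hΩ : ∀ x ∈ Subgroup.centralizer (A : Set X), orderOf x = p → x ∈ A) (Q : Subgroup X) (hQ : ¬ p ∣ Nat.card ↥Q) (hAQ : A ≤ Subgroup.normalizer (Q : Set X)) : Q ≤ Cfsg.pPrimeCore p X := by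
  have hpp : p.Prime := Fact.out
  have hQc : (Nat.card Q).Coprime p := ((Nat.Prime.coprime_iff_not_dvd hpp).2 hQ).symm
  set f := QuotientGroup.mk' (pPrimeCore p X) with hf
  have hfs : Function.Surjective f := QuotientGroup.mk'_surjective _
  have hk : (Nat.card f.ker).Coprime p :=
    CL.PComp.coprime_card_ker_mk' CL.PComp.coprime_card_pPrimeCore'
  have hch := CL.PL.isPConstrained_iff.1 hX
  set R := pCore p (X ⧸ pPrimeCore p X) with hR
  have hRp : IsPGroup p R := CL.PLoc.isPGroup_pCore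
  have hRn : Subgroup.normalizer (R : Set (X ⧸ pPrimeCore p X)) = ⊤ := Subgroup.normalizer_eq_top _
  have hQc' : (Nat.card (Q.map f)).Coprime p := CL.PComp.coprime_card_map f hQc
  have hAQ' : A.map f ≤ Subgroup.normalizer ((Q.map f : Subgroup _) : Set (X ⧸ pPrimeCore p X)) :=
    (Subgroup.map_mono hAQ).trans (Subgroup.le_normalizer_map f)
  have hRQ : R ⊓ Q.map f = ⊥ := CL.PLoc.inf_eq_bot_of_isPGroup_of_coprime hRp hQc'
  have key : R ≤ Subgroup.centralizer ((Q.map f : Subgroup _) : Set (X ⧸ pPrimeCore p X)) := by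
    refine CL.PLoc.centralizer_of_odd_of_normalizes hp (hAp.map f) hQc' hRp hAQ'
      (hRn ▸ le_top) (hRn ▸ le_top) ?_
    intro x hxR hxp hxC
    rw [← CL.PL.map_centralizer_eq f hfs hk hAp] at hxC
    obtain ⟨c, hc, rfl⟩ := hxC
    obtain ⟨a, ha, ⟨j, hj⟩, hfa⟩ := CL.Transfer.exists_p_lift (p := p) f c (k := 1) (by simpa using hxp)
    have hap : a ^ p = 1 := by
      refine CL.Transfer.eq_one_of_pow_eq_one_of_coprime (p := p) (k := j) ?_ ?_
      · rw [← pow_mul, mul_comm, pow_mul, hj, one_pow]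
      · refine Nat.Coprime.coprime_dvd_left (Subgroup.orderOf_dvd_natCard f.ker ?_) hk
        rw [MonoidHom.mem_ker, map_pow, hfa, hxp]
    have haA : a ∈ A := by
      by_cases h1 : a = 1
      · rw [h1]; exact one_mem _
      · exact hΩ a (Subgroup.zpowers_le.2 hc ha) (orderOf_eq_prime hap h1)
    have hxA : f c ∈ A.map f := hfa ▸ Subgroup.mem_map_of_mem f haA
    intro q hq
    have h1 : ⁅q, f c⁆ ∈ R ⊓ Q.map f := by
      refine ⟨?_, Subgroup.le_normalizer_iff_commutator_le_left.1 hAQ'
        (Subgroup.commutator_mem_commutator hq hxA)⟩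
      exact R.mul_mem (Subgroup.Normal.conj_mem inferInstance _ hxR q) (R.inv_mem hxR)
    rw [hRQ, Subgroup.mem_bot, commutatorElement_eq_one_iff_mul_comm] at h1
    exact h1
  have h2 : Q.map f ≤ R ⊓ Q.map f :=
    le_inf ((Subgroup.le_centralizer_iff.1 key).trans hch) le_rfl
  rw [hRQ, le_bot_iff, Subgroup.map_eq_bot_iff, hf, QuotientGroup.ker_mk'] at h2
  exact h2

end Cfsg.Agent.S1302
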