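import Cfsg.Agent.Base
import Cfsg.Statements.S0916
import Cfsg.Agent.Blocks.SylowIn

set_option autoImplicit false
open Cfsg

namespace Cfsg.Agent.S0916

open CL.Blocks

/-- Let P be a p-subgroup of the finite group G, C its centralizer and N its normalizer. Say that a conjugacy class (of G, or of N) has defect group P when P is a Sylow p-subgroup of the centralizer (in G, respectively in N) of some element of the class. Then: (i) if the class of g in G has defect group P, the elements of that class lying in C form a single N-class, again with defect group P; (ii) every N-class with defect group P arises this way from exactly one G-class with defect group P. -/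
theorem result {G : Type*} [Group G] [Finite G] (p : ℕ) [Fact p.Prime] (P : Subgroup G) (hP : IsPGroup p P) : (∀ g : G, (∃ S : Sylow p (Subgroup.centralizer ({g} : Set G)), (S : Subgroup (Subgroup.centralizer ({g} : Set G))).map (Subgroup.centralizer ({g} : Set G)).subtype = P) → (∃ c : G, IsConj g c ∧ c ∈ Subgroup.centralizer (P : Set G)) ∧ (∀ c₁ c₂ : G, IsConj g c₁ → IsConj g c₂ → c₁ ∈ Subgroup.centralizer (P : Set G) → c₂ ∈ Subgroup.centralizer (P : Set G) → ∃ n ∈ Subgroup.normalizer (P : Set G), n * c₁ * n⁻¹ = c₂)) ∧ (∀ c : G, c ∈ Subgroup.centralizer (P : Set G) → (∃ S : Sylow p (Subgroup.centralizer ({c} : Set G) ⊓ Subgroup.normalizer (P : Set G) : Subgroup G), (S : Subgroup ↥(Subgroup.centralizer ({c} : Set G) ⊓ Subgroup.normalizer (P : Set G))).map (Subgroup.centralizer ({c} : Set G) ⊓ Subgroup.normalizer (P : Set G)).subtype = P) → ∃ S : Sylow p (Subgroup.centralizer ({c} : Set G)), (S : Subgroup (Subgroup.centralizer ({c} : Set G))).map (Subgroup.centralizer ({c} : Set G)).subtype = P) := by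
  refine ⟨fun g hg => ?_, fun c hc hS => ?_⟩
  · change IsSylowIn p P _ at hg
    refine ⟨⟨g, IsConj.refl g, le_centralizer_singleton_iff.1 hg.le⟩, ?_⟩
    have key : ∀ c : G, IsConj g c → c ∈ Subgroup.centralizer (P : Set G) →
        IsSylowIn p P (Subgroup.centralizer ({c} : Set G)) := fun c hgc hc =>
      IsSylowIn.of_card_eq (le_centralizer_singleton_iff.2 hc)
        (by rw [card_centralizer_singleton_of_isConj hgc, hg.card_eq])
    intro c₁ c₂ h₁ h₂ hc₁ hc₂
    obtain ⟨x, hx⟩ := isConj_iff.1 (h₁.symm.trans h₂)
    have k₁ := (key c₁ h₁ hc₁).map_conj x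
    rw [← centralizer_singleton_conj, hx] at k₁
    obtain ⟨y, hy, hyP⟩ := k₁.exists_conj (key c₂ h₂ hc₂)
    rw [map_conj_map_conj, map_conj_eq_iff_mem_normalizer] at hyP
    refine ⟨y * x, hyP, ?_⟩
    rw [Subgroup.mem_centralizer_singleton_iff] at hy
    calc y * x * c₁ * (y * x)⁻¹ = y * (x * c₁ * x⁻¹) * y⁻¹ := by group
      _ = c₂ := by rw [hx, hy]; group
  · exact IsSylowIn.of_inf_normalizer (le_centralizer_singleton_iff.2 hc) hS

end Cfsg.Agent.S0916
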