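import Cfsg.Statements.S0923
import Cfsg.Agent.Base
import Cfsg.Agent.Blocks.TraceSecond
import Cfsg.Agent.Blocks.PPart
import Cfsg.Agent.S0922
import Cfsg.Agent.S0919

set_option autoImplicit false
open Cfsg

namespace Cfsg.Agent.S0923

/-- Brauer's Second Main Theorem, in terms of ordinary characters. Let x be a p-element of the finite group G with centralizer C, let χ lie in the block B of G and let b be a block of C that does not induce B (relative to a maximal ideal M of the algebraic integers containing p). Form the class function ϑ(c) = χ(x c) on C and its b-part (the sum over ψ ∈ b of the inner product of ϑ with ψ, times ψ). Then the b-part of ϑ vanishes at every p-regular element of C. (Equivalently, the generalized decomposition numbers of χ with respect to b are zero.) -/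
theorem result {G : Type*} [Group G] [Finite G] (p : ℕ) [Fact p.Prime] (M : Ideal Cfsg.AlgInt) (hM : Cfsg.IsPModular p M) (x : G) (hx : ∃ k : ℕ, orderOf x = p ^ k) (B : Set (Cfsg.IrrCharacter G)) (hB : Cfsg.IsPBlock M B) (χ : Cfsg.IrrCharacter G) (hχ : χ ∈ B) (b : Set (Cfsg.IrrCharacter (Subgroup.centralizer ({x} : Set G)))) (hb : Cfsg.IsPBlock M b) (hnot : ¬ Cfsg.IsInducedBlock M (Subgroup.centralizer ({x} : Set G)) b B) (y : Subgroup.centralizer ({x} : Set G)) (hy : ¬ p ∣ orderOf y) : Cfsg.blockPart b (fun c : Subgroup.centralizer ({x} : Set G) => (χ : G → ℂ) (x * (c : G))) y = 0 := by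
  have := hM.2.1
  have hxH : x ∈ Subgroup.centralizer ({x} : Set G) := by
    rw [Subgroup.mem_centralizer_iff]
    rintro _ rfl
    rfl
  have hcomm : ∀ c : Subgroup.centralizer ({x} : Set G), x * (c : G) = (c : G) * x := fun c =>
    Subgroup.mem_centralizer_iff.1 c.2 x rfl
  obtain ⟨k, hk⟩ := hx
  obtain ⟨B', hB'⟩ := Cfsg.Agent.S0919.result p M hM (Subgroup.zpowers x)
    (Subgroup.centralizer ({x} : Set G))
    (IsPGroup.of_card (n := k) (by rw [Nat.card_zpowers, hk]))
    ((Subgroup.zpowers_le).2 hxH)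
    (Subgroup.centralizer_le (Set.singleton_subset_iff.2 (Subgroup.mem_zpowers x)))
    (by
      refine le_trans ?_ (Subgroup.centralizer_le_normalizer _)
      intro c hc
      rw [Subgroup.mem_centralizer_iff]
      rintro _ ⟨n, rfl⟩
      exact (Commute.zpow_left (hcomm ⟨c, hc⟩) n).eq) b hb
  have hχ' : χ ∉ B' := fun h => hnot (CL.Blocks.block_eq_of_mem hB hB'.2.1 hχ h ▸ hB')
  have hcl : Cfsg.IsClassFunction (Subgroup.centralizer ({x} : Set G))
      (fun c : Subgroup.centralizer ({x} : Set G) => (χ : G → ℂ) (x * (c : G))) := by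
    intro g h
    simp only [Subgroup.coe_mul, Subgroup.coe_inv]
    rw [← CL.Char.irr_isClassFunction χ.2 (x * g) h, ← mul_assoc, ← mul_assoc, hcomm h,
      mul_assoc (h : G) x]
  have h1 := Cfsg.Agent.S0922.result p M hM _ b B' hB' (⟨x, hxH⟩ * y) (fun z hz => ?_) χ hχ'
  · have := Fintype.ofFinite (Subgroup.centralizer ({x} : Set G))
    rw [CL.Blocks.blockPart_eq_ev b hcl, CL.Blocks.ev_mul_single, ← h1, finsum_eq_sum_of_fintype]
    refine Finset.sum_congr rfl fun c _ => ?_
    simp only [CL.Blocks.coeff_idem, Subgroup.coe_mul]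
    rw [← mul_assoc x, hcomm c, mul_assoc]
  · have hx' : Cfsg.IsPPart p (x * (y : G)) x :=
      ⟨y, rfl, hcomm y, ⟨k, hk⟩, by rwa [Subgroup.orderOf_coe]⟩
    rw [CL.Blocks.ppart_unique hz hx']

end Cfsg.Agent.S0923
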