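import Cfsg.Agent.Base
import Cfsg.Statements.S0903

set_option autoImplicit false
open Cfsg

namespace Cfsg.Agent.S0903

/-- A `p`-group acting on a finite type: the number of points with an invariant property is
congruent modulo `p` to the number of fixed points with that property. -/
theorem card_subtype_modEq {P α : Type*} [Group P] [MulAction P α] [Finite α] {p : ℕ}
    [Fact p.Prime] (hP : IsPGroup p P) (q : α → Prop)
    (hq : ∀ (u : P) (a : α), q a → q (u • a)) :
    Nat.card {a : α // q a} ≡ Nat.card {a : α // q a ∧ ∀ u : P, u • a = a} [MOD p] := by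
  let S : SubMulAction P α := ⟨{a | q a}, fun u a ha => hq u a ha⟩
  have h1 := hP.card_modEq_card_fixedPoints S
  have h2 : Nat.card (MulAction.fixedPoints P S) = Nat.card {a : α // q a ∧ ∀ u : P, u • a = a} := by
    refine Nat.card_congr ⟨fun a => ⟨a.1.1, a.1.2, fun u => congrArg Subtype.val (a.2 u)⟩,
      fun a => ⟨⟨a.1, a.2.1⟩, fun u => Subtype.ext (a.2.2 u)⟩, fun a => rfl, fun a => rfl⟩
  rw [h2] at h1
  exact h1

/-- Let P be a p-subgroup of the finite group G, let c centralize P and let g, h ∈ G. The number of pairs (x, y) with x conjugate to g, y conjugate to h and x * y = c is congruent modulo p to the number of such pairs in which x and y both centralize P. (This is why the Brauer map on class sums is multiplicative.) -/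
theorem result {G : Type*} [Group G] [Finite G] (p : ℕ) [Fact p.Prime] (P : Subgroup G) (hP : IsPGroup p P) (c : G) (hc : c ∈ Subgroup.centralizer (P : Set G)) (g h : G) : Nat.card {xy : G × G // IsConj g xy.1 ∧ IsConj h xy.2 ∧ xy.1 * xy.2 = c} ≡ Nat.card {xy : G × G // IsConj g xy.1 ∧ IsConj h xy.2 ∧ xy.1 * xy.2 = c ∧ xy.1 ∈ Subgroup.centralizer (P : Set G) ∧ xy.2 ∈ Subgroup.centralizer (P : Set G)} [MOD p] := by
  let act : MulAction P (G × G) :=
    { smul := fun u xy => ((u : G) * xy.1 * (u : G)⁻¹, (u : G) * xy.2 * (u : G)⁻¹)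
      one_smul := fun xy => by
        change (((1 : P) : G) * xy.1 * ((1 : P) : G)⁻¹, ((1 : P) : G) * xy.2 * ((1 : P) : G)⁻¹) = xy
        simp
      mul_smul := fun u v xy => by
        change (((u * v : P) : G) * xy.1 * ((u * v : P) : G)⁻¹,
          ((u * v : P) : G) * xy.2 * ((u * v : P) : G)⁻¹) =
          ((u : G) * ((v : G) * xy.1 * (v : G)⁻¹) * (u : G)⁻¹,
            (u : G) * ((v : G) * xy.2 * (v : G)⁻¹) * (u : G)⁻¹)
        simp [mul_assoc] }
  have key := @card_subtype_modEq P (G × G) _ act _ p _ hP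
    (fun xy => IsConj g xy.1 ∧ IsConj h xy.2 ∧ xy.1 * xy.2 = c) (by
      rintro u ⟨x, y⟩ ⟨h1, h2, h3⟩
      change IsConj g ((u : G) * x * (u : G)⁻¹) ∧ IsConj h ((u : G) * y * (u : G)⁻¹) ∧
        ((u : G) * x * (u : G)⁻¹) * ((u : G) * y * (u : G)⁻¹) = c
      refine ⟨h1.trans (isConj_iff.2 ⟨u, rfl⟩), h2.trans (isConj_iff.2 ⟨u, rfl⟩), ?_⟩
      have h4 := hc u u.2
      simp only at h3
      calc ((u : G) * x * (u : G)⁻¹) * ((u : G) * y * (u : G)⁻¹) = u * (x * y) * (u : G)⁻¹ := by group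
        _ = c := by rw [h3, h4]; group)
  refine key.trans ?_
  have : ∀ xy : G × G, ((IsConj g xy.1 ∧ IsConj h xy.2 ∧ xy.1 * xy.2 = c) ∧
      ∀ u : P, ((u : G) * xy.1 * (u : G)⁻¹, (u : G) * xy.2 * (u : G)⁻¹) = xy) ↔
      (IsConj g xy.1 ∧ IsConj h xy.2 ∧ xy.1 * xy.2 = c ∧ xy.1 ∈ Subgroup.centralizer (P : Set G) ∧
        xy.2 ∈ Subgroup.centralizer (P : Set G)) := by
    rintro ⟨x, y⟩
    simp only [Prod.mk.injEq, Subgroup.mem_centralizer_iff, SetLike.mem_coe, mul_inv_eq_iff_eq_mul,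
      Subtype.forall, and_assoc]
    constructor
    · rintro ⟨h1, h2, h3, h4⟩
      exact ⟨h1, h2, h3, fun u hu => (h4 u hu).1, fun u hu => (h4 u hu).2⟩
    · rintro ⟨h1, h2, h3, h4, h5⟩
      exact ⟨h1, h2, h3, fun u hu => ⟨h4 u hu, h5 u hu⟩⟩
  exact (Nat.card_congr (Equiv.subtypeEquivRight this)) ▸ Nat.ModEq.refl _

end Cfsg.Agent.S0903
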