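import Cfsg.Statements.S0905
import Cfsg.Agent.Base
import Cfsg.Agent.Blocks.NilKer
import Cfsg.Agent.S0903
import Cfsg.Agent.Solv.Core

set_option autoImplicit false
open Cfsg

namespace Cfsg.Agent.S0905

open scoped MonoidAlgebra

/-- A normal subset that does not meet the centralizer of the normal `p`-subgroup `P` meets every
coset of `P` in a multiple of `p` elements. -/
theorem dvd_card_coset {G : Type*} [Group G] [Finite G] {p : ℕ} [Fact p.Prime] (P : Subgroup G)
    [hPn : P.Normal] (hP : IsPGroup p P) (X : Set G) (hX : ∀ u ∈ P, ∀ x ∈ X, u * x * u⁻¹ ∈ X)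
    (hXC : ∀ x ∈ X, x ∉ Subgroup.centralizer (P : Set G)) (q : G ⧸ P) :
    p ∣ Nat.card {x : G // x ∈ X ∧ (x : G ⧸ P) = q} := by
  let act : MulAction P G := MulAction.compHom G ((MulAut.conj : G →* MulAut G).comp P.subtype)
  have key := @S0903.card_subtype_modEq P G _ act _ p _ hP (fun x => x ∈ X ∧ (x : G ⧸ P) = q) (by
    rintro u x ⟨h1, h2⟩
    refine ⟨hX u u.2 x h1, ?_⟩
    change (((u : G) * x * (u : G)⁻¹ : G) : G ⧸ P) = q
    rw [QuotientGroup.mk_mul, QuotientGroup.mk_mul, QuotientGroup.mk_inv,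
      (QuotientGroup.eq_one_iff _).2 u.2, h2]
    simp)
  have h0 : IsEmpty {a : G // (a ∈ X ∧ (a : G ⧸ P) = q) ∧ ∀ u : P, act.smul u a = a} := by
    refine ⟨fun a => hXC a a.2.1.1 fun u hu => ?_⟩
    have := a.2.2 ⟨u, hu⟩
    exact mul_inv_eq_iff_eq_mul.1 this
  have h1 := Nat.card_of_isEmpty (α := {a : G // (a ∈ X ∧ (a : G ⧸ P) = q) ∧
    ∀ u : P, act.smul u a = a})
  exact (Nat.modEq_zero_iff_dvd).1 (h1 ▸ key)

/-- Let F be a field of characteristic p and let g be an element of the finite group G no conjugate of which centralizes O_p(G). Then the class sum of g is a nilpotent element of the group algebra F[G]. -/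
theorem result {G : Type*} [Group G] [Finite G] (p : ℕ) [Fact p.Prime] (F : Type*) [Field F] [CharP F p] (g : G) (hg : ∀ x : G, IsConj g x → x ∉ Subgroup.centralizer (Cfsg.pCore p G : Set G)) : IsNilpotent (∑ᶠ x ∈ ConjClasses.carrier (ConjClasses.mk g), MonoidAlgebra.single x (1 : F) : MonoidAlgebra F G) := by
  classical
  have := Fintype.ofFinite G
  refine CL.Blocks.isNilpotent_of_mapDomain_eq_zero (pCore p G) (CL.pCore_isPGroup p G) ?_
  rw [finsum_mem_eq_finite_toFinset_sum _ (Set.toFinite _)]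
  have hs : ∀ (s : Finset G) (f : G → F[G]),
      MonoidAlgebra.mapDomain (QuotientGroup.mk : G → G ⧸ pCore p G) (∑ x ∈ s, f x) =
        ∑ x ∈ s, MonoidAlgebra.mapDomain (QuotientGroup.mk : G → G ⧸ pCore p G) (f x) :=
    fun s f => map_sum (MonoidAlgebra.mapDomainRingHom F (QuotientGroup.mk' (pCore p G))) f s
  rw [hs]
  simp only [MonoidAlgebra.mapDomain_single]
  have := Fintype.ofFinite (G ⧸ pCore p G)
  rw [← Finset.sum_fiberwise_of_maps_to (g := (QuotientGroup.mk : G → G ⧸ pCore p G))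
    (t := Finset.univ) (fun _ _ => Finset.mem_univ _)]
  refine Finset.sum_eq_zero fun q _ => ?_
  rw [Finset.sum_congr rfl (g := fun _ => MonoidAlgebra.single q (1 : F))
    (fun x hx => by rw [(Finset.mem_filter.1 hx).2]), Finset.sum_const]
  have h1 := dvd_card_coset (pCore p G) (CL.pCore_isPGroup p G) {x | IsConj g x}
    (fun u _ x hx => hx.trans (isConj_iff.2 ⟨u, rfl⟩)) hg q
  have h2 : Nat.card {x : G // x ∈ {x | IsConj g x} ∧ (x : G ⧸ pCore p G) = q} =
      (Finset.filter (fun x : G => (x : G ⧸ pCore p G) = q)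
        (Set.toFinite (ConjClasses.mk g).carrier).toFinset).card := by
    rw [Nat.card_eq_fintype_card, Fintype.card_subtype]
    congr 1
    ext x
    simp only [Set.mem_ofPred_eq, Finset.mem_filter, Finset.mem_univ, true_and,
      Set.Finite.mem_toFinset, ConjClasses.mem_carrier_iff_mk_eq, ConjClasses.mk_eq_mk_iff_isConj,
      isConj_comm (g := x)]
  rw [← h2]
  obtain ⟨k, hk⟩ := h1
  rw [hk, ← Nat.cast_smul_eq_nsmul F, Nat.cast_mul, CharP.cast_eq_zero, zero_mul, zero_smul]

end Cfsg.Agent.S0905
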