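import Cfsg.Agent.Base
import Cfsg.Statements.S0950
import Cfsg.Agent.S0071

set_option autoImplicit false
open Cfsg

namespace Cfsg.Agent.S0950

theorem q8_inv : ∀ x y : QuaternionGroup 2, x * x = 1 → y * y = 1 → x ≠ 1 → y ≠ 1 → x = y := by
  decide

theorem q8_four : ∀ x : QuaternionGroup 2, x * x * x * x = 1 := by decide

set_option synthInstance.maxSize 1000 in
theorem q8_three : ∀ x y w u : QuaternionGroup 2, x * x ≠ 1 → y * y ≠ 1 → w * w ≠ 1 → u * u ≠ 1 →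
    y ≠ x → y ≠ x⁻¹ → w ≠ x → w ≠ x⁻¹ → w ≠ y → w ≠ y⁻¹ →
    u = x ∨ u = x⁻¹ ∨ u = y ∨ u = y⁻¹ ∨ u = w ∨ u = w⁻¹ := by
  decide +kernel

set_option synthInstance.maxSize 1000 in
theorem q8_gen : ∀ x y u : QuaternionGroup 2, x * x ≠ 1 → y * y ≠ 1 → y ≠ x → y ≠ x⁻¹ →
    u = 1 ∨ u = x ∨ u = x * x ∨ u = x⁻¹ ∨ u = y ∨ u = x * y ∨ u = y⁻¹ ∨ u = y * x := by
  decide +kernel

section
variable {G : Type*} [Group G] {S : Subgroup G} (e : S ≃* QuaternionGroup 2)
include e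

theorem inv_unique {x y : G} (hx : x ∈ S) (hy : y ∈ S) (hx2 : x * x = 1) (hy2 : y * y = 1)
    (hx1 : x ≠ 1) (hy1 : y ≠ 1) : x = y := by
  have := q8_inv (e ⟨x, hx⟩) (e ⟨y, hy⟩)
    (by rw [← map_mul, ← map_one e]; congr 1; exact Subtype.ext hx2)
    (by rw [← map_mul, ← map_one e]; congr 1; exact Subtype.ext hy2)
    (by rw [← map_one e, e.injective.ne_iff]; exact fun h => hx1 (congrArg Subtype.val h))
    (by rw [← map_one e, e.injective.ne_iff]; exact fun h => hy1 (congrArg Subtype.val h))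
  exact congrArg Subtype.val (e.injective this)

theorem pow_four {x : G} (hx : x ∈ S) : x * x * x * x = 1 := by
  have := q8_four (e ⟨x, hx⟩)
  rw [← map_mul, ← map_mul, ← map_mul, ← map_one e] at this
  exact congrArg Subtype.val (e.injective this)

theorem three_classes {x y w u : G} (hx : x ∈ S) (hy : y ∈ S) (hw : w ∈ S) (hu : u ∈ S)
    (h1 : x * x ≠ 1) (h2 : y * y ≠ 1) (h3 : w * w ≠ 1) (h4 : u * u ≠ 1)
    (h5 : y ≠ x) (h6 : y ≠ x⁻¹) (h7 : w ≠ x) (h8 : w ≠ x⁻¹) (h9 : w ≠ y) (h10 : w ≠ y⁻¹) :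
    u = x ∨ u = x⁻¹ ∨ u = y ∨ u = y⁻¹ ∨ u = w ∨ u = w⁻¹ := by
  have := q8_three (e ⟨x, hx⟩) (e ⟨y, hy⟩) (e ⟨w, hw⟩) (e ⟨u, hu⟩)
  simp only [← map_mul, ← map_inv, ← map_one e, e.injective.eq_iff,
    Ne, Subtype.ext_iff, Subgroup.coe_mul, Subgroup.coe_inv, Subgroup.coe_one] at this
  exact this h1 h2 h3 h4 h5 h6 h7 h8 h9 h10

theorem gen_two {x y u : G} (hx : x ∈ S) (hy : y ∈ S) (hu : u ∈ S)
    (h1 : x * x ≠ 1) (h2 : y * y ≠ 1) (h5 : y ≠ x) (h6 : y ≠ x⁻¹) :
    u = 1 ∨ u = x ∨ u = x * x ∨ u = x⁻¹ ∨ u = y ∨ u = x * y ∨ u = y⁻¹ ∨ u = y * x := by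
  have := q8_gen (e ⟨x, hx⟩) (e ⟨y, hy⟩) (e ⟨u, hu⟩)
  simp only [← map_mul, ← map_inv, ← map_one e, e.injective.eq_iff,
    Ne, Subtype.ext_iff, Subgroup.coe_mul, Subgroup.coe_inv, Subgroup.coe_one] at this
  exact this h1 h2 h5 h6

/-- A subgroup of order four of a quaternion group of order eight is cyclic. -/
theorem exists_gen [Finite G] {A : Subgroup G} (hA : A ≤ S) (hA4 : Nat.card A = 4) :
    ∃ a ∈ S, a * a ≠ 1 ∧ A = Subgroup.zpowers a := by
  have : ∃ a ∈ A, a * a ≠ 1 := by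
    by_contra hcon
    push Not at hcon
    have h3 : 2 < Nat.card A := by omega
    have := Fintype.ofFinite A
    rw [Nat.card_eq_fintype_card, Fintype.two_lt_card_iff] at h3
    obtain ⟨a, b, c, hab, hac, hbc⟩ := h3
    have key : ∀ x y : A, x ≠ 1 → y ≠ 1 → x = y := fun x y hx hy =>
      Subtype.ext (inv_unique e (hA x.2) (hA y.2) (hcon _ x.2) (hcon _ y.2)
        (fun h => hx (Subtype.ext h)) (fun h => hy (Subtype.ext h)))
    by_cases ha : a = 1
    · exact hbc (key b c (fun h => hab (ha.trans h.symm)) (fun h => hac (ha.trans h.symm)))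
    · by_cases hb : b = 1
      · exact hac (key a c ha (fun h => hbc (hb.trans h.symm)))
      · exact hab (key a b ha hb)
  obtain ⟨a, ha, ha2⟩ := this
  refine ⟨a, hA ha, ha2, ?_⟩
  have h4 : orderOf a = 2 ^ (1 + 1) := by
    apply orderOf_eq_prime_pow
    · rw [pow_one, pow_two]; exact ha2
    · have := pow_four e (hA ha)
      rw [← this]; norm_num [pow_succ]
  symm
  apply Subgroup.eq_of_le_of_card_ge
  · exact (Subgroup.zpowers_le).mpr ha
  · rw [Nat.card_zpowers, h4, hA4]; norm_num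

end

theorem conj_pow_sim {G : Type*} [Group G] {g x : G} (h : g * x * g⁻¹ = x ∨ g * x * g⁻¹ = x⁻¹)
    (i : ℕ) : g ^ i * x * (g ^ i)⁻¹ = x ∨ g ^ i * x * (g ^ i)⁻¹ = x⁻¹ := by
  induction i with
  | zero => simp
  | succ i ih =>
    have h1 : g ^ (i + 1) * x * (g ^ (i + 1))⁻¹ = g * (g ^ i * x * (g ^ i)⁻¹) * g⁻¹ := by
      rw [pow_succ']; group
    have h2 : g * x⁻¹ * g⁻¹ = (g * x * g⁻¹)⁻¹ := by group
    rw [h1]
    rcases ih with ih | ih <;> rcases h with h | h <;> rw [ih]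
    · exact Or.inl h
    · exact Or.inr h
    · rw [h2, h]; exact Or.inr rfl
    · rw [h2, h]; exact Or.inl (inv_inv x)

/-- Let S be a Sylow 2-subgroup of the finite group G isomorphic to the quaternion group of order 8. -/
theorem result {G : Type*} [Group G] [Finite G] (S : Sylow 2 G) (e : (S : Subgroup G) ≃* QuaternionGroup 2) (hnc : ∀ N : Subgroup G, N.Normal → ¬ Subgroup.IsComplement' N (S : Subgroup G)) (A B : Subgroup G) (hA : A ≤ S) (hB : B ≤ S) (hA4 : Nat.card A = 4) (hB4 : Nat.card B = 4) : ∃ n ∈ Subgroup.normalizer ((S : Subgroup G) : Set G), B = A.map (MulAut.conj n).toMonoidHom := by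
  have hfrob := Cfsg.Agent.S0071.result S
  have h1 : ¬ ∃ N : Subgroup G, N.Normal ∧ N.IsComplement' (S : Subgroup G) := by
    rintro ⟨N, hN, hc⟩
    exact hnc N hN hc
  rw [hfrob] at h1
  push Not at h1
  obtain ⟨Q, hQ, g, hg, hodd, hgC⟩ := h1
  have hodd' : Odd (orderOf g) := Nat.coprime_two_right.mp hodd
  obtain ⟨l, hl⟩ := hodd'
  have hg1 : g ^ (2 * l + 1) = 1 := by rw [← hl, pow_orderOf_eq_one]
  have hgQ : ∀ x ∈ Q, g * x * g⁻¹ ∈ Q := fun x hx => (Subgroup.mem_normalizer_iff.mp hg x).mp hx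
  -- an element `x` of `Q` whose conjugate is neither `x` nor `x⁻¹`
  obtain ⟨x, hxQ, hy1, hy2⟩ : ∃ x ∈ Q, g * x * g⁻¹ ≠ x ∧ g * x * g⁻¹ ≠ x⁻¹ := by
    by_contra hcon
    push Not at hcon
    apply hgC
    rw [Subgroup.mem_centralizer_iff]
    intro x hx
    have h2 : g * x * g⁻¹ = x := by
      by_contra h3
      have h4 := hcon x hx h3
      have h5 : (g * g) * x * (g * g)⁻¹ = x := by
        calc (g * g) * x * (g * g)⁻¹ = g * (g * x * g⁻¹) * g⁻¹ := by group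
          _ = g * x⁻¹ * g⁻¹ := by rw [h4]
          _ = (g * x * g⁻¹)⁻¹ := by group
          _ = x := by rw [h4, inv_inv]
      have h6 : (g * g) ^ l * x * ((g * g) ^ l)⁻¹ = x := by
        have hc : Commute (g * g) x := by
          rw [Commute, SemiconjBy]
          calc g * g * x = ((g * g) * x * (g * g)⁻¹) * (g * g) := by group
            _ = x * (g * g) := by rw [h5]
        rw [(hc.pow_left l).eq]; group
      apply h3
      calc g * x * g⁻¹ = g * ((g * g) ^ l * x * ((g * g) ^ l)⁻¹) * g⁻¹ := by rw [h6]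
        _ = g ^ (2 * l + 1) * x * (g ^ (2 * l + 1))⁻¹ := by
          rw [← pow_two, ← pow_mul, pow_succ']; group
        _ = x := by rw [hg1]; group
    calc x * g = (g * x * g⁻¹) * g := by rw [h2]
      _ = g * x := by group
  have hsq : ∀ a : G, a * a ≠ 1 → (g * a * g⁻¹) * (g * a * g⁻¹) ≠ 1 := by
    intro a ha h
    apply ha
    calc a * a = g⁻¹ * ((g * a * g⁻¹) * (g * a * g⁻¹)) * g := by group
      _ = 1 := by rw [h]; group
  have hx2 : x * x ≠ 1 := by
    intro hx2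
    by_cases hx1 : x = 1
    · apply hy1; rw [hx1]; group
    · apply hy1
      apply inv_unique e (hQ (hgQ x hxQ)) (hQ hxQ) _ hx2 _ hx1
      · calc g * x * g⁻¹ * (g * x * g⁻¹) = g * (x * x) * g⁻¹ := by group
          _ = 1 := by rw [hx2]; group
      · intro h; apply hx1
        calc x = g⁻¹ * (g * x * g⁻¹) * g := by group
          _ = 1 := by rw [h]; group
  set y := g * x * g⁻¹ with hy
  have hyQ : y ∈ Q := hgQ x hxQ
  have hy2' : y * y ≠ 1 := hsq x hx2
  have hQS : Q = S := by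
    apply le_antisymm hQ
    intro u hu
    rcases gen_two e (hQ hxQ) (hQ hyQ) hu hx2 hy2' hy1 hy2 with h | h | h | h | h | h | h | h <;>
      rw [h]
    · exact Q.one_mem
    · exact hxQ
    · exact Q.mul_mem hxQ hxQ
    · exact Q.inv_mem hxQ
    · exact hyQ
    · exact Q.mul_mem hxQ hyQ
    · exact Q.inv_mem hyQ
    · exact Q.mul_mem hyQ hxQ
  have hgN : g ∈ Subgroup.normalizer ((S : Subgroup G) : Set G) := by rw [← hQS]; exact hg
  set w := g * y * g⁻¹ with hw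
  have hwQ : w ∈ Q := hgQ y hyQ
  have hw2 : w * w ≠ 1 := hsq y hy2'
  have hwx : ¬ (w = x ∨ w = x⁻¹) := by
    intro h
    have h2 : (g * g) * x * (g * g)⁻¹ = x ∨ (g * g) * x * (g * g)⁻¹ = x⁻¹ := by
      have : (g * g) * x * (g * g)⁻¹ = w := by rw [hw, hy]; group
      rw [this]; exact h
    have h3 := conj_pow_sim h2 (l + 1)
    have h4 : (g * g) ^ (l + 1) = g := by
      rw [← pow_two, ← pow_mul, show 2 * (l + 1) = (2 * l + 1) + 1 by ring, pow_succ, hg1, one_mul]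
    rw [h4] at h3
    rcases h3 with h3 | h3
    · exact hy1 h3
    · exact hy2 h3
  have hwy1 : w ≠ y := by
    intro h; apply hy1
    calc y = g⁻¹ * w * g := by rw [hw]; group
      _ = x := by rw [h, hy]; group
  have hwy2 : w ≠ y⁻¹ := by
    intro h; apply hy2
    calc y = g⁻¹ * w * g := by rw [hw]; group
      _ = x⁻¹ := by rw [h, hy]; group
  have key : ∀ C : Subgroup G, C ≤ S → Nat.card C = 4 →
      ∃ n ∈ Subgroup.normalizer ((S : Subgroup G) : Set G),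
        C = Subgroup.zpowers (n * x * n⁻¹) := by
    intro C hC hC4
    obtain ⟨a, haS, ha2, rfl⟩ := exists_gen e hC hC4
    rcases three_classes e (hQ hxQ) (hQ hyQ) (hQ hwQ) haS hx2 hy2' hw2 ha2 hy1 hy2
      (fun h => hwx (Or.inl h)) (fun h => hwx (Or.inr h)) hwy1 hwy2 with h | h | h | h | h | h
    · exact ⟨1, Subgroup.one_mem _, by rw [h]; simp⟩
    · exact ⟨1, Subgroup.one_mem _, by rw [h]; simp⟩
    · exact ⟨g, hgN, by rw [h]⟩
    · exact ⟨g, hgN, by rw [h, Subgroup.zpowers_inv]⟩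
    · refine ⟨g * g, Subgroup.mul_mem _ hgN hgN, ?_⟩
      rw [h, hw, hy]; congr 1; group
    · refine ⟨g * g, Subgroup.mul_mem _ hgN hgN, ?_⟩
      rw [h, Subgroup.zpowers_inv, hw, hy]; congr 1; group
  obtain ⟨a, ha, rfl⟩ := key A hA hA4
  obtain ⟨b, hb, rfl⟩ := key B hB hB4
  refine ⟨b * a⁻¹, Subgroup.mul_mem _ hb (Subgroup.inv_mem _ ha), ?_⟩
  rw [MonoidHom.map_zpowers]
  congr 1
  simp only [MulEquiv.toMonoidHom_eq_coe, MonoidHom.coe_coe, MulAut.conj_apply]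
  group

end Cfsg.Agent.S0950
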