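import Cfsg.Statements.S0225
import Cfsg.Agent.Base
import Cfsg.Agent.Invol.RankOne

set_option autoImplicit false
open Cfsg

namespace Cfsg.Agent.S0225

/-- If a finite group G has even order but contains no Klein four-subgroup (2-rank 1), then some involution z of G is central modulo a normal subgroup of odd order: there is a normal subgroup N of odd order containing every commutator z g z⁻¹ g⁻¹. -/
theorem result {G : Type*} [Group G] [Finite G] (heven : Even (Nat.card G)) (hrank : ∀ E : Subgroup G, ¬ IsKleinFour E) : ∃ z : G, orderOf z = 2 ∧ ∃ N : Subgroup G, N.Normal ∧ Odd (Nat.card N) ∧ ∀ g : G, z * g * z⁻¹ * g⁻¹ ∈ N := by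
  have : Fact (Nat.Prime 2) := ⟨Nat.prime_two⟩
  obtain ⟨z, hz⟩ := exists_prime_orderOf_dvd_card' (G := G) 2 heven.two_dvd
  have hz2 := CL.BF.mul_self_of_ord2 hz
  obtain ⟨S, hzS, -⟩ := CL.BF.exists_sylow_of_commute hz2 hz2 rfl
  refine ⟨z, hz, pPrimeCore 2 G, inferInstance, CL.BF.odd_card_pPrimeCore G,
    CL.BF.commutator_mem_core_of_rank_one S (fun x _ y _ hx hy hxy => ?_) hz hzS⟩
  by_contra hne
  exact hrank _ (CL.BF.isKleinFour_fourSub (CL.BF.mul_self_of_ord2 hx) (CL.BF.mul_self_of_ord2 hy)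
    hxy (CL.BF.ne_one_of_ord2 hx) (CL.BF.ne_one_of_ord2 hy) hne)

end Cfsg.Agent.S0225
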