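import Cfsg.Agent.Base
import Cfsg.Statements.S0943
import Cfsg.Agent.Char.Basic

set_option autoImplicit false
open Cfsg

namespace Cfsg.Agent.S0943

open CL.Char

/-- If an irreducible character takes one value on all products of conjugates of `u` and `v`. -/
theorem result {G : Type*} [Group G] [Finite G] (χ : Cfsg.IrrCharacter G) (u v : G) (hc : ∀ x y : G, IsConj u x → IsConj v y → (χ : G → ℂ) (x * y) = (χ : G → ℂ) (u * v)) : (χ : G → ℂ) u * (χ : G → ℂ) v = (χ : G → ℂ) 1 * (χ : G → ℂ) (u * v) := by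
  have := Fintype.ofFinite G
  have h1 := irr_sum_mul_conj χ.2 u v
  have h2 : ∑ x : G, (χ : G → ℂ) (u * (x * v * x⁻¹)) = ∑ _x : G, (χ : G → ℂ) (u * v) :=
    Finset.sum_congr rfl fun x _ => hc u _ (IsConj.refl u) (isConj_iff.mpr ⟨x, rfl⟩)
  rw [h2, Finset.sum_const, Finset.card_univ, nsmul_eq_mul, ← Nat.card_eq_fintype_card] at h1
  have h3 : (χ : G → ℂ) 1 ≠ 0 := irr_apply_one_ne_zero χ.2
  have h4 : (Nat.card G : ℂ) ≠ 0 := card_ne_zero
  field_simp at h1
  linear_combination -h1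

end Cfsg.Agent.S0943
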