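import Cfsg.Statements.S1213
import Cfsg.Agent.TwoFus.QDW

set_option autoImplicit false
open Cfsg

namespace Cfsg.Agent.S1213

/-- Let G be a finite group with quasi-dihedral or wreathed Sylow 2-subgroups and no subgroup of index 2, and let x be an involution with centralizer C. Then C has a Sylow 2-subgroup R which is a Sylow 2-subgroup of G; C has a normal subgroup K of index a power of 2 which has no subgroup of index 2 and whose Sylow 2-subgroups are generalized quaternion; and every subgroup of the centre of R is weakly closed in R with respect to C. -/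
theorem result {G : Type*} [Group G] [Finite G] (S : Sylow 2 G) (hS : Cfsg.IsQuasiDihedral (S : Subgroup G) ∨ Cfsg.IsWreathed (S : Subgroup G)) (hG : ∀ H : Subgroup G, H.index ≠ 2) (x : G) (hx : orderOf x = 2) : ∃ R : Sylow 2 ↥(Subgroup.centralizer ({x} : Set G)), Nat.card R = Nat.card S ∧ (∃ K : Subgroup ↥(Subgroup.centralizer ({x} : Set G)), K.Normal ∧ (∃ a : ℕ, K.index = 2 ^ a) ∧ (∀ H : Subgroup ↥K, H.index ≠ 2) ∧ (∀ P : Sylow 2 ↥K, ∃ m : ℕ, 1 ≤ m ∧ Nonempty ((P : Subgroup ↥K) ≃* QuaternionGroup (2 ^ m)))) ∧ (∀ Z₀ : Subgroup ↥(Subgroup.centralizer ({x} : Set G)), Z₀ ≤ ((Subgroup.center (R : Subgroup ↥(Subgroup.centralizer ({x} : Set G)))).map (R : Subgroup ↥(Subgroup.centralizer ({x} : Set G))).subtype) → Cfsg.IsWeaklyClosed Z₀ (R : Subgroup ↥(Subgroup.centralizer ({x} : Set G)))) := by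
  obtain ⟨z, h⟩ := CL.TF.exists_qdw hS
  obtain ⟨g, rfl⟩ := isConj_iff.1 (CL.TF.isConj_of_qdw S hS hG h.ord hx)
  have hS' := CL.TF.qdw_of_equiv (S.equiv (g • S)) hS
  have hmem : ∀ s : G, s ∈ ((g • S : Sylow 2 G) : Subgroup G) ↔ g⁻¹ * s * g ∈ (S : Subgroup G) := by
    intro s
    rw [Sylow.coe_subgroup_smul, Subgroup.mem_pointwise_smul_iff_inv_smul_mem]
    simp
  have hxS : g * z * g⁻¹ ∈ ((g • S : Sylow 2 G) : Subgroup G) := by
    rw [hmem]; simpa [mul_assoc] using h.mem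
  have hSC : ((g • S : Sylow 2 G) : Subgroup G) ≤ Subgroup.centralizer ({g * z * g⁻¹} : Set G) := by
    intro s hs
    rw [Subgroup.mem_centralizer_singleton_iff]
    calc s * (g * z * g⁻¹) = g * (g⁻¹ * s * g * z) * g⁻¹ := by group
      _ = g * z * g⁻¹ * s := by rw [h.comm _ ((hmem s).1 hs)]; group
  have e := Subgroup.subgroupOfEquivOfLe hSC
  refine ⟨(g • S).subtype hSC, ?_, CL.TF.qgroup_centralizer (g • S) hS' hG hx hxS hSC,
    fun Z₀ hZ₀ => CL.TF.isWeaklyClosed_of_forall (hZ₀.trans (Subgroup.map_subtype_le _))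
      fun w hw c hc => ?_⟩
  · exact (Nat.card_congr e.toEquiv).trans (Nat.card_congr (S.equiv (g • S)).toEquiv).symm
  · refine CL.TF.conj_eq_of_qdw ((g • S).subtype hSC) (CL.TF.qdw_of_equiv e.symm hS')
      (z := ⟨g * z * g⁻¹, hSC hxS⟩) hxS (by rw [Subgroup.orderOf_mk, hx]) (fun c _ => ?_)
      (hZ₀ hw) hc
    apply Subtype.ext
    change (c : G) * (g * z * g⁻¹) * (c : G)⁻¹ = g * z * g⁻¹
    rw [Subgroup.mem_centralizer_singleton_iff.1 c.2, mul_inv_cancel_right]

end Cfsg.Agent.S1213
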