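import Cfsg.Statements.S1040
import Cfsg.Agent.Chev.Levi
import Cfsg.Agent.Chev.SplitOrder
import Cfsg.Agent.Base

set_option autoImplicit false
open Cfsg CL.ChevM CL.Weyl CL.Tw

namespace Cfsg.Agent.S1040

/-- `U ∩ N = 1` and `B ∩ N = UH ∩ N = H`. -/
theorem result {F : Type*} [Field F] (D : Cfsg.Lie.ChevalleyDatum) (hD : D ∈ [Cfsg.Lie.chevG2, Cfsg.Lie.chevB2, Cfsg.Lie.chevD4, Cfsg.Lie.chevF4, Cfsg.Lie.chevE6, Cfsg.Lie.chevE7, Cfsg.Lie.chevE8]) :
    D.posUnipotent F ⊓ D.monomialSubgroup F = ⊥ ∧ D.borelSubgroup F ⊓ D.monomialSubgroup F = D.diagonalSubgroup F := by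
  obtain ⟨η, C⟩ := core_of_mem hD
  have := weylOK_of_mem hD
  have := coefOK_of_mem hD
  rw [← Subgroup.map_subgroupOf_eq_of_le (monomialSubgroup_le C (K := F)), ← map_H C, ← map_B C,
    ← map_U C, ← Subgroup.map_inf _ _ _ (D.group F).subtype_injective,
    ← Subgroup.map_inf _ _ _ (D.group F).subtype_injective]
  refine ⟨?_, ?_⟩
  · rw [Subgroup.map_eq_bot_iff_of_injective _ (D.group F).subtype_injective, eq_bot_iff]
    intro g hg
    exact TwSys.eq_one_of_mem_U_H (T := (trivTw C F).sys) hg.1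
      (TwSys.mem_H_of_mem_B_N (T := (trivTw C F).sys) (Subgroup.mem_sup_left hg.1) hg.2)
  · congr 1
    exact le_antisymm (fun g hg => TwSys.mem_H_of_mem_B_N (T := (trivTw C F).sys) hg.1 hg.2)
      (le_inf le_sup_right (TwSys.H_le_N (T := (trivTw C F).sys)))

end Cfsg.Agent.S1040
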