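import Cfsg.Agent.Base
import Cfsg.Statements.S1042
import Cfsg.Agent.Chev.Levi

set_option autoImplicit false
open Cfsg

namespace Cfsg.Agent.S1042

open CL.ChevM CL.Weyl CL.Tw CL.Cox Cfsg.Lie


theorem exists_pair {D : ChevalleyDatum} {η : ℕ → ℕ → ℤ} [WeylOK D] [CoefOK D] (C : Core D η) (K : Type*)
    [Field K] : ∃ P : Cfsg.BNPair ↥(D.group K), P.B = XSg C K (PP D) ⊔ (tor C).range ∧
      P.N = (D.monomialSubgroup K).subgroupOf (D.group K) ∧ P.S = Set.range (nS C K) := by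
  have hN : ∀ n : ↥(D.group K), n ∈ (D.monomialSubgroup K).subgroupOf (D.group K) ↔ ∃ w, Rep C n w :=
    fun n => mem_N_iff C n
  have hB : ∀ {n : ↥(D.group K)} {w : W D}, Rep C n w → n ∈ XSg C K (PP D) ⊔ (tor C).range → w = 1 := by
    intro n w hn hb
    obtain ⟨u, hu, h, hh, e⟩ := (mem_XSg_sup_tor_iff C).1 hb
    exact eq_one_of_rep_B C hn hu hh e
  have hcell : ∀ {n n' u v : ↥(D.group K)} {w : W D}, Rep C n w → Rep C n' w → u ∈ XSg C K (PP D) →
      v ∈ XSg C K (PP D) → u * n' * v ∈ DoubleCoset.doubleCoset n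
        ((XSg C K (PP D) ⊔ (tor C).range : Subgroup ↥(D.group K)) : Set ↥(D.group K))
        (XSg C K (PP D) ⊔ (tor C).range : Subgroup ↥(D.group K)) := by
    intro n n' u v w hn hn' hu hv
    have h1 : n' * n⁻¹ ∈ (tor C).range := (rep_one_iff C _).2 (by simpa using hn'.mul hn.inv)
    exact DoubleCoset.mem_doubleCoset.2 ⟨u * (n' * n⁻¹), mul_mem (Subgroup.mem_sup_left hu)
      (Subgroup.mem_sup_right h1), v, Subgroup.mem_sup_left hv, by group⟩
  refine ⟨{ B := XSg C K (PP D) ⊔ (tor C).range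
            N := (D.monomialSubgroup K).subgroupOf (D.group K)
            S := Set.range (nS C K)
            sup_eq_top := ?_
            conj_mem := ?_
            subset := ?_
            sq_mem := ?_
            inj := ?_
            closure_sup := ?_
            mul_mem_union := ?_
            conj_ne := ?_ }, rfl, rfl, rfl⟩
  · rw [eq_top_iff]
    intro g _
    obtain ⟨u, hu, n, w, hn, v, hv, rfl⟩ := exists_UNU C g
    exact mul_mem (mul_mem (Subgroup.mem_sup_left (Subgroup.mem_sup_left hu))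
      (Subgroup.mem_sup_right ((hN n).2 ⟨w, hn⟩))) (Subgroup.mem_sup_left (Subgroup.mem_sup_left hv))
  · intro n hn t ht
    obtain ⟨w, hw⟩ := (hN n).1 hn
    obtain ⟨w', hw'⟩ := (hN t).1 ht.2
    obtain rfl := hB hw' ht.1
    exact Subgroup.mem_sup_right (hw.conj_tor ((rep_one_iff C _).2 hw'))
  · rintro _ ⟨i, rfl⟩
    exact (hN _).2 ⟨_, rep_nS C i⟩
  · rintro _ ⟨i, rfl⟩
    refine Subgroup.mem_sup_right ((rep_one_iff C _).2 ?_)
    simpa using (rep_nS (K := K) C i).mul (rep_nS C i)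
  · rintro _ ⟨i, rfl⟩ _ ⟨j, rfl⟩ h
    have h1 := hB ((rep_nS (K := K) C i).inv.mul (rep_nS C j)) h
    rw [inv_mul_eq_one] at h1
    rw [(Φ D).cs_simple_injective h1]
  · refine le_antisymm (sup_le ((Subgroup.closure_le _).2 ?_) inf_le_right) fun n hn => ?_
    · rintro _ ⟨i, rfl⟩
      exact (hN _).2 ⟨_, rep_nS C i⟩
    · obtain ⟨w, h, hh, l, rfl, -⟩ := (hN n).1 hn
      refine mul_mem (Subgroup.mem_sup_right ⟨Subgroup.mem_sup_right hh, (hN _).2 ⟨_, rep_of_mem_H C hh⟩⟩)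
        (Subgroup.mem_sup_left (list_prod_mem fun y hy => ?_))
      obtain ⟨i, -, rfl⟩ := List.mem_map.1 hy
      exact Subgroup.subset_closure ⟨i, rfl⟩
  · rintro _ ⟨i, rfl⟩ n hn b hb
    obtain ⟨w, hw⟩ := (hN n).1 hn
    obtain ⟨u, hu, h, hh, rfl⟩ := (mem_XSg_sup_tor_iff C).1 hb
    have hw' : Rep C (h * n) w := by simpa using (rep_of_mem_H C hh).mul hw
    obtain ⟨u₁, h1, u₂, h2, n', e, h3⟩ := mul_rule C i (rep_nS C i) hu hw'
    rw [show nS C K i * (u * h) * n = u₁ * n' * u₂ by rw [← e]; group]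
    exact h3.imp (fun h3 => hcell ((rep_nS C i).mul hw) h3 h1 h2) fun h3 => hcell hw h3 h1 h2
  · rintro _ ⟨i, rfl⟩ he
    obtain ⟨a, ha, -⟩ := (rep_nS (K := K) C i).exists_conj ((Φ D).simple i)
    have h1 : nS C K i * nS C K i ∈ (tor C).range :=
      (rep_one_iff C _).2 (by simpa using (rep_nS (K := K) C i).mul (rep_nS C i))
    have h2 : nS C K i * xG C ((Φ D).simple i) (1 : K) * nS C K i ∈ XSg C K (PP D) ⊔ (tor C).range := by
      rw [← SetLike.mem_coe, ← he]
      exact ⟨_, Subgroup.mem_sup_left (xG_mem_XSg C (S := PP D) ((Φ D).pos_simple i) 1), rfl⟩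
    have h3 := mul_mem h2 (Subgroup.mem_sup_right (inv_mem h1))
    rw [mul_inv_rev, mul_assoc _ (nS C K i), mul_inv_cancel_left, ha, sup_comm] at h3
    have h4 := eq_one_of_pos_neg C ((Φ D).w0 Set.univ) (S := {s D i • (Φ D).simple i}) (T := PP D)
      (by
        rintro _ rfl
        rw [(Φ D).pos_w0_univ_smul_iff, (Φ D).simple_smul_simple, (Φ D).pos_neg_iff, not_not]
        exact (Φ D).pos_simple i)
      (fun r hr h => ((Φ D).pos_w0_univ_smul_iff r).1 h hr) (xG_mem_XSg C (Set.mem_singleton _) _) h3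
    rw [xG_eq_one_iff C (Fin.is_lt _), mul_one] at h4
    exact a.ne_zero h4


/-- The Chevalley group has a (B,N)-pair with `B = UH`, `N` the monomial subgroup and the `n_p`, `p` fundamental, as representatives of the distinguished involutions of `W = N/H`. -/
theorem result {F : Type*} [Field F] (D : Cfsg.Lie.ChevalleyDatum) (hD : D ∈ [Cfsg.Lie.chevG2, Cfsg.Lie.chevB2, Cfsg.Lie.chevD4, Cfsg.Lie.chevF4, Cfsg.Lie.chevE6, Cfsg.Lie.chevE7, Cfsg.Lie.chevE8]) :
    ∃ P : Cfsg.BNPair ↥(D.group F),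
      P.B = (D.borelSubgroup F).subgroupOf (D.group F) ∧ P.N = (D.monomialSubgroup F).subgroupOf (D.group F) ∧
      P.S = {n : ↥(D.group F) | ∃ i < D.rank, ((n : GL D.Idx F) : Matrix D.Idx D.Idx F) = D.nMat F (D.simple i) 1} := by
  obtain ⟨η, C⟩ := core_of_mem hD
  have := weylOK_of_mem hD
  have := coefOK_of_mem hD
  obtain ⟨P, h1, h2, h3⟩ := exists_pair C F
  refine ⟨P, ?_, h2, ?_⟩
  · rw [h1, ← map_B C, Subgroup.subgroupOf, Subgroup.comap_map_eq_self_of_injective (D.group F).subtype_injective]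
  · rw [h3]
    ext n
    constructor
    · rintro ⟨i, rfl⟩
      exact ⟨i, i.2, mat_nG C _ _⟩
    · rintro ⟨i, hi, h⟩
      exact ⟨⟨i, hi⟩, mat_injective ((mat_nG C _ _).trans h.symm)⟩

end Cfsg.Agent.S1042
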