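import Cfsg.Statements.S1037
import Cfsg.Agent.Chev.Levi
import Cfsg.Agent.Chev.SplitOrder
import Cfsg.Agent.Base

set_option autoImplicit false
open Cfsg CL.ChevM CL.Weyl CL.Tw

namespace Cfsg.Agent.S1037

/-- `UH ∩ V = 1` and `UH ∩ VH = H`. -/
theorem result {F : Type*} [Field F] (D : Cfsg.Lie.ChevalleyDatum) (hD : D ∈ [Cfsg.Lie.chevG2, Cfsg.Lie.chevB2, Cfsg.Lie.chevD4, Cfsg.Lie.chevF4, Cfsg.Lie.chevE6, Cfsg.Lie.chevE7, Cfsg.Lie.chevE8]) :
    D.borelSubgroup F ⊓ D.negUnipotent F = ⊥ ∧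
      D.borelSubgroup F ⊓ (D.negUnipotent F ⊔ D.diagonalSubgroup F) = D.diagonalSubgroup F := by
  obtain ⟨η, C⟩ := core_of_mem hD
  have := weylOK_of_mem hD
  have := coefOK_of_mem hD
  rw [← map_H C, ← map_B C, ← map_V C, ← Subgroup.map_sup,
    ← Subgroup.map_inf _ _ _ (D.group F).subtype_injective,
    ← Subgroup.map_inf _ _ _ (D.group F).subtype_injective]
  refine ⟨?_, ?_⟩
  · rw [Subgroup.map_eq_bot_iff_of_injective _ (D.group F).subtype_injective, eq_bot_iff]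
    intro g hg
    exact TwSys.eq_one_of_mem_B_V (T := (trivTw C F).sys) hg.1 hg.2
  · congr 1
    refine le_antisymm (fun g hg => ?_) (le_inf le_sup_right le_sup_right)
    obtain ⟨u, hu, h, hh, rfl⟩ := (mem_XSg_sup_tor_iff C).1 hg.1
    have h2 : u ∈ (tor C).range ⊔ XSg C F {r | ¬ (Φ D).Pos r} := by
      rw [sup_comm]
      exact (Subgroup.mul_mem_cancel_right _ (Subgroup.mem_sup_right hh)).1 hg.2
    have := eq_one_of_pos_neg C 1 (fun r hr => by rwa [one_smul]) (fun r hr => by rwa [one_smul]) hu h2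
    rwa [this, one_mul]

end Cfsg.Agent.S1037
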