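import Cfsg.Agent.Base
import Cfsg.Statements.S1051
import Cfsg.Agent.Chev.MatWeyl
import Cfsg.Agent.Chev.MatAll
import Cfsg.Agent.Chev.WeylCheck
import Cfsg.Agent.S1037

set_option autoImplicit false
open Cfsg

namespace Cfsg.Agent.S1051

open CL.ChevM CL.Weyl Cfsg.Lie

theorem eq_zero_of_mem_diagonal {F : Type*} [Field F] {D : ChevalleyDatum} {η : ℕ → ℕ → ℤ} (C : Core D η)
    [WeylOK D] {s : ℕ} (hs : s < D.nroots) {u : F} (h : C.xU F s u ∈ D.diagonalSubgroup F) : u = 0 := by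
  obtain ⟨d, hd⟩ := C.mono_of_mem_diagonal h
  have h1 := (hd ⟨D.neg s, C.tab.neg_lt s hs⟩).2.1
  rw [one_smul, C.coe_xU, x_bv_neg hs (C.tab.neg_lt s hs) (C.tab.neg_ne s hs)] at h1
  have h2 := congrFun h1 (Sum.inr ⟨s, hs⟩)
  have h3 : ∀ i ∈ Finset.range D.rank, ¬ D.rank + s = i := fun i hi => by
    have := Finset.mem_range.1 hi; omega
  simpa [(C.tab.neg_ne s hs).symm, Finset.sum_apply, Finset.sum_congr rfl fun i hi => if_neg (h3 i hi)] using h2

/-- `⋂_g g B g⁻¹ = 1`: the normal core of `B` in the Chevalley group is trivial. -/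
theorem result {F : Type*} [Field F] (D : Cfsg.Lie.ChevalleyDatum) (hD : D ∈ [Cfsg.Lie.chevG2, Cfsg.Lie.chevB2, Cfsg.Lie.chevD4, Cfsg.Lie.chevF4, Cfsg.Lie.chevE6, Cfsg.Lie.chevE7, Cfsg.Lie.chevE8]) : ((D.borelSubgroup F).subgroupOf (D.group F)).normalCore = ⊥ := by
  obtain ⟨η, C⟩ := core_of_mem hD
  have := weylOK_of_mem hD
  set K := ((D.borelSubgroup F).subgroupOf (D.group F)).normalCore with hK
  have hKB : ∀ g ∈ K, (g : GL D.Idx F) ∈ D.borelSubgroup F := fun g hg =>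
    ((D.borelSubgroup F).subgroupOf (D.group F)).normalCore_le hg
  have hKn : K.Normal := Subgroup.normalCore_normal _
  obtain ⟨n, hn, hnU⟩ := C.exists_conj_pos_eq_neg (F := F)
  have hnG : n ∈ D.group F := C.monomial_le (by
    rw [C.diagonalSubgroup_eq, Subgroup.closure_le]
    rintro _ ⟨r, -, t, -, rfl⟩
    exact C.hU_mem_group r t) (fun i => C.nU_mem_group _ _) hn
  have hKH : ∀ g ∈ K, (g : GL D.Idx F) ∈ D.diagonalSubgroup F := by
    intro g hg
    rw [← (S1037.result (F := F) D hD).2]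
    refine ⟨hKB g hg, ?_⟩
    have h1 := hKB _ (hKn.conj_mem g hg (⟨n, hnG⟩ : D.group F)⁻¹)
    have h2 : (D.borelSubgroup F).map (MulAut.conj n).toMonoidHom ≤ D.negUnipotent F ⊔ D.diagonalSubgroup F := by
      rw [ChevalleyDatum.borelSubgroup, Subgroup.map_sup, hnU]
      refine sup_le_sup_left ?_ _
      rintro _ ⟨h, hh, rfl⟩
      exact (Subgroup.mem_normalizer_iff.1 (C.monomial_le_normalizer hn) h).1 hh
    exact h2 ⟨_, h1, by simp [mul_assoc]⟩
  rw [eq_bot_iff]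
  intro g hg
  have hH := hKH g hg
  rw [← C.range_torHom] at hH
  obtain ⟨c, hc⟩ := hH
  obtain ⟨d, hd⟩ := C.mono_of_mem_diagonal (hKH g hg)
  rw [Subgroup.mem_bot]
  refine Subtype.ext (hc.symm.trans ?_)
  rw [torHom_apply, OneMemClass.coe_one, ← diagU_one, diagU_eq_iff]
  intro s hs
  have h1 := (hd ⟨s, hs⟩).2.1
  rw [← hc, torHom_apply, coe_diagU, diagM_mulVec_e _ hs, one_smul] at h1
  have h2 := smul_left_injective F (bv_e_ne_zero (F := F) ⟨s, hs⟩) h1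
  have h3 := hKH _ (mul_mem hg (hKn.conj_mem _ (inv_mem hg) ⟨C.xU F s 1, C.xU_mem_group s 1⟩))
  have h4 := (hd ⟨s, hs⟩).2.2 1
  rw [one_smul] at h4
  have h5 : C.xU F s (d ⟨s, hs⟩ - 1) ∈ D.diagonalSubgroup F := by
    convert h3 using 1
    rw [sub_eq_add_neg, ← C.xU_add, C.xU_neg, ← mul_one (d _), ← h4]
    simp [mul_assoc]
  exact Units.ext (h2.trans (sub_eq_zero.1 (eq_zero_of_mem_diagonal C hs h5)))

end Cfsg.Agent.S1051
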