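import Cfsg.Statements.S1780
import Cfsg.Agent.Base

set_option autoImplicit false
open Cfsg

namespace Cfsg.Agent.S1780

/-- Let A be a finite abelian 2-group and t an automorphism of A whose order is a power of 2. If every element of A fixed by t² is fixed by t, then t fixes every element of A. -/
theorem result {A : Type*} [CommGroup A] [Finite A]
    (hA : IsPGroup 2 A) (t : MulAut A) (ht : ∃ k : ℕ, orderOf t = 2 ^ k) (hC : ∀ a : A, t (t a) = a → t a = a) :
    ∀ a : A, t a = a := by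
  obtain ⟨k, hk⟩ := ht
  -- the endomorphism `a ↦ t a / a`
  let φ : A →* A := (t : A →* A) / MonoidHom.id A
  have hφ : ∀ a, φ a = t a / a := fun a => rfl
  have hφt : ∀ a, φ (t a) = t (φ a) := fun a => by simp [hφ]
  by_contra hne
  push Not at hne
  obtain ⟨a₀, ha₀⟩ := hne
  -- the subgroup of elements of the range of `φ` of order at most two
  let Ω : Subgroup A := φ.range ⊓ (powMonoidHom 2 : A →* A).ker
  have hΩ : ∀ x, x ∈ Ω ↔ (∃ a, φ a = x) ∧ x ^ 2 = 1 := fun x => by
    simp [Ω, MonoidHom.mem_ker]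
  haveI : Fact (Nat.Prime 2) := ⟨Nat.prime_two⟩
  have hR : φ.range ≠ ⊥ := by
    intro h
    have : φ a₀ ∈ φ.range := ⟨a₀, rfl⟩
    rw [h, Subgroup.mem_bot, hφ, div_eq_one] at this
    exact ha₀ this
  have hΩne : Ω ≠ ⊥ := by
    have hRp : IsPGroup 2 φ.range := hA.to_subgroup _
    have hnt : Nontrivial φ.range := (Subgroup.nontrivial_iff_ne_bot _).2 hR
    obtain ⟨n, hn, hcard⟩ := hRp.nontrivial_iff_card.1 hnt
    have hdvd : 2 ∣ Nat.card φ.range := by
      rw [hcard]; exact dvd_pow_self 2 hn.ne'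
    obtain ⟨x, hx⟩ := exists_prime_orderOf_dvd_card' 2 hdvd
    intro h
    have hx1 : (x : A) ∈ Ω := by
      rw [hΩ]
      refine ⟨x.2, ?_⟩
      have := pow_orderOf_eq_one x
      rw [hx] at this
      exact_mod_cast congrArg Subtype.val this
    rw [h, Subgroup.mem_bot] at hx1
    have : x = 1 := Subtype.ext hx1
    rw [this, orderOf_one] at hx
    omega
  have hinv : ∀ x, (t : Equiv.Perm A) x ∈ Ω ↔ x ∈ Ω := by
    intro x
    rw [hΩ, hΩ]
    constructor
    · rintro ⟨⟨a, ha⟩, h2⟩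
      refine ⟨⟨t.symm a, ?_⟩, ?_⟩
      · apply t.injective
        rw [← hφt]; simpa using ha
      · apply t.injective
        simpa using h2
    · rintro ⟨⟨a, ha⟩, h2⟩
      refine ⟨⟨t a, ?_⟩, ?_⟩
      · rw [hφt, ha]; rfl
      · show (t x) ^ 2 = 1
        rw [← map_pow, h2, map_one]
  classical
  haveI : Fintype Ω := Fintype.ofFinite _
  let σ : Equiv.Perm Ω := Equiv.Perm.subtypePerm (p := fun x => x ∈ Ω) (t : Equiv.Perm A) hinv
  have hσ : σ ^ 2 ^ k = 1 := by
    have h1 : (t : Equiv.Perm A) ^ 2 ^ k = 1 := by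
      have h2 : t ^ 2 ^ k = 1 := by rw [← hk]; exact pow_orderOf_eq_one t
      have h3 := congrArg (MulAut.toPerm A) h2
      rw [map_pow, map_one] at h3
      exact h3
    ext x
    simp only [σ, Equiv.Perm.subtypePerm_pow, Equiv.Perm.subtypePerm_apply, h1]
    simp
  have hdvd : 2 ∣ Fintype.card Ω := by
    have hRp : IsPGroup 2 Ω := hA.to_subgroup _
    have hnt : Nontrivial Ω := (Subgroup.nontrivial_iff_ne_bot _).2 hΩne
    obtain ⟨n, hn, hcard⟩ := hRp.nontrivial_iff_card.1 hnt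
    rw [← Nat.card_eq_fintype_card, hcard]; exact dvd_pow_self 2 hn.ne'
  have h1 : σ 1 = 1 := by
    apply Subtype.ext
    simp [σ]
  obtain ⟨c, hc, hc1⟩ := Equiv.Perm.exists_fixed_point_of_prime' hdvd hσ h1
  have hct : t c = c := congrArg Subtype.val hc
  obtain ⟨⟨a, ha⟩, h2⟩ := (hΩ c).1 c.2
  have hta : t a = a * c := by
    rw [← ha, hφ]; simp
  have : t (t a) = a := by
    rw [hta, map_mul, hta, hct, mul_assoc, ← sq, h2, mul_one]
  have h3 := hC a this
  apply hc1
  apply Subtype.ext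
  rw [← ha, hφ, h3]; simp

end Cfsg.Agent.S1780
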