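import Cfsg.Agent.Base
import Cfsg.Statements.S0251
import Cfsg.Agent.Lin.PLine

set_option autoImplicit false
open Cfsg

namespace Cfsg.Agent.S0251

open CL.Lin
open scoped LinearAlgebra.Projectivization

/-- PSL_2(3) is isomorphic to A_4. -/
theorem result {F : Type*} [Field F] [Fintype F] (hF : Fintype.card F = 3) : Nonempty (Matrix.ProjectiveSpecialLinearGroup (Fin 2) F ≃* alternatingGroup (Fin 4)) := by
  classical
  have hc : Nat.card (ℙ F (Fin 2 → F)) = 4 := by rw [card_pline, hF]
  have : Fintype (ℙ F (Fin 2 → F)) := Fintype.ofFinite _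
  have e : ℙ F (Fin 2 → F) ≃ Fin 4 := Fintype.equivFinOfCardEq (by rw [← Nat.card_eq_fintype_card, hc])
  let φ : Matrix.ProjectiveSpecialLinearGroup (Fin 2) F →* Equiv.Perm (Fin 4) :=
    (Equiv.permCongrHom e).toMonoidHom.comp Projectivization.PSLAction.toPermHom
  have hinj : Function.Injective φ :=
    (Equiv.permCongrHom e).injective.comp Matrix.ProjectiveSpecialLinearGroup.toPermHom_injective
  have hcard : Nat.card (Matrix.ProjectiveSpecialLinearGroup (Fin 2) F) = 12 := by
    have := card_PSL_two_mul (F := F)
    rw [hF] at this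
    generalize Nat.card (Matrix.ProjectiveSpecialLinearGroup (Fin 2) F) = k at this ⊢
    norm_num at this
    omega
  have hidx : φ.range.index = 2 := by
    have h1 := φ.range.card_mul_index
    rw [← Nat.card_congr (MonoidHom.ofInjective hinj).toEquiv, hcard, Nat.card_perm] at h1
    simp [Nat.factorial] at h1
    omega
  exact ⟨(MonoidHom.ofInjective hinj).trans
    (MulEquiv.subgroupCongr (Equiv.Perm.eq_alternatingGroup_of_index_eq_two hidx))⟩

end Cfsg.Agent.S0251
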