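import Cfsg.Agent.Base
import Cfsg.Statements.S0253
import Cfsg.Agent.Lin.Congr

set_option autoImplicit false
open Cfsg

namespace Cfsg.Agent.S0253

open CL.Lin Matrix

/-- the five orthogonal frames -/
def S : Fin 5 → Finset (Matrix (Fin 2) (Fin 2) (ZMod 5)) := ![
  {!![0, 2; 2, 0], !![0, 3; 3, 0], !![1, 0; 0, 1], !![2, 0; 0, 3], !![3, 0; 0, 2], !![4, 0; 0, 4]},
  {!![0, 2; 2, 2], !![0, 3; 3, 3], !![1, 3; 3, 0], !![2, 1; 1, 1], !![3, 4; 4, 4], !![4, 2; 2, 0]},
  {!![0, 2; 2, 4], !![0, 3; 3, 1], !![1, 1; 1, 2], !![2, 2; 2, 0], !![3, 3; 3, 0], !![4, 4; 4, 3]},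
  {!![0, 2; 2, 1], !![0, 3; 3, 4], !![1, 4; 4, 2], !![2, 3; 3, 0], !![3, 2; 2, 0], !![4, 1; 1, 3]},
  {!![0, 2; 2, 3], !![0, 3; 3, 2], !![1, 2; 2, 0], !![2, 4; 4, 1], !![3, 1; 1, 4], !![4, 3; 3, 0]}]

theorem S_inj : Function.Injective S := by
  unfold Function.Injective
  decide +kernel

theorem h01 : ∀ y, congrAct (SpecialLinearGroup.transvection (zero_ne_one' (Fin 2)) 1) (S y) =
    S ((c[0, 1, 3, 2, 4] : Equiv.Perm (Fin 5)) • y) := by
  decide +kernel

theorem h10 : ∀ y, congrAct (SpecialLinearGroup.transvection (one_ne_zero' (Fin 2)) 1) (S y) =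
    S ((c[0, 2, 4, 1, 3] : Equiv.Perm (Fin 5)) • y) := by
  decide +kernel

local instance fact5 : Fact (Nat.Prime 5) := ⟨by norm_num⟩

theorem main : Nonempty (Matrix.ProjectiveSpecialLinearGroup (Fin 2) (ZMod 5) ≃*
    alternatingGroup (Fin 5)) := by
  obtain ⟨φ, hφ⟩ := exists_hom_of_congrAct 5 (H := Equiv.Perm (Fin 5)) S S_inj (by
    intro i j hij
    fin_cases i <;> fin_cases j
    · exact absurd rfl hij
    · exact ⟨_, h01⟩
    · exact ⟨_, h10⟩
    · exact absurd rfl hij)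
  refine quotCenter_equiv_alternating (SL2.commutator_eq_top (a := 2) (by decide) (by decide))
    (Matrix.ProjectiveSpecialLinearGroup.rank_two_simple (by simp)) φ
    ⟨SpecialLinearGroup.transvection (zero_ne_one' (Fin 2)) 1, fun h => ?_⟩ ?_
  · have h1 := hφ (SpecialLinearGroup.transvection (zero_ne_one' (Fin 2)) 1) 0
    rw [h, h01] at h1
    exact absurd (S_inj h1) (by decide)
  · have := card_PSL_two_mul (F := ZMod 5)
    rw [ZMod.card] at this
    generalize Nat.card (Matrix.ProjectiveSpecialLinearGroup (Fin 2) (ZMod 5)) = k at this ⊢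
    norm_num [Nat.factorial] at this ⊢
    omega

/-- PSL_2(5) is isomorphic to A_5. -/
theorem result {F : Type*} [Field F] [Fintype F] (hF : Fintype.card F = 5) : Nonempty (Matrix.ProjectiveSpecialLinearGroup (Fin 2) F ≃* alternatingGroup (Fin 5)) := by
  obtain ⟨e⟩ := nonempty_pslCongr (ι := Fin 2) (F := F) (K := ZMod 5) (by rw [hF, ZMod.card])
  obtain ⟨e'⟩ := main
  exact ⟨e.trans e'⟩

end Cfsg.Agent.S0253
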