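import Cfsg.Agent.Base
import Cfsg.Statements.S0494
import Cfsg.Agent.Small.PSL2Rec3

set_option autoImplicit false
open Cfsg

namespace Cfsg.Agent.S0494

/-- A simple group of order 60 is isomorphic to the alternating group of degree 5. -/
theorem result {G : Type*} [Group G] [Finite G] [IsSimpleGroup G]
    (h : Nat.card G = 60) : Nonempty (G ≃* alternatingGroup (Fin 5)) := by
  have : Fact (Nat.Prime 5) := ⟨by norm_num⟩
  obtain ⟨e₁⟩ := CL.PSL2Rec.equiv_of_simple_card (G := G) (p := 5) (by norm_num) (by norm_num)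
    (by rw [h]; norm_num) (F := ZMod 5) (by simp)
  have hA : Nat.card (alternatingGroup (Fin 5)) = 60 := by
    rw [nat_card_alternatingGroup]; simp [Nat.factorial]
  obtain ⟨e₂⟩ := CL.PSL2Rec.equiv_of_simple_card (G := alternatingGroup (Fin 5)) (p := 5)
    (by norm_num) (by norm_num) (by rw [hA]; norm_num) (F := ZMod 5) (by simp)
  exact ⟨e₁.trans e₂.symm⟩

end Cfsg.Agent.S0494
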