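import Cfsg.Statements.S0215
import Cfsg.Agent.Base
import Cfsg.Agent.Blocks.ZStar

set_option autoImplicit false
open Cfsg

namespace Cfsg.Agent.S0215

open CL CL.Invol CL.ZStar

/-- Glauberman's Z*-Theorem. -/
theorem result {G : Type*} [Group G] [Finite G] (P : Sylow 2 G) (u : G) (hu : orderOf u = 2) (huP : u ∈ P) (hiso : ∀ g : G, g * u * g⁻¹ ∈ P → g * u * g⁻¹ = u) : ∃ N : Subgroup G, N.Normal ∧ Odd (Nat.card N) ∧ ∀ g : G, (u * g * u⁻¹ * g⁻¹) ∈ N := by
  refine ⟨pPrimeCore 2 G, inferInstance, Nat.coprime_two_right.mp (pPrimeCore_coprime 2 G), ?_⟩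
  have hu2 := mul_self_of_orderOf_two hu
  apply zstar_of_oddIso
  apply oddIso_of_isolated hu2
  intro g hc
  have hy2 : (g * u * g⁻¹) * (g * u * g⁻¹) = 1 := by rw [conj_mul, hu2]; group
  have h1 : IsPGroup 2 (Subgroup.closure ({u, g * u * g⁻¹} : Set G)) := by
    apply isPGroup_closure_pair hu2 hy2 (k := 1)
    rw [pow_one, hc.mul_pow, pow_two, pow_two, hu2, hy2, one_mul]
  obtain ⟨Q, hQ⟩ := h1.exists_le_sylow
  obtain ⟨a, ha⟩ := MulAction.exists_smul_eq G Q P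
  have h2 : ∀ x ∈ (Q : Subgroup G), a * x * a⁻¹ ∈ P := by
    intro x hx
    rw [← ha]
    change a * x * a⁻¹ ∈ ((a • Q : Sylow 2 G) : Subgroup G)
    rw [Sylow.coe_subgroup_smul, Subgroup.mem_smul_pointwise_iff_exists]
    exact ⟨x, hx, rfl⟩
  have h3 := hiso a (h2 u (hQ (left_mem_closure_pair _ _)))
  have h4 := hiso (a * g) (by
    have := h2 _ (hQ (right_mem_closure_pair _ _))
    convert this using 1; group)
  calc g * u * g⁻¹ = a⁻¹ * (a * g * u * (a * g)⁻¹) * a := by group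
    _ = a⁻¹ * (a * u * a⁻¹) * a := by rw [h4, h3]
    _ = u := by group

end Cfsg.Agent.S0215
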