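import Cfsg.Agent.Base
import Cfsg.Statements.S0192
import Cfsg.Agent.Char.Basic

set_option autoImplicit false
open Cfsg

namespace Cfsg.Agent.S0192

/-- Brauer's generation criterion. Let G be a finite simple group, H₁ and H₂ subgroups, and χ a non-principal irreducible character. If the multiplicity of the principal character in χ restricted to H₁ ⊓ H₂ is less than the sum of the corresponding multiplicities for H₁ and H₂, then H₁ and H₂ do not generate G. -/
theorem result {G : Type*} [Group G] [Fintype G] [IsSimpleGroup G] (H₁ H₂ : Subgroup G) [Fintype H₁] [Fintype H₂] [Fintype ↥(H₁ ⊓ H₂)] (χ : G → ℂ) (hχ : Cfsg.IsIrrCharacter G χ) (hχ1 : χ ≠ fun _ => 1) (hlt : (Cfsg.classInner (fun x : ↥(H₁ ⊓ H₂) => χ x) (fun _ => 1)).re < (Cfsg.classInner (fun x : H₁ => χ x) (fun _ => 1)).re + (Cfsg.classInner (fun x : H₂ => χ x) (fun _ => 1)).re) : H₁ ⊔ H₂ ≠ ⊤ := by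
  intro htop
  obtain ⟨n, ρ, hρ, rfl⟩ := hχ
  have key : ∀ (H : Subgroup G) [Fintype H], Cfsg.classInner (fun x : H => ρ.character x) (fun _ => 1) =
      (Module.finrank ℂ (Representation.invariants (ρ.comp H.subtype)) : ℂ) := fun H _ =>
    CL.Char.classInner_character_one (ρ.comp H.subtype)
  rw [key, key, key] at hlt
  simp only [Complex.natCast_re] at hlt
  set V₁ := Representation.invariants (ρ.comp H₁.subtype)
  set V₂ := Representation.invariants (ρ.comp H₂.subtype)
  set V₀ := Representation.invariants (ρ.comp (H₁ ⊓ H₂).subtype)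
  have h1 : V₁ ⊔ V₂ ≤ V₀ := by
    refine sup_le (fun v hv x => ?_) (fun v hv x => ?_)
    · exact hv ⟨x, x.2.1⟩
    · exact hv ⟨x, x.2.2⟩
  have h2 : V₁ ⊓ V₂ ≤ ρ.invariants := by
    rintro v ⟨hv1, hv2⟩ g
    let S : Subgroup G :=
      { carrier := {g | ρ g v = v}
        one_mem' := by simp
        mul_mem' := fun {a b} ha hb => by
          simp only [Set.mem_ofPred_eq] at ha hb ⊢
          rw [map_mul, Module.End.mul_apply, hb, ha]
        inv_mem' := fun {a} ha => by
          simp only [Set.mem_ofPred_eq] at ha ⊢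
          conv_lhs => rw [← ha]
          rw [← Module.End.mul_apply, ← map_mul, inv_mul_cancel, map_one, Module.End.one_apply] }
    have : H₁ ⊔ H₂ ≤ S := sup_le (fun x hx => hv1 ⟨x, hx⟩) (fun x hx => hv2 ⟨x, hx⟩)
    exact this (htop ▸ Subgroup.mem_top g)
  have h3 : Module.finrank ℂ ρ.invariants = 0 := by
    have := CL.Char.irr_inner_one (CL.Char.isIrrCharacter_character ρ) hχ1
    rw [CL.Char.classInner_character_one] at this
    exact_mod_cast this
  have h4 := Submodule.finrank_sup_add_finrank_inf_eq V₁ V₂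
  have h5 := Submodule.finrank_mono h1
  have h6 := Submodule.finrank_mono h2
  have h7 : Module.finrank ℂ V₀ < Module.finrank ℂ V₁ + Module.finrank ℂ V₂ := by
    exact_mod_cast hlt
  omega

end Cfsg.Agent.S0192
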