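import Cfsg.Statements.S0840
import Cfsg.Agent.BS.Tools

set_option autoImplicit false
open scoped ComplexConjugate
open Cfsg

namespace Cfsg.Agent.S0840

/-- Class multiplication coefficients from the character table: for elements a, b, c of a finite group G, the number of ordered pairs (x, y) with x conjugate to a, y conjugate to b and x * y = c equals the product of the sizes of the conjugacy classes of a and b, divided by the order of G, times the sum over the irreducible characters χ of χ a * χ b * conj (χ c) / χ 1. -/
theorem result {G : Type*} [Group G] [Finite G] (a b c : G) : (Nat.card {p : G × G // IsConj a p.1 ∧ IsConj b p.2 ∧ p.1 * p.2 = c} : ℂ) = (Nat.card {x : G // IsConj a x} : ℂ) * (Nat.card {x : G // IsConj b x} : ℂ) / (Nat.card G : ℂ) * ∑ᶠ χ : Cfsg.IrrCharacter G, (χ : G → ℂ) a * (χ : G → ℂ) b * conj ((χ : G → ℂ) c) / (χ : G → ℂ) 1 := by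
  classical
  have := Fintype.ofFinite G
  set f : G → ℂ := fun c => ∑ x with IsConj a x, ∑ y with IsConj b y, if x * y = c then 1 else 0
    with hf
  have hcount : (Nat.card {p : G × G // IsConj a p.1 ∧ IsConj b p.2 ∧ p.1 * p.2 = c} : ℂ) = f c := by
    rw [Nat.card_eq_fintype_card, Fintype.card_subtype, Finset.card_filter, hf]
    simp only [Finset.sum_filter]
    rw [← Finset.univ_product_univ, Finset.sum_product]
    push_cast
    refine Finset.sum_congr rfl fun x _ => ?_
    by_cases hx : IsConj a x
    · simp only [hx, true_and, if_true]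
      refine Finset.sum_congr rfl fun y _ => ?_
      by_cases hy : IsConj b y <;> simp only [hy, true_and, false_and, if_true, if_false]
    · simp only [hx, false_and, if_false, Finset.sum_const_zero]
  have hinner : ∀ χ : G → ℂ, Cfsg.IsIrrCharacter G χ → Cfsg.classInner χ f =
      (Nat.card {x : G // IsConj a x} : ℂ) * (Nat.card {x : G // IsConj b x} : ℂ) /
        (Nat.card G : ℂ) * (χ a * χ b / χ 1) := by
    intro χ hχ
    rw [CL.Char.classInner_def]
    have : ∑ g, χ g * conj (f g) = ∑ x with IsConj a x, ∑ y with IsConj b y, χ (x * y) := by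
      simp only [hf, map_sum, Finset.mul_sum, apply_ite conj, map_one, map_zero, mul_ite, mul_one,
        mul_zero]
      rw [Finset.sum_comm]
      refine Finset.sum_congr rfl fun x _ => ?_
      rw [Finset.sum_comm]
      refine Finset.sum_congr rfl fun y _ => ?_
      simp
    rw [this, CL.BS.irr_sum_class_mul_class hχ]
    ring
  have hcl : Cfsg.IsClassFunction G f := by
    intro g h
    have e1 : ∀ w y : G, IsConj w (h * y * h⁻¹) ↔ IsConj w y := fun w y => by
      have : IsConj y (h * y * h⁻¹) := isConj_iff.2 ⟨h, rfl⟩
      exact ⟨fun h => h.trans this.symm, fun h => h.trans this⟩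
    simp only [hf, Finset.sum_filter]
    symm
    refine Fintype.sum_equiv (MulAut.conj h).toEquiv _ _ fun x => ?_
    simp only [MulEquiv.toEquiv_eq_coe, EquivLike.coe_coe, MulAut.conj_apply, e1]
    congr 1
    refine Fintype.sum_equiv (MulAut.conj h).toEquiv _ _ fun y => ?_
    simp only [MulEquiv.toEquiv_eq_coe, EquivLike.coe_coe, MulAut.conj_apply, e1]
    congr 2
    rw [conj_mul, mul_left_inj, mul_right_inj]
  have hreal : conj (f c) = f c := by rw [← hcount, map_natCast]
  rw [hcount, ← hreal, CL.Char.classFun_apply_eq_sum hcl c, finsum_eq_sum_of_fintype, map_sum,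
    Finset.mul_sum]
  refine Finset.sum_congr rfl fun χ _ => ?_
  rw [map_mul, CL.Char.conj_classInner, hinner _ χ.2]
  ring

end Cfsg.Agent.S0840
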