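import Cfsg.Statements.S0810
import Cfsg.Agent.Base
import Cfsg.Agent.PSL2.Maximal

set_option autoImplicit false
open Cfsg

namespace Cfsg.Agent.S0810

/-- PSL_2(q) is minimal simple iff q is 2^r (r prime), 3^r (r an odd prime), a prime greater than 5 congruent to 2 or 3 mod 5, or 5. -/
theorem result {F : Type*} [Field F] [Fintype F] {q : ℕ} (hF : Fintype.card F = q) : Cfsg.IsMinimalSimple (Matrix.ProjectiveSpecialLinearGroup (Fin 2) F) ↔ ((∃ r : ℕ, r.Prime ∧ q = 2 ^ r) ∨ (∃ r : ℕ, r.Prime ∧ r ≠ 2 ∧ q = 3 ^ r) ∨ (q.Prime ∧ 5 < q ∧ (q % 5 = 2 ∨ q % 5 = 3)) ∨ q = 5) := by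
  subst hF
  have hodd : ∀ b r : ℕ, b = 2 ∨ b = 3 → Odd r → b ^ r % 5 = 2 ∨ b ^ r % 5 = 3 := by
    rintro b _ hb ⟨k, rfl⟩
    induction k with
    | zero => rcases hb with rfl | rfl <;> simp
    | succ k ih =>
      rw [show 2 * (k + 1) + 1 = 2 * k + 1 + 2 by ring, pow_add, Nat.mul_mod]
      rcases hb with rfl | rfl <;> rcases ih with ih | ih <;> simp [ih]
  have h5 : ∀ q : ℕ, 1 < q → (¬ 5 ∣ q * (q ^ 2 - 1) ↔ (q % 5 = 2 ∨ q % 5 = 3)) := fun q hq => by
    rw [CL.PSL2.sq_sub_one_eq, Nat.prime_five.dvd_mul, Nat.prime_five.dvd_mul]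
    omega
  have hpow : ∀ b n r m : ℕ, b.Prime → n.Prime → 2 ≤ r → 2 ≤ m → r ^ m = b ^ n → r = b := by
    intro b n r m hb hn hr hm h
    obtain ⟨a, -, rfl⟩ := (Nat.dvd_prime_pow hb).1 (h ▸ dvd_pow_self r (by omega) : r ∣ b ^ n)
    rw [← pow_mul] at h
    have h1 := Nat.pow_right_injective hb.two_le h
    rcases hn.eq_one_or_self_of_dvd m ⟨a, by rw [← h1, mul_comm]⟩ with h2 | h2
    · omega
    · subst h2
      rw [show a = 1 from Nat.eq_of_mul_eq_mul_right (by omega) (h1.trans (one_mul m).symm),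
        pow_one]
  have hprime : ∀ q r m : ℕ, q.Prime → 2 ≤ r → 2 ≤ m → r ^ m ≠ q := by
    rintro _ r m hq hr hm rfl
    exact absurd hq.eq_one_of_pow (by omega)
  have hq1 : 1 < Fintype.card F := Fintype.one_lt_card
  have hN := CL.PSL2.card_PSL (F := F)
  constructor
  · rintro ⟨hs, hc, hsol⟩
    have hns : ∀ H : Subgroup (Matrix.ProjectiveSpecialLinearGroup (Fin 2) F), H ≠ ⊤ →
        ¬ Group.IsSolvable H → False := fun H h1 h2 => h2 (hsol H h1)
    have h4 : 4 ≤ Fintype.card F := by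
      by_contra h
      refine hc ⟨⟨IsSimpleGroup.comm_iff_isSolvable.2 (CL.PSL2.isSolvable_of_card_dvd_24 ?_)⟩⟩
      have : Fintype.card F = 2 ∨ Fintype.card F = 3 := by omega
      generalize Nat.card (Matrix.ProjectiveSpecialLinearGroup (Fin 2) F) = N at hN
      rcases this with h | h <;> rw [h] at hN <;> simp at hN
      · rw [hN]; norm_num
      · rw [show N = 12 by omega]; norm_num
    obtain ⟨p, hp⟩ := CharP.exists F
    have := Fact.mk (CharP.char_is_prime F p)
    obtain ⟨⟨n, hn0⟩, hpp, hn⟩ := FiniteField.card F p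
    simp only [PNat.mk_coe] at hn
    by_cases hn1 : n = 1
    · subst hn1
      rw [pow_one] at hn
      by_cases h55 : Fintype.card F = 5
      · exact Or.inr (Or.inr (Or.inr h55))
      have h6 : 5 < Fintype.card F := by
        have : Fintype.card F ≠ 4 := fun h => absurd (hn ▸ hpp : (Fintype.card F).Prime)
          (by rw [h]; decide)
        omega
      refine Or.inr (Or.inr (Or.inl ⟨hn ▸ hpp, h6, (h5 _ hq1).1 fun h => ?_⟩))
      obtain ⟨H, h1, h2⟩ := CL.PSL2.exists_not_isSolvable_of_five h h6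
      exact hns H h1 h2
    · obtain ⟨l, hl, a, rfl⟩ := Nat.exists_prime_and_dvd hn1
      have ha : p ^ a < 4 := by
        by_contra h
        obtain ⟨H, h1, h2⟩ := CL.PSL2.exists_not_isSolvable_of_pow (F := F) p hl.two_le
          (not_lt.1 h) (by rw [hn, ← pow_mul, mul_comm])
        exact hns H h1 h2
      have ha0 : a ≠ 0 := by rintro rfl; simp at hn0
      have hp2 := hpp.two_le
      obtain rfl : a = 1 := by
        by_contra h
        have h1 : p ^ 2 ≤ p ^ a := Nat.pow_le_pow_right (by omega) (by omega)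
        nlinarith
      rw [pow_one] at ha
      rw [mul_one] at hn
      obtain rfl | rfl : p = 2 ∨ p = 3 := by omega
      · exact Or.inl ⟨l, hl, hn⟩
      · refine Or.inr (Or.inl ⟨l, hl, ?_, hn⟩)
        rintro rfl
        obtain ⟨H, h1, h2⟩ := CL.PSL2.exists_not_isSolvable_of_five (F := F)
          (by rw [hn]; norm_num) (by rw [hn]; norm_num)
        exact hns H h1 h2
  · intro h
    have h4 : 4 ≤ Fintype.card F := by
      rcases h with ⟨r, hr, h⟩ | ⟨r, hr, -, h⟩ | h | h
      · exact h ▸ Nat.pow_le_pow_right (n := 2) (by norm_num) hr.two_le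
      · exact h ▸ le_trans (by norm_num) (Nat.pow_le_pow_right (n := 3) (by norm_num) hr.two_le)
      · omega
      · omega
    refine ⟨Matrix.ProjectiveSpecialLinearGroup.rank_two_simple
      (by rwa [Nat.card_eq_fintype_card]), fun hc => CL.PSL2.PSL_not_comm hc.is_comm.comm,
      fun H hH => CL.PSL2.isSolvable_of_ne_top ?_ (fun r m hr hm hrm => ?_) hH⟩
    · rcases h with ⟨r, hr, h⟩ | ⟨r, hr, hr2, h⟩ | h | h
      · by_cases hr2 : r = 2
        · subst hr2
          rw [h] at hN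
          exact Or.inr (by simpa using hN)
        · exact Or.inl ((h5 _ hq1).2 (h ▸ hodd 2 r (Or.inl rfl) (hr.odd_of_ne_two hr2)))
      · exact Or.inl ((h5 _ hq1).2 (h ▸ hodd 3 r (Or.inr rfl) (hr.odd_of_ne_two hr2)))
      · exact Or.inl ((h5 _ hq1).2 h.2.2)
      · rw [h] at hN
        simp at hN
        exact Or.inr (by omega)
    · rcases h with ⟨n, hn, h⟩ | ⟨n, hn, -, h⟩ | h | h
      · rw [hpow 2 n r m Nat.prime_two hn hr hm (hrm.trans h)]; norm_num
      · rw [hpow 3 n r m Nat.prime_three hn hr hm (hrm.trans h)]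
      · exact absurd hrm (hprime _ r m h.1 hr hm)
      · exact absurd hrm (hprime _ r m (h ▸ Nat.prime_five) hr hm)

end Cfsg.Agent.S0810
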