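import Cfsg.Agent.Base
import Cfsg.Statements.S1546

set_option autoImplicit false
open Cfsg

namespace Cfsg.Agent.S1546

theorem geom_mod (p q m : ℕ) (h : p ≡ 1 [MOD m]) :
    (∑ k ∈ Finset.range q, p ^ k) ≡ q [MOD m] := by
  induction q with
  | zero => simp [Nat.ModEq]
  | succ n ih =>
    rw [Finset.sum_range_succ]
    have : p ^ n ≡ 1 [MOD m] := by simpa using h.pow n
    exact ih.add this

/-- Let p and q be odd primes and N = (p ^ q − 1) / (p − 1) = 1 + p + ⋯ + p^(q−1). Then N is odd; if p ≡ 1 (mod q) then q ∣ N; and if p is not ≡ 1 (mod q) then N is coprime to p − 1 and every divisor of N is ≡ 1 (mod q). -/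
theorem result (p q : ℕ) (hp : p.Prime) (hq : q.Prime) (hp2 : p ≠ 2) (hq2 : q ≠ 2) : Odd ((p ^ q - 1) / (p - 1)) ∧ (p % q = 1 → q ∣ (p ^ q - 1) / (p - 1)) ∧ (p % q ≠ 1 → Nat.Coprime ((p ^ q - 1) / (p - 1)) (p - 1) ∧ ∀ x : ℕ, x ∣ (p ^ q - 1) / (p - 1) → x % q = 1) := by
  have hp1 : 2 ≤ p := hp.two_le
  have hq1 : 1 < q := hq.one_lt
  rw [← Nat.geomSum_eq hp1]
  set N := ∑ k ∈ Finset.range q, p ^ k with hN
  have hpodd : Odd p := hp.odd_of_ne_two hp2
  have hqodd : Odd q := hq.odd_of_ne_two hq2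
  have hmul : N * (p - 1) + 1 = p ^ q := by
    have := Nat.geomSum_eq hp1 q
    have hd : (p - 1) ∣ p ^ q - 1 := by simpa using Nat.sub_dvd_pow_sub_pow p 1 q
    have hpos : 1 ≤ p ^ q := Nat.one_le_pow _ _ (by omega)
    rw [hN, this, Nat.div_mul_cancel hd]; omega
  refine ⟨?_, ?_, ?_⟩
  · have h2 : p ≡ 1 [MOD 2] := by
      unfold Nat.ModEq; rw [Nat.odd_iff.mp hpodd]
    have := geom_mod p q 2 h2
    rw [Nat.odd_iff]
    unfold Nat.ModEq at this
    rw [this, Nat.odd_iff.mp hqodd]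
  · intro h
    have h2 : p ≡ 1 [MOD q] := by
      unfold Nat.ModEq; rw [h, Nat.mod_eq_of_lt hq1]
    have := geom_mod p q q h2
    exact (Nat.modEq_zero_iff_dvd.mp (this.trans (Nat.modEq_zero_iff_dvd.mpr dvd_rfl)))
  · intro h
    -- every prime divisor r of N is 1 mod q
    have key : ∀ r : ℕ, r.Prime → r ∣ N → ¬ r ∣ p - 1 := by
      intro r hr hrN hrp
      have h2 : p ≡ 1 [MOD r] := ((Nat.modEq_iff_dvd' (by omega : 1 ≤ p)).mpr hrp).symm
      have h3 := geom_mod p q r h2
      have h4 : r ∣ q := (Nat.modEq_zero_iff_dvd.mp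
        (h3.symm.trans (Nat.modEq_zero_iff_dvd.mpr hrN)))
      have h5 : r = q := (Nat.prime_dvd_prime_iff_eq hr hq).mp h4
      subst h5
      apply h
      unfold Nat.ModEq at h2
      rw [h2, Nat.mod_eq_of_lt hq1]
    have key2 : ∀ r : ℕ, r.Prime → r ∣ N → r % q = 1 := by
      intro r hr hrN
      haveI := Fact.mk hr
      have h1 : ((p : ZMod r)) ^ q = 1 := by
        have : ((p ^ q : ℕ) : ZMod r) = ((N * (p - 1) + 1 : ℕ) : ZMod r) := by rw [hmul]
        have h0 : ((N : ℕ) : ZMod r) = 0 := (ZMod.natCast_eq_zero_iff _ _).mpr hrN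
        push_cast at this
        rw [this, h0]; simp
      have h2 : (p : ZMod r) ≠ 1 := by
        intro h2
        apply key r hr hrN
        rw [← ZMod.natCast_eq_zero_iff, Nat.cast_sub (by omega), h2]; simp
      have h3 : orderOf (p : ZMod r) = q := by
        haveI := Fact.mk hq
        exact orderOf_eq_prime h1 h2
      have h4 : (p : ZMod r) ≠ 0 := by
        intro h0
        rw [h0, zero_pow (by omega)] at h1
        exact zero_ne_one h1
      have h5 : q ∣ r - 1 := h3 ▸ ZMod.orderOf_dvd_card_sub_one h4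
      have h6 : r ≡ 1 [MOD q] := ((Nat.modEq_iff_dvd' hr.one_le).mpr h5).symm
      unfold Nat.ModEq at h6
      rw [h6, Nat.mod_eq_of_lt hq1]
    refine ⟨?_, ?_⟩
    · apply Nat.coprime_of_dvd
      intro r hr hrN hrp
      exact key r hr hrN hrp
    · have hN0 : N ≠ 0 := by
        intro h0
        rw [h0] at hmul
        have : 1 < p ^ q := Nat.one_lt_pow (by omega) (by omega)
        omega
      intro x hx
      have hx0 : x ≠ 0 := by rintro rfl; exact hN0 (Nat.eq_zero_of_zero_dvd hx)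
      induction x using Nat.recOnMul with
      | zero => exact absurd rfl hx0
      | one => exact Nat.mod_eq_of_lt hq1
      | prime r hr => exact key2 r hr hx
      | mul a b iha ihb =>
        have ha := iha (Dvd.dvd.trans (Dvd.intro _ rfl) hx) (by rintro rfl; simp at hx0)
        have hb := ihb (Dvd.dvd.trans (Dvd.intro_left _ rfl) hx) (by rintro rfl; simp at hx0)
        rw [Nat.mul_mod, ha, hb]; simp [Nat.mod_eq_of_lt hq1]

end Cfsg.Agent.S1546
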