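import Cfsg.Agent.Base
import Cfsg.Statements.S1523
import Cfsg.Agent.Char.Orth
import Cfsg.Agent.Char.Galois
import Cfsg.Agent.Char.Burnside

set_option autoImplicit false
open Cfsg
open CL.Char

namespace Cfsg.Agent.S1523

/-- a finite set on which a finite group acts freely has a transversal -/
theorem exists_transversal_of_free {P X : Type*} [Group P] [Fintype P] [MulAction P X]
    (S : Finset X) (hS : ∀ g : P, ∀ s ∈ S, g • s ∈ S)
    (hfree : ∀ s ∈ S, ∀ g : P, g • s = s → g = 1) :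
    ∃ T : Finset X, ∀ F : X → ℂ, (∀ g : P, ∀ s, F (g • s) = F s) →
      ∑ s ∈ S, F s = (Nat.card P : ℂ) * ∑ s ∈ T, F s := by
  classical
  induction S using Finset.strongInduction with
  | H S ih =>
    rcases S.eq_empty_or_nonempty with rfl | ⟨s, hs⟩
    · exact ⟨∅, fun F _ => by simp⟩
    let O : Finset X := Finset.univ.image fun g : P => g • s
    have hO : O ⊆ S := by
      intro x hx
      obtain ⟨g, -, rfl⟩ := Finset.mem_image.1 hx
      exact hS g s hs
    have hsO : s ∈ O := Finset.mem_image.2 ⟨1, Finset.mem_univ _, one_smul _ _⟩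
    have hlt : S \ O ⊂ S := Finset.sdiff_ssubset hO ⟨s, hsO⟩
    obtain ⟨T, hT⟩ := ih _ hlt (fun g x hx => by
      rw [Finset.mem_sdiff] at hx ⊢
      refine ⟨hS g x hx.1, fun h => hx.2 ?_⟩
      obtain ⟨k, -, hk⟩ := Finset.mem_image.1 h
      exact Finset.mem_image.2 ⟨g⁻¹ * k, Finset.mem_univ _, by rw [mul_smul, hk, inv_smul_smul]⟩)
      (fun x hx => hfree x (Finset.mem_sdiff.1 hx).1)
    have hinj : Function.Injective fun g : P => g • s := by
      intro g k h
      have h' : g • s = k • s := h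
      have := hfree s hs (k⁻¹ * g) (by rw [mul_smul, h', inv_smul_smul])
      exact (inv_mul_eq_one.1 this).symm
    by_cases hsT : s ∈ T
    · -- impossible: test with the indicator function of the orbit
      exfalso
      have h1 := hT (fun x => if x ∈ O then 1 else 0) (fun g x => by
        congr 1
        apply propext
        constructor
        · intro h
          obtain ⟨k, -, hk⟩ := Finset.mem_image.1 h
          exact Finset.mem_image.2
            ⟨g⁻¹ * k, Finset.mem_univ _, by rw [mul_smul, hk, inv_smul_smul]⟩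
        · intro h
          obtain ⟨k, -, hk⟩ := Finset.mem_image.1 h
          exact Finset.mem_image.2 ⟨g * k, Finset.mem_univ _, by rw [mul_smul, hk]⟩)
      rw [Finset.sum_eq_zero (fun x hx => if_neg (Finset.mem_sdiff.1 hx).2), Finset.sum_boole,
        eq_comm, mul_eq_zero, Nat.cast_eq_zero, Nat.cast_eq_zero, Finset.card_eq_zero] at h1
      rcases h1 with h1 | h1
      · exact Nat.card_pos.ne' h1
      · exact Finset.notMem_empty s (h1 ▸ Finset.mem_filter.2 ⟨hsT, hsO⟩)
    refine ⟨insert s T, fun F hF => ?_⟩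
    rw [← Finset.sum_sdiff hO, hT F hF, Finset.sum_insert hsT, Finset.sum_image hinj.injOn,
      Finset.sum_congr rfl (fun g _ => hF g s), Finset.sum_const, Finset.card_univ,
      Nat.card_eq_fintype_card, nsmul_eq_mul]
    ring

theorem exists_transversal_of_free' {P X : Type*} [Group P] [Fintype P] (act : P → X → X)
    (h1 : ∀ x, act 1 x = x) (h2 : ∀ a b x, act (a * b) x = act a (act b x))
    (S : Finset X) (hS : ∀ g : P, ∀ s ∈ S, act g s ∈ S)
    (hfree : ∀ s ∈ S, ∀ g : P, act g s = s → g = 1) :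
    ∃ T : Finset X, ∀ F : X → ℂ, (∀ g : P, ∀ s, F (act g s) = F s) →
      ∑ s ∈ S, F s = (Nat.card P : ℂ) * ∑ s ∈ T, F s :=
  letI : MulAction P X := { smul := act, one_smul := h1, mul_smul := h2 }
  exists_transversal_of_free (P := P) S hS hfree

variable {G : Type*} [Group G]

open Classical in
theorem card_filter_isConj [Fintype G] (a : G) :
    (Finset.univ.filter (IsConj a)).card = (Subgroup.centralizer ({a} : Set G)).index := by
  rw [← card_isConj_eq_index, Nat.card_eq_fintype_card, Fintype.card_subtype]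

open Classical in
theorem sum_class_mul [Fintype G] {ψ : G → ℂ} (hψ : IsIrrCharacter G ψ) (a b : G) :
    ∑ x ∈ Finset.univ.filter (IsConj a) ×ˢ Finset.univ.filter (IsConj b), ψ (x.1 * x.2) =
      ((Subgroup.centralizer ({a} : Set G)).index : ℂ) *
        (Subgroup.centralizer ({b} : Set G)).index * ψ a * ψ b / ψ 1 := by
  rw [Finset.sum_product]
  have h1 : ∀ u ∈ Finset.univ.filter (IsConj a), ∑ v ∈ Finset.univ.filter (IsConj b), ψ (u * v) =
      ((Subgroup.centralizer ({b} : Set G)).index : ℂ) * ψ a * ψ b / ψ 1 := by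
    intro u hu
    have h2 := sum_conj_eq_card_centralizer_mul b (fun v => ψ (u * v))
    rw [irr_sum_mul_conj hψ, nsmul_eq_mul,
      ← (Subgroup.centralizer ({b} : Set G)).card_mul_index,
      ← classFun_eq_of_isConj (irr_isClassFunction hψ) (Finset.mem_filter.1 hu).2] at h2
    apply mul_left_cancel₀ (Nat.cast_ne_zero.2 (Nat.card_pos (α := Subgroup.centralizer ({b} : Set G))).ne')
    rw [← h2]; push_cast; ring
  rw [Finset.sum_congr rfl h1, Finset.sum_const, card_filter_isConj, nsmul_eq_mul]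
  ring

/-- Let G be a finite group, p a prime, P a Sylow p-subgroup whose underlying set is a TI-subset of G, with L the set normaliser of P of odd order. Let Z ≠ ⊥ be a subgroup of P, normal in L and central in P, such that the centralisers in L of any two non-identity elements of Z have the same order. If ψ is an irreducible character of G taking the same value at all non-identity elements of Z, then for z ∈ Z, z ≠ 1, the value ψ z is an integer n with Nat.card P dividing ψ(1) − n (as integers, ψ 1 being the degree). -/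
theorem result {G : Type*} [Group G] [Finite G] (p : ℕ) [Fact p.Prime] (P : Sylow p G) (hTI : Cfsg.IsTISubset ((P : Subgroup G) : Set G)) (hodd : Odd (Nat.card (Subgroup.normalizer ((P : Subgroup G) : Set G)))) (Z : Subgroup G) (hZ1 : Z ≠ ⊥) (hZP : Z ≤ P) (hZn : ∀ x ∈ Subgroup.normalizer ((P : Subgroup G) : Set G), ∀ z ∈ Z, x * z * x⁻¹ ∈ Z) (hZc : ∀ z ∈ Z, ∀ y ∈ (P : Subgroup G), z * y = y * z) (hCL : ∀ z ∈ Z, ∀ z' ∈ Z, z ≠ 1 → z' ≠ 1 → Nat.card ↥(Subgroup.normalizer ((P : Subgroup G) : Set G) ⊓ Subgroup.centralizer ({z} : Set G)) = Nat.card ↥(Subgroup.normalizer ((P : Subgroup G) : Set G) ⊓ Subgroup.centralizer ({z'} : Set G))) (ψ : G → ℂ) (hψ : Cfsg.IsIrrCharacter G ψ) (hconst : ∀ z ∈ Z, ∀ z' ∈ Z, z ≠ 1 → z' ≠ 1 → ψ z = ψ z') (z : G) (hz : z ∈ Z) (hz1 : z ≠ 1) : ∃ n d : ℤ, ψ z = n ∧ ψ 1 = d ∧ (Nat.card (P : Subgroup G) : ℤ) ∣ d - n := by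
  classical
  letI := Fintype.ofFinite G
  set Q : Subgroup G := (P : Subgroup G) with hQ
  set L := Subgroup.normalizer (Q : Set G) with hL
  have F1 : ∀ u ∈ Q, u ≠ 1 → ∀ g : G, g * u * g⁻¹ ∈ Q → g ∈ L := by
    intro u hu hu1 g hg
    by_contra h
    exact hu1 (hTI g h u hu hg)
  have F2 : ∀ x ∈ Q, x ≠ 1 → ∀ w ∈ Z, w ≠ 1 → ∀ u, IsConj w u → x * u * x⁻¹ = u → u ∈ Z := by
    intro x hx hx1 w hw hw1 u hc hxu
    obtain ⟨g, rfl⟩ := isConj_iff.1 hc
    have h1 : g * w * g⁻¹ ∈ L := by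
      refine F1 x hx hx1 _ ?_
      have : g * w * g⁻¹ * x * (g * w * g⁻¹)⁻¹ = x := by
        rw [mul_inv_eq_iff_eq_mul] at hxu ⊢
        exact hxu.symm
      rwa [this]
    have h2 : IsPGroup p (Subgroup.zpowers (g * w * g⁻¹)) := by
      obtain ⟨k, hk⟩ := P.isPGroup' ⟨w, hZP hw⟩
      have hk' : w ^ p ^ k = 1 := congrArg Subtype.val hk
      rintro ⟨_, m, rfl⟩
      refine ⟨k, Subtype.ext ?_⟩
      simp only [SubmonoidClass.coe_pow, OneMemClass.coe_one]
      rw [← zpow_natCast, ← zpow_mul, mul_comm m, zpow_mul, zpow_natCast, conj_pow, hk']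
      simp
    have h3 : g * w * g⁻¹ ∈ Q := by
      have := h2.inf_normalizer_sylow P
      exact (this.le ⟨Subgroup.mem_zpowers _, h1⟩).2
    exact hZn g (F1 w (hZP hw) hw1 g h3) w hw
  let act : Q → G × G → G × G := fun x y => (x * y.1 * (x : G)⁻¹, x * y.2 * (x : G)⁻¹)
  have hsm' : ∀ (x : Q) (y : G × G), (act x y).1 * (act x y).2 = x * (y.1 * y.2) * (x : G)⁻¹ := by
    intro x y; simp only [act]; group
  have split : ∀ b ∈ Z, b ≠ 1 → ∃ (n : ℕ) (T : Finset (G × G)), ∀ f : G → ℂ,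
      IsClassFunction G f → (∀ w ∈ Z, w ≠ 1 → f w = f z) →
      ∑ x ∈ Finset.univ.filter (IsConj z) ×ˢ Finset.univ.filter (IsConj b), f (x.1 * x.2) =
        (((Finset.univ.filter (IsConj z) ×ˢ Finset.univ.filter (IsConj b)).filter
          (fun x => x.1 * x.2 = 1)).card : ℂ) * f 1 + n * f z +
          (Nat.card Q : ℂ) * ∑ x ∈ T, f (x.1 * x.2) := by
    intro b hb hb1
    set S := Finset.univ.filter (IsConj z) ×ˢ Finset.univ.filter (IsConj b) with hS
    have hmem : ∀ y, y ∈ S ↔ IsConj z y.1 ∧ IsConj b y.2 := by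
      intro y; simp [hS]
    obtain ⟨T, hT⟩ := exists_transversal_of_free' act (fun y => by simp [act])
      (fun a b y => by simp [act, mul_assoc])
      (S.filter fun x => ¬ ∃ w ∈ Z, IsConj w (x.1 * x.2)) (fun g y hy => by
        rw [Finset.mem_filter, hmem] at hy ⊢
        refine ⟨⟨hy.1.1.trans (isConj_iff.2 ⟨g, rfl⟩), hy.1.2.trans (isConj_iff.2 ⟨g, rfl⟩)⟩,
          fun ⟨w, hw, hc⟩ => hy.2 ⟨w, hw, hc.trans ?_⟩⟩
        rw [hsm']
        exact (isConj_iff.2 ⟨(g : G), rfl⟩).symm)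
      (fun y hy g hg => by
        rw [Finset.mem_filter, hmem] at hy
        by_contra hg1
        have hg1' : (g : G) ≠ 1 := fun h => hg1 (Subtype.ext h)
        rw [Prod.ext_iff] at hg
        exact hy.2 ⟨_, Z.mul_mem (F2 g g.2 hg1' z hz hz1 _ hy.1.1 hg.1)
          (F2 g g.2 hg1' b hb hb1 _ hy.1.2 hg.2), IsConj.refl _⟩)
    refine ⟨((S.filter fun x => ∃ w ∈ Z, IsConj w (x.1 * x.2)).filter
      fun x => ¬ x.1 * x.2 = 1).card, T, fun f hf hfz => ?_⟩
    rw [← Finset.sum_filter_add_sum_filter_not S (fun x => ∃ w ∈ Z, IsConj w (x.1 * x.2)),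
      hT (fun x => f (x.1 * x.2)) (fun g y => by rw [hsm']; exact hf _ _),
      ← Finset.sum_filter_add_sum_filter_not _ (fun x : G × G => x.1 * x.2 = 1)]
    congr 2
    · rw [Finset.filter_filter, Finset.sum_congr rfl (g := fun _ => f 1)
        (fun x hx => by rw [(Finset.mem_filter.1 hx).2.2]), Finset.sum_const, nsmul_eq_mul]
      congr 3
      refine Finset.filter_congr fun x _ => ?_
      exact ⟨fun h => h.2, fun h => ⟨⟨1, Z.one_mem, h ▸ IsConj.refl _⟩, h⟩⟩
    · rw [Finset.sum_congr rfl (g := fun _ => f z), Finset.sum_const, nsmul_eq_mul]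
      intro x hx
      simp only [Finset.mem_filter] at hx
      obtain ⟨⟨-, w, hw, hc⟩, hne⟩ := hx
      rw [← classFun_eq_of_isConj hf hc]
      exact hfz w hw (by rintro rfl; exact hne (isConj_one_right.1 hc))
  obtain ⟨n₁, T₁, h₁⟩ := split z hz hz1
  obtain ⟨n₂, T₂, h₂⟩ := split z⁻¹ (Z.inv_mem hz) (inv_ne_one.2 hz1)
  set N := (Subgroup.centralizer ({z} : Set G)).index with hN
  have hN' : (Subgroup.centralizer ({z⁻¹} : Set G)).index = N := by
    rw [hN]; congr 1; ext x
    simp only [Subgroup.mem_centralizer_singleton_iff]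
    exact ⟨fun h => (Commute.inv_right_iff.1 h).eq, fun h => (Commute.inv_right h).eq⟩
  have e₁ : (Finset.univ.filter (IsConj z) ×ˢ Finset.univ.filter (IsConj z)).filter
      (fun x => x.1 * x.2 = 1) = ∅ := by
    rw [Finset.filter_eq_empty_iff]
    intro x hx h
    simp only [Finset.mem_product, Finset.mem_filter, Finset.mem_univ, true_and] at hx
    have h1 : IsConj z z⁻¹ := by
      have h2 := hx.1
      rw [eq_inv_of_mul_eq_one_left h] at h2
      obtain ⟨c, hc⟩ := isConj_iff.1 hx.2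
      exact h2.trans (isConj_iff.2 ⟨c, by rw [← hc]; group⟩).symm
    obtain ⟨g, hg⟩ := isConj_iff.1 h1
    have hgL : g ∈ L := F1 z (hZP hz) hz1 g (hg ▸ Q.inv_mem (hZP hz))
    obtain ⟨k, hk⟩ := hodd
    have hpow : ∀ y ∈ L, y = ((y * y) ^ k)⁻¹ := by
      intro y hy
      have h3 : (⟨y, hy⟩ : L) ^ (2 * k + 1) = 1 := hk ▸ pow_card_eq_one'
      have h4 : y ^ (2 * k + 1) = 1 := congrArg Subtype.val h3
      rw [eq_inv_iff_mul_eq_one, ← pow_two, ← pow_mul, ← pow_succ', h4]
    have h5 : Commute (g * g) z := by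
      have : g * g * z * (g * g)⁻¹ = z := by
        calc g * g * z * (g * g)⁻¹ = g * (g * z * g⁻¹) * g⁻¹ := by group
          _ = g * z⁻¹ * g⁻¹ := by rw [hg]
          _ = (g * z * g⁻¹)⁻¹ := by group
          _ = z := by rw [hg, inv_inv]
      exact mul_inv_eq_iff_eq_mul.1 this
    have h6 : Commute g z := by rw [hpow g hgL]; exact (h5.pow_left k).inv_left
    have h7 : z * z = 1 := by
      rw [h6.eq, mul_inv_cancel_right] at hg
      exact mul_eq_one_iff_eq_inv.2 hg
    exact hz1 (by rw [hpow z (Subgroup.le_normalizer (hZP hz)), h7]; simp)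
  have e₂ : ((Finset.univ.filter (IsConj z) ×ˢ Finset.univ.filter (IsConj z⁻¹)).filter
      (fun x => x.1 * x.2 = 1)).card = N := by
    rw [hN, ← card_filter_isConj]
    refine Finset.card_bij (fun x _ => x.1) (fun x hx => ?_) (fun x hx y hy h => ?_)
      (fun u hu => ⟨(u, u⁻¹), ?_, rfl⟩)
    · exact (Finset.mem_product.1 (Finset.mem_filter.1 hx).1).1
    · have h1 := eq_inv_of_mul_eq_one_right (Finset.mem_filter.1 hx).2
      have h2 := eq_inv_of_mul_eq_one_right (Finset.mem_filter.1 hy).2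
      exact Prod.ext h (by rw [h1, h2, h])
    · simp only [Finset.mem_filter, Finset.mem_product, Finset.mem_univ, true_and] at hu ⊢
      obtain ⟨c, hc⟩ := isConj_iff.1 hu
      exact ⟨⟨hu, isConj_iff.2 ⟨c, by rw [← hc]; group⟩⟩, mul_inv_cancel u⟩
  rw [e₁] at h₁
  rw [e₂] at h₂
  have a₁ := h₁ ψ (irr_isClassFunction hψ) fun w hw hw1 => hconst w hw z hz hw1 hz1
  have a₂ := h₂ ψ (irr_isClassFunction hψ) fun w hw hw1 => hconst w hw z hz hw1 hz1
  have b₁ := h₁ _ (irr_isClassFunction irr_one) fun _ _ _ => rfl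
  have b₂ := h₂ _ (irr_isClassFunction irr_one) fun _ _ _ => rfl
  rw [sum_class_mul hψ] at a₁ a₂
  rw [sum_class_mul irr_one] at b₁ b₂
  rw [hN', hconst _ (Z.inv_mem hz) z hz (inv_ne_one.2 hz1) hz1] at a₂
  rw [hN'] at b₂
  simp only [Finset.card_empty, Nat.cast_zero, zero_mul, zero_add, mul_one, Finset.sum_const,
    nsmul_eq_mul] at a₁ b₁ b₂
  obtain ⟨n, hn⟩ := gen_exists_int_of_forall_pow (gen_of_irr hψ) (orderOf_pos z).ne' dvd_rfl
    (fun k hk => hconst _ (Z.pow_mem hz k) z hz (fun h => hz1 (by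
      have := orderOf_dvd_of_pow_eq_one h
      exact orderOf_eq_one_iff.1 (Nat.Coprime.eq_one_of_dvd hk.symm this))) hz1)
  refine ⟨n, deg ψ, hn, by rw [Int.cast_natCast, irr_cast_deg hψ], ?_⟩
  have hint : ∀ T : Finset (G × G), IsIntegral ℤ (∑ x ∈ T, ψ (x.1 * x.2)) := fun T =>
    IsIntegral.sum _ fun x _ => char_isIntegral (irr_isCharacter hψ) _
  have hQ0 : (Nat.card Q : ℂ) ≠ 0 := Nat.cast_ne_zero.2 Nat.card_pos.ne'
  have key : (((N : ℤ) * (deg ψ - n) : ℤ) : ℂ) / ((Nat.card Q : ℤ) : ℂ) =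
      ((T₂.card : ℂ) - T₁.card) * n + ∑ x ∈ T₁, ψ (x.1 * x.2) - ∑ x ∈ T₂, ψ (x.1 * x.2) := by
    push_cast
    rw [div_eq_iff hQ0, irr_cast_deg hψ, ← hn]
    linear_combination a₁ - a₂ - ψ z * (b₁ - b₂)
  have hdvd := int_dvd_of_isIntegral_div (Int.natCast_ne_zero.2 (Nat.card_pos (α := Q)).ne')
    (key ▸ ((((isIntegral_natCast _).sub (isIntegral_natCast _)).mul
      (isIntegral_intCast _)).add (hint T₁)).sub (hint T₂))
  refine IsCoprime.dvd_of_dvd_mul_left ?_ hdvd
  rw [Nat.isCoprime_iff_coprime]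
  refine (P.card_coprime_index).coprime_dvd_right (Subgroup.index_dvd_of_le fun y hy => ?_)
  exact Subgroup.mem_centralizer_singleton_iff.2 (hZc z hz y hy).symm

end Cfsg.Agent.S1523
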