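import Cfsg.Agent.Base
import Cfsg.Statements.S1472
import Cfsg.Agent.BG.AppCField
import Cfsg.Agent.BG.AppCGroup

set_option autoImplicit false
open Cfsg

namespace Cfsg.Agent.S1472

/-- Let p, q be primes with (p^q − 1)/(p − 1) coprime to p − 1, G a finite group, F a field with p ^ q elements, and P, U, Q subgroups of G with: f : G → F bijective from P onto F and additive on P; U normalizing P and acting through ψ : G → F, injective and multiplicative on U with ψ(u) ≠ 0 and f(uxu⁻¹) = ψ(u) f(x); #U · (p − 1) = p^q − 1; Q abelian of order coprime to p, normalized by every x ∈ P with f(x) in the prime field; and some y ∈ Q such that y x y⁻¹ normalizes U for every such x. Then p ≤ q. -/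
theorem result {G : Type*} [Group G] [Finite G] (p q : ℕ) [Fact p.Prime] [Fact q.Prime] (hA : Nat.Coprime ((p ^ q - 1) / (p - 1)) (p - 1))
    (F : Type*) [Field F] [Fintype F] (hF : Fintype.card F = p ^ q) (P U Q : Subgroup G) (f ψ : G → F)
    (hf : Set.BijOn f (P : Set G) Set.univ) (hfadd : ∀ x ∈ P, ∀ z ∈ P, f (x * z) = f x + f z)
    (hUP : U ≤ Subgroup.normalizer (P : Set G)) (hψ : ∀ u ∈ U, ψ u ≠ 0 ∧ ∀ x ∈ P, f (u * x * u⁻¹) = ψ u * f x)
    (hψmul : ∀ u ∈ U, ∀ v ∈ U, ψ (u * v) = ψ u * ψ v) (hψinj : Set.InjOn ψ (U : Set G)) (hUcard : Nat.card U * (p - 1) = p ^ q - 1)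
    (hQ : IsMulCommutative Q) (hQp : (Nat.card Q).Coprime p) (hP0Q : ∀ x ∈ P, f x ^ p = f x → x ∈ Subgroup.normalizer (Q : Set G))
    (y : G) (hy : y ∈ Q) (hP0U : ∀ x ∈ P, f x ^ p = f x → y * x * y⁻¹ ∈ Subgroup.normalizer (U : Set G)) :
    p ≤ q := by
  classical
  have hp : p.Prime := Fact.out
  have hq : q.Prime := Fact.out
  by_cases hp2 : p = 2
  · rw [hp2]; exact hq.two_le
  have hpodd : Odd p := hp.odd_of_ne_two hp2
  have hgeom := CL.BG.AppC.geom_eq (q := q) hp.two_le
  set n := (p ^ q - 1) / (p - 1) with hn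
  have hp1 : 0 < p - 1 := Nat.sub_pos_of_lt hp.one_lt
  have hUn : Nat.card U = n := by rw [hn, ← hUcard, Nat.mul_div_cancel _ hp1]
  have hq2 : q ≠ 2 := by
    rintro rfl
    have h1 : n = 1 + p := by rw [hgeom]; simp [Finset.sum_range_succ]
    obtain ⟨k, hk⟩ := hpodd
    have h2 : 2 ∣ n := ⟨k + 1, by omega⟩
    have h3 : 2 ∣ p - 1 := ⟨k, by omega⟩
    exact absurd (Nat.eq_one_of_dvd_coprimes hA h2 h3) (by norm_num)
  have hq3 : 3 ≤ q := by have := hq.two_le; omega
  have hchar : CharP F p := by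
    obtain ⟨r, hr⟩ := CharP.exists F
    obtain ⟨m, hrp, hm⟩ := FiniteField.card F r
    have : p = r := by
      have h1 : p ∣ r ^ (m : ℕ) := by rw [← hm, hF]; exact dvd_pow_self p hq.ne_zero
      exact (Nat.prime_dvd_prime_iff_eq hp hrp).1 (hp.dvd_of_dvd_pow h1)
    rwa [this]
  have hn1 : 1 < n := by
    rw [hgeom]
    obtain ⟨m, rfl⟩ : ∃ m, q = m + 2 := ⟨q - 2, by omega⟩
    rw [Finset.sum_range_succ', Finset.sum_range_succ']
    have := hp.pos
    simp only [zero_add, pow_one, pow_zero]; omega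
  obtain ⟨s, hs, hfs⟩ := hf.surjOn (Set.mem_univ 1)
  have hψ1 : ψ 1 = 1 := by
    have := (hψ 1 U.one_mem).2 s hs
    simpa [hfs] using this.symm
  have hψinv : ∀ u ∈ U, ψ u⁻¹ = (ψ u)⁻¹ := by
    intro u hu
    have := hψmul u hu u⁻¹ (U.inv_mem hu)
    rw [mul_inv_cancel, hψ1] at this
    exact eq_inv_of_mul_eq_one_right this.symm
  have hψpow : ∀ u ∈ U, ∀ k : ℕ, ψ (u ^ k) = ψ u ^ k := by
    intro u hu k
    induction k with
    | zero => simp [hψ1]
    | succ k ih => rw [pow_succ, hψmul _ (U.pow_mem hu _) _ hu, ih, pow_succ]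
  have hψn : ∀ u ∈ U, ψ u ^ n = 1 := by
    intro u hu
    have : u ^ n = 1 := by
      rw [← hUn]
      exact congrArg Subtype.val (pow_card_eq_one' (x := (⟨u, hu⟩ : U)))
    rw [← hψpow u hu, this, hψ1]
  have hsurj : ∀ z : F, z ^ n = 1 → ∃ u ∈ U, ψ u⁻¹ = z := by
    intro z hz
    have hsub : ψ '' (U : Set G) ⊆ (Polynomial.nthRootsFinset n (1 : F) : Set F) := by
      rintro _ ⟨u, hu, rfl⟩
      exact (Polynomial.mem_nthRootsFinset (by omega) 1).2 (hψn u hu)
    have hle : (Polynomial.nthRootsFinset n (1 : F) : Set F).ncard ≤ (ψ '' (U : Set G)).ncard := by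
      rw [Set.ncard_coe_finset, hψinj.ncard_image, ← Nat.card_coe_set_eq]
      change _ ≤ Nat.card U
      rw [hUn, Polynomial.nthRootsFinset_def]
      exact (Multiset.toFinset_card_le _).trans (Polynomial.card_nthRoots n 1)
    have heq := Set.eq_of_subset_of_ncard_le hsub hle (Set.toFinite _)
    have hz' : z ∈ (Polynomial.nthRootsFinset n (1 : F) : Set F) :=
      (Polynomial.mem_nthRootsFinset (by omega) 1).2 hz
    rw [← heq] at hz'
    obtain ⟨u, hu, rfl⟩ := hz'
    exact ⟨u⁻¹, U.inv_mem hu, by rw [inv_inv]⟩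
  have hcard : n * (p - 1) = Fintype.card F - 1 := by rw [← hUn, hUcard, hF]
  have H : CL.BG.AppC.Hyp p n P U Q f (fun u => ψ u⁻¹) s y⁻¹ :=
    { prime := hp
      odd := hpodd
      char := hchar
      cop := hA
      finj := hf.injOn
      fadd := hfadd
      nPU := hUP
      fconj := fun u hu x hx => by simpa using (hψ u⁻¹ (U.inv_mem hu)).2 x hx
      ψmul := fun u hu v hv => by
        simp only [mul_inv_rev]
        rw [hψmul _ (U.inv_mem hv) _ (U.inv_mem hu), mul_comm]
      ψinj := fun u hu v hv e => inv_injective (hψinj (U.inv_mem hu) (U.inv_mem hv) e)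
      ψpow := fun u hu => hψn _ (U.inv_mem hu)
      split := fun z hz => by
        have hz1 : z ^ (n * (p - 1)) = 1 := by rw [hcard]; exact FiniteField.pow_card_sub_one_eq_one z hz
        obtain ⟨α, β, hab⟩ := Nat.isCoprime_iff_coprime.2 hA
        have h1 : (z ^ (β * (p - 1 : ℕ))) ^ n = 1 := by
          rw [← zpow_natCast, ← zpow_mul, show β * (p - 1 : ℕ) * n = (n * (p - 1) : ℕ) * β by
            push_cast; ring, zpow_mul, zpow_natCast, hz1, one_zpow]
        have h2 : (z ^ (α * n)) ^ (p - 1) = 1 := by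
          rw [← zpow_natCast, ← zpow_mul, show α * n * (p - 1 : ℕ) = (n * (p - 1) : ℕ) * α by
            push_cast; ring, zpow_mul, zpow_natCast, hz1, one_zpow]
        have h3 : (z ^ (α * n)) ^ p = z ^ (α * n) := by
          conv_lhs => rw [← Nat.sub_add_cancel hp.pos, pow_succ, h2, one_mul]
        obtain ⟨k, hk⟩ := (mem_bot_iff_intCast p F).1 ((Subfield.mem_bot_iff_pow_eq_self F p).2 h3)
        obtain ⟨u, hu, e⟩ := hsurj _ h1
        refine ⟨u, hu, k, ?_⟩
        rw [e, hk, ← zpow_add₀ hz, add_comm, hab, zpow_one]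
      Une := by
        have : Nontrivial U := Finite.one_lt_card_iff_nontrivial.1 (hUn ▸ hn1)
        exact (Subgroup.nontrivial_iff_exists_ne_one U).1 this
      Qcomm := hQ
      Qtor := fun x hx e => by
        have h1 : orderOf x ∣ p := orderOf_dvd_of_pow_eq_one e
        have h2 : orderOf x ∣ Nat.card Q := Subgroup.orderOf_dvd_natCard Q hx
        exact orderOf_eq_one_iff.1 (Nat.eq_one_of_dvd_coprimes hQp h2 h1)
      sP := hs
      fs := hfs
      nQs := hP0Q s hs (by rw [hfs, one_pow])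
      yQ := Q.inv_mem hy
      nUt := by simpa using hP0U s hs (by rw [hfs, one_pow]) }
  obtain ⟨a, ha1, ha, ha2⟩ := CL.BG.AppC.lemmaC2 (F := F) p q hp2 hq3 hF
  refine CL.BG.AppC.lemmaC1 (F := F) p q hq.pos n hgeom ?_ a ha1 ha ha2
  intro x hx hx2
  obtain ⟨u, hu, e⟩ := hsurj x hx
  obtain ⟨w, hw, e'⟩ := hsurj _ hx2
  obtain ⟨v, hv, e''⟩ := H.lemmaC3 hu hw (by simp only [e, e']; ring)
  simp only [inv_inv] at e''
  have : 2 - x⁻¹ = ψ v⁻¹ := by
    rw [← e, hψinv u hu, inv_inv, ← e'']; ring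
  rw [this]
  exact hψn _ (U.inv_mem hv)

end Cfsg.Agent.S1472
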