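import Cfsg.Statements.S1524
import Cfsg.Agent.Base
import Cfsg.Agent.PF.SibleyB

set_option autoImplicit false
open Cfsg

namespace Cfsg.Agent.S1524

open CL.Char

/-- Let G be a finite group and H ≤ L subgroups with L of odd order, H ≠ ⊥ nilpotent and normal in L with a nontrivial complement W₁ in L (H ⊓ W₁ = ⊥, H ⊔ W₁ = L) acting on H without non-identity fixed points (L is a Frobenius group with kernel H), and suppose the underlying set of H is a TI-subset of G whose normaliser is L. Let S be the set of functions on L induced from the non-principal irreducible characters of H. Then (S, L minus 1, induction to G) is coherent. -/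
theorem result {G : Type*} [Group G] [Fintype G] (H L W₁ : Subgroup G) [Fintype L] (hodd : Odd (Nat.card L)) (hHL : H ≤ L) (hW₁L : W₁ ≤ L) (hH1 : H ≠ ⊥) (hW1 : W₁ ≠ ⊥) (hnil : Group.IsNilpotent H) (hHn : ∀ x ∈ L, ∀ h ∈ H, x * h * x⁻¹ ∈ H) (hinf : H ⊓ W₁ = ⊥) (hsup : H ⊔ W₁ = L) (hfpf : ∀ w ∈ W₁, w ≠ 1 → ∀ h ∈ H, w * h = h * w → h = 1) (hTI : Cfsg.IsTISubset (H : Set G)) (hN : Subgroup.normalizer (H : Set G) = L) : Cfsg.IsCoherent (Cfsg.inducedIrrAbove (H.subgroupOf L) ⊥) {1}ᶜ (fun α : L → ℂ => Cfsg.indFun L α) := by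
  have hmap : (H.subgroupOf L).map L.subtype = H := Subgroup.map_subgroupOf_eq_of_le hHL
  have hn : (H.subgroupOf L).Normal := ⟨fun h hh g => hHn g g.2 h hh⟩
  rw [CL.PF.inducedIrrAbove_eq]
  refine CL.PF.sibley_frob hodd
    (Group.nilpotent_of_mulEquiv (Subgroup.subgroupOfEquivOfLe hHL).symm) (hmap.symm ▸ hTI)
    (hmap.symm ▸ hN) ⟨hn, ?_, ?_, ?_⟩
  · intro h
    rw [Subgroup.subgroupOf_eq_bot] at h
    exact hH1 (h.eq_bot_of_le hHL)
  · intro h
    rw [Subgroup.subgroupOf_eq_top] at h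
    exact hW1 (by rw [← hinf, inf_eq_right.2 (hW₁L.trans h)])
  · intro k hk hk1 x hx
    by_contra hxH
    have hxk : x * k = k * x := Subgroup.mem_centralizer_singleton_iff.1 hx
    have hx' : x ∈ H.subgroupOf L ⊔ W₁.subgroupOf L := by
      rw [← Subgroup.subgroupOf_sup hHL hW₁L, hsup]
      exact Subgroup.mem_subgroupOf.2 x.2
    rw [← SetLike.mem_coe, Subgroup.normal_mul] at hx'
    obtain ⟨h, hh, w, hw, rfl⟩ := hx'
    have hw1 : w ≠ 1 := by
      rintro rfl
      exact hxH (by simpa using hh)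
    obtain ⟨m, hm, he⟩ := CL.PF.exists_conj_eq_mul_of_cent (H.subgroupOf L) (g := w)
      (fun a ha hc => Subtype.ext (hfpf w hw (fun h => hw1 (Subtype.ext h)) a ha
        (congrArg Subtype.val hc).symm)) hh
    have he' : m * w * m⁻¹ * k = k * (m * w * m⁻¹) := by rw [he]; exact hxk
    have h2 : w * (m⁻¹ * k * m) = (m⁻¹ * k * m) * w := by
      calc w * (m⁻¹ * k * m) = m⁻¹ * (m * w * m⁻¹ * k) * m := by group
        _ = _ := by rw [he']; group
    have h3 : m⁻¹ * k * m ∈ H.subgroupOf L := by simpa using hn.conj_mem k hk m⁻¹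
    have h4 := hfpf w hw (fun h => hw1 (Subtype.ext h)) _ h3 (congrArg Subtype.val h2)
    apply hk1
    have h5 : m⁻¹ * k * m = 1 := Subtype.ext h4
    calc k = m * (m⁻¹ * k * m) * m⁻¹ := by group
      _ = 1 := by rw [h5]; group

end Cfsg.Agent.S1524
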