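import Cfsg.Statements.S0029
import Cfsg.Agent.Base
import Cfsg.Agent.Solv.Glauberman

set_option autoImplicit false
open Cfsg

namespace Cfsg.Agent.S0029

/-- An action that is trivial on the Frattini quotient and coprime on the Frattini subgroup is trivial: if A normalises K, the orders of A and of the Frattini subgroup of K are coprime, and every commutator of an element of A with an element of K lies in the Frattini subgroup of K, then A centralises K. -/
theorem result {G : Type*} [Group G] [Finite G] (A K : Subgroup G)
    (hAK : A ≤ Subgroup.normalizer (K : Set G))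
    (hcop : (Nat.card A).Coprime (Nat.card (frattini K)))
    (htriv : ∀ a ∈ A, ∀ k ∈ K, a * k * a⁻¹ * k⁻¹ ∈ (frattini K).map K.subtype) :
    A ≤ Subgroup.centralizer (K : Set G) := by
  have hn : A ≤ Subgroup.normalizer (((frattini K).map K.subtype : Subgroup G) : Set G) := by
    refine Subgroup.le_normalizer_iff.2 ?_
    rintro a ha _ ⟨k, hk, rfl⟩
    have h1 := htriv a ha k k.2
    have : a * K.subtype k * a⁻¹ = (a * k * a⁻¹ * (k : G)⁻¹) * k := by simp
    rw [this]
    exact mul_mem h1 ⟨k, hk, rfl⟩
  have hc : Nat.card ((frattini K).map K.subtype) = Nat.card (frattini K) :=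
    Subgroup.card_map_of_injective K.subtype_injective
  have hs : Group.IsSolvable ((frattini K).map K.subtype) := by
    have h1 : Group.IsNilpotent (frattini K) := frattini_nilpotent
    exact Group.isSolvable_of_surjective (f := K.subtype.subgroupMap (frattini K))
      (K.subtype.subgroupMap_surjective _)
  rw [Subgroup.le_centralizer_iff, ← Subgroup.subgroupOf_eq_top]
  refine frattini_nongenerating (top_le_iff.1 fun k _ => ?_)
  obtain ⟨_, ⟨n, hn', rfl⟩, h⟩ := CL.exists_centralizer_of_coset hn (hc ▸ hcop) (Or.inr hs)
    (k := k) (fun a ha => htriv a ha k k.2)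
  have : k = n⁻¹ * (n * k) := by group
  rw [this, sup_comm]
  exact Subgroup.mul_mem_sup (inv_mem hn') h

end Cfsg.Agent.S0029
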