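import Cfsg.Agent.Base
import Cfsg.Statements.S0106
import Cfsg.Agent.Transfer.SL23
import Cfsg.Agent.Transfer.Frobenius
import Cfsg.Agent.TwoFus.OddAut

set_option autoImplicit false
open Cfsg

namespace Cfsg.Agent.S0106

open Subgroup CL CL.Fus

theorem sq_eq_of_notMem {G : Type*} [Group G] {T : Subgroup G} {m : ℕ} {x y : G}
    (h : IsQuatData T m x y) {w : G} (hw : w ∈ T) (hn : w ∉ zpowers x) :
    w * w = x ^ m ∧ ∀ c ∈ zpowers x, w * c * w⁻¹ = c⁻¹ := by
  obtain ⟨i, rfl⟩ := h.toIsCycExt.exists_eq_of_notMem hw hn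
  refine ⟨?_, ?_⟩
  · have h1 := mul_zpow_of_conj_inv h.conj i
    calc x ^ i * y * (x ^ i * y) = x ^ i * (y * x ^ i) * y := by group
      _ = x ^ i * (x ^ (-i) * y) * y := by rw [h1]
      _ = y * y := by group
      _ = x ^ m := h.sq
  · rintro c ⟨k, rfl⟩
    have h1 := mul_zpow_of_conj_inv h.conj k
    calc x ^ i * y * x ^ k * (x ^ i * y)⁻¹ = x ^ i * (y * x ^ k) * y⁻¹ * (x ^ i)⁻¹ := by group
      _ = x ^ i * (x ^ (-k) * y) * y⁻¹ * (x ^ i)⁻¹ := by rw [h1]
      _ = (x ^ k)⁻¹ := by group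

theorem eq_of_sq_eq_one {G : Type*} [Group G] {x : G} {m : ℕ} (hm : 0 < m)
    (hx : orderOf x = 2 * m) {c : G} (hc : c ∈ zpowers x) (h1 : c ≠ 1) (h2 : c * c = 1) :
    c = x ^ m := by
  classical
  have hfin : IsOfFinOrder x := orderOf_pos_iff.1 (by omega)
  obtain ⟨k, hk, rfl⟩ := (hfin.mem_zpowers_iff_mem_range_orderOf.1 hc |> Finset.mem_image.1)
  rw [Finset.mem_range, hx] at hk
  have : 2 * m ∣ k + k := by
    rw [← hx, orderOf_dvd_iff_pow_eq_one, pow_add]; exact h2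
  obtain ⟨j, hj⟩ := this
  have hj' : k = m * j := by nlinarith
  have : j < 2 := by
    by_contra h
    push Not at h
    nlinarith
  interval_cases j
  · simp [hj'] at h1
  · simp [hj']

/-- A finite group with generalized quaternion Sylow 2-subgroups either has a normal 2-complement or has a section isomorphic to SL(2,3). -/
theorem result {G : Type*} [Group G] [Finite G] (T : Sylow 2 G) (n : ℕ) (hn : 1 ≤ n) (hT : Nonempty ((T : Subgroup G) ≃* QuaternionGroup (2 ^ n))) : Cfsg.HasNormalPComplement 2 G ∨ ∃ (H K : Subgroup G) (hK : (K.subgroupOf H).Normal), Nonempty ((H ⧸ K.subgroupOf H) ≃* Matrix.SpecialLinearGroup (Fin 2) (ZMod 3)) := by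
  classical
  by_contra hcon
  push Not at hcon
  obtain ⟨hnc, hns⟩ := hcon
  obtain ⟨Q, g, q, k, hQT, hq, hq2, hg, hN, hC⟩ :=
    CL.Transfer.exists_of_not_hasNormalPComplement T hnc
  obtain ⟨e⟩ := hT
  obtain ⟨x, y, h⟩ := exists_isQuatData_of_equiv e
  have hodd : Odd (orderOf g) := by
    rw [hg]; exact (hq.odd_of_ne_two hq2).pow
  have hA := oddAut_conj hN hodd
  have hQ2 : IsPGroup 2 Q := T.isPGroup'.to_le hQT
  have hQT' : ∀ {a : G}, a ∈ Q → a ∈ (T : Subgroup G) := fun ha => hQT ha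
  have hfix : (∀ a ∈ Q, g * a * g⁻¹ = a) → False := fun H => hC (mem_centralizer_iff.2 fun a ha => by
    have := H a ha
    calc a * g = g * a * g⁻¹ * g := by rw [this]
      _ = g * a := by group)
  have hcyc : IsCyclic Q → False := fun hc =>
    hfix fun a ha => hA.fix_of_isCyclic hQ2 le_rfl hc hA.maps ha
  have hm : 0 < 2 ^ n := by positivity
  by_cases hle : Q ≤ zpowers x
  · exact hcyc (Subgroup.isCyclic_of_le hle)
  obtain ⟨w, hwQ, hw⟩ := SetLike.not_le_iff_exists.1 hle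
  obtain ⟨hww, hwc⟩ := sq_eq_of_notMem h (hQT hwQ) hw
  have hCc : IsCyclic (Q ⊓ zpowers x : Subgroup G) := Subgroup.isCyclic_of_le inf_le_right
  obtain ⟨c, hc⟩ := (Subgroup.isCyclic_iff_exists_zpowers_eq_top _).1 hCc
  have hcm : c ∈ Q ⊓ zpowers x := hc ▸ mem_zpowers c
  have hext : IsCycExt Q c w := by
    refine ⟨fun H => hw (hc ▸ H : w ∈ Q ⊓ zpowers x).2, fun a => ⟨fun ha => ?_, ?_⟩⟩
    · by_cases hax : a ∈ zpowers x
      · obtain ⟨i, hi⟩ : a ∈ zpowers c := hc ▸ ⟨ha, hax⟩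
        exact ⟨i, Or.inl hi.symm⟩
      · have : a * w⁻¹ ∈ zpowers x := h.toIsCycExt.mul_mem_zpowers (hQT' ha)
          (inv_mem (hQT' hwQ)) hax (fun H => hw (by simpa using inv_mem H))
        obtain ⟨i, hi⟩ : a * w⁻¹ ∈ zpowers c := hc ▸ ⟨Q.mul_mem ha (Q.inv_mem hwQ), this⟩
        exact ⟨i, Or.inr (by rw [show c ^ i = a * w⁻¹ from hi]; group)⟩
    · rintro ⟨i, rfl | rfl⟩
      · exact Q.zpow_mem hcm.1 i
      · exact Q.mul_mem (Q.zpow_mem hcm.1 i) hwQ
  have hz1 : x ^ 2 ^ n ≠ 1 := fun H => by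
    have := orderOf_dvd_of_pow_eq_one H
    rw [h.ord] at this
    have := Nat.le_of_dvd hm this
    omega
  have hzz : x ^ 2 ^ n * x ^ 2 ^ n = 1 := by
    rw [← pow_add, ← two_mul, ← h.ord, pow_orderOf_eq_one]
  obtain ⟨j, hj⟩ : ∃ j, orderOf c = 2 ^ j := by
    obtain ⟨j, hj⟩ := hQ2.exists_orderOf_eq_pow ⟨c, hcm.1⟩
    exact ⟨j, by rw [← hj, ← Subgroup.orderOf_coe]⟩
  have hzc : w * w ∈ zpowers c := hc ▸ ⟨mul_mem hwQ hwQ, hww ▸ pow_mem (mem_zpowers x) _⟩
  rcases j with _ | _ | _ | j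
  · rw [pow_zero, orderOf_eq_one_iff] at hj
    rw [hj, zpowers_one_eq_bot, mem_bot, hww] at hzc
    exact hz1 hzc
  · have hc1 : c ≠ 1 := by rintro rfl; simp at hj
    have hc2 : c * c = 1 := by rw [← pow_two]; exact (by simpa using hj) ▸ pow_orderOf_eq_one c
    have hcw : c = w * w := (eq_of_sq_eq_one hm h.ord hcm.2 hc1 hc2).trans hww.symm
    exact hcyc (Subgroup.isCyclic_of_le (hext.le_of_mem (H := zpowers w)
      (hcw ▸ mul_mem (mem_zpowers w) (mem_zpowers w)) (mem_zpowers w)))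
  · have hj4 : orderOf c = 2 * 2 := by simpa using hj
    have hq : IsQuatData Q 2 c w := by
      refine ⟨hext, hj4, ?_, hwc c hcm.2⟩
      rw [hww]
      refine (eq_of_sq_eq_one hm h.ord (pow_mem hcm.2 2) (fun H => ?_) ?_).symm
      · have := orderOf_dvd_of_pow_eq_one H
        rw [hj4] at this
        omega
      · rw [← pow_add, show 2 + 2 = 2 * 2 from rfl, ← hj4, pow_orderOf_eq_one]
    obtain ⟨H, K, hK, he⟩ := Involves.iff_section.1
      (CL.SL23.involves_of_not_mem_centralizer hq hodd hN hC)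
    exact (hns H K hK).false he.some
  · have hgc : g * c * g⁻¹ ∈ zpowers c := by
      rw [hc]
      refine ⟨hA.maps c hcm.1, ?_⟩
      by_contra hn'
      have h4 := (sq_eq_of_notMem h (hQT (hA.maps c hcm.1)) hn').1
      have h5 : (g * c * g⁻¹) ^ 4 = 1 := by
        rw [show (4 : ℕ) = 2 + 2 from rfl, pow_add, pow_two, h4, hzz]
      have h6 := orderOf_dvd_of_pow_eq_one h5
      rw [hA.orderOf_eq hcm.1, hj] at h6
      have := Nat.le_of_dvd (by norm_num) h6
      have h7 : 0 < 2 ^ j := by positivity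
      simp only [pow_succ] at this
      omega
    have hfc := hA.fix_of_mem_zpowers hQ2 hcm.1 hgc
    refine hfix fun a ha => hA.fix_of_relIndex_two hQ2 le_rfl hext.zpowers_le ?_ hA.maps
      hext.relIndex_eq ha
    rintro _ ⟨i, rfl⟩
    rw [hA.map_zpow hcm.1, hfc]

end Cfsg.Agent.S0106
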