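import Cfsg.Statements.S0744
import Cfsg.Agent.Base
import Cfsg.Agent.Perm.Witt
-- import your own Cfsg.Agent.* helpers here

set_option autoImplicit false
open Cfsg

namespace Cfsg.Agent.S0744

/-- If for some `k > 1` the pointwise stabilisers of all `(k-1)`-subsets have the same order `> 1` and those of all `k`-subsets have the same order, then the group is `(k-1)`-transitive. -/
theorem result {α : Type*} [Fintype α] [DecidableEq α] (G : Subgroup (Equiv.Perm α)) {k : ℕ} (hk : 1 < k) (hkn : k ≤ Fintype.card α) (l m : ℕ) (hl : 1 < l) (hkm1 : ∀ s : Finset α, s.card = k - 1 → Nat.card (fixingSubgroup G (s : Set α)) = l) (hkm : ∀ s : Finset α, s.card = k → Nat.card (fixingSubgroup G (s : Set α)) = m) : MulAction.IsMultiplyPretransitive G α (k - 1) := by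
  obtain ⟨j, rfl⟩ : ∃ j, k = j + 1 := ⟨k - 1, by omega⟩
  rw [Nat.add_sub_cancel] at hkm1 ⊢
  refine CL.Perm.multi_of_card_fixing (l := l) (m := m) (by omega) ?_ hkm1 hkm
  rintro rfl
  obtain ⟨s, -, hs⟩ := Finset.exists_superset_card_eq (s := (∅ : Finset α)) (n := j)
    (by simp) (by omega)
  have hbot : fixingSubgroup G (s : Set α) = ⊥ := by
    rw [eq_bot_iff]
    intro g hg
    rw [Subgroup.mem_bot]
    refine Subtype.ext (Equiv.ext fun a => ?_)
    by_cases ha : a ∈ s
    · exact CL.Perm.mem_fixing.1 hg a ha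
    have h1 := CL.Perm.card_fixing_eq_card_orbit_mul (G := G) s a
    rw [hkm1 s hs, hkm _ (by rw [Finset.card_insert_of_notMem ha, hs])] at h1
    have h2 : Nat.card (MulAction.orbit (fixingSubgroup G (s : Set α)) a) = 1 :=
      Nat.eq_of_mul_eq_mul_right (by omega : 0 < l) (by rw [← h1, one_mul])
    have h3 := (Nat.card_eq_one_iff_unique.1 h2).1
    have h4 := Subsingleton.elim (α := MulAction.orbit (fixingSubgroup G (s : Set α)) a)
      ⟨_, MulAction.mem_orbit a ⟨g, hg⟩⟩ ⟨a, MulAction.mem_orbit_self a⟩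
    exact congrArg Subtype.val h4
  have := hkm1 s hs
  rw [hbot, Subgroup.card_bot] at this
  omega

end Cfsg.Agent.S0744
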