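import Cfsg.Agent.Base
import Cfsg.Statements.S0671
import Cfsg.Agent.Perm.Module

set_option autoImplicit false
open Cfsg

namespace Cfsg.Agent.S0671

open MulAction CL.Perm

/-- If the heart of the permutation module in characteristic `p` of a transitive action of degree `p ^ f` has no trivial composition factor, the action is doubly transitive. The hypothesis is phrased without composition series: no invariant subspaces `W < W'` between the constants and the sum-zero functions with trivial action on the quotient. -/
theorem result {G : Type*} [Group G] [Finite G] {K : Type*} [Field K] {p f : ℕ} [Fact p.Prime] [CharP K p] {Ω : Type*} [Fintype Ω] [MulAction G Ω] [MulAction.IsPretransitive G Ω] (hf : 1 ≤ f) (hcard : Fintype.card Ω = p ^ f) (h : ∀ W W' : Subrepresentation (Cfsg.permRep K G Ω), (Cfsg.permConstants K G Ω).toSubmodule ≤ W.toSubmodule → W.toSubmodule < W'.toSubmodule → W'.toSubmodule ≤ (Cfsg.permSumZero K G Ω).toSubmodule → ∃ g : G, ∃ v ∈ W'.toSubmodule, Cfsg.permRep K G Ω g v - v ∉ W.toSubmodule) : MulAction.IsMultiplyPretransitive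 G Ω 2 := by
  classical
  have hcard' : Nat.card Ω = p ^ f := by rw [Nat.card_eq_fintype_card, hcard]
  -- every off-diagonal orbital contains all pairs `(y₀, x)`, `x ≠ y₀`
  have key : ∀ y₀ x₀ x : Ω, x₀ ≠ y₀ → x ≠ y₀ → ∃ g : G, g • y₀ = y₀ ∧ g • x₀ = x := by
    intro y₀ x₀ x hx₀ hx
    set A : Matrix Ω Ω K := orbMat G K y₀ x₀ with hA
    set k : K := ∑ z, A y₀ z with hk
    set M : Matrix Ω Ω K := A - Matrix.diagonal (fun _ => k) with hM
    have hMinv : ∀ (g : G) y x, M (g • y) (g • x) = M y x := by
      intro g y x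
      simp only [hM, hA, Matrix.sub_apply, orbMat_invariant, Matrix.diagonal_apply,
        smul_left_cancel_iff]
    have hrow : ∀ y, ∑ z, M y z = 0 := by
      intro y
      simp only [hM, Matrix.sub_apply, Finset.sum_sub_distrib, Matrix.diagonal_apply,
        Finset.sum_ite_eq, Finset.mem_univ, if_true]
      rw [row_sum_eq (G := G) A (orbMat_invariant K y₀ x₀) y y₀, sub_self]
    have hcol : ∀ x, ∑ z, M z x = 0 := by
      intro x
      simp only [hM, Matrix.sub_apply, Finset.sum_sub_distrib, Matrix.diagonal_apply,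
        Finset.sum_ite_eq', Finset.mem_univ, if_true]
      rw [hA, orbMat_col_sum_eq_row_sum K y₀ x₀ x y₀, sub_self]
    have hM1 : M y₀ x₀ = 1 := by
      simp only [hM, hA, Matrix.sub_apply, orbMat_self, Matrix.diagonal_apply_ne' _ hx₀, sub_zero]
    -- the kernel of `M` consists of sum-zero functions
    have hker : ∀ v : Ω → K, M.mulVec v = 0 → ∑ z, v z = 0 := by
      have h1 : (fun _ => (1 : K)) ∈ LinearMap.range M.transpose.mulVecLin := by
        apply one_mem_of_ne_bot (G := G) hcard'
        · rintro g _ ⟨v, rfl⟩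
          exact ⟨_, mulVec_permRep M.transpose (fun g y x => hMinv g x y) g v⟩
        · intro h0
          have : M.transpose.mulVec (Pi.single y₀ 1) ∈ LinearMap.range M.transpose.mulVecLin :=
            ⟨_, rfl⟩
          rw [h0, Submodule.mem_bot] at this
          have := congrFun this x₀
          simp [hM1] at this
      obtain ⟨u, hu⟩ := h1
      intro v hv
      have h2 : u ⬝ᵥ M.mulVec v = (M.transpose.mulVec u) ⬝ᵥ v := by
        rw [Matrix.dotProduct_mulVec, Matrix.mulVec_transpose]
      rw [hv, dotProduct_zero, show M.transpose.mulVec u = fun _ => 1 from hu] at h2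
      simpa [dotProduct] using h2.symm
    let W' : Subrepresentation (permRep K G Ω) :=
      ⟨LinearMap.range M.mulVecLin, by
        rintro g _ ⟨v, rfl⟩
        exact ⟨_, mulVec_permRep M hMinv g v⟩⟩
    let W : Subrepresentation (permRep K G Ω) :=
      ⟨(permSumZero K G Ω).toSubmodule.map M.mulVecLin, by
        rintro g _ ⟨v, hv, rfl⟩
        exact ⟨_, (permSumZero K G Ω).apply_mem_toSubmodule g hv, mulVec_permRep M hMinv g v⟩⟩
    have hW : W.toSubmodule = ⊥ := by
      by_contra hne
      have h1 : (permConstants K G Ω).toSubmodule ≤ W.toSubmodule :=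
        permConstants_le_iff.2 (one_mem_of_ne_bot (G := G) hcard' _
          (fun g v hv => W.apply_mem_toSubmodule g hv) hne)
      have h2 : W.toSubmodule < W'.toSubmodule := by
        refine lt_of_le_of_ne LinearMap.map_le_range fun heq => ?_
        have : M.mulVec (Pi.single y₀ 1) ∈ W.toSubmodule := heq ▸ ⟨_, rfl⟩
        obtain ⟨s, hs, hs'⟩ := this
        have h3 := hker (Pi.single y₀ 1 - s) (by
          rw [Matrix.mulVec_sub]; exact sub_eq_zero.2 hs'.symm)
        have hs0 : ∑ z, s z = 0 := hs
        simp [Finset.sum_sub_distrib, hs0] at h3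
      have h3 : W'.toSubmodule ≤ (permSumZero K G Ω).toSubmodule := by
        rintro _ ⟨v, rfl⟩
        rw [mem_permSumZero]
        simp only [Matrix.mulVecLin_apply, Matrix.mulVec, dotProduct]
        rw [Finset.sum_comm]
        simp only [← Finset.sum_mul, hcol, zero_mul, Finset.sum_const_zero]
      obtain ⟨g, _, ⟨v, rfl⟩, hg⟩ := h W W' h1 h2 h3
      apply hg
      refine ⟨_, permRep_sub_mem_permSumZero g v, ?_⟩
      rw [map_sub]
      congr 1
      exact mulVec_permRep M hMinv g v
    have h4 : M.mulVec (Pi.single x 1 - Pi.single x₀ 1) ∈ W.toSubmodule :=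
      ⟨_, single_sub_single_mem_permSumZero x x₀ 1, rfl⟩
    rw [hW, Submodule.mem_bot] at h4
    have h5 := congrFun h4 y₀
    simp only [Matrix.mulVec_sub, Matrix.mulVec_single_one, Pi.sub_apply, Matrix.col_apply,
      Pi.zero_apply, hM1] at h5
    by_contra hne
    simp only [hM, hA, Matrix.sub_apply, orbMat_of_not_exists K hne,
      Matrix.diagonal_apply_ne' _ hx] at h5
    simp at h5
  rw [is_two_pretransitive_iff]
  intro a b c d hab hcd
  obtain ⟨g, hg⟩ := exists_smul_eq G a c
  obtain ⟨g', h1, h2⟩ := key c (g • b) d (by rw [← hg]; simpa using hab.symm) hcd.symm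
  exact ⟨g' * g, by rw [mul_smul, hg, h1], by rw [mul_smul, h2]⟩

end Cfsg.Agent.S0671
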