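import Cfsg.Statements.S1163
import Cfsg.Agent.Sz.Bridge

set_option autoImplicit false
open Cfsg

namespace Cfsg.Agent.S1163

theorem quot_transfer {G Ω : Type*} [Group G] [MulAction G Ω] (a : Ω) (K S : Subgroup G)
    (hK : K = MulAction.stabilizer G a) (h2 : MulAction.IsMultiplyPretransitive G Ω 2)
    (h1 : MulAction.IsPretransitive G Ω)
    (hS : ∀ x y : Ω, x ≠ a → y ≠ a → ∃! s : S, (s : G) • x = y) :
    MulAction.IsMultiplyPretransitive G (G ⧸ K) 2 ∧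
      ∀ x y : G ⧸ K, x ≠ (QuotientGroup.mk 1) → y ≠ (QuotientGroup.mk 1) →
        ∃! s : S, (s : G) • x = y := by
  subst hK
  let φ : G ⧸ MulAction.stabilizer G a → Ω := MulAction.ofQuotientStabilizer G a
  have hφ : Function.Injective φ := MulAction.injective_ofQuotientStabilizer G a
  have hs : ∀ (g : G) x, φ (g • x) = g • φ x := MulAction.ofQuotientStabilizer_smul G a
  have h0 : φ (QuotientGroup.mk 1) = a := by
    simp [φ]
  constructor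
  · rw [MulAction.is_two_pretransitive_iff] at h2 ⊢
    intro x y x' y' h h'
    obtain ⟨g, e1, e2⟩ := h2 (hφ.ne h) (hφ.ne h')
    exact ⟨g, hφ (by rw [hs, e1]), hφ (by rw [hs, e2])⟩
  · intro x y hx hy
    obtain ⟨s, e, hu⟩ := hS (φ x) (φ y) (h0 ▸ hφ.ne hx) (h0 ▸ hφ.ne hy)
    exact ⟨s, hφ (by rw [hs, e]), fun s' h => hu s' (by rw [← h, hs])⟩

/-- For the Suzuki group Sz(q), q = 2^(2m+1) ≥ 8, realised as the elements g of Sp₄(F) with g* = g^θ (θ the 2^(m+1)-th power map, so that θ² is squaring): `|Sz(q)| = q² (q - 1) (q² + 1)`, and there is a Sylow 2-subgroup `S` whose normaliser `H` has order `q²(q-1)` and index `q² + 1`, the action of `Sz(q)` on the cosets of `H` is doubly transitive, and `S` acts regularly on the cosets other than `H` itself. -/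
theorem result {F : Type*} [Field F] [Fintype F] {m : ℕ} (hm : 1 ≤ m) (hF : Fintype.card F = 2 ^ (2 * m + 1)) :
    Nat.card ↥(Cfsg.Lie.Sz F (2 ^ (m + 1))) = (2 ^ (2 * m + 1)) ^ 2 * (2 ^ (2 * m + 1) - 1) * ((2 ^ (2 * m + 1)) ^ 2 + 1) ∧
    ∃ S : Sylow 2 ↥(Cfsg.Lie.Sz F (2 ^ (m + 1))),
      Nat.card (Subgroup.normalizer ((S : Subgroup ↥(Cfsg.Lie.Sz F (2 ^ (m + 1)))) : Set ↥(Cfsg.Lie.Sz F (2 ^ (m + 1))))) = (2 ^ (2 * m + 1)) ^ 2 * (2 ^ (2 * m + 1) - 1) ∧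
      (Subgroup.normalizer ((S : Subgroup ↥(Cfsg.Lie.Sz F (2 ^ (m + 1)))) : Set ↥(Cfsg.Lie.Sz F (2 ^ (m + 1))))).index = (2 ^ (2 * m + 1)) ^ 2 + 1 ∧
      MulAction.IsMultiplyPretransitive ↥(Cfsg.Lie.Sz F (2 ^ (m + 1))) (↥(Cfsg.Lie.Sz F (2 ^ (m + 1))) ⧸ Subgroup.normalizer ((S : Subgroup ↥(Cfsg.Lie.Sz F (2 ^ (m + 1)))) : Set ↥(Cfsg.Lie.Sz F (2 ^ (m + 1))))) 2 ∧
      ∀ x y : ↥(Cfsg.Lie.Sz F (2 ^ (m + 1))) ⧸ Subgroup.normalizer ((S : Subgroup ↥(Cfsg.Lie.Sz F (2 ^ (m + 1)))) : Set ↥(Cfsg.Lie.Sz F (2 ^ (m + 1)))),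
        x ≠ (QuotientGroup.mk 1) → y ≠ (QuotientGroup.mk 1) → ∃! s : ↥(S : Subgroup ↥(Cfsg.Lie.Sz F (2 ^ (m + 1)))), (s : ↥(Cfsg.Lie.Sz F (2 ^ (m + 1)))) • x = y := by
  let c := CL.Sz.Ctx.mk hm hF
  let e := c.equivLie
  have hfin : Finite (Cfsg.Sz F m) := inferInstance
  have hfin' : Finite (Cfsg.Lie.Sz F (2 ^ (m + 1))) := Finite.of_equiv _ e.toEquiv
  letI act : MulAction (Cfsg.Lie.Sz F (2 ^ (m + 1))) (suzukiOvoid F m) :=
    MulAction.compHom _ e.symm.toMonoidHom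
  have hact : ∀ (g : Cfsg.Lie.Sz F (2 ^ (m + 1))) (p : suzukiOvoid F m), g • p = e.symm g • p :=
    fun _ _ => rfl
  let S : Sylow 2 (Cfsg.Lie.Sz F (2 ^ (m + 1))) := c.USylow.mapSurjective (f := e.toMonoidHom) e.surjective
  have hS : (S : Subgroup _) = c.Ug.map e.toMonoidHom := rfl
  have hN : Subgroup.normalizer ((S : Subgroup ↥(Cfsg.Lie.Sz F (2 ^ (m + 1)))) :
      Set ↥(Cfsg.Lie.Sz F (2 ^ (m + 1)))) = (CL.Sz.Ctx.Bg F m).map e.toMonoidHom := by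
    rw [hS, ← c.normalizer_Ug, Subgroup.map_equiv_normalizer_eq]
  have hN' : (CL.Sz.Ctx.Bg F m).map e.toMonoidHom =
      MulAction.stabilizer (Cfsg.Lie.Sz F (2 ^ (m + 1))) (CL.Sz.inf F m) := by
    ext g
    rw [Subgroup.mem_map_equiv, MulAction.mem_stabilizer_iff, MulAction.mem_stabilizer_iff, hact]
  have h1 : MulAction.IsPretransitive (Cfsg.Lie.Sz F (2 ^ (m + 1))) (suzukiOvoid F m) := by
    constructor
    intro x y
    obtain ⟨g, hg⟩ := c.pretransitive.exists_smul_eq x y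
    exact ⟨e g, by rw [hact, e.symm_apply_apply, hg]⟩
  have h2 : MulAction.IsMultiplyPretransitive (Cfsg.Lie.Sz F (2 ^ (m + 1))) (suzukiOvoid F m) 2 := by
    have := c.two_pretransitive
    rw [MulAction.is_two_pretransitive_iff] at this ⊢
    intro x y x' y' h h'
    obtain ⟨g, e1, e2⟩ := this h h'
    exact ⟨e g, by rw [hact, e.symm_apply_apply, e1], by rw [hact, e.symm_apply_apply, e2]⟩
  refine ⟨by rw [← Nat.card_congr e.toEquiv, c.card_Sz, hF]; ring, S, ?_, ?_, ?_⟩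
  · rw [hN, Subgroup.card_map_of_injective e.injective, c.card_Bg, hF]
  · rw [hN, Subgroup.index_map_of_bijective e.bijective, c.index_Bg, hF]
  · apply quot_transfer (CL.Sz.inf F m) _ _ (hN.trans hN') h2 h1
    intro p p' hp hp'
    obtain ⟨x, y, rfl⟩ := CL.Sz.exists_pt_of_ne_inf hp
    obtain ⟨x', y', rfl⟩ := CL.Sz.exists_pt_of_ne_inf hp'
    obtain ⟨u, hu, hu'⟩ := c.U_smul_pt_existsUnique x y x' y'
    refine ⟨⟨e u, ⟨u, u.2, rfl⟩⟩, ?_, ?_⟩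
    · change e u • _ = _
      rw [hact, e.symm_apply_apply]; exact hu
    · rintro ⟨_, v, hv, rfl⟩ h
      change e v • _ = _ at h
      rw [hact, e.symm_apply_apply] at h
      have := hu' ⟨v, hv⟩ h
      subst this
      rfl

end Cfsg.Agent.S1163
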