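import Cfsg.Agent.Base
import Cfsg.Statements.S1129
import Cfsg.Agent.RankOne.Center
import Cfsg.Agent.S0033

set_option autoImplicit false
open Cfsg

namespace Cfsg.Agent.S1129

/-- In the rank-one set-up (`G` finite and doubly transitive on `Ω`, `t` an involution moving `a`, `Q` normal in `G_a` with `G_a = Q D`, `Q ⊓ D = 1` for the two-point stabiliser `D = G_a ⊓ G_{t • a}`, `|Q|` even, `|D|` odd), with the action faithful and `G` containing two distinct commuting involutions: `Q` is nilpotent. -/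
theorem result {G Ω : Type*} [Group G] [Finite G] [MulAction G Ω] [FaithfulSMul G Ω] {a : Ω} {t : G} {Q : Subgroup G}
    (hS : Cfsg.IsRankOneSetup G Ω a t Q)
    (h2 : ∃ x y : G, x ≠ 1 ∧ y ≠ 1 ∧ x ≠ y ∧ x * x = 1 ∧ y * y = 1 ∧ x * y = y * x) :
    Group.IsNilpotent Q := by
  obtain ⟨k, hk, hk1⟩ := CL.RankOne.exists_K_ne_one hS h2
  have hn : orderOf k ≠ 1 := fun h => hk1 (orderOf_eq_one_iff.mp h)
  obtain ⟨p, hp, hpd⟩ := Nat.exists_prime_and_dvd hn
  have := Fact.mk hp
  have ho : orderOf (k ^ (orderOf k / p)) = p := orderOf_pow_orderOf_div (orderOf_pos k).ne' hpd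
  have hx := CL.RankOne.pow_mem_invertedBy hk (orderOf k / p)
  set x := k ^ (orderOf k / p)
  have hx1 : x ≠ 1 := by
    intro h
    rw [h, orderOf_one] at ho
    exact hp.one_lt.ne ho
  let φ : Q ≃* Q := Q.normalizerMonoidHom ⟨x, CL.RankOne.stabilizer_le_normalizer hS hx.1.1⟩
  have hφ : ∀ q : Q, ((φ q : Q) : G) = x * q * x⁻¹ := fun q => rfl
  have hfpf : MonoidHom.FixedPointFree (φ : Q →* Q) := by
    intro q hq
    have h1 : x * q * x⁻¹ = q := congrArg Subtype.val hq
    exact Subtype.ext (CL.RankOne.eq_one_of_commute_K hS hx hx1 q.2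
      (mul_inv_eq_iff_eq_mul.mp h1))
  refine Cfsg.Agent.S0033.result φ hfpf p hp (orderOf_eq_prime ?_ ?_)
  · have : (⟨x, CL.RankOne.stabilizer_le_normalizer hS hx.1.1⟩ :
        Subgroup.normalizer (Q : Set G)) ^ p = 1 := by
      apply Subtype.ext
      show x ^ p = 1
      rw [← ho]; exact pow_orderOf_eq_one x
    show (Q.normalizerMonoidHom _) ^ p = 1
    rw [← map_pow, this, map_one]
  · intro h
    obtain ⟨s, hs, hs1, -⟩ := CL.RankOne.exists_invol_mem_Q hS
    apply hs1
    have := hfpf ⟨s, hs⟩ (by show φ _ = _; rw [h]; rfl)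
    exact congrArg Subtype.val this

end Cfsg.Agent.S1129
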