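import Cfsg.Statements.S1241
import Cfsg.Agent.TwoFus.TransferEval

set_option autoImplicit false
open Cfsg

namespace Cfsg.Agent.S1241

open scoped IsMulCommutative


/-- Let G be a finite group, p a prime, H a subgroup of index prime to p, K a subgroup of H normal in H with H/K commutative, and g ∈ H ∖ K an element of p-power order such that for all integers m and all a ∈ G with a g^m a⁻¹ ∈ H one has a g^m a⁻¹ ∈ g^m K. Then g ∉ G'. -/
theorem result {G : Type*} [Group G] [Finite G] {p : ℕ} [Fact p.Prime] (H K : Subgroup G) (hHK : K ≤ H) (hKn : (K.subgroupOf H).Normal) (hab : ∀ x ∈ H, ∀ y ∈ H, x * y * x⁻¹ * y⁻¹ ∈ K) (hidx : Nat.Coprime p H.index) (g : G) (hgH : g ∈ H) (hgK : g ∉ K) (hgp : ∃ k : ℕ, orderOf g = p ^ k) (hctrl : ∀ (m : ℤ) (a : G), a * g ^ m * a⁻¹ ∈ H → (a * g ^ m * a⁻¹) * (g ^ m)⁻¹ ∈ K) : g ∉ commutator G := by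
  intro hg
  have : IsMulCommutative (H ⧸ K.subgroupOf H) := by
    refine Subgroup.Normal.quotient_commutative_iff_commutator_le.mpr ?_
    rw [commutator_def, Subgroup.commutator_le]
    intro x _ y _
    exact hab x x.2 y y.2
  let φ : H →* H ⧸ K.subgroupOf H := QuotientGroup.mk' _
  obtain ⟨n, hn⟩ := hgp
  apply CL.TwoFus.transfer_ne_one_of_control φ hidx ⟨g, hgH⟩ (n := n)
  · apply Subtype.ext
    change g ^ p ^ n = 1
    rw [← hn, pow_orderOf_eq_one]
  · intro h
    exact hgK ((QuotientGroup.eq_one_iff (N := K.subgroupOf H) ⟨g, hgH⟩).mp h)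
  · intro k a h
    have h1 := hctrl k a⁻¹ (by simpa using h)
    rw [← map_pow, ← mul_inv_eq_one, ← map_inv, ← map_mul]
    apply (QuotientGroup.eq_one_iff (N := K.subgroupOf H) _).mpr
    rw [Subgroup.mem_subgroupOf]
    simpa using h1
  · exact Abelianization.commutator_subset_ker _ hg

end Cfsg.Agent.S1241
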