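import Cfsg.Agent.Base
import Cfsg.Agent.PF.T14
import Cfsg.Agent.Solv.MinNormal
import Cfsg.Agent.Solv.Fitting
import Cfsg.Statements.S0205

set_option autoImplicit false
open Cfsg

namespace Cfsg.Agent.S0205

/-- The Odd Order Theorem: a finite group of odd order is solvable. -/
theorem result {G : Type*} [Group G] [Finite G] (hG : Odd (Nat.card G)) : Group.IsSolvable G := by
  suffices h : ∀ (n : ℕ) (G : Type _) [Group G] [Finite G], Nat.card G = n → Odd (Nat.card G) →
      Group.IsSolvable G from h _ G rfl hG
  intro n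
  induction n using Nat.strong_induction_on with
  | _ n ih =>
  intro G _ _ hn hC
  by_contra hns
  have hprop : ∀ H : Subgroup G, H ≠ ⊤ → Group.IsSolvable H := fun H hH =>
    ih _ (hn ▸ CL.card_lt_of_ne_top H hH) H rfl
      (hC.of_dvd_nat (Subgroup.card_subgroup_dvd_card H))
  have : Nontrivial G := by
    by_contra h
    rw [not_nontrivial_iff_subsingleton] at h
    exact hns inferInstance
  refine CL.PF.not_minSimpleOdd (G := G) ⟨hC, ⟨fun N hN => ?_⟩, fun h => hns
    (have := CL.isNilpotent_of_isMulCommutative G; inferInstance), hprop⟩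
  by_contra hc
  push Not at hc
  have h1 := hprop N hc.2
  have h2 := ih _ (hn ▸ CL.card_quotient_lt N hc.1) (G ⧸ N) rfl
    (hC.of_dvd_nat (Subgroup.card_quotient_dvd_card N))
  exact hns (Group.isSolvable_of_ker_le_range N.subtype (QuotientGroup.mk' N) (by simp))

end Cfsg.Agent.S0205
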