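import Cfsg.Statements.S0018
import Cfsg.Agent.Base
import Cfsg.Agent.PLocal.Constraint

set_option autoImplicit false
open Cfsg

namespace Cfsg.Agent.S0018

/-- A finite solvable group whose Sylow p-subgroups are abelian has p-length one: a Sylow p-subgroup together with the largest normal subgroup of order prime to p generates a normal subgroup. -/
theorem result {G : Type*} [Group G] [Finite G] [Group.IsSolvable G]
    (p : ℕ) [Fact p.Prime] (P : Sylow p G) (hP : IsMulCommutative P) :
    ((P : Subgroup G) ⊔ Cfsg.pPrimeCore p G).Normal := by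
  have hc := CL.PL.isPConstrained_iff.1
    (CL.PL.isPConstrained_of_isPSolvable (p := p) (CL.PL.isPSolvable_of_isSolvable (G := G)))
  have h1 : (P : Subgroup G).map (QuotientGroup.mk' (pPrimeCore p G)) =
      pCore p (G ⧸ pPrimeCore p G) := by
    have h2 := CL.PL.pCore_le_sylow (P.mapSurjective (QuotientGroup.mk'_surjective (pPrimeCore p G)))
    refine le_antisymm (le_trans ?_ hc) h2
    rintro _ ⟨x, hx, rfl⟩ y hy
    obtain ⟨z, hz, rfl⟩ := h2 hy
    rw [← map_mul, ← map_mul]
    exact congrArg _ (congrArg Subtype.val (hP.is_comm.comm (⟨z, hz⟩ : (P : Subgroup G)) ⟨x, hx⟩))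
  have h3 : (P : Subgroup G) ⊔ pPrimeCore p G =
      (pCore p (G ⧸ pPrimeCore p G)).comap (QuotientGroup.mk' _) := by
    rw [← h1, Subgroup.comap_map_eq, QuotientGroup.ker_mk']
  rw [h3]
  infer_instance

end Cfsg.Agent.S0018
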