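import Cfsg.Statements.S0054
import Cfsg.Agent.Base

set_option autoImplicit false
open Cfsg

namespace Cfsg.Agent.S0054

/-- A regular normal subgroup of a finite 2-transitive group is elementary abelian: it is commutative and all its elements have order dividing one prime. -/
theorem result {G : Type*} [Group G] [Finite G]
    {X : Type*} [Nonempty X] [MulAction G X] (h2 : MulAction.IsMultiplyPretransitive G X 2)
    (N : Subgroup G) [N.Normal] (htrans : MulAction.IsPretransitive N X) (hreg : ∀ x : X, MulAction.stabilizer N x = ⊥) :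
    IsMulCommutative N ∧ ∃ p : ℕ, p.Prime ∧ ∀ n ∈ N, n ^ p = 1 := by
  obtain ⟨x⟩ := ‹Nonempty X›
  have hfree : ∀ n ∈ N, n • x = x → n = 1 := fun n hn h => by
    have : (⟨n, hn⟩ : N) ∈ MulAction.stabilizer N x := h
    rw [hreg x, Subgroup.mem_bot] at this
    exact congrArg Subtype.val this
  have hN : N.Normal := inferInstance
  -- all non-identity elements of `N` are conjugate
  have hconj : ∀ a ∈ N, a ≠ 1 → ∀ b ∈ N, b ≠ 1 → ∃ g : G, g * a * g⁻¹ = b := by
    intro a ha ha1 b hb hb1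
    obtain ⟨g, hg1, hg2⟩ := MulAction.is_two_pretransitive_iff.mp h2
      (show x ≠ a • x from fun h => ha1 (hfree a ha h.symm))
      (show x ≠ b • x from fun h => hb1 (hfree b hb h.symm))
    refine ⟨g, ?_⟩
    have h1 : b⁻¹ * (g * a * g⁻¹) = 1 := by
      refine hfree _ (N.mul_mem (N.inv_mem hb) (hN.conj_mem a ha g)) ?_
      have h3 : g⁻¹ • x = x := by rw [inv_smul_eq_iff, hg1]
      rw [mul_smul, mul_smul, mul_smul, h3, hg2, inv_smul_smul]
    exact (inv_mul_eq_one.mp h1).symm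
  rcases subsingleton_or_nontrivial N with hs | hnt
  · exact ⟨⟨⟨fun a b => Subsingleton.elim _ _⟩⟩, 2, Nat.prime_two, fun n hn => by
      rw [show n = 1 from congrArg Subtype.val (Subsingleton.elim (⟨n, hn⟩ : N) 1), one_pow]⟩
  obtain ⟨p, hp, hpN⟩ := Nat.exists_prime_and_dvd (Finite.one_lt_card (α := N)).ne'
  have := Fact.mk hp
  obtain ⟨a, ha⟩ := exists_prime_orderOf_dvd_card' p hpN
  have ha1 : (a : G) ≠ 1 := fun h => by
    rw [show a = 1 from Subtype.ext h, orderOf_one] at ha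
    exact hp.one_lt.ne ha
  have hpow : ∀ n ∈ N, n ^ p = 1 := fun n hn => by
    by_cases hn1 : n = 1
    · rw [hn1, one_pow]
    · obtain ⟨g, rfl⟩ := hconj a a.2 ha1 n hn hn1
      have : (a : G) ^ p = 1 := by rw [← ha, ← Subgroup.orderOf_coe, pow_orderOf_eq_one]
      rw [conj_pow, this]; simp
  refine ⟨?_, p, hp, hpow⟩
  have hP : IsPGroup p N := fun n => ⟨1, Subtype.ext (by rw [pow_one]; exact hpow n n.2)⟩
  obtain ⟨⟨z, hz⟩, hz1⟩ := @exists_ne _ hP.center_nontrivial 1
  have hz1' : (z : G) ≠ 1 := fun h => hz1 (Subtype.ext (Subtype.ext h))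
  refine ⟨⟨fun b c => Subtype.ext ?_⟩⟩
  by_cases hb1 : (b : G) = 1
  · simp [hb1]
  obtain ⟨g, hg⟩ := hconj z z.2 hz1' b b.2 hb1
  have h1 : g⁻¹ * c * g * z = z * (g⁻¹ * c * g) := congrArg Subtype.val
    (Subgroup.mem_center_iff.mp hz ⟨g⁻¹ * c * g, by simpa using hN.conj_mem c c.2 g⁻¹⟩)
  change (b : G) * c = c * b
  rw [← hg]
  calc g * z * g⁻¹ * c = g * (z * (g⁻¹ * c * g)) * g⁻¹ := by group
    _ = g * (g⁻¹ * c * g * z) * g⁻¹ := by rw [h1]
    _ = _ := by group

end Cfsg.Agent.S0054
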