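import Cfsg.Statements.S0057
import Cfsg.Agent.Solv.CoprimeAbelian
import Cfsg.Agent.Solv.Pi

set_option autoImplicit false
open Cfsg

namespace Cfsg.Agent.S0057

/-- Under coprime action, if the centraliser of A in K has prime index p in K then the commutator subgroup [K, A] has order exactly p. -/
theorem result {G : Type*} [Group G] [Finite G] (A K : Subgroup G) (hAK : A ≤ Subgroup.normalizer (K : Set G))
    (hcop : (Nat.card A).Coprime (Nat.card K)) (hsolv : Group.IsSolvable A ∨ Group.IsSolvable K)
    (p : ℕ) (hp : p.Prime) (hidx : (K ⊓ Subgroup.centralizer (A : Set G)).relIndex K = p) :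
    Nat.card (⁅K, A⁆ : Subgroup G) = p := by
  open Subgroup CL commutatorElement in
  have := Fact.mk hp
  set C := K ⊓ centralizer (A : Set G) with hC
  obtain ⟨P, hPK, hP, hAP⟩ := coprime_exists_invariant_sylow hAK hcop hsolv p
  obtain ⟨P₀, hP₀⟩ := exists_sylow_map_subtype_eq hPK hP
  have hPp : IsPGroup p P := IsPGroup.of_card hP
  have hcopidx : (P₀ : Subgroup K).index.Coprime (C.subgroupOf K).index := by
    have : (C.subgroupOf K).index = p := hidx
    rw [this]
    exact ((Nat.Prime.coprime_iff_not_dvd hp).2 P₀.not_dvd_index).symm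
  have hPC : ∀ k ∈ K, ∃ x ∈ P, ∃ c ∈ C, k = x * c := by
    intro k hk
    obtain ⟨x, hx, c, hc, h⟩ := Pi.exists_mul_eq_of_coprime_index hcopidx ⟨k, hk⟩
    exact ⟨x, hP₀ ▸ mem_map_of_mem _ hx, c, hc, congrArg Subtype.val h⟩
  have h1 : ⁅K, A⁆ = ⁅P, A⁆ := by
    refine le_antisymm ?_ (commutator_mono hPK le_rfl)
    rw [commutator_le]
    intro k hk a ha
    obtain ⟨n, hn, c, hc, rfl⟩ := hPC k hk
    have h1 : a * c = c * a := mem_centralizer_iff.1 hc.2 a ha
    have : ⁅n * c, a⁆ = ⁅n, a⁆ := by
      simp only [commutatorElement_def, mul_inv_rev]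
      calc n * c * a * (c⁻¹ * n⁻¹) * a⁻¹ = n * (c * a) * c⁻¹ * n⁻¹ * a⁻¹ := by group
        _ = n * a * n⁻¹ * a⁻¹ := by rw [← h1]; group
    rw [this]
    exact commutator_mem_commutator hn ha
  have hrel : C.relIndex P = p := by
    have h2 := Pi.relIndex_eq_index_of_coprime hcopidx.symm
    have h3 : (P₀ : Subgroup K) = P.subgroupOf K := by
      rw [← hP₀]; exact (comap_map_eq_self_of_injective K.subtype_injective _).symm
    rw [h3, relIndex_subgroupOf hPK] at h2
    rw [h2]; exact hidx
  set Q := ⁅P, A⁆ with hQ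
  have hQP : Q ≤ P := le_normalizer_iff_commutator_le_left.1 hAP
  have hcopP := coprime_card_of_le le_rfl hPK hcop
  have hsP : Group.IsSolvable A ∨ Group.IsSolvable P := solvable_or_of_le hPK hsolv
  have hQQ : ⁅Q, A⁆ = Q := coprime_commutator_commutator hAP hcopP hsP
  -- `C ⊓ P` is normal in `P`
  have hn : (C.subgroupOf P).Normal := by
    apply normal_of_index_eq_minFac_card
    have : (C.subgroupOf P).index = p := hrel
    rw [this, hP, Nat.Prime.pow_minFac hp]
    intro h0
    have := index_dvd_card (C.subgroupOf P)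
    rw [hP, h0, pow_zero, ‹(C.subgroupOf P).index = p›] at this
    exact hp.one_lt.ne' (Nat.dvd_one.1 this)
  have hD : ⁅C ⊓ P, P⁆ ≤ C ⊓ P := by
    rw [← le_normalizer_iff_commutator_le_left]
    exact (normal_subgroupOf_iff_le_normalizer_inf).1 hn
  have hQD : ⁅Q, C ⊓ P⁆ = ⊥ := by
    apply commutator_commutator_eq_bot_of_rotate
    · have : ⁅A, C ⊓ P⁆ = ⊥ := by
        rw [commutator_comm, commutator_eq_bot_iff_le_centralizer]
        exact inf_le_left.trans inf_le_right
      rw [this, commutator_bot_left]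
    · rw [commutator_eq_bot_iff_le_centralizer]
      exact hD.trans (inf_le_left.trans inf_le_right)
  have hQC : C.relIndex Q = p := by
    have h3 := coprime_commutator_sup_centralizer hAP hcopP hsP
    have h4 : P ⊓ centralizer (A : Set G) = C ⊓ P := by
      rw [hC, inf_right_comm, inf_eq_right.2 hPK]
    rw [h4, ← hQ] at h3
    have h5 : (C.subgroupOf P).relIndex (Q.subgroupOf P ⊔ C.subgroupOf P) =
        (C.subgroupOf P).relIndex (Q.subgroupOf P) := relIndex_sup_right _ _
    rw [← inf_subgroupOf_right C P, ← subgroupOf_sup hQP inf_le_right, h3, subgroupOf_self,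
      relIndex_top_right, inf_subgroupOf_right, relIndex_subgroupOf hQP] at h5
    rw [← h5]; exact hrel
  have hQcomm : IsMulCommutative Q := by
    have : (C.subgroupOf Q).Normal := by
      have := hn.comap (inclusion hQP)
      exact this
    have hcyc : IsCyclic (Q ⧸ C.subgroupOf Q) := isCyclic_of_prime_card (p := p) hQC
    refine MonoidHom.isMulCommutative_of_isCyclic_of_ker_le_center
      (QuotientGroup.mk' (C.subgroupOf Q)) ?_
    rw [QuotientGroup.ker_mk']
    intro x hx
    rw [mem_center_iff]
    intro y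
    ext
    have := (commutator_eq_bot_iff_le_centralizer.1 hQD) y.2
    exact (mem_centralizer_iff.1 this x ⟨hx, hQP x.2⟩).symm
  have h6 := coprime_centralizer_inf_commutator (normalizer_commutator_ge_right P A)
    (coprime_card_of_le le_rfl hQP hcopP)
  rw [← hQ, hQQ] at h6
  have h7 : C ⊓ Q = ⊥ := by
    rw [eq_bot_iff, ← h6]
    exact le_inf (le_inf inf_le_right (inf_le_left.trans inf_le_right)) inf_le_right
  rw [h1, ← Pi.card_inf_mul_relIndex C Q, h7, card_bot, one_mul, hQC]

end Cfsg.Agent.S0057
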