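import Cfsg.Agent.Base
import Cfsg.Statements.S0073
import Cfsg.Agent.Transfer.AbSylow

set_option autoImplicit false
open Cfsg

namespace Cfsg.Agent.S0073

/-- For a finite non-abelian simple group, either the cube of the least prime divisor of the order divides the order, or 12 does. -/
theorem result {G : Type*} [Group G] [Finite G] [IsSimpleGroup G] (hG : ∃ x y : G, x * y ≠ y * x) : (Nat.card G).minFac ^ 3 ∣ Nat.card G ∨ 12 ∣ Nat.card G := by
  obtain ⟨x, y, hxy⟩ := hG
  set p := (Nat.card G).minFac with hpdef
  have hn1 : Nat.card G ≠ 1 := by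
    intro h
    have := (Nat.card_eq_one_iff_unique.mp h).1
    exact hxy (Subsingleton.elim _ _)
  have hp : p.Prime := Nat.minFac_prime hn1
  have := Fact.mk hp
  have hpG : p ∣ Nat.card G := Nat.minFac_dvd _
  by_contra hcon
  rw [not_or] at hcon
  obtain ⟨h3, h12⟩ := hcon
  obtain ⟨P⟩ : Nonempty (Sylow p G) := inferInstance
  obtain ⟨n, hn⟩ := IsPGroup.iff_card.mp P.2
  have hn2 : n ≤ 2 := by
    by_contra hlt
    exact h3 ((pow_dvd_pow p (by omega)).trans (hn ▸ Subgroup.card_subgroup_dvd_card (P : Subgroup G)))
  have hcomm : IsMulCommutative P := by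
    interval_cases n
    · have := (Nat.card_eq_one_iff_unique.mp hn).1
      exact ⟨⟨fun a b => Subsingleton.elim _ _⟩⟩
    · have : IsCyclic P := isCyclic_of_prime_card (hn.trans (pow_one p))
      infer_instance
    · exact IsPGroup.isMulCommutative_of_card_eq_prime_sq hn
  have hNC : Subgroup.normalizer (P : Set G) ≤ Subgroup.centralizer (P : Set G) := by
    refine CL.Focal.normalizer_le_centralizer_of_primes P hcomm hn ?_
    intro q hq hqp hqG j hj1 hj2 hd
    have hpq : p < q := lt_of_le_of_ne (Nat.minFac_le_of_dvd hq.two_le hqG) hqp.symm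
    have hp2 := hp.two_le
    have hj : j = 1 ∨ j = 2 := by omega
    rcases hj with rfl | rfl
    · have := Nat.le_of_dvd (by simp only [pow_one]; omega) hd
      simp only [pow_one] at this
      omega
    · have h1 : p ^ 2 - 1 = (p + 1) * (p - 1) := by
        rw [← Nat.sq_sub_sq, one_pow]
      rw [h1] at hd
      rcases (Nat.Prime.dvd_mul hq).mp hd with h | h
      · have h2 := Nat.le_of_dvd (by omega) h
        have hq1 : q = p + 1 := by omega
        have hp2' : p = 2 := by
          rcases hp.eq_two_or_odd' with h | h
          · exact h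
          · exfalso
            have : Even q := hq1 ▸ h.add_one
            rcases hq.eq_two_or_odd' with h' | h'
            · omega
            · exact (Nat.not_even_iff_odd.mpr h') this
        apply h12
        have hn' : n = 2 := by omega
        have h4 : 4 ∣ Nat.card G := by
          have := Subgroup.card_subgroup_dvd_card (P : Subgroup G)
          rwa [hn, hn', hp2'] at this
        have h3' : 3 ∣ Nat.card G := by
          rwa [hq1, hp2'] at hqG
        exact Nat.Coprime.mul_dvd_of_dvd_of_dvd (by norm_num : Nat.Coprime 4 3) h4 h3'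
      · have := Nat.le_of_dvd (by omega) h
        omega
  have hc := MonoidHom.ker_transferSylow_isComplement' P hNC
  rcases (MonoidHom.transferSylow P hNC).normal_ker.eq_bot_or_eq_top with h | h
  · rw [h, Subgroup.isComplement'_bot_left] at hc
    have hx : x ∈ (P : Subgroup G) := hc ▸ Subgroup.mem_top x
    have hy : y ∈ (P : Subgroup G) := hc ▸ Subgroup.mem_top y
    exact hxy (setLike_mul_comm hx hy)
  · rw [h, Subgroup.isComplement'_top_left] at hc
    exact P.ne_bot_of_dvd_card hpG hc

end Cfsg.Agent.S0073
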