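import Cfsg.Agent.Base
import Cfsg.Statements.S0075
import Cfsg.Agent.Transfer.AbSylow
import Cfsg.Agent.Transfer.PCompl

set_option autoImplicit false
open Cfsg

namespace Cfsg.Agent.S0075

/-- For an abelian Sylow p-subgroup T, its intersection with the subgroup generated by the elements of order prime to p is the commutator of T with its normalizer. -/
theorem result {G : Type*} [Group G] [Finite G] {p : ℕ} [Fact p.Prime] (T : Sylow p G) (hT : IsMulCommutative T) : (T : Subgroup G) ⊓ Cfsg.pResidual p G = ⁅(T : Subgroup G), Subgroup.normalizer (T : Set G)⁆ := by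
  rw [← CL.Focal.commutator_inf_eq_of_abelian_sylow T hT]
  have hc := CL.Focal.coprime_focal_of_hall (T : Subgroup G) T.card_coprime_index
  apply le_antisymm
  · rw [CL.Focal.commutator_inf_eq_focal _ hc, ← CL.Focal.ker_transferFocal_inf _ hc, inf_comm]
    exact inf_le_inf_right _ (CL.Transfer.pResidual_le_ker _ (T.2.to_quotient _))
  · rw [inf_comm]
    exact inf_le_inf_left _ (Subgroup.Normal.commutator_le_of_self_sup_commutative_eq_top
      (by rw [sup_comm]; exact CL.Transfer.sylow_sup_pResidual T) hT)

end Cfsg.Agent.S0075
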