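import Cfsg.Statements.S0078
import Cfsg.Agent.Transfer.Fusion

set_option autoImplicit false
open Cfsg

namespace Cfsg.Agent.S0078

open CL.Transfer Subgroup

/-- In a p-normal group, a Sylow p-subgroup P meets O^p(G) exactly where it meets O^p(V), for any subgroup V containing the normalizer of the centre of P. -/
theorem result {G : Type*} [Group G] [Finite G] {p : ℕ} [Fact p.Prime] (P : Sylow p G) (hn : ∀ Q : Sylow p G, (P : Subgroup G) ⊓ Subgroup.centralizer (P : Set G) ≤ (Q : Subgroup G) → (Q : Subgroup G) ⊓ Subgroup.centralizer (Q : Set G) = (P : Subgroup G) ⊓ Subgroup.centralizer (P : Set G)) (V : Subgroup G) (hV : Subgroup.normalizer (((P : Subgroup G) ⊓ Subgroup.centralizer (P : Set G) : Subgroup G) : Set G) ≤ V) : (P : Subgroup G) ⊓ Cfsg.pResidual p G = (P : Subgroup G) ⊓ (Cfsg.pResidual p V).map V.subtype := by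
  have hW : Cfsg.IsWeaklyClosed ((P : Subgroup G) ⊓ centralizer ((P : Subgroup G) : Set G)) P := by
    rw [isWeaklyClosed_iff]
    refine ⟨inf_le_left, fun g hg => ?_⟩
    have h1 := hn (g⁻¹ • P) (by
      rw [Sylow.coe_subgroup_smul]
      exact (conj_inv_smul_conj_smul g _).ge.trans (conj_smul_mono _ hg))
    rw [← inv_mem_iff, ← conj_smul_eq_iff_mem_normalizer, conj_smul_inf, conj_smul_centralizer]
    exact h1
  refine inf_pResidual_eq_of_control_fusion P
    (le_normalizer.trans ((normalizer_le_of_isWeaklyClosed hW).trans hV)) fun x hx g hg => ?_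
  obtain ⟨n, hn', e⟩ := control_fusion_of_isWeaklyClosed P inf_le_right hW x hx g hg
  exact ⟨n, hV hn', e⟩

end Cfsg.Agent.S0078
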