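import Cfsg.Statements.S0081
import Cfsg.Agent.Transfer.Tate

set_option autoImplicit false
open Cfsg

namespace Cfsg.Agent.S0081

open CL.Transfer Subgroup

/-- If a normal subgroup meets a Sylow p-subgroup P inside the Frattini subgroup of P, then it has a normal p-complement. -/
theorem result {G : Type*} [Group G] [Finite G] {p : ℕ} [Fact p.Prime] (P : Sylow p G) (N : Subgroup G) [N.Normal] (h : N ⊓ (P : Subgroup G) ≤ (frattini P).map (P : Subgroup G).subtype) : Cfsg.HasNormalPComplement p N := by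
  let H : Subgroup G := (P : Subgroup G) ⊔ N
  have hPH : (P : Subgroup G) ≤ H := le_sup_left
  have hNH : N ≤ H := le_sup_right
  refine hasNormalPComplement_of_le ?_ hNH
  have h1 : pResidual p H ≤ N.subgroupOf H := by
    apply pResidual_le_of_isPGroup_quotient
    intro x
    obtain ⟨⟨y, hy⟩, rfl⟩ := QuotientGroup.mk_surjective x
    obtain ⟨a, ha, b, hb, rfl⟩ := mem_sup_of_normal_right.1 hy
    obtain ⟨k, hk⟩ := P.isPGroup' ⟨a, ha⟩
    refine ⟨k, ?_⟩
    have e : (⟨a * b, hy⟩ : H) = ⟨a, hPH ha⟩ * ⟨b, hNH hb⟩ := rfl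
    have e2 : (⟨a, hPH ha⟩ : H) ^ p ^ k = 1 := Subtype.ext (congrArg Subtype.val hk :)
    rw [e, QuotientGroup.mk_mul, (QuotientGroup.eq_one_iff (⟨b, hNH hb⟩ : H)).2 hb, mul_one,
      ← QuotientGroup.mk_pow, e2, QuotientGroup.mk_one]
  apply hasNormalPComplement_of_inf_pResidual_le_frattini (P.subtype hPH)
  rintro x ⟨hx1, hx2⟩
  obtain ⟨w, hw, e⟩ := h ⟨h1 hx2, hx1⟩
  let φ := (subgroupOfEquivOfLe hPH).symm
  refine ⟨φ w, frattini_le_comap_frattini_of_surjective (φ := φ.toMonoidHom) φ.surjective hw, ?_⟩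
  exact Subtype.ext e

end Cfsg.Agent.S0081
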