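import Cfsg.Agent.Base
import Cfsg.Statements.S0082
import Cfsg.Agent.Transfer.AbSylow
import Cfsg.Agent.Transfer.PCompl

set_option autoImplicit false
open Cfsg

namespace Cfsg.Agent.S0082

/-- In a finite cyclic `p`-group two nontrivial subgroups meet nontrivially. -/
theorem eq_bot_or_eq_bot {P : Type*} [Group P] [Finite P] [IsCyclic P] {p : ℕ} [hp : Fact p.Prime]
    (hP : IsPGroup p P) {A B : Subgroup P} (h : A ⊓ B = ⊥) : A = ⊥ ∨ B = ⊥ := by
  by_contra hcon
  rw [not_or] at hcon
  have hA : p ∣ Nat.card A :=
    (hP.to_subgroup A).card_eq_or_dvd.resolve_left (by rw [Subgroup.card_eq_one]; exact hcon.1)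
  have hB : p ∣ Nat.card B :=
    (hP.to_subgroup B).card_eq_or_dvd.resolve_left (by rw [Subgroup.card_eq_one]; exact hcon.2)
  have hcomm : IsMulCommutative P := inferInstance
  have hAn : A.Normal := ⟨fun a ha g => by
    rw [hcomm.is_comm.comm g a, mul_inv_cancel_right]; exact ha⟩
  let f : A × B →* P := MonoidHom.noncommCoprod A.subtype B.subtype
    (fun a b => hcomm.is_comm.comm _ _)
  have hf : Function.Injective f := by
    rw [injective_iff_map_eq_one]
    rintro ⟨a, b⟩ hab
    have hab' : (a : P) * b = 1 := hab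
    have h1 : (a : P) ∈ A ⊓ B := ⟨a.2, by
      rw [eq_inv_of_mul_eq_one_left hab']; exact B.inv_mem b.2⟩
    rw [h, Subgroup.mem_bot] at h1
    rw [h1, one_mul] at hab'
    exact Prod.ext (Subtype.ext h1) (Subtype.ext hab')
  have : IsCyclic (A × B) := isCyclic_of_injective f hf
  have h2 := coprime_card_of_isCyclic_prod A B
  exact hp.out.one_lt.ne' (Nat.eq_one_of_dvd_coprimes h2 hA hB)

/-- With a cyclic Sylow p-subgroup, either there is a normal p-complement or the elements of order prime to p generate the whole group. -/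
theorem result {G : Type*} [Group G] [Finite G] {p : ℕ} [Fact p.Prime] (P : Sylow p G) (hP : IsCyclic P) : Cfsg.HasNormalPComplement p G ∨ Cfsg.pResidual p G = ⊤ := by
  have hc : IsMulCommutative P := inferInstance
  have h1 := CL.Focal.sylow_inf_centralizer_sup_commutator P hc
  have h2 := CL.Focal.sylow_inf_centralizer_inf_commutator P hc
  set C : Subgroup G := (P : Subgroup G) ⊓
    Subgroup.centralizer (Subgroup.normalizer (P : Set G) : Set G) with hC
  set D : Subgroup G := ⁅(P : Subgroup G), Subgroup.normalizer (P : Set G)⁆ with hD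
  have hCP : C ≤ P := le_sup_left.trans h1.le
  have hDP : D ≤ P := le_sup_right.trans h1.le
  have h3 : C.subgroupOf P ⊓ D.subgroupOf P = ⊥ := by
    rw [← Subgroup.comap_subtype, ← Subgroup.comap_subtype, ← Subgroup.comap_inf, h2,
      MonoidHom.comap_bot, Subgroup.ker_subtype]
  rcases eq_bot_or_eq_bot P.2 h3 with h | h
  · right
    rw [Subgroup.subgroupOf_eq_bot, disjoint_iff, inf_eq_left.mpr hCP] at h
    rw [h, bot_sup_eq] at h1
    have h4 : (P : Subgroup G) ≤ pResidual p G := by
      rw [← h1, hD, ← CL.Focal.commutator_inf_eq_of_abelian_sylow P hc]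
      exact inf_le_left.trans (Subgroup.Normal.commutator_le_of_self_sup_commutative_eq_top
        (by rw [sup_comm]; exact CL.Transfer.sylow_sup_pResidual P) hc)
    rw [← CL.Transfer.sylow_sup_pResidual P, sup_eq_right.mpr h4]
  · left
    rw [Subgroup.subgroupOf_eq_bot, disjoint_iff, inf_eq_left.mpr hDP, hD,
      Subgroup.commutator_comm, Subgroup.commutator_eq_bot_iff_le_centralizer] at h
    exact CL.Focal.hasNormalPComplement_of_normalizer_le_centralizer P h

end Cfsg.Agent.S0082
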