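import Cfsg.Agent.Base
import Cfsg.Statements.S0083
import Cfsg.Agent.Transfer.AbSylow
import Cfsg.Agent.Transfer.PCompl

set_option autoImplicit false
open Cfsg

namespace Cfsg.Agent.S0083

/-- For an abelian Sylow p-subgroup P, a normal p-complement exists exactly when the normalizer of P is an internal direct product of P with some subgroup. -/
theorem result {G : Type*} [Group G] [Finite G] {p : ℕ} [Fact p.Prime] (P : Sylow p G) (hP : IsMulCommutative P) : Cfsg.HasNormalPComplement p G ↔ ∃ Q : Subgroup G, Q ≤ Subgroup.centralizer (P : Set G) ∧ Q ⊓ (P : Subgroup G) = ⊥ ∧ Q ⊔ (P : Subgroup G) = Subgroup.normalizer (P : Set G) := by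
  constructor
  · intro h
    have hc := CL.Transfer.isComplement'_pResidual h P
    refine ⟨pResidual p G ⊓ Subgroup.normalizer (P : Set G), ?_, ?_, ?_⟩
    · rintro x ⟨h1, h2⟩
      exact CL.Transfer.mem_centralizer_of_hasNormalPComplement h P.2 h2
        ((CL.Transfer.mem_pResidual_iff h).1 h1)
    · rw [eq_bot_iff, ← hc.disjoint.eq_bot]
      exact inf_le_inf_right _ inf_le_left
    · refine le_antisymm (sup_le inf_le_right Subgroup.le_normalizer) fun x hx => ?_
      obtain ⟨⟨a, b⟩, hab⟩ := hc.2 x
      have hab' : (a : G) * b = x := hab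
      rw [← hab']
      refine Subgroup.mul_mem_sup ⟨a.2, ?_⟩ b.2
      have : (a : G) = x * (b : G)⁻¹ := by rw [← hab', mul_inv_cancel_right]
      rw [this]
      exact Subgroup.mul_mem _ hx (Subgroup.inv_mem _ (Subgroup.le_normalizer b.2))
  · rintro ⟨Q, h1, -, h3⟩
    apply CL.Focal.hasNormalPComplement_of_normalizer_le_centralizer P
    rw [← h3]
    exact sup_le h1 P.le_centralizer

end Cfsg.Agent.S0083
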