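import Cfsg.Agent.Base
import Cfsg.Statements.S0085
import Cfsg.Agent.Transfer.AbSylow

set_option autoImplicit false
open Cfsg

namespace Cfsg.Agent.S0085

/-- A group whose Sylow 2-subgroups are elementary abelian of order 8 and whose order is prime to 3 and to 7 has a normal 2-complement. -/
theorem result {G : Type*} [Group G] [Finite G] (T : Sylow 2 G) (h8 : Nat.card T = 8) (he : ∀ x : T, x * x = 1) (h3 : ¬ 3 ∣ Nat.card G) (h7 : ¬ 7 ∣ Nat.card G) : Cfsg.HasNormalPComplement 2 G := by
  apply CL.Focal.hasNormalPComplement_of_normalizer_le_centralizer T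
  have hinv : ∀ x : T, x⁻¹ = x := fun x => inv_eq_of_mul_eq_one_right (he x)
  refine CL.Focal.normalizer_le_centralizer_of_primes (n := 3) T
    ⟨⟨fun a b => by rw [← hinv (a * b), mul_inv_rev, hinv, hinv]⟩⟩ h8 ?_
  intro q hq hq2 hqG j hj1 hj2 hd
  interval_cases j
  · exact hq.one_lt.ne' (Nat.dvd_one.mp hd)
  · obtain rfl := (Nat.prime_dvd_prime_iff_eq hq Nat.prime_three).mp hd
    exact h3 hqG
  · obtain rfl := (Nat.prime_dvd_prime_iff_eq hq (by norm_num : Nat.Prime 7)).mp hd
    exact h7 hqG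

end Cfsg.Agent.S0085
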