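import Cfsg.Agent.Base
import Cfsg.Statements.S0087
import Cfsg.Agent.Transfer.CentralExt

set_option autoImplicit false
open Cfsg

namespace Cfsg.Agent.S0087

/-- A Hall subgroup that is central in its normalizer has a normal complement. -/
theorem result {G : Type*} [Group G] [Finite G] (H : Subgroup G) (hHall : Nat.Coprime (Nat.card H) H.index) (h : Subgroup.normalizer (H : Set G) ≤ Subgroup.centralizer (H : Set G)) : ∃ N : Subgroup G, N.Normal ∧ N.IsComplement' H := by
  have hc : IsMulCommutative H := ⟨⟨fun a b =>
    Subtype.ext (h (Subgroup.le_normalizer b.2) a a.2)⟩⟩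
  apply CL.Focal.exists_normal_complement_of_focal_eq_bot H hHall
  rw [← CL.Focal.commutator_inf_eq_focal_of_hall H hHall,
    CL.Focal.commutator_inf_eq_of_abelian_hall hc hHall, Subgroup.commutator_comm,
    Subgroup.commutator_eq_bot_iff_le_centralizer]
  exact h

end Cfsg.Agent.S0087
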