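import Cfsg.Agent.Base
import Cfsg.Statements.S0089
import Cfsg.Agent.Transfer.Focal

set_option autoImplicit false
open Cfsg

namespace Cfsg.Agent.S0089

/-- When all Sylow subgroups are abelian, the derived subgroup meets the centre trivially. -/
theorem result {G : Type*} [Group G] [Finite G] (h : ∀ p : ℕ, p.Prime → ∀ P : Sylow p G, IsMulCommutative P) : commutator G ⊓ Subgroup.center G = ⊥ := by
  by_contra hne
  have hc : Nat.card ↥(commutator G ⊓ Subgroup.center G) ≠ 1 := by
    rwa [Ne, Subgroup.card_eq_one]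
  obtain ⟨p, hp, hdvd⟩ := Nat.exists_prime_and_dvd hc
  have := Fact.mk hp
  obtain ⟨z, hz⟩ := exists_prime_orderOf_dvd_card' p hdvd
  have hz' : orderOf (z : G) = p := by rw [Subgroup.orderOf_coe, hz]
  have hpg : IsPGroup p (Subgroup.zpowers (z : G)) := by
    apply IsPGroup.of_card (n := 1)
    rw [Nat.card_zpowers, hz', pow_one]
  obtain ⟨P, hP⟩ := hpg.exists_le_sylow
  have h1 := CL.Focal.inf_commutator_inf_center_eq_bot (P : Subgroup G) (h p hp P)
    P.card_coprime_index
  have h2 : (z : G) ∈ (P : Subgroup G) ⊓ commutator G ⊓ Subgroup.center G :=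
    ⟨⟨hP (Subgroup.mem_zpowers _), z.2.1⟩, z.2.2⟩
  rw [h1, Subgroup.mem_bot] at h2
  rw [h2, orderOf_one] at hz'
  exact hp.one_lt.ne hz'

end Cfsg.Agent.S0089
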