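import Cfsg.Agent.Base
import Cfsg.Statements.S0092
import Cfsg.Agent.Transfer.AbSylow
import Cfsg.Agent.Transfer.Frobenius
import Cfsg.Agent.Transfer.SylowIn
import Cfsg.Agent.Solv.SchurZassenhaus

set_option autoImplicit false
open Cfsg

namespace Cfsg.Agent.S0092

open Subgroup CL.Transfer
open scoped Pointwise

theorem exists_compl {N : Type*} [Group N] [Finite N] {p : ℕ} [Fact p.Prime]
    (hN : pResidual p N = ⊤) (Q : Sylow p N) (hQ : IsMulCommutative Q) :
    ∃ R : Subgroup N, (Nat.card R).Coprime p ∧ (Q : Subgroup N) ⊔ R = normalizer (Q : Set N) ∧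
      (Q : Subgroup N) ⊓ centralizer (R : Set N) = ⊥ := by
  set L := normalizer (Q : Set N) with hL
  have hQL : (Q : Subgroup N) ≤ L := le_normalizer
  have : ((Q : Subgroup N).subgroupOf L).Normal := normal_in_normalizer
  have hcop := CL.Focal.sylow_coprime_relIndex Q hQL
  obtain ⟨R₀, hR₀⟩ := exists_right_complement'_of_coprime (N := (Q : Subgroup N).subgroupOf L) (by
    rw [Nat.card_congr (subgroupOfEquivOfLe hQL).toEquiv]
    exact hcop)
  have hsup : (Q : Subgroup N) ⊔ R₀.map L.subtype = L := by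
    rw [← map_subgroupOf_eq_of_le hQL, ← Subgroup.map_sup, hR₀.sup_eq_top,
      ← MonoidHom.range_eq_map, range_subtype]
  refine ⟨R₀.map L.subtype, ?_, hsup, ?_⟩
  · rw [card_map_of_injective L.subtype_injective, ← hR₀.symm.index_eq_card]
    exact ((Nat.Prime.coprime_iff_not_dvd Fact.out).2 (Q.subtype hQL).not_dvd_index).symm
  · have h1 := CL.Focal.sylow_inf_centralizer_inf_commutator Q hQ
    rw [← CL.Focal.focal_eq_of_abelian_sylow Q hQ,
      focalSubgroup_eq_self_of_pResidual_eq_top hN, inf_eq_left.2 inf_le_left] at h1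
    rw [eq_bot_iff, ← h1]
    rintro x ⟨hx, hc⟩
    refine ⟨hx, ?_⟩
    have : L ≤ centralizer ({x} : Set N) := by
      rw [← hsup]
      refine sup_le (fun y hy => ?_) (fun y hy => ?_)
      · exact mem_centralizer_singleton_iff.2
          (congrArg Subtype.val (hQ.is_comm.comm (⟨y, hy⟩ : (Q : Subgroup N)) ⟨x, hx⟩))
      · exact mem_centralizer_singleton_iff.2 (mem_centralizer_iff.1 hc y hy)
    exact mem_centralizer_iff.2 fun y hy => mem_centralizer_singleton_iff.1 (this hy)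

/-- If the Sylow p-subgroups of O^p(G) are abelian then G splits over O^p(G). -/
theorem result {G : Type*} [Group G] [Finite G] {p : ℕ} [Fact p.Prime] (h : ∀ Q : Sylow p (Cfsg.pResidual p G), IsMulCommutative Q) : ∃ K : Subgroup G, K.IsComplement' (Cfsg.pResidual p G) := by
  set N := pResidual p G with hNdef
  obtain ⟨Q₀⟩ : Nonempty (Sylow p N) := inferInstance
  obtain ⟨R₀, hRc, hsup, hcen⟩ := exists_compl pResidual_pResidual Q₀ (h Q₀)
  set Q := (Q₀ : Subgroup N).map N.subtype with hQ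
  set R := R₀.map N.subtype with hR
  have hQp : IsPGroup p Q := Q₀.isPGroup'.map _
  have hRc' : (Nat.card R).Coprime p := by
    rwa [hR, card_map_of_injective N.subtype_injective]
  have hQN : Q ≤ N := map_subtype_le _
  have hRN : R ≤ N := map_subtype_le _
  have hL : Q ⊔ R = N ⊓ normalizer (Q : Set G) := by
    rw [hQ, hR, ← Subgroup.map_sup, hsup]
    ext x
    constructor
    · rintro ⟨y, hy, rfl⟩
      exact ⟨y.2, le_normalizer_map _ ⟨y, hy, rfl⟩⟩
    · rintro ⟨hx, hx'⟩
      refine ⟨⟨x, hx⟩, mem_normalizer_iff.2 fun y => ?_, rfl⟩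
      have := mem_normalizer_iff.1 hx' y
      constructor
      · intro hy
        obtain ⟨z, hz, hz'⟩ := this.1 ⟨y, hy, rfl⟩
        rwa [show (⟨x, hx⟩ : N) * y * (⟨x, hx⟩ : N)⁻¹ = z from Subtype.ext hz'.symm]
      · intro hy
        obtain ⟨z, hz, hz'⟩ := this.2 ⟨_, hy, rfl⟩
        rwa [show y = z from Subtype.ext hz'.symm]
  have hRQ : R ≤ normalizer (Q : Set G) := le_sup_right.trans (hL.le.trans inf_le_right)
  have hcen' : Q ⊓ centralizer (R : Set G) = ⊥ := by
    rw [eq_bot_iff]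
    rintro _ ⟨⟨x, hx, rfl⟩, hc⟩
    have : x ∈ (⊥ : Subgroup N) := hcen ▸ ⟨hx, mem_centralizer_iff.2 fun y hy =>
      Subtype.ext (mem_centralizer_iff.1 hc y ⟨y, hy, rfl⟩)⟩
    rw [mem_bot.1 this]; simp
  obtain ⟨k, hk⟩ := hQp.exists_card_eq
  have hcopRQ : (Nat.card R).Coprime (Nat.card Q) := hk ▸ hRc'.pow_right k
  have hQR : Q ⊓ R = ⊥ := (disjoint_of_coprime_natCard hcopRQ.symm).eq_bot
  have hQsolv : Group.IsSolvable Q := by
    have := hQp.isNilpotent
    infer_instance
  set D := normalizer (Q : Set G) ⊓ normalizer (R : Set G) with hD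
  have hRD : R ≤ D := le_inf hRQ le_normalizer
  -- Frattini: `N_G(Q) = Q D`
  have hM : normalizer (Q : Set G) ≤ N ⊔ D := by
    intro m hm
    have hLm : MulAut.conj m • R ≤ Q ⊔ R := by
      rw [hL, conj_smul_le_iff]
      intro x hx
      exact ⟨(inferInstance : N.Normal).conj_mem x (hRN hx) m,
        Subgroup.mul_mem _ (mul_mem hm (hRQ hx)) (Subgroup.inv_mem _ hm)⟩
    obtain ⟨q, hq, hqm⟩ := CL.exists_conj_eq_of_le_sup (A := MulAut.conj m • R) (L := Q) (S := R)
      (hLm.trans (hL.le.trans inf_le_right)) hRQ (by rwa [card_conj_smul]) (Or.inr hQsolv) hLm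
      (by rw [card_conj_smul])
    rw [conj_smul_conj_smul, conj_smul_eq_iff_mem_normalizer] at hqm
    have : m = q⁻¹ * (q * m) := by group
    rw [this]
    exact mul_mem (mem_sup_left (inv_mem (hQN hq)))
      (mem_sup_right ⟨mul_mem (le_normalizer hq) hm, hqm⟩)
  have hND : N ⊔ D = ⊤ := by
    rw [eq_top_iff, ← Sylow.normalizer_sup_eq_top Q₀]
    exact sup_le hM le_sup_left
  have hDN : D ⊓ N ≤ R := by
    rintro x ⟨hxD, hxN⟩
    have hx : x ∈ Q ⊔ R := hL ▸ ⟨hxN, hxD.1⟩
    rw [← SetLike.mem_coe, coe_mul_of_right_le_normalizer_left _ _ hRQ] at hx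
    obtain ⟨q, hq, r, hr, rfl⟩ := hx
    have hqR : q ∈ normalizer (R : Set G) := by
      have := Subgroup.mul_mem _ hxD.2 (Subgroup.inv_mem _ (le_normalizer hr))
      simpa using this
    have hqc : q ∈ centralizer (R : Set G) := mem_centralizer_iff.2 fun y hy => by
      have h1 : q * y * q⁻¹ * y⁻¹ ∈ Q ⊓ R := by
        refine ⟨?_, R.mul_mem ((mem_normalizer_iff.1 hqR y).1 hy) (R.inv_mem hy)⟩
        have := mul_mem hq ((mem_normalizer_iff.1 (hRQ hy) _).1 (inv_mem hq))
        simpa [mul_assoc] using this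
      rw [hQR, mem_bot, mul_inv_eq_one, mul_inv_eq_iff_eq_mul] at h1
      exact h1.symm
    have : q ∈ (⊥ : Subgroup G) := hcen' ▸ ⟨hq, hqc⟩
    rw [mem_bot.1 this]
    simpa using hr
  obtain ⟨K, hK⟩ := exists_isSylowIn (p := p) D
  obtain ⟨j, hj⟩ := hK.isPGroup.exists_card_eq
  have hKN : K ⊓ N = ⊥ := by
    rw [eq_bot_iff, ← (disjoint_of_coprime_natCard (H := K) (K := R)
      (hj ▸ (hRc'.pow_right j).symm)).eq_bot]
    exact le_inf inf_le_left (le_trans (inf_le_inf_right _ hK.le) hDN)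
  have hDK : D ≤ K ⊔ N := by
    have h1 := sylow_sup_pResidual hK.toSylow
    have h2 := congrArg (Subgroup.map D.subtype) h1
    rw [Subgroup.map_sup, hK.map_toSylow, ← MonoidHom.range_eq_map, range_subtype] at h2
    exact h2.ge.trans (sup_le_sup_left (map_pResidual_le _) _)
  refine ⟨K, isComplement'_of_disjoint_and_mul_eq_univ (disjoint_iff.2 hKN) ?_⟩
  rw [← mul_normal, eq_top_iff.2 (hND ▸ sup_le le_sup_right hDK : ⊤ ≤ K ⊔ N), coe_top]

end Cfsg.Agent.S0092
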