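import Cfsg.Statements.S0097
import Cfsg.Agent.PGrp.Frattini
import Cfsg.Agent.PGrp.Omega

set_option autoImplicit false
open Cfsg

namespace Cfsg.Agent.S0097

/-- For odd p and E extraspecial, the subgroup generated by the elements of order dividing p has exponent dividing p and index at most p. -/
theorem result {E : Type*} [Group E] [Finite E] {p : ℕ} [Fact p.Prime] (hp : p ≠ 2) (h : Cfsg.IsExtraspecial p E) : (Subgroup.closure {x : E | x ^ p = 1}).index ≤ p ∧ ∀ g ∈ Subgroup.closure {x : E | x ^ p = 1}, g ^ p = 1 := by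
  obtain ⟨⟨hP, h1, h2⟩, h3⟩ := h
  have hodd := (Fact.out : p.Prime).odd_of_ne_two hp
  refine ⟨?_, fun g hg => CL.PGrp.pow_eq_one_of_mem_closure
    (CL.PGrp.mul_pow_eq_one_of_class_two h2.le hodd) hg⟩
  have hpow : ∀ x : E, x ^ p ∈ Subgroup.center E := fun x => h1 ▸ CL.PGrp.pow_mem_frattini hP x
  let φ : E →* Subgroup.center E := MonoidHom.mk' (fun x => ⟨x ^ p, hpow x⟩) (fun x y => by
    apply Subtype.ext
    exact CL.PGrp.mul_pow_of_odd' (CL.PGrp.commute_of_commutator_le_center h2.le _ _ _)
      (CL.PGrp.commute_of_commutator_le_center h2.le _ _ _) hodd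
      (Subgroup.mem_center_iff.mp (hpow y) x).symm)
  have hle : φ.ker ≤ Subgroup.closure {x : E | x ^ p = 1} := fun x hx =>
    Subgroup.subset_closure (congrArg Subtype.val (MonoidHom.mem_ker.mp hx))
  refine (Subgroup.index_antitone hle).trans ?_
  rw [Subgroup.index_ker, ← h3]
  exact Subgroup.card_le_card_group _

end Cfsg.Agent.S0097
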