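import Cfsg.Agent.Base
import Cfsg.Statements.S0102
import Cfsg.Agent.Transfer.Focal
import Cfsg.Agent.Transfer.CentralExt

set_option autoImplicit false
open Cfsg

namespace Cfsg.Agent.S0102

/-- A finite perfect group with cyclic Sylow p-subgroups has no perfect central extension whose kernel has order divisible by p. -/
theorem result {G : Type*} {H : Type*} [Group G] [Group H] [Finite G] [Finite H] (hG : commutator G = ⊤) {p : ℕ} [Fact p.Prime] (hcyc : ∀ P : Sylow p G, IsCyclic P) (σ : H →* G) (hσ : Function.Surjective σ) (hz : σ.ker ≤ Subgroup.center H) (hH : commutator H = ⊤) : ¬ p ∣ Nat.card σ.ker := by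
  intro hd
  obtain ⟨z, hz'⟩ := exists_prime_orderOf_dvd_card' p hd
  have hz1 : orderOf (z : H) = p := by rw [Subgroup.orderOf_coe, hz']
  have hpg : IsPGroup p (Subgroup.zpowers (z : H)) := by
    apply IsPGroup.of_card (n := 1)
    rw [Nat.card_zpowers, hz1, pow_one]
  obtain ⟨P, hP⟩ := hpg.exists_le_sylow
  have h1 := CL.Focal.inf_le_commutator_of_perfect hH hz _ P.card_coprime_index
  have hcy := hcyc (P.mapSurjective hσ)
  have hcomm : IsMulCommutative (P : Subgroup H) := by
    have : IsCyclic ((P : Subgroup H).map σ) := hcy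
    refine MonoidHom.isMulCommutative_of_isCyclic_of_ker_le_center (σ.subgroupMap P) ?_
    intro x hx
    have hx' : (x : H) ∈ σ.ker := congrArg Subtype.val hx
    rw [Subgroup.mem_center_iff]
    intro y
    exact Subtype.ext (Subgroup.mem_center_iff.mp (hz hx') y)
  rw [Subgroup.commutator_self_eq_bot_iff.mpr hcomm] at h1
  have h2 : (z : H) = 1 := Subgroup.mem_bot.mp (h1 ⟨z.2, hP (Subgroup.mem_zpowers _)⟩)
  rw [h2, orderOf_one] at hz1
  exact (Fact.out : p.Prime).one_lt.ne hz1

end Cfsg.Agent.S0102
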