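import Cfsg.Agent.Base
import Cfsg.Statements.S0105
import Cfsg.Agent.Transfer.AbSylow

set_option autoImplicit false
open Cfsg

namespace Cfsg.Agent.S0105

/-- With an abelian Sylow p-subgroup P, some quotient of G is isomorphic to the part of P central in N_G(P). -/
theorem result {G : Type*} [Group G] [Finite G] {p : ℕ} [Fact p.Prime] (P : Sylow p G) (hP : IsMulCommutative P) : ∃ (N : Subgroup G) (hN : N.Normal), Nonempty (G ⧸ N ≃* ((P : Subgroup G) ⊓ Subgroup.centralizer (Subgroup.normalizer (P : Set G) : Set G) : Subgroup G)) := by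
  have hc := CL.Focal.coprime_focal_of_hall (P : Subgroup G) P.card_coprime_index
  set C : Subgroup G := (P : Subgroup G) ⊓
    Subgroup.centralizer (Subgroup.normalizer (P : Set G) : Set G) with hC
  have h1 := CL.Focal.sylow_inf_centralizer_sup_commutator P hP
  have h2 := CL.Focal.sylow_inf_centralizer_inf_commutator P hP
  rw [← CL.Focal.focal_eq_of_abelian_sylow P hP, ← hC] at h1 h2
  set N := (P : Subgroup G).transferFocal.ker with hN
  have h3 : N ⊓ P = (P : Subgroup G).focalSubgroup := CL.Focal.ker_transferFocal_inf _ hc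
  have h4 : N ⊔ P = ⊤ := CL.Focal.ker_transferFocal_sup _ hc
  have h5 : N.IsComplement' C := by
    refine Subgroup.isComplement'_of_disjoint_and_mul_eq_univ (disjoint_iff.2 ?_) ?_
    · rw [eq_bot_iff, ← h2, ← h3]
      exact le_inf inf_le_right (inf_le_inf_left _ inf_le_left)
    · rw [← Subgroup.normal_mul, Subgroup.coe_eq_univ, eq_top_iff, ← h4]
      refine sup_le le_sup_left ?_
      rw [← h1, ← h3]
      exact sup_le le_sup_right (inf_le_left.trans le_sup_left)
  exact ⟨N, inferInstance, ⟨h5.symm.QuotientMulEquiv⟩⟩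

end Cfsg.Agent.S0105
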