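import Cfsg.Agent.Base
import Cfsg.Statements.S0107
import Cfsg.Agent.Transfer.Fusion
import Cfsg.Agent.Transfer.PCompl
import Cfsg.Agent.TwoFus.DQ

set_option autoImplicit false
open Cfsg

namespace Cfsg.Agent.S0107

open Subgroup CL

theorem eq_of_orderOf_eq_two {G : Type*} [Group G] {x : G} {m : ℕ} (hm : 0 < m)
    (hx : orderOf x = 2 * m) {c : G} (hc : c ∈ zpowers x) (h2 : orderOf c = 2) :
    c = x ^ m := by
  classical
  have hfin : IsOfFinOrder x := orderOf_pos_iff.1 (by omega)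
  obtain ⟨k, hk, rfl⟩ := (hfin.mem_zpowers_iff_mem_range_orderOf.1 hc |> Finset.mem_image.1)
  rw [Finset.mem_range, hx] at hk
  have : 2 * m ∣ k * 2 := by
    rw [← hx, orderOf_dvd_iff_pow_eq_one, pow_mul, ← h2, pow_orderOf_eq_one]
  obtain ⟨j, hj⟩ := this
  have hj' : k = m * j := by nlinarith
  have : j < 2 := by
    by_contra h
    push Not at h
    nlinarith
  interval_cases j
  · simp [hj'] at h2
  · simp [hj']

/-- A finite group with no nontrivial 2-group quotient and dihedral Sylow 2-subgroups of order at least 8 has a single class of involutions. -/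
theorem result {G : Type*} [Group G] [Finite G] (T : Sylow 2 G) (n : ℕ) (hn : 2 ≤ n) (hT : Nonempty ((T : Subgroup G) ≃* DihedralGroup (2 ^ n))) (hO : Cfsg.pResidual 2 G = ⊤) (x y : G) (hx : orderOf x = 2) (hy : orderOf y = 2) : ∃ g : G, g * x * g⁻¹ = y := by
  obtain ⟨e⟩ := hT
  obtain ⟨a, b, h⟩ := exists_isDihData_of_equiv e
  obtain ⟨k, rfl⟩ : ∃ k, n = k + 1 := ⟨n - 1, by omega⟩
  have ha : orderOf a = 2 * 2 ^ k := by rw [h.ord, pow_succ']
  have key : ∀ u : G, orderOf u = 2 → ∃ g : G, g * u * g⁻¹ = a ^ 2 ^ k := by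
    intro u hu
    by_contra hcon
    push Not at hcon
    obtain ⟨M, hM, hMi, -⟩ := CL.Transfer.thompson_transfer T h.toIsCycExt.zpowers_le
      h.toIsCycExt.relIndex_eq (u := u) (by rw [← hu, pow_orderOf_eq_one]) (fun g hg =>
        hcon g (eq_of_orderOf_eq_two (by positivity) ha hg (by
          rw [← hu]; exact (MulAut.conj g).orderOf_eq u)))
    exact CL.Transfer.pResidual_eq_top_iff.1 hO M hM hMi
  obtain ⟨g, hg⟩ := key x hx
  obtain ⟨g', hg'⟩ := key y hy
  refine ⟨g'⁻¹ * g, ?_⟩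
  calc g'⁻¹ * g * x * (g'⁻¹ * g)⁻¹ = g'⁻¹ * (g * x * g⁻¹) * g' := by group
    _ = y := by rw [hg, ← hg']; group

end Cfsg.Agent.S0107
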