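import Cfsg.Agent.Base
import Cfsg.Statements.S0109
import Cfsg.Agent.Transfer.ThompsonCompl

set_option autoImplicit false
open Cfsg

namespace Cfsg.Agent.S0109

/-- The Thompson factorization Theorem for solvable groups states that, with p odd (and abelian Sylow 2-subgroups when p = 3) and no nontrivial normal subgroup of order prime to p, every element of G is a product of an element normalizing J(P) and an element centralizing the elements of order dividing p in the centre of P. -/
theorem result {G : Type*} [Group G] [Finite G] {p : ℕ} [Fact p.Prime] (hp : p ≠ 2) (hs : Group.IsSolvable G) (h3 : p = 3 → ∀ T : Sylow 2 G, IsMulCommutative T) (hF : ∀ N : Subgroup G, N.Normal → Nat.Coprime (Nat.card N) p → N = ⊥) (P : Sylow p G) (g : G) : ∃ a ∈ Subgroup.normalizer (Cfsg.thompsonSubgroupOf p (P : Subgroup G) : Set G), ∃ c ∈ Subgroup.centralizer {x : G | x ∈ (P : Subgroup G) ∧ (∀ y ∈ (P : Subgroup G), x * y = y * x) ∧ x ^ p = 1}, g = a * c := by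
  have hO : pPrimeCore p G = ⊥ := hF _ inferInstance CL.FF.pPrimeCore_coprime
  obtain ⟨c, hc, n, hn, h⟩ := CL.Transfer.exists_mul_of_stab
    (CL.Transfer.stab_of_isSolvable hp h3) (CL.centralizer_pCore_le hO) P g⁻¹
  refine ⟨n⁻¹, Subgroup.inv_mem _ hn, c⁻¹, Subgroup.inv_mem _ ?_, by
    rw [← mul_inv_rev, ← h, inv_inv]⟩
  refine Subgroup.centralizer_le (fun x hx => ?_) hc
  exact CL.FF.omegaZ_le_closure P (Subgroup.subset_closure
    ⟨⟨hx.1, Subgroup.mem_centralizer_iff.2 fun y hy => (hx.2.1 y hy).symm⟩, hx.2.2⟩)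

end Cfsg.Agent.S0109
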