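import Cfsg.Statements.S0110
import Cfsg.Agent.PGrp.Extraspecial

set_option autoImplicit false
open Cfsg

namespace Cfsg.Agent.S0110

/-- In a p-group G, an extraspecial subgroup E with [G, E] ≤ Z(E) satisfies G = E C_G(E). -/
theorem result {G : Type*} [Group G] [Finite G] {p : ℕ} [Fact p.Prime] (hG : IsPGroup p G) (E : Subgroup G) (hE : Cfsg.IsExtraspecial p E) (h : ⁅(⊤ : Subgroup G), E⁆ ≤ E ⊓ Subgroup.centralizer (E : Set G)) : E ⊔ Subgroup.centralizer (E : Set G) = ⊤ := by
  have hEn : E.Normal := Subgroup.commutator_top_left_le_iff.mp (h.trans inf_le_left)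
  have hZ : (Subgroup.center E).map E.subtype = E ⊓ Subgroup.centralizer (E : Set G) := by
    ext x
    constructor
    · rintro ⟨y, hy, rfl⟩
      exact ⟨y.2, fun g hg => congrArg Subtype.val (Subgroup.mem_center_iff.mp hy ⟨g, hg⟩)⟩
    · rintro ⟨h1, h2⟩
      exact ⟨⟨x, h1⟩, Subgroup.mem_center_iff.mpr fun g => Subtype.ext (h2 g g.2), rfl⟩
  have hcard : Nat.card (E ⊓ Subgroup.centralizer (E : Set G) : Subgroup G) = p := by
    rw [← hZ, Subgroup.card_map_of_injective E.subtype_injective, hE.2]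
  have : IsCyclic (E ⊓ Subgroup.centralizer (E : Set G) : Subgroup G) :=
    isCyclic_of_prime_card hcard
  have hc := CL.PGrp.le_center_of_card_eq_prime hG _ hcard
  have hc' : E ⊓ Subgroup.centralizer (E : Set G) ≤
      Subgroup.centralizer ((⊤ : Subgroup G) : Set G) :=
    hc.trans (Subgroup.center_le_centralizer _)
  rw [eq_top_iff]
  intro g _
  obtain ⟨e, he, c, hc, rfl⟩ :=
    CL.PGrp.sup_inf_centralizer_eq_of_pairing ⊤ E _ le_top h hc' hc' g trivial
  exact Subgroup.mul_mem_sup he hc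

end Cfsg.Agent.S0110
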