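import Cfsg.Statements.S0115
import Cfsg.Agent.PGrp.Taussky

set_option autoImplicit false
open Cfsg

namespace Cfsg.Agent.S0115

/-- A 2-group of order 2^n, n ≥ 3, is of maximal class exactly when its commutator quotient is a Klein four-group. -/
theorem result {X : Type*} [Group X] [Finite X] (n : ℕ) (hn : 3 ≤ n) (hX : Nat.card X = 2 ^ n) : Group.nilpotencyClass X = n - 1 ↔ IsKleinFour (X ⧸ commutator X) := by
  obtain ⟨m, rfl⟩ : ∃ m, n = m + 3 := ⟨n - 3, by omega⟩
  refine ⟨fun hc => ?_, fun h => CL.PGrp.nilpotencyClass_of_index_commutator_eq_four hX h.card_four⟩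
  have h4 : (commutator X).index = 4 := CL.PGrp.index_commutator_of_maximal_class hX hc
  have hG : IsPGroup 2 X := IsPGroup.of_card hX
  refine ⟨h4, ?_⟩
  rw [← not_isCyclic_iff_exponent_eq_prime Nat.prime_two h4]
  intro h
  have := CL.PGrp.isCyclic_of_isCyclic_quotient_commutator hG h
  rw [commutator_eq_bot, Subgroup.index_bot, hX] at h4
  have h5 : 2 ^ (m + 3) = 2 ^ 2 := h4
  have := Nat.pow_right_injective le_rfl h5
  omega

end Cfsg.Agent.S0115
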