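import Cfsg.Statements.S0116
import Cfsg.Agent.Transfer.Alperin

set_option autoImplicit false
open Cfsg

namespace Cfsg.Agent.S0116

open CL.Transfer Subgroup
open scoped Pointwise

section aux

variable {G : Type*} [Group G] {p : ℕ}

/-- `x` normalizes the tame intersection `P ⊓ Q`. -/
def Tame (P Q : Sylow p G) (x : G) : Prop :=
  x ∈ normalizer ((((P : Subgroup G) ⊓ (Q : Subgroup G)) : Subgroup G) : Set G) ∧
  ¬ p ∣ ((P : Subgroup G) ⊓ normalizer ((((P : Subgroup G) ⊓ (Q : Subgroup G)) : Subgroup G) :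
    Set G)).relIndex (normalizer ((((P : Subgroup G) ⊓ (Q : Subgroup G)) : Subgroup G) : Set G)) ∧
  ¬ p ∣ ((Q : Subgroup G) ⊓ normalizer ((((P : Subgroup G) ⊓ (Q : Subgroup G)) : Subgroup G) :
    Set G)).relIndex (normalizer ((((P : Subgroup G) ⊓ (Q : Subgroup G)) : Subgroup G) : Set G))

/-- The chain condition, indexed by positions in a list. -/
def Chain (P : Sylow p G) (A : Subgroup G) (l : List (Sylow p G × G)) : Prop :=
  ∀ (i : ℕ) (h : i < l.length), Tame P l[i].1 l[i].2 ∧
    ∀ a ∈ A, ((l.map Prod.snd).take i).prod⁻¹ * a * ((l.map Prod.snd).take i).prod ∈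
      (P : Subgroup G) ⊓ (l[i].1 : Subgroup G)

theorem chain_append {P : Sylow p G} {A : Subgroup G} {l m : List (Sylow p G × G)}
    (h1 : Chain P A l) (h2 : Chain P (MulAut.conj (l.map Prod.snd).prod⁻¹ • A) m) :
    Chain P A (l ++ m) := by
  intro i hi
  by_cases h : i < l.length
  · rw [List.getElem_append_left h, List.map_append,
      List.take_append_of_le_length (by simpa using h.le)]
    exact h1 i h
  · have h' : l.length ≤ i := not_lt.1 h
    rw [List.getElem_append_right h', List.map_append, List.take_append, List.prod_append,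
      List.take_of_length_le (by simpa using h'), List.length_map]
    have hi' : i - l.length < m.length := by
      rw [List.length_append] at hi; omega
    refine ⟨(h2 _ hi').1, fun a ha => ?_⟩
    have := (h2 _ hi').2 _ (conj_mem_conj_smul.2 ha)
    simpa [mul_assoc] using this

theorem exists_chain [Finite G] [Fact p.Prime] (P : Sylow p G) (A : Subgroup G) (g : G)
    (hA : A ≤ P) (hg : MulAut.conj g • A ≤ P) :
    ∃ l : List (Sylow p G × G), (l.map Prod.snd).prod = g⁻¹ ∧ Chain P A l := by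
  refine alperin_induction_tame P
    (fun A g => ∃ l : List (Sylow p G × G), (l.map Prod.snd).prod = g⁻¹ ∧ Chain P A l)
    ?_ ?_ ?_ A g hA hg
  · rintro A B g hAB - - ⟨l, hl, h⟩
    exact ⟨l, hl, fun i hi => ⟨(h i hi).1, fun a ha => (h i hi).2 a (hAB ha)⟩⟩
  · rintro A g h - - - ⟨l, hl, h1⟩ ⟨m, hm, h2⟩
    refine ⟨l ++ m, by simp [hl, hm], chain_append h1 ?_⟩
    rwa [hl, inv_inv]
  · intro D x hD hx e
    refine ⟨[(x⁻¹ • P, x⁻¹)], by simp, fun i hi => ?_⟩
    obtain rfl : i = 0 := by simpa using hi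
    have e' : (P : Subgroup G) ⊓ ((x⁻¹ • P : Sylow p G) : Subgroup G) = D := e
    refine ⟨⟨?_, ?_, ?_⟩, ?_⟩ <;> simp only [List.getElem_cons_zero, e']
    · exact inv_mem hx
    · exact hD.2.not_dvd
    · have := (hD.2.smul_of_mem_normalizer (le_normalizer (inv_mem hx))).not_dvd
      rwa [conj_smul_inf, conj_smul_eq_of_mem (inv_mem hx)] at this
    · simp

end aux

/-- The Alperin fusion Theorem states that conjugation between subsets of a Sylow p-subgroup P factors through normalizers of tame intersections P ∩ Q_i with other Sylow p-subgroups, carrying the subset along step by step. -/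
theorem result {G : Type*} [Group G] [Finite G] {p : ℕ} [Fact p.Prime] (P : Sylow p G) (A : Set G) (g : G) (hA : A ⊆ (P : Set G)) (hAg : (fun a => g⁻¹ * a * g) '' A ⊆ (P : Set G)) : ∃ (n : ℕ) (Q : Fin n → Sylow p G) (x : Fin n → G), (List.ofFn x).prod = g ∧ (∀ i : Fin n, x i ∈ Subgroup.normalizer ((((P : Subgroup G) ⊓ (Q i : Subgroup G)) : Subgroup G) : Set G) ∧ ¬ p ∣ ((P : Subgroup G) ⊓ Subgroup.normalizer ((((P : Subgroup G) ⊓ (Q i : Subgroup G)) : Subgroup G) : Set G)).relIndex (Subgroup.normalizer ((((P : Subgroup G) ⊓ (Q i : Subgroup G)) : Subgroup G) : Set G)) ∧ ¬ p ∣ ((Q i : Subgroup G) ⊓ Subgroup.normalizer ((((P : Subgroup G) ⊓ (Q i : Subgroup G)) : Subgroup G) : Set G)).relIndex (Subgroup.normalizer ((((P : Subgroup G) ⊓ (Q i : Subgroup G)) : Subgroup G) : Set G))) ∧ (∀ h : 0 < n, A ⊆ (((P : Subgroup G) ⊓ (Q ⟨0, h⟩ : Subgroup G) : Subgroup G) : Set G)) ∧ ∀ i : Fin n, ∀ h : i.val + 1 < n, (fun a => (((List.ofFn x).take (i.val + 1)).prod)⁻¹ * a * ((List.ofFn x).take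 (i.val + 1)).prod) '' A ⊆ (((P : Subgroup G) ⊓ (Q ⟨i.val + 1, h⟩ : Subgroup G) : Subgroup G) : Set G) := by
  obtain ⟨l, hl, h⟩ := exists_chain P (closure A) g⁻¹ ((closure_le _).2 hA) (by
    rw [conj_smul_eq_map, MonoidHom.map_closure, closure_le]
    rintro _ ⟨a, ha, rfl⟩
    simpa using hAg ⟨a, ha, rfl⟩)
  have e : List.ofFn (fun i : Fin l.length => l[i].2) = l.map Prod.snd := by
    apply List.ext_getElem <;> simp
  refine ⟨l.length, fun i => l[i].1, fun i => l[i].2, by rw [e, hl, inv_inv], fun i => (h i i.2).1,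
    fun h0 a ha => ?_, fun i hi => ?_⟩
  · have := (h 0 h0).2 a (subset_closure ha)
    rw [List.take_zero, List.prod_nil, inv_one, one_mul, mul_one] at this
    exact this
  · rintro _ ⟨a, ha, rfl⟩
    rw [e]
    exact (h _ hi).2 a (subset_closure ha)

end Cfsg.Agent.S0116
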