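import Cfsg.Statements.S0119
import Cfsg.Agent.PGrp.Critical
-- import your own Cfsg.Agent.* helpers here

set_option autoImplicit false
open Cfsg
open scoped commutatorElement

namespace Cfsg.Agent.S0119

/-- If a p'-group A of automorphisms of a p-group G satisfies G = [G, A] and acts trivially on every characteristic abelian subgroup, then G is special with centre equal to the fixed points of A. -/
theorem result {G : Type*} [Group G] [Finite G] {p : ℕ} [Fact p.Prime] (hG : IsPGroup p G) (A : Subgroup (MulAut G)) (hA : Nat.Coprime (Nat.card A) p) (hGA : Subgroup.closure {x : G | ∃ g : G, ∃ a ∈ A, x = g⁻¹ * a g} = ⊤) (hchar : ∀ H : Subgroup G, H.Characteristic → IsMulCommutative H → ∀ a ∈ A, ∀ h ∈ H, a h = h) : Cfsg.IsSpecial p G ∧ (∀ g : G, (g ∈ Subgroup.center G ↔ ∀ a ∈ A, a g = g)) := by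
  classical
  have hAfin : Fintype A := Fintype.ofFinite _
  -- every characteristic abelian subgroup is central
  have hcen : ∀ H : Subgroup G, H.Characteristic → IsMulCommutative H → H ≤ Subgroup.center G := by
    intro H hH hc
    have : (⊤ : Subgroup G) ≤ Subgroup.centralizer (H : Set G) := by
      rw [← hGA, Subgroup.closure_le]
      rintro _ ⟨g, a, ha, rfl⟩ y hy
      have h1 := hchar H hH hc a ha _ ((inferInstance : H.Normal).conj_mem y hy g)
      rw [map_mul, map_mul, map_inv, hchar H hH hc a ha y hy] at h1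
      calc y * (g⁻¹ * a g) = g⁻¹ * (g * y * g⁻¹) * a g := by group
        _ = g⁻¹ * (a g * y * (a g)⁻¹) * a g := by rw [h1]
        _ = g⁻¹ * a g * y := by group
    intro h hh
    exact Subgroup.mem_center_iff.mpr fun g => (this (Subgroup.mem_top g) h hh).symm
  -- class at most two
  have h2 : commutator G ≤ Subgroup.center G := by
    by_contra h
    obtain ⟨x, hx1, hx2, -, hx3⟩ := CL.PGrp.exists_central_mod hG _ _ h
    have hz : ⁅(⊤ : Subgroup G), Subgroup.center G ⊔ Subgroup.zpowers x⁆ ≤ Subgroup.center G :=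
      Subgroup.commutator_le.mpr fun g _ y hy => CL.PGrp.commutator_mem_of_mem_sup_zpowers hx3 hy g
    have h3 : ⁅⁅(⊤ : Subgroup G), (⊤ : Subgroup G)⁆, Subgroup.center G ⊔ Subgroup.zpowers x⁆ = ⊥ :=
      Subgroup.commutator_commutator_eq_bot_of_rotate
        (Subgroup.commutator_top_right_eq_bot_iff_le_center.mpr hz)
        (Subgroup.commutator_top_right_eq_bot_iff_le_center.mpr
          (by rwa [Subgroup.commutator_comm]))
    rw [Subgroup.commutator_comm, Subgroup.commutator_eq_bot_iff_le_centralizer] at h3
    refine hx2 (hcen (commutator G ⊓ Subgroup.centralizer (commutator G : Set G)) inferInstance ?_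
      ⟨hx1, h3 (Subgroup.mem_sup_right (Subgroup.mem_zpowers x))⟩)
    rw [← Subgroup.le_centralizer_iff_isMulCommutative]
    exact inf_le_right.trans (Subgroup.centralizer_le (SetLike.coe_subset_coe.mpr inf_le_left))
  -- fixed points lie in the commutator subgroup
  have h3 : ∀ g : G, (∀ a ∈ A, a g = g) → g ∈ commutator G := by
    let τ : G →* Abelianization G :=
      ∏ a : A, Abelianization.of.comp (a : MulAut G).toMonoidHom
    have hτ : ∀ g, τ g = ∏ a : A, Abelianization.of ((a : MulAut G) g) := fun g => by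
      simp [τ]
    have hker : (⊤ : Subgroup G) ≤ τ.ker := by
      rw [← hGA, Subgroup.closure_le]
      rintro _ ⟨g, a, ha, rfl⟩
      rw [SetLike.mem_coe, MonoidHom.mem_ker, map_mul, map_inv, inv_mul_eq_one, hτ, hτ]
      exact (Fintype.prod_equiv (Equiv.mulRight (⟨a, ha⟩ : A)) _ _ fun b => by simp).symm
    intro g hg
    have h1 : τ g = 1 := hker (Subgroup.mem_top g)
    rw [hτ, Finset.prod_congr rfl (fun (a : A) _ => congrArg Abelianization.of (hg a a.2)),
      Finset.prod_const, Finset.card_univ, ← Nat.card_eq_fintype_card] at h1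
    have h4 := (hG.to_quotient (commutator G)).orderOf_coprime hA.symm (Abelianization.of g)
    have h5 : orderOf (Abelianization.of g) = 1 :=
      Nat.eq_one_of_dvd_coprimes h4 dvd_rfl (orderOf_dvd_of_pow_eq_one h1)
    rw [orderOf_eq_one_iff] at h5
    exact (QuotientGroup.eq_one_iff g).mp h5
  have h4 : ∀ g ∈ Subgroup.center G, ∀ a ∈ A, a g = g := fun g hg a ha =>
    hchar _ inferInstance inferInstance a ha g hg
  have h5 : commutator G = Subgroup.center G := le_antisymm h2 fun g hg => h3 g (h4 g hg)
  -- `p`-th powers are central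
  have hc := CL.PGrp.commute_of_commutator_le_center h2
  have h6 : ∀ k : ℕ, (∀ x : G, x ^ p ^ (k + 1) ∈ Subgroup.center G) →
      ∀ x : G, x ^ p ∈ Subgroup.center G := by
    intro k
    induction k with
    | zero => simp
    | succ k ih =>
      intro h
      apply ih
      intro x
      refine hcen (Subgroup.closure (Set.range fun x : G => x ^ p ^ (k + 1))) ?_ ?_
        (Subgroup.subset_closure ⟨x, rfl⟩)
      · rw [Subgroup.characteristic_iff_map_le]
        intro φ
        rw [MonoidHom.map_closure]
        apply Subgroup.closure_mono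
        rintro _ ⟨_, ⟨y, rfl⟩, rfl⟩
        exact ⟨φ y, by simp⟩
      · apply Subgroup.isMulCommutative_closure
        rintro _ ⟨a, rfl⟩ _ ⟨b, rfl⟩
        rw [← commutatorElement_eq_one_iff_mul_comm, CL.PGrp.commutator_pow_right (hc _ _ _),
          ← CL.PGrp.commutator_pow_left (hc _ _ _), commutatorElement_eq_one_iff_mul_comm,
          ← pow_mul, ← pow_add]
        have : k + 1 + (k + 1) = k + (k + 1 + 1) := by omega
        rw [this, pow_add, pow_mul]
        exact (Subgroup.mem_center_iff.mp (h _) b).symm
  obtain ⟨n, hn⟩ := IsPGroup.iff_card.mp hG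
  have h7 := h6 n fun x => by
    rw [pow_succ, pow_mul, ← hn, pow_card_eq_one', one_pow]
    exact one_mem _
  exact ⟨⟨hG, le_antisymm (CL.PGrp.frattini_le _ h2 h7) (h5 ▸ CL.PGrp.commutator_le_frattini hG),
    h5⟩, fun g => ⟨h4 g, fun hg => h2 (h3 g hg)⟩⟩

end Cfsg.Agent.S0119
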