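import Cfsg.Statements.S0122
import Cfsg.Agent.PGrp.Alperin
-- import your own Cfsg.Agent.* helpers here

set_option autoImplicit false
open Cfsg
open scoped commutatorElement

namespace Cfsg.Agent.S0122

open Subgroup CL.PGrp in
/-- An abelian subgroup of a finite `p`-group induces a group of order at most `p ^ 2` on a normal
subgroup of order `p ^ 3`. -/
theorem relIndex_centralizer_le {G : Type*} [Group G] [Finite G] {p : ℕ} [hp : Fact p.Prime]
    (hG : IsPGroup p G) (A E : Subgroup G) [A.Normal] (hA : Nat.card A = p ^ 3)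
    (hE : IsMulCommutative E) : (centralizer (A : Set G)).relIndex E ≤ p ^ 2 := by
  obtain ⟨K, x, hK, hc, -, -, hxc, rfl⟩ := exists_normal_index_prime_in hG A hA
  have hKab : IsMulCommutative K := IsPGroup.isMulCommutative_of_card_eq_prime_sq hc
  rw [centralizer_sup_eq, centralizer_zpowers_eq, inf_comm, ← Subgroup.relIndex_inf_mul_relIndex]
  by_cases h : E ≤ centralizer (K : Set G)
  · rw [Subgroup.relIndex_eq_one.mpr h, mul_one, ← hc]
    exact relIndex_centralizer_singleton_le _ x (K : Set G) fun g _ => hxc g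
  have h1 : (centralizer (K : Set G)).relIndex E ≤ p := by
    have := index_centralizer_le hG 2 K hc
    rw [← Subgroup.relIndex_top_right] at this
    refine (Subgroup.relIndex_le_of_le_right le_top ?_).trans (by simpa using this)
    rw [Subgroup.relIndex_top_right]
    exact Subgroup.index_ne_zero_of_finite
  have h2 : Nat.card (K ⊓ centralizer (E : Set G) : Subgroup G) ≤ p := by
    have hd : Nat.card (K ⊓ centralizer (E : Set G) : Subgroup G) ∣ p ^ 2 :=
      hc ▸ Subgroup.card_dvd_of_le inf_le_left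
    obtain ⟨i, hi, hi'⟩ := (Nat.dvd_prime_pow hp.out).mp hd
    have hi2 : i ≠ 2 := by
      rintro rfl
      have := Subgroup.eq_of_le_of_card_ge (inf_le_left : K ⊓ centralizer (E : Set G) ≤ K)
        (by rw [hi', hc])
      exact h (Subgroup.le_centralizer_iff.mp (this ▸ inf_le_right))
    rw [hi']
    calc p ^ i ≤ p ^ 1 := Nat.pow_le_pow_right hp.out.pos (by omega)
      _ = p := pow_one p
  have h3 := relIndex_centralizer_singleton_le (centralizer (K : Set G) ⊓ E) x
    ((K ⊓ centralizer (E : Set G) : Subgroup G) : Set G) (by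
      rintro e ⟨he1, he2⟩
      refine ⟨hxc e, fun e' he' => ?_⟩
      have c1 : Commute e' e := congrArg Subtype.val (mul_comm' (⟨e', he'⟩ : E) ⟨e, he2⟩)
      have c2 : Commute ⁅e', x⁆ e := he1 _ (hxc e')
      have c3 : Commute ⁅e', x⁆ ⁅e, x⁆ :=
        congrArg Subtype.val (mul_comm' (⟨_, hxc e'⟩ : K) ⟨_, hxc e⟩)
      have c4 : e' * x * e'⁻¹ = ⁅e', x⁆ * x := by rw [commutatorElement_def]; group
      rw [← mul_inv_eq_iff_eq_mul, conjugate_commutatorElement, c4, c1.eq, mul_inv_cancel_right,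
        commutatorElement_mul_right_eq_mul_conj, c2.symm.commutator_eq, one_mul, c3.eq,
        mul_inv_cancel_right])
  rw [sq]
  exact Nat.mul_le_mul (h3.trans h2) h1

/-- For odd p, a p-group containing an elementary abelian subgroup of order p^4 has a normal elementary abelian subgroup of order p^4. -/
theorem result {G : Type*} [Group G] [Finite G] {p : ℕ} [Fact p.Prime] (hp : p ≠ 2) (hG : IsPGroup p G) (E : Subgroup G) (hE : Cfsg.IsElementaryAbelian p E) (hE4 : Nat.card E = p ^ 4) : ∃ A : Subgroup G, A.Normal ∧ Cfsg.IsElementaryAbelian p A ∧ Nat.card A = p ^ 4 := by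
  have hp' : p.Prime := Fact.out
  have hodd : Odd p := hp'.odd_of_ne_two hp
  obtain ⟨A, -, hAn, hAab, hAe, hAC⟩ := CL.PGrp.exists_maximal_normal_elementary hp hG ⊥
    inferInstance (by simp)
  obtain ⟨k, hk⟩ := IsPGroup.iff_card.mp (hG.to_subgroup A)
  by_cases hk4 : 4 ≤ k
  · obtain ⟨M, hM1, hM2, hM3⟩ := CL.PGrp.exists_normal_le_card_eq hG A 4
      (hk ▸ Nat.pow_le_pow_right hp'.pos hk4)
    refine ⟨M, hM1, ⟨?_, fun a ha => hAe a (hM2 ha)⟩, hM3⟩
    rw [← Subgroup.le_centralizer_iff_isMulCommutative]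
    exact hM2.trans ((Subgroup.le_centralizer A).trans
      (Subgroup.centralizer_le (SetLike.coe_subset_coe.mpr hM2)))
  refine ⟨E, ?_, hE, hE4⟩
  have hEab := hE.1
  set C := Subgroup.centralizer (A : Set G) with hC
  have hEC : C ⊓ E = A ⊓ E := le_antisymm (fun x hx => ⟨hAC x hx.1 (hE.2 x hx.2), hx.2⟩)
    (inf_le_inf_right _ (Subgroup.le_centralizer A))
  have hAE : ¬ A ≤ E := by
    intro h
    have h1 : E ≤ C := Subgroup.le_centralizer_iff.mp (h.trans (Subgroup.le_centralizer E))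
    have h2 : E ≤ A := fun x hx => hAC x (h1 hx) (hE.2 x hx)
    have := Subgroup.card_le_of_le h2
    rw [hE4, hk, Nat.pow_le_pow_iff_right hp'.one_lt] at this
    exact hk4 this
  obtain ⟨j, hjk, hj⟩ := (Nat.dvd_prime_pow hp').mp
    (hk ▸ Subgroup.card_dvd_of_le (inf_le_left : A ⊓ E ≤ A))
  have hjk' : j < k := by
    refine lt_of_le_of_ne hjk ?_
    rintro rfl
    have := Subgroup.eq_of_le_of_card_ge (inf_le_left : A ⊓ E ≤ A) (by rw [hj, hk])
    exact hAE (this ▸ inf_le_right)
  have hmul := CL.PGrp.card_inf_mul_relIndex C E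
  rw [hEC, hj, hE4] at hmul
  have hCi := CL.PGrp.index_centralizer_le hG k A hk
  have hCE : C.relIndex E ≤ C.index := by
    rw [← Subgroup.relIndex_top_right]
    refine Subgroup.relIndex_le_of_le_right le_top ?_
    rw [Subgroup.relIndex_top_right]
    exact Subgroup.index_ne_zero_of_finite
  have hk3 : k = 3 := by
    by_contra h3
    have h1 : p ^ 4 ≤ p ^ j * p ^ k.choose 2 := hmul ▸ Nat.mul_le_mul_left _ (hCE.trans hCi)
    rw [← pow_add, Nat.pow_le_pow_iff_right hp'.one_lt] at h1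
    have : k ≤ 2 := by omega
    interval_cases k <;> simp at h1 <;> omega
  subst hk3
  have hj2 : j = 2 := by
    have h1 : p ^ 4 ≤ p ^ j * p ^ 2 :=
      hmul ▸ Nat.mul_le_mul_left _ (relIndex_centralizer_le hG A E hk hEab)
    rw [← pow_add, Nat.pow_le_pow_iff_right hp'.one_lt] at h1
    omega
  subst hj2
  have hrel : C.relIndex E = p ^ 2 := by
    apply Nat.eq_of_mul_eq_mul_left (pow_pos hp'.pos 2)
    rw [hmul]; ring
  -- `D = C E` is normal
  have hD : (C ⊔ E).Normal := by
    have h1 := Subgroup.relIndex_mul_index (le_sup_left : C ≤ C ⊔ E)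
    rw [Subgroup.relIndex_sup_left, hrel] at h1
    obtain ⟨i, hi⟩ := hG.index (C ⊔ E)
    rw [hi] at h1
    have h2 : p ^ 2 * p ^ i ≤ p ^ 3 := h1 ▸ hCi
    rw [← pow_add, Nat.pow_le_pow_iff_right hp'.one_lt] at h2
    have : i ≤ 1 := by omega
    interval_cases i
    · rw [Subgroup.index_eq_one.mp hi]
      infer_instance
    · exact CL.PGrp.normal_of_index_eq_prime hG (by simpa using hi)
  -- `W = A E` has order `p ^ 5`
  have hW : Nat.card (A ⊔ E : Subgroup G) = p ^ 5 := by
    have h1 := CL.PGrp.card_inf_mul_relIndex A E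
    rw [hj, hE4] at h1
    have h2 : A.relIndex E = p ^ 2 := by
      apply Nat.eq_of_mul_eq_mul_left (pow_pos hp'.pos 2)
      rw [h1]; ring
    rw [← CL.PGrp.card_mul_relIndex (le_sup_left : A ≤ A ⊔ E), Subgroup.relIndex_sup_left, h2, hk]
    ring
  have hEW : E.relIndex (A ⊔ E) = p := by
    have h1 := CL.PGrp.card_mul_relIndex (le_sup_right : E ≤ A ⊔ E)
    rw [hW, hE4] at h1
    apply Nat.eq_of_mul_eq_mul_left (pow_pos hp'.pos 4)
    rw [h1]; ring
  -- uniqueness of `E` in `W`
  have huniq : ∀ E' : Subgroup G, E' ≤ A ⊔ E → IsMulCommutative E' → Nat.card E' = p ^ 4 →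
      E' = E := by
    intro E' h1 h2 h3
    by_contra hne
    have hnle : ¬ E' ≤ E := fun h => hne (Subgroup.eq_of_le_of_card_ge h (by rw [h3, hE4]))
    have hsup : E ⊔ E' = A ⊔ E := by
      apply Subgroup.eq_of_le_of_card_ge (sup_le le_sup_right h1)
      obtain ⟨i, hi⟩ := IsPGroup.iff_card.mp (hG.to_subgroup (E ⊔ E'))
      have h4 : Nat.card E < Nat.card (E ⊔ E' : Subgroup G) := by
        refine lt_of_le_of_ne (Subgroup.card_le_of_le le_sup_left) fun h => hnle ?_
        rw [Subgroup.eq_of_le_of_card_ge (le_sup_left : E ≤ E ⊔ E') h.ge]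
        exact le_sup_right
      rw [hE4, hi, Nat.pow_lt_pow_iff_right hp'.one_lt] at h4
      rw [hW, hi]
      exact Nat.pow_le_pow_right hp'.pos h4
    have h5 : E ⊓ E' ≤ A ⊓ E := by
      rw [← hEC]
      refine le_inf ?_ inf_le_left
      have : E ⊓ E' ≤ Subgroup.centralizer ((E ⊔ E' : Subgroup G) : Set G) := by
        rw [CL.PGrp.centralizer_sup_eq]
        exact inf_le_inf (Subgroup.le_centralizer E) (Subgroup.le_centralizer E')
      rw [hsup] at this
      exact this.trans (Subgroup.centralizer_le (SetLike.coe_subset_coe.mpr le_sup_left))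
    have h6 := CL.PGrp.card_inf_mul_relIndex E E'
    have h7 : E.relIndex E' ≤ p :=
      hEW ▸ Subgroup.relIndex_le_of_le_right h1 (by rw [hEW]; exact hp'.ne_zero)
    have h8 : p ^ 4 ≤ p ^ 2 * p := by
      rw [← h3, ← h6, ← hj]
      exact Nat.mul_le_mul (Subgroup.card_le_of_le h5) h7
    rw [← pow_succ, Nat.pow_le_pow_iff_right hp'.one_lt] at h8
    omega
  by_contra hne
  have hN : Subgroup.normalizer (E : Set G) < ⊤ := by
    rw [lt_top_iff_ne_top, Ne, Subgroup.normalizer_eq_top_iff]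
    exact hne
  have := hG.isNilpotent
  obtain ⟨g, hg1, hg2⟩ := SetLike.exists_of_lt
    (Group.normalizerCondition_of_isNilpotent _ hN)
  apply hg2
  have hE' : E.map (MulAut.conj g).toMonoidHom = E := by
    apply huniq
    · rintro _ ⟨e₀, he₀, rfl⟩
      have hx1 : g * e₀ * g⁻¹ ∈ Subgroup.normalizer (E : Set G) :=
        (Subgroup.mem_normalizer_iff.mp hg1 e₀).mp (Subgroup.le_normalizer he₀)
      have hx2 : g * e₀ * g⁻¹ ∈ C ⊔ E := hD.conj_mem _ (Subgroup.mem_sup_right he₀) g
      change g * e₀ * g⁻¹ ∈ A ⊔ E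
      rw [← SetLike.mem_coe, Subgroup.normal_mul] at hx2
      obtain ⟨c, hc, e, he, hce⟩ := hx2
      have hce' : c = g * e₀ * g⁻¹ * e⁻¹ := by
        rw [← hce]; simp
      have hx3 : g⁻¹ * e⁻¹ * g ∈ Subgroup.normalizer (E : Set G) := by
        rw [Subgroup.mem_normalizer_iff.mp hg1]
        simpa [mul_assoc] using Subgroup.le_normalizer (inv_mem he)
      have c1 : ⁅e⁻¹, g * e₀ * g⁻¹⁆ ∈ E := by
        rw [commutatorElement_def, mul_assoc, mul_assoc]
        refine mul_mem (inv_mem he) ?_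
        rw [← mul_assoc, inv_inv]
        exact (Subgroup.mem_normalizer_iff.mp hx1 e).mp he
      have c2 : ⁅g⁻¹ * e⁻¹ * g, e₀⁆ ∈ E := by
        rw [commutatorElement_def]
        exact mul_mem ((Subgroup.mem_normalizer_iff.mp hx3 e₀).mp he₀) (inv_mem he₀)
      have c3 : Commute ⁅g⁻¹ * e⁻¹ * g, e₀⁆ e₀ :=
        congrArg Subtype.val (mul_comm' (⟨_, c2⟩ : E) ⟨_, he₀⟩)
      have c4 : Commute ⁅e⁻¹, g * e₀ * g⁻¹⁆ (g * e₀ * g⁻¹) := by
        have := c3.map (MulAut.conj g)
        simpa [map_commutatorElement, mul_assoc] using this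
      have c5 : Commute ⁅e⁻¹, g * e₀ * g⁻¹⁆ e⁻¹ :=
        congrArg Subtype.val (mul_comm' (⟨_, c1⟩ : E) ⟨_, inv_mem he⟩)
      have c6 : c ^ p = 1 := by
        rw [hce', CL.PGrp.mul_pow_of_odd' c4 c5 hodd (by rw [inv_pow, hE.2 e he]; simp), conj_pow,
          inv_pow, hE.2 e he, hE.2 e₀ he₀]
        simp
      rw [← hce]
      exact Subgroup.mul_mem_sup (hAC c hc c6) he
    · infer_instance
    · rw [Subgroup.card_map_of_injective (MulAut.conj g).injective, hE4]
  rw [Subgroup.mem_normalizer_iff]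
  intro x
  conv_rhs => rw [← hE']
  exact (Subgroup.mem_map_iff_mem (f := (MulAut.conj g).toMonoidHom) (MulAut.conj g).injective).symm

end Cfsg.Agent.S0122
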