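import Cfsg.Agent.Base
import Cfsg.Statements.S0125
import Cfsg.Agent.Transfer.AbSylow
import Cfsg.Agent.Transfer.PCompl
import Cfsg.Agent.Transfer.SylowIn

set_option autoImplicit false
open Cfsg

namespace Cfsg.Agent.S0125

/-- The centralizer of a self-centralizing normal subgroup A of a Sylow p-subgroup is the direct product of A with a normal p'-subgroup. -/
theorem result {G : Type*} [Group G] [Finite G] {p : ℕ} [Fact p.Prime] (R : Sylow p G) (A : Subgroup G) (hAR : A ≤ (R : Subgroup G)) (hAn : (R : Subgroup G) ≤ Subgroup.normalizer (A : Set G)) (hC : (R : Subgroup G) ⊓ Subgroup.centralizer (A : Set G) = A) : ∃ H : Subgroup G, H ≤ Subgroup.centralizer (A : Set G) ∧ Nat.Coprime (Nat.card H) p ∧ Subgroup.centralizer (A : Set G) ≤ Subgroup.normalizer (H : Set G) ∧ H ⊓ A = ⊥ ∧ H ⊔ A = Subgroup.centralizer (A : Set G) := by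
  set C := Subgroup.centralizer (A : Set G) with hCdef
  have hAC : A ≤ C := hC.ge.trans inf_le_right
  have h1 : CL.Transfer.IsSylowIn p A C := by
    have := (CL.Transfer.isSylowIn_of_le R hAn).inf_normal (N := C)
      (Subgroup.centralizer_le_normalizer _) (CL.Transfer.normalizer_le_normalizer_centralizer A)
    rwa [hC] at this
  have h2 : Subgroup.normalizer (h1.toSylow : Set C) ≤ Subgroup.centralizer (h1.toSylow : Set C) := by
    intro x _ y hy
    exact Subtype.ext (x.2 y hy)
  have h3 := MonoidHom.ker_transferSylow_isComplement' h1.toSylow h2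
  set K := (MonoidHom.transferSylow h1.toSylow h2).ker with hK
  refine ⟨K.map C.subtype, Subgroup.map_subtype_le _, ?_, ?_, ?_, ?_⟩
  · rw [Subgroup.card_map_of_injective C.subtype_injective, Nat.coprime_comm,
      Nat.Prime.coprime_iff_not_dvd Fact.out]
    exact MonoidHom.not_dvd_card_ker_transferSylow _ h2
  · have : K.Normal := inferInstance
    have h4 := Subgroup.le_normalizer_map C.subtype (H := K)
    rwa [Subgroup.normalizer_eq_top, ← MonoidHom.range_eq_map, Subgroup.range_subtype] at h4
  · rw [← h1.map_toSylow, ← Subgroup.map_inf _ _ _ C.subtype_injective, h3.disjoint.eq_bot,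
      Subgroup.map_bot]
  · conv_lhs => rw [← h1.map_toSylow]
    rw [← Subgroup.map_sup, h3.sup_eq_top, ← MonoidHom.range_eq_map, Subgroup.range_subtype]

end Cfsg.Agent.S0125
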