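import Cfsg.Agent.Base
import Cfsg.Statements.S0131
import Cfsg.Agent.Transfer.Focal

set_option autoImplicit false
open Cfsg

namespace Cfsg.Agent.S0131

/-- P/P' has a normal complement in G exactly when the focal subgroup G' ∩ P is as small as possible, namely P'. -/
theorem result {G : Type*} [Group G] [Finite G] {p : ℕ} [Fact p.Prime] (P : Sylow p G) : (∃ N : Subgroup G, N.Normal ∧ N ⊓ (P : Subgroup G) = ⁅(P : Subgroup G), (P : Subgroup G)⁆ ∧ N ⊔ (P : Subgroup G) = ⊤) ↔ commutator G ⊓ (P : Subgroup G) = ⁅(P : Subgroup G), (P : Subgroup G)⁆ := by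
  constructor
  · rintro ⟨N, hN, h1, h2⟩
    apply le_antisymm
    · rw [← h1]
      refine inf_le_inf_right _ ?_
      have hsurj : (P : Subgroup G).map (QuotientGroup.mk' N) = ⊤ := by
        have := congrArg (Subgroup.map (QuotientGroup.mk' N)) h2
        rw [Subgroup.map_sup, QuotientGroup.map_mk'_self, bot_sup_eq,
          Subgroup.map_top_of_surjective _ (QuotientGroup.mk'_surjective N)] at this
        exact this
      have h3 : (commutator G).map (QuotientGroup.mk' N) = ⊥ := by
        rw [commutator_def, Subgroup.map_commutator,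
          Subgroup.map_top_of_surjective _ (QuotientGroup.mk'_surjective N), ← hsurj,
          ← Subgroup.map_commutator, Subgroup.map_eq_bot_iff, QuotientGroup.ker_mk', ← h1]
        exact inf_le_left
      rwa [Subgroup.map_eq_bot_iff, QuotientGroup.ker_mk'] at h3
    · exact le_inf (Subgroup.commutator_mono le_top le_top) (Subgroup.commutator_le_self _)
  · intro h
    have hc := CL.Focal.coprime_focal_of_hall (P : Subgroup G) P.card_coprime_index
    refine ⟨(P : Subgroup G).transferFocal.ker, inferInstance, ?_,
      CL.Focal.ker_transferFocal_sup _ hc⟩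
    rw [CL.Focal.ker_transferFocal_inf _ hc, ← CL.Focal.commutator_inf_eq_focal _ hc, h]

end Cfsg.Agent.S0131
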