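import Cfsg.Statements.S0132
import Cfsg.Agent.Transfer.Fusion

set_option autoImplicit false
open Cfsg

namespace Cfsg.Agent.S0132

open CL.Transfer Subgroup

/-- A minimal non-p-nilpotent finite group is a minimal non-nilpotent group with a normal Sylow p-subgroup. -/
theorem result {G : Type*} [Group G] [Finite G] {p : ℕ} [Fact p.Prime] (h1 : ¬ Cfsg.HasNormalPComplement p G) (h2 : ∀ H : Subgroup G, H ≠ ⊤ → Cfsg.HasNormalPComplement p H) : (∀ H : Subgroup G, H ≠ ⊤ → Group.IsNilpotent H) ∧ ¬ Group.IsNilpotent G ∧ ∀ P : Sylow p G, (P : Subgroup G).Normal := by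
  obtain ⟨Q, g, q, k, hQ, hq, hqp, hg, hgN, hgC⟩ := exists_of_not_hasNormalPComplement default h1
  have hp : p.Prime := Fact.out
  have hQp : IsPGroup p Q := (default : Sylow p G).isPGroup'.to_le hQ
  have hcop : (orderOf g).Coprime p := hg ▸ ((Nat.coprime_primes hq hp).2 hqp).pow_left k
  have htop : Q ⊔ zpowers g = ⊤ := by
    by_contra hne
    exact hgC (mem_centralizer_of_hasNormalPComplement_of_le (h2 _ hne) hQp le_sup_left
      (le_sup_right (a := Q) (mem_zpowers g)) hgN hcop)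
  have hQn : Q.Normal := by
    rw [← normalizer_eq_top_iff, eq_top_iff, ← htop]
    exact sup_le le_normalizer (zpowers_le.2 hgN)
  have := Fact.mk hq
  have hquot : IsPGroup q (G ⧸ Q) := by
    intro x
    obtain ⟨y, rfl⟩ := QuotientGroup.mk_surjective x
    obtain ⟨a, ha, b, ⟨i, rfl⟩, rfl⟩ := mem_sup_of_normal_left.1 (htop ▸ mem_top y)
    refine ⟨k, ?_⟩
    rw [QuotientGroup.mk_mul, (QuotientGroup.eq_one_iff a).2 ha, one_mul, ← QuotientGroup.mk_pow,
      ← zpow_natCast, ← zpow_mul, mul_comm, zpow_mul, zpow_natCast, ← hg, pow_orderOf_eq_one,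
      one_zpow, QuotientGroup.mk_one]
  obtain ⟨j, hj⟩ := IsPGroup.iff_card.1 hQp
  obtain ⟨l, hl⟩ := IsPGroup.iff_card.1 hquot
  have hqG : HasNormalPComplement q G := hasNormalPComplement_of_normal' Q
    (fun h => hqp ((Nat.prime_dvd_prime_iff_eq hq hp).1 (hq.dvd_of_dvd_pow (hj ▸ h)))) hquot
  refine ⟨fun H hH => isNilpotent_of_forall_hasNormalPComplement fun r hr hd => ?_,
    fun _ => h1 hasNormalPComplement_of_isNilpotent, fun P => ?_⟩
  · have h3 := hd.trans (card_subgroup_dvd_card H)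
    rw [← Q.card_mul_index, hj, index_eq_card, hl, hr.dvd_mul] at h3
    rcases h3 with h3 | h3
    · obtain rfl := (Nat.prime_dvd_prime_iff_eq hr hp).1 (hr.dvd_of_dvd_pow h3)
      exact h2 H hH
    · obtain rfl := (Nat.prime_dvd_prime_iff_eq hr hq).1 (hr.dvd_of_dvd_pow h3)
      exact hasNormalPComplement_subgroup hqG H
  · let P₀ : Sylow p G := hQp.toSylow (by
      rw [index_eq_card, hl]
      exact fun h => hqp ((Nat.prime_dvd_prime_iff_eq hp hq).1 (hp.dvd_of_dvd_pow h)).symm)
    have := Sylow.unique_of_normal P₀ hQn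
    rw [Subsingleton.elim P P₀]
    exact hQn

end Cfsg.Agent.S0132
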