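import Cfsg.Statements.S0162
import Cfsg.Agent.Char.FS
import Cfsg.Agent.Char.Integral
import Cfsg.Agent.Auto.ACL_Char_irrConjEquiv_33897c

set_option autoImplicit false
open Cfsg

namespace Cfsg.Agent.S0162

/-- If a finite group has odd order, its order is congruent to its number of conjugacy classes modulo 16. -/
theorem result {G : Type*} [Group G] [Finite G] (hodd : Odd (Nat.card G)) : Nat.card G ≡ Nat.card (ConjClasses G) [MOD 16] := by
  classical
  have hdeg : ∀ χ : IrrCharacter G, Odd (CL.Char.deg (χ : G → ℂ)) := by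
    rintro ⟨χ, n, ρ, hρ, rfl⟩
    have := CL.Char.finrank_dvd_card ρ
    rw [CL.Char.deg_character]
    exact hodd.of_dvd_nat this
  -- each summand `deg χ ^ 2 - 1` is `8 * t χ`
  have h8 : ∀ χ : IrrCharacter G, ∃ t : ℕ, CL.Char.deg (χ : G → ℂ) ^ 2 = 8 * t + 1 := by
    intro χ
    obtain ⟨k, hk⟩ := hdeg χ
    obtain ⟨m, hm⟩ := Nat.even_mul_succ_self k
    exact ⟨m, by rw [hk]; nlinarith⟩
  choose t ht using h8
  have hsum := CL.Char.sum_deg_sq (G := G)
  simp only [ht, Finset.sum_add_distrib, ← Finset.mul_sum, Finset.sum_const, smul_eq_mul, mul_one,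
    Finset.card_univ, ← Nat.card_eq_fintype_card, CL.Char.card_irr_eq_card_conjClasses] at hsum
  have heven : (2 : ℕ) ∣ ∑ χ : IrrCharacter G, t χ := by
    rw [← ZMod.natCast_eq_zero_iff, Nat.cast_sum]
    have hc : ∀ χ : IrrCharacter G, t (CL.Char.irrConjEquiv G χ) = t χ := by
      intro χ
      have h1 := ht (CL.Char.irrConjEquiv G χ)
      have h2 : CL.Char.deg (CL.Char.irrConjEquiv G χ : G → ℂ) = CL.Char.deg (χ : G → ℂ) :=
        CL.Char.deg_eq_of_apply_one (by
          rw [CL.Char.irrConjEquiv_apply, CL.Char.irr_conj_apply_one χ.2, CL.Char.irr_cast_deg χ.2])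
      rw [h2, ht χ] at h1
      omega
    refine Finset.sum_involution (fun χ _ => CL.Char.irrConjEquiv G χ) (fun χ _ => ?_)
      (fun χ _ h0 => ?_) (fun χ _ => Finset.mem_univ _) (fun χ _ => ?_)
    · rw [hc]; exact CharTwo.add_self_eq_zero _
    · intro hfix
      apply h0
      have hχ : (χ : G → ℂ) = fun _ => 1 := by
        by_contra hne
        exact CL.Char.irr_conj_ne_of_odd hodd χ.2 hne (congrArg Subtype.val hfix)
      have h1 := ht χ
      rw [CL.Char.deg_eq_of_apply_one (n := 1) (by rw [hχ]; simp)] at h1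
      rw [show t χ = 0 by omega, Nat.cast_zero]
    · apply Subtype.ext
      funext g
      simp [CL.Char.irrConjEquiv_apply]
  obtain ⟨u, hu⟩ := heven
  rw [← hsum, hu]
  unfold Nat.ModEq
  omega

end Cfsg.Agent.S0162
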