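import Cfsg.Statements.S0167
import Cfsg.Agent.Char.FS

set_option autoImplicit false
open Cfsg

namespace Cfsg.Agent.S0167

open CL.Char
open scoped ComplexConjugate

/-- The number of ways of writing `g` as a commutator. -/
noncomputable def commCount (G : Type*) [Group G] (g : G) : ℂ :=
  Nat.card {p : G × G // p.1 * p.2 * p.1⁻¹ * p.2⁻¹ = g}

theorem isClassFunction_commCount {G : Type*} [Group G] : IsClassFunction G (commCount G) := by
  intro g h
  unfold commCount
  congr 1
  refine Nat.card_congr (Equiv.subtypeEquiv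
    ((MulAut.conj h⁻¹).toEquiv.prodCongr (MulAut.conj h⁻¹).toEquiv) fun s => ?_)
  simp only [MulEquiv.toEquiv_eq_coe, Equiv.prodCongr_apply, Prod.map_fst, Prod.map_snd,
    EquivLike.coe_coe, MulAut.conj_apply, inv_inv]
  constructor
  · intro hs
    calc _ = h⁻¹ * (s.1 * s.2 * s.1⁻¹ * s.2⁻¹) * h := by group
      _ = g := by rw [hs]; group
  · intro hs
    rw [← hs]; group

theorem sum_comm_char {G : Type*} [Group G] [Fintype G] {χ : G → ℂ} (hχ : IsIrrCharacter G χ) :
    ∑ p : G × G, χ (p.1 * p.2 * p.1⁻¹ * p.2⁻¹) = (Nat.card G : ℂ) ^ 2 / χ 1 := by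
  rw [Fintype.sum_prod_type_right]
  have h1 : ∀ b : G, ∑ a : G, χ (a * b * a⁻¹ * b⁻¹) =
      (Nat.card G : ℂ) / χ 1 * (χ b * conj (χ b)) := by
    intro b
    have := irr_sum_mul_conj hχ b⁻¹ b
    simp only [classFun_mul_comm (irr_isClassFunction hχ) b⁻¹] at this
    rw [this, char_apply_inv (irr_isCharacter hχ)]
    ring
  simp only [h1]
  rw [← Finset.mul_sum, ← card_mul_classInner, irr_inner_self hχ]
  ring

theorem commCount_eq {G : Type*} [Group G] [Finite G] (g : G) :
    commCount G g = Nat.card G * ∑ χ : IrrCharacter G, (χ : G → ℂ) g / (χ : G → ℂ) 1 := by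
  have := Fintype.ofFinite G
  rw [classFun_apply_eq_sum isClassFunction_commCount g, Finset.mul_sum]
  refine Finset.sum_congr rfl fun χ _ => ?_
  rw [classInner_def]
  unfold commCount
  rw [sum_card_fiber_mul (fun p : G × G => p.1 * p.2 * p.1⁻¹ * p.2⁻¹)
    (fun x => conj ((χ : G → ℂ) x)), sum_comm_char (irr_conj χ.2), irr_conj_apply_one χ.2]
  have := card_ne_zero (G := G)
  field_simp

/-- An element g of a finite group is a commutator if and only if the sum over the irreducible characters χ of χ g / χ 1 is nonzero. -/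
theorem result {G : Type*} [Group G] [Finite G] (g : G) : (∃ a b : G, g = a * b * a⁻¹ * b⁻¹) ↔ ∑ᶠ χ : Cfsg.IrrCharacter G, (χ : G → ℂ) g / (χ : G → ℂ) 1 ≠ 0 := by
  have := Fintype.ofFinite G
  rw [finsum_eq_sum_of_fintype]
  have h := commCount_eq g
  have hc := card_ne_zero (G := G)
  rw [← mul_ne_zero_iff_left hc, ← h]
  unfold commCount
  rw [Nat.cast_ne_zero, Nat.card_ne_zero]
  constructor
  · rintro ⟨a, b, rfl⟩
    exact ⟨⟨⟨(a, b), rfl⟩⟩, inferInstance⟩
  · rintro ⟨⟨⟨⟨a, b⟩, hab⟩⟩, -⟩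
    exact ⟨a, b, hab.symm⟩

end Cfsg.Agent.S0167
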