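import Cfsg.Statements.S0168
import Cfsg.Agent.Char.Basic
import Cfsg.Agent.Char.Values

set_option autoImplicit false
open Cfsg

namespace Cfsg.Agent.S0168

/-- The Burnside–Brauer Theorem. Let χ be the character of a faithful complex representation of a finite group, taking m distinct values. Then every irreducible character has nonzero inner product with χ ^ i for some i < m. -/
theorem result {G : Type*} [Group G] [Fintype G] {V : Type*} [AddCommGroup V] [Module ℂ V] [FiniteDimensional ℂ V] (ρ : Representation ℂ G V) (hfaithful : Function.Injective ρ) (ψ : G → ℂ) (hψ : Cfsg.IsIrrCharacter G ψ) : ∃ i : ℕ, i < Nat.card (Set.range ρ.character) ∧ Cfsg.classInner (fun g => ρ.character g ^ i) ψ ≠ 0 := by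
  classical
  by_contra hcon
  push Not at hcon
  set χ := ρ.character with hχ
  let s : Finset ℂ := Finset.univ.image χ
  have hs : Nat.card (Set.range χ) = s.card := by
    rw [← Set.ncard_coe_finset, Finset.coe_image, Finset.coe_univ, Set.image_univ]
    rfl
  have h1 : χ 1 ∈ s := Finset.mem_image_of_mem _ (Finset.mem_univ _)
  let P : Polynomial ℂ := Lagrange.basis s id (χ 1)
  have hdeg : P.natDegree < s.card := by
    rw [Lagrange.natDegree_basis (Set.injOn_id _) h1]
    have := Finset.card_pos.mpr ⟨_, h1⟩
    omega
  have hP : (fun g => P.eval (χ g)) =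
      ∑ i ∈ Finset.range s.card, P.coeff i • fun g => χ g ^ i := by
    funext g
    rw [Polynomial.eval_eq_sum_range' hdeg]
    simp [Finset.sum_apply]
  have h0 : classInner (fun g => P.eval (χ g)) ψ = 0 := by
    rw [hP, CL.Char.classInner_sum_left]
    refine Finset.sum_eq_zero fun i hi => ?_
    rw [CL.Char.classInner_smul_left, hcon i (by rw [hs]; exact Finset.mem_range.mp hi), mul_zero]
  rw [CL.Char.classInner_def, Finset.sum_eq_single 1] at h0
  · have h2 : P.eval (χ 1) = 1 := Lagrange.eval_basis_self (v := id) (Set.injOn_id _) h1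
    rw [h2, one_mul, mul_eq_zero, map_eq_zero] at h0
    rcases h0 with h0 | h0
    · exact inv_ne_zero CL.Char.card_ne_zero h0
    · exact CL.Char.irr_apply_one_ne_zero hψ h0
  · intro g _ hg
    have hne : χ 1 ≠ χ g := by
      intro h
      have := (CL.Char.character_eq_one_iff_mem_ker ρ g).mp h.symm
      exact hg (hfaithful (by rw [map_one]; exact this))
    have h2 : P.eval (χ g) = 0 := Lagrange.eval_basis_of_ne (v := id) hne
      (Finset.mem_image_of_mem _ (Finset.mem_univ _))
    rw [h2, zero_mul]
  · simp

end Cfsg.Agent.S0168
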