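import Cfsg.Agent.Base
import Cfsg.Statements.S0172
import Cfsg.Agent.Char.FrobChar
import Cfsg.Agent.Solv.Frobenius

set_option autoImplicit false
open Cfsg

namespace Cfsg.Agent.S0172

theorem sum_card_centralizer (G : Type*) [Group G] [Fintype G] :
    ∑ x : G, Nat.card (Subgroup.centralizer ({x} : Set G)) =
      Nat.card (ConjClasses G) * Nat.card G := by
  rw [← card_comm_eq_card_conjClasses_mul_card, ← Nat.card_sigma]
  refine Nat.card_congr ⟨fun p => ⟨(p.1, p.2), ?_⟩, fun p => ⟨p.1.1, ⟨p.1.2, ?_⟩⟩, fun _ => rfl,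
    fun _ => rfl⟩
  · exact (Subgroup.mem_centralizer_singleton_iff.1 p.2.2).symm
  · exact Subgroup.mem_centralizer_singleton_iff.2 p.2.symm

theorem card_centralizer_of_le {G : Type*} [Group G] (H : Subgroup G) (x : H)
    (h : Subgroup.centralizer ({(x : G)} : Set G) ≤ H) :
    Nat.card (Subgroup.centralizer ({(x : G)} : Set G)) =
      Nat.card (Subgroup.centralizer ({x} : Set H)) := by
  refine Nat.card_congr ⟨fun y => ⟨⟨y, h y.2⟩, ?_⟩, fun y => ⟨y.1, ?_⟩, fun _ => rfl, fun _ => rfl⟩
  · exact Subgroup.mem_centralizer_singleton_iff.2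
      (Subtype.ext (Subgroup.mem_centralizer_singleton_iff.1 y.2))
  · exact Subgroup.mem_centralizer_singleton_iff.2
      (congrArg Subtype.val (Subgroup.mem_centralizer_singleton_iff.1 y.2))

theorem card_centralizer_one (G : Type*) [Group G] :
    Nat.card (Subgroup.centralizer ({1} : Set G)) = Nat.card G := by
  have : Subgroup.centralizer ({1} : Set G) = ⊤ := by
    ext x; simp [Subgroup.mem_centralizer_singleton_iff]
  rw [this, Subgroup.card_top]

/-- Class number of a Frobenius group: if G = K H with K normal, K ⊓ H trivial and no non-identity element of H commuting with a non-identity element of K, then |H| * k(G) + 1 = |H| * k(H) + k(K), where k denotes the number of conjugacy classes. -/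
theorem result {G : Type*} [Group G] [Finite G] (K H : Subgroup G) [K.Normal] (hKH : K ⊓ H = ⊥) (hKH' : K ⊔ H = ⊤) (hfpf : ∀ h ∈ H, h ≠ 1 → ∀ k ∈ K, h * k = k * h → k = 1) : Nat.card H * Nat.card (ConjClasses G) + 1 = Nat.card H * Nat.card (ConjClasses H) + Nat.card (ConjClasses K) := by
  classical
  have : Fintype G := Fintype.ofFinite G
  have : Fintype K := Fintype.ofFinite K
  have : Fintype H := Fintype.ofFinite H
  have hc : K.IsComplement' H :=
    Subgroup.isComplement'_of_disjoint_and_mul_eq_univ (disjoint_iff.2 hKH)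
      (by rw [← Subgroup.normal_mul, hKH', Subgroup.coe_top])
  have hfpf' : ∀ h ∈ H, h ≠ 1 → K ⊓ Subgroup.centralizer {h} = ⊥ := fun h hh h1 =>
    eq_bot_iff.2 fun k hk => hfpf h hh h1 k hk.1 (Subgroup.mem_centralizer_singleton_iff.1 hk.2).symm
  have hM : CL.Frob.IsMalnormal H := (CL.Frob.isMalnormal_iff_fpf hc).2 hfpf'
  set c : G → ℕ := fun x => Nat.card (Subgroup.centralizer ({x} : Set G)) with hcdef
  have h1 : ∑ x : G, c x = ∑ h : H, ∑ k : K, c (k * h) := by
    rw [← Function.Bijective.sum_comp hc c, Finset.sum_comm, ← Fintype.sum_prod_type']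
    rfl
  have h2 : ∀ h : H, h ≠ 1 → ∑ k : K, c (k * h) =
      Nat.card K * Nat.card (Subgroup.centralizer ({h} : Set H)) := by
    intro h h1
    have h1' : (h : G) ≠ 1 := fun e => h1 (Subtype.ext e)
    have : ∀ k : K, c (k * h) = Nat.card (Subgroup.centralizer ({h} : Set H)) := by
      intro k
      obtain ⟨x, -, hx⟩ := CL.Char.exists_conj_eq_mul_of_fpf K (g := h)
        (fun x hx => Subgroup.Normal.conj_mem inferInstance x hx h)
        (fun y hy e => hfpf h h.2 h1' y hy e.symm) k.2
      rw [← card_centralizer_of_le H h (hM.centralizer_le h.2 h1'), ← hx]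
      exact (CL.Char.card_centralizer_eq_of_isConj (isConj_iff.2 ⟨x, rfl⟩)).symm
    simp only [this, Finset.sum_const, Finset.card_univ, smul_eq_mul, Nat.card_eq_fintype_card]
  have h3 : ∑ k : K, c k + Nat.card K = Nat.card G + Nat.card (ConjClasses K) * Nat.card K := by
    rw [← sum_card_centralizer K, ← Finset.add_sum_erase _ _ (Finset.mem_univ (1 : K)),
      ← Finset.add_sum_erase _ _ (Finset.mem_univ (1 : K)), card_centralizer_one]
    have : ∑ k ∈ Finset.univ.erase (1 : K), c k =
        ∑ k ∈ Finset.univ.erase (1 : K), Nat.card (Subgroup.centralizer ({k} : Set K)) :=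
      Finset.sum_congr rfl fun k hk => card_centralizer_of_le K k
        (hM.centralizer_le_kernel hc k.2 (fun e => (Finset.mem_erase.1 hk).1 (Subtype.ext e)))
    rw [this]
    simp only [hcdef, OneMemClass.coe_one, card_centralizer_one]
    ring
  have h4 := sum_card_centralizer H
  rw [← Finset.add_sum_erase _ _ (Finset.mem_univ (1 : H)), card_centralizer_one] at h4
  rw [sum_card_centralizer, ← Finset.add_sum_erase _ _ (Finset.mem_univ (1 : H)),
    Finset.sum_congr rfl (fun h hh => h2 h (Finset.mem_erase.1 hh).1), ← Finset.mul_sum] at h1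
  simp only [OneMemClass.coe_one, mul_one] at h1
  have h5 := hc.card_mul_card
  have hK : 0 < Nat.card K := Nat.card_pos
  apply Nat.eq_of_mul_eq_mul_left hK
  rw [← h5] at h1 h3
  nlinarith

end Cfsg.Agent.S0172
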