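import Cfsg.Statements.S0173
import Cfsg.Agent.Char.Perm

set_option autoImplicit false
open Cfsg

namespace Cfsg.Agent.S0173

/-- Brauer's permutation lemma for a single automorphism: the number of conjugacy classes mapped to themselves equals the number of irreducible complex characters χ with χ ∘ α = χ. -/
theorem result {G : Type*} [Group G] [Finite G] (α : G ≃* G) : Nat.card {C : ConjClasses G // ConjClasses.map α.toMonoidHom C = C} = Nat.card {χ : Cfsg.IrrCharacter G // (χ : G → ℂ) ∘ α = (χ : G → ℂ)} := by
  have h := CL.Char.brauer_perm (G := G)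
    (fun χ => ⟨fun g => (χ : G → ℂ) (α g), CL.Char.irr_comp_mulEquiv χ.2 α⟩)
    (ConjClasses.map α.toMonoidHom) fun χ g g' hg => by
      have hg' : ConjClasses.mk g' = ConjClasses.mk (α g) := hg
      rw [ConjClasses.mk_eq_mk_iff_isConj] at hg'
      exact (CL.Char.classFun_eq_of_isConj (CL.Char.irr_isClassFunction χ.2) hg').symm
  rw [← h]
  exact Nat.card_congr (Equiv.subtypeEquivRight fun χ => Subtype.ext_iff)

end Cfsg.Agent.S0173
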