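import Cfsg.Statements.S0177
import Cfsg.Agent.Char.Artin

set_option autoImplicit false
open Cfsg

namespace Cfsg.Agent.S0177

/-- The Artin induction Theorem: for a character χ of a finite group, |G| • χ is a ℤ-linear combination of functions induced from homomorphisms of cyclic subgroups into ℂˣ. -/
theorem result {G : Type*} [Group G] [Fintype G] (χ : G → ℂ) (hχ : Cfsg.IsCharacter G χ) : ∃ l : List ((A : Subgroup G) × ((A →* ℂˣ) × ℤ)), (∀ t ∈ l, IsCyclic t.1) ∧ (Nat.card G : ℂ) • χ = (l.map fun t => (t.2.2 : ℂ) • Cfsg.indFun t.1 (fun a => (t.2.1 a : ℂ))).sum := by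
  classical
  have := Fintype.ofFinite (Subgroup G)
  have : ∀ A : Subgroup G, Fintype (A →* ℂˣ) := fun A => Fintype.ofFinite _
  obtain ⟨c, hc0, hc⟩ := CL.Char.artin_induction (CL.Char.gen_of_char hχ)
  refine ⟨((Finset.univ.filter fun p : (A : Subgroup G) × (A →* ℂˣ) => IsCyclic p.1).toList.map
    fun p => ⟨p.1, p.2, c p.1 p.2⟩), ?_, ?_⟩
  · intro t ht
    obtain ⟨p, hp, rfl⟩ := List.mem_map.mp ht
    exact (Finset.mem_filter.mp (Finset.mem_toList.mp hp)).2
  · rw [List.map_map, Finset.sum_map_toList, hc, Finset.sum_filter, Fintype.sum_sigma]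
    refine Finset.sum_congr rfl fun A _ => Finset.sum_congr rfl fun lam _ => ?_
    split_ifs with hA
    · rfl
    · have : c A lam = 0 := by
        by_contra h
        exact hA (hc0 A lam h)
      simp [this]

end Cfsg.Agent.S0177
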