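import Cfsg.Statements.S0180
import Cfsg.Agent.Char.Galois

set_option autoImplicit false
open Cfsg

namespace Cfsg.Agent.S0180

/-- Every irreducible complex character of a finite group takes only rational values if and only if g is conjugate to g ^ m for every element g and every m coprime to the group order. -/
theorem result {G : Type*} [Group G] [Finite G] : (∀ χ : Cfsg.IrrCharacter G, ∀ g : G, ∃ q : ℚ, (χ : G → ℂ) g = (q : ℂ)) ↔ ∀ m : ℕ, m.Coprime (Nat.card G) → ∀ g : G, IsConj g (g ^ m) := by
  constructor
  · intro h m hm g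
    exact (CL.Char.forall_irr_rat_iff g).1 (fun χ => h χ g) m
      (hm.coprime_dvd_right (orderOf_dvd_natCard g))
  · intro h χ g
    obtain ⟨z, hz⟩ := CL.Char.gen_exists_int_of_forall_pow (CL.Char.gen_of_irr χ.2)
      (Nat.card_pos (α := G)).ne' (orderOf_dvd_natCard g) fun k hk =>
        (CL.Char.classFun_eq_of_isConj (CL.Char.irr_isClassFunction χ.2) (h k hk g)).symm
    exact ⟨z, by rw [hz]; simp⟩

end Cfsg.Agent.S0180
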