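import Cfsg.Statements.S0183
import Cfsg.Agent.CN.Reduce
import Cfsg.Agent.S1526

set_option autoImplicit false
open Cfsg

namespace Cfsg.Agent.S0183

/-- The CN-Theorem for odd order: a finite group of odd order in which every non-identity element has a nilpotent centralizer (a CN-group) is solvable. -/
theorem result {G : Type*} [Group G] [Finite G] (hodd : Odd (Nat.card G)) (hCN : Cfsg.IsCNGroup G) : Group.IsSolvable G := by
  refine CL.CN.isSolvable_of_forall_minimalSimple
    (fun G _ => Odd (Nat.card G) ∧ IsCNGroup G)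
    (fun G _ _ H h => ⟨h.1.of_dvd_nat (Subgroup.card_subgroup_dvd_card H), CL.CN.subgroup h.2 H⟩)
    (fun G _ _ N _ hN h => ⟨h.1.of_dvd_nat (Subgroup.card_quotient_dvd_card N), CL.CN.quotient h.2 N hN⟩)
    (fun G _ _ h hm => ?_) _ G rfl ⟨hodd, hCN⟩
  have hS : IsMinSimpleOddOrder G := ⟨h.1, hm⟩
  obtain ⟨ι, _, H, h2, hH, hcop, hcov⟩ := CL.CN.exists_partition hS h.2
  refine Cfsg.Agent.S1526.result h.1 h2 (fun i => Subgroup.normalizer (H i : Set G)) H
    (fun i => (hH i).min_lt_normalizer hS h.2) (fun i => (hH i).min_ne_bot hS)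
    (fun i x hx y hy => (Subgroup.mem_normalizer_iff.mp hx y).mp hy)
    (fun i x hx hx1 => inf_le_right.trans ((hH i).min_centralizer_le hS h.2 hx hx1)) hcop
    (fun i => ⟨fun g hg x hx hx' => ?_, rfl⟩) fun g _ => hcov g
  have h3 := (hH i).min_TI hS h.2 g
    (fun he => hg (CL.Transfer.conj_smul_eq_iff_mem_normalizer.mp he))
  have h4 := h3.le ⟨hx', CL.Transfer.conj_mem_conj_smul.mpr hx⟩
  simpa using h4

end Cfsg.Agent.S0183
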