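import Cfsg.Statements.S0184
import Cfsg.Agent.Char.Inflate
import Cfsg.Agent.PGrp.Basic

set_option autoImplicit false
open Cfsg

namespace Cfsg.Agent.S0184

/-- A finite p-group admits a faithful irreducible complex representation if and only if its centre is cyclic. -/
theorem result {G : Type*} [Group G] [Finite G] (p : ℕ) [Fact p.Prime] (hG : IsPGroup p G) : (∃ (n : ℕ) (ρ : Representation ℂ G (Fin n → ℂ)), ρ.IsIrreducible ∧ Function.Injective ρ) ↔ IsCyclic (Subgroup.center G) := by
  constructor
  · rintro ⟨n, ρ, hρ, hinj⟩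
    refine CL.Char.irr_isCyclic_center (χ := ρ.character) ⟨n, ρ, hρ, rfl⟩ ?_
    rw [CL.Char.charKer_character, MonoidHom.ker_eq_bot_iff]; exact hinj
  · intro hZ
    suffices h : ∃ χ, IsIrrCharacter G χ ∧ CL.Char.charKer χ = ⊥ by
      obtain ⟨χ, ⟨n, ρ, hρ, rfl⟩, hk⟩ := h
      rw [CL.Char.charKer_character, MonoidHom.ker_eq_bot_iff] at hk
      exact ⟨n, ρ, hρ, hk⟩
    rcases subsingleton_or_nontrivial G with hG1 | hG1
    · exact ⟨_, CL.Char.irr_one, Subsingleton.elim _ _⟩
    have hp : p.Prime := Fact.out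
    classical
    have := Fintype.ofFinite (Subgroup.center G)
    obtain ⟨z, -, hz1, hzZ, hzp⟩ := CL.PGrp.exists_mem_center_of_normal hG ⊤ top_ne_bot
    refine CL.Char.exists_irr_faithful_of_mem_normal hz1 fun N hN hN1 => ?_
    obtain ⟨y, hyN, hy1, hyZ, hyp⟩ := CL.PGrp.exists_mem_center_of_normal hG N hN1
    let y' : Subgroup.center G := ⟨y, hyZ⟩
    have hy' : orderOf y' = p :=
      orderOf_eq_prime (Subtype.ext hyp) fun h => hy1 (congrArg Subtype.val h)
    have h1 := IsCyclic.card_pow_eq_one_le (α := Subgroup.center G) hp.pos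
    have h2 : (Finset.univ.filter fun a : Subgroup.center G => a ∈ Subgroup.zpowers y') =
        Finset.univ.filter fun a : Subgroup.center G => a ^ p = 1 := by
      refine Finset.eq_of_subset_of_card_le (fun a ha => ?_) (h1.trans ?_)
      · obtain ⟨k, rfl⟩ := (Finset.mem_filter.1 ha).2
        simp only [Finset.mem_filter, Finset.mem_univ, true_and]
        rw [← zpow_natCast, ← zpow_mul, mul_comm, zpow_mul, zpow_natCast, ← hy',
          pow_orderOf_eq_one, one_zpow]
      · rw [← Nat.subtype_card (p := fun a => a ∈ Subgroup.zpowers y') _ (by simp),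
          Nat.card_zpowers, hy']
    have h3 : (⟨z, hzZ⟩ : Subgroup.center G) ∈ Finset.univ.filter
        fun a : Subgroup.center G => a ^ p = 1 := by
      simp only [Finset.mem_filter, Finset.mem_univ, true_and]
      exact Subtype.ext hzp
    rw [← h2] at h3
    obtain ⟨k, hk⟩ := (Finset.mem_filter.1 h3).2
    have h4 : y ^ k = z := by simpa [y'] using congrArg Subtype.val hk
    exact h4 ▸ N.zpow_mem hyN k

end Cfsg.Agent.S0184
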