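import Cfsg.Statements.S0186
import Cfsg.Agent.Char.Inflate

set_option autoImplicit false
open Cfsg

namespace Cfsg.Agent.S0186

/-- Let G be a finite simple group of order n and p a prime dividing n. If G has more than n / p^2 conjugacy classes, then every Sylow p-subgroup of G is abelian. -/
theorem result {G : Type*} [Group G] [Finite G] [IsSimpleGroup G] (p : ℕ) [Fact p.Prime] (hp : p ∣ Nat.card G) (hmany : Nat.card G < p ^ 2 * Nat.card (ConjClasses G)) (P : Sylow p G) (a b : G) (ha : a ∈ P) (hb : b ∈ P) : a * b = b * a := by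
  by_contra hab
  have hp' : p.Prime := Fact.out
  have hP3 : p ^ 2 ∣ Nat.card G := by
    obtain ⟨n, hn⟩ := IsPGroup.iff_card.1 P.isPGroup'
    refine dvd_trans ?_ (Subgroup.card_subgroup_dvd_card (P : Subgroup G))
    rw [hn]
    refine pow_dvd_pow p ?_
    by_contra hlt
    have hc : IsCyclic P := isCyclic_of_card_dvd_prime (p := p) (by
      rw [hn]; simpa using pow_dvd_pow p (show n ≤ 1 by omega))
    exact hab (congrArg Subtype.val ((IsCyclic.isMulCommutative (α := P)).is_comm.comm ⟨a, ha⟩ ⟨b, hb⟩))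
  have hdeg : ∀ χ : IrrCharacter G, χ ≠ CL.Char.irrOne G → p ≤ CL.Char.deg (χ : G → ℂ) := by
    intro χ hχ
    by_contra hlt
    have hk := CL.Char.irr_charKer_eq_bot_of_simple χ.2 fun h => hχ (Subtype.ext h)
    have h1 := CL.Char.char_commutator_le_charKer_of_isPGroup P.isPGroup'
      (CL.Char.char_restrict (CL.Char.irr_isCharacter χ.2) P) (not_le.1 hlt)
    rw [CL.Char.char_charKer_restrict (CL.Char.irr_isCharacter χ.2), hk, Subgroup.bot_subgroupOf] at h1
    have h2 := h1 (Subgroup.commutator_mem_commutator (Subgroup.mem_top ⟨a, ha⟩)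
      (Subgroup.mem_top ⟨b, hb⟩))
    rw [Subgroup.mem_bot, commutatorElement_eq_one_iff_mul_comm] at h2
    exact hab (congrArg Subtype.val h2)
  classical
  have hsum := CL.Char.sum_deg_sq (G := G)
  rw [← Finset.add_sum_erase _ _ (Finset.mem_univ (CL.Char.irrOne G))] at hsum
  have h1 : (Finset.univ.erase (CL.Char.irrOne G)).card • p ^ 2 ≤
      ∑ χ ∈ Finset.univ.erase (CL.Char.irrOne G), CL.Char.deg (χ : G → ℂ) ^ 2 :=
    Finset.card_nsmul_le_sum _ _ _ fun χ hχ =>
      Nat.pow_le_pow_left (hdeg χ (Finset.mem_erase.1 hχ).1) 2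
  have h2 := CL.Char.irr_deg_pos (CL.Char.irrOne G).2
  rw [Finset.card_erase_of_mem (Finset.mem_univ _), Finset.card_univ, ← Nat.card_eq_fintype_card,
    CL.Char.card_irr_eq_card_conjClasses, smul_eq_mul] at h1
  obtain ⟨m, hm⟩ := hP3
  have h3 : (Nat.card (ConjClasses G) - 1) * p ^ 2 < p ^ 2 * m := by
    have := pow_pos h2 2
    omega
  rw [hm] at hmany
  have h4 := Nat.lt_of_mul_lt_mul_left hmany
  rw [mul_comm] at h3
  have h5 := Nat.lt_of_mul_lt_mul_left h3
  omega

end Cfsg.Agent.S0186
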