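import Cfsg.Agent.Base
import Cfsg.Statements.S0196

set_option autoImplicit false
open Cfsg

namespace Cfsg.Agent.S0196

/-- Let A be a subgroup of a finite group G that equals the centralizer of each of its non-identity elements, and let N be its normalizer. Then the index of A in N divides |A| − 1 (N/A permutes the non-identity elements of A in orbits of full length). -/
theorem result {G : Type*} [Group G] [Finite G] (A : Subgroup G) (hA : ∀ x ∈ A, x ≠ 1 → Subgroup.centralizer ({x} : Set G) = A) : (A.subgroupOf (Subgroup.normalizer (A : Set G))).index ∣ Nat.card A - 1 := by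
  classical
  set N := Subgroup.normalizer (A : Set G) with hN
  set B := A.subgroupOf N with hB
  have hBn : B.Normal := Subgroup.normal_subgroupOf_iff_le_normalizer Subgroup.le_normalizer |>.2 le_rfl
  -- `N` acts on the non-identity elements of `A`, all stabilisers are `B`
  let X := {a : G // a ∈ A ∧ a ≠ 1}
  let : MulAction N X :=
    { smul := fun n a => ⟨n * a * (n : G)⁻¹, (Subgroup.mem_normalizer_iff.1 n.2 a).1 a.2.1, by
        intro h
        apply a.2.2
        calc (a : G) = (n : G)⁻¹ * (n * a * (n : G)⁻¹) * n := by group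
          _ = 1 := by rw [h]; group⟩
      one_smul := fun a => Subtype.ext (by change (1 : G) * a * (1 : G)⁻¹ = a; simp)
      mul_smul := fun m n a => Subtype.ext (by
        change ((m : G) * n) * a * ((m : G) * n)⁻¹ = m * (n * a * (n : G)⁻¹) * (m : G)⁻¹
        group) }
  have hst : ∀ a : X, MulAction.stabilizer N a = B := by
    intro a
    ext n
    rw [MulAction.mem_stabilizer_iff, hB, Subgroup.mem_subgroupOf]
    conv_rhs => rw [← hA a a.2.1 a.2.2]
    rw [Subgroup.mem_centralizer_singleton_iff, Subtype.ext_iff]
    change (n : G) * a * (n : G)⁻¹ = a ↔ _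
    rw [mul_inv_eq_iff_eq_mul]
  have hX : Nat.card X = Nat.card A - 1 := by
    have : Fintype G := Fintype.ofFinite G
    have e : X ≃ {a : A // a ≠ 1} :=
      ⟨fun a => ⟨⟨a, a.2.1⟩, fun h => a.2.2 (congrArg Subtype.val h)⟩,
       fun a => ⟨a.1, a.1.2, fun h => a.2 (Subtype.ext h)⟩, fun _ => rfl, fun _ => rfl⟩
    rw [Nat.card_congr e, Nat.card_eq_fintype_card, Nat.card_eq_fintype_card]
    simp
  rw [← hX, Nat.card_congr (MulAction.selfEquivSigmaOrbitsQuotientStabilizer N X)]
  have : Fintype (MulAction.orbitRel.Quotient N X) := Fintype.ofFinite _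
  rw [Nat.card_sigma]
  refine Finset.dvd_sum fun ω _ => ?_
  rw [← Subgroup.index_eq_card, hst]

end Cfsg.Agent.S0196
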