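import Cfsg.Statements.S0197
import Cfsg.Agent.GL23.Model
import Cfsg.Agent.GL23.Comb
import Cfsg.Agent.Char.InvolCount
import Cfsg.Agent.Char.Linear
import Cfsg.Agent.Transfer.Fusion
import Cfsg.Agent.Solv.Core

set_option autoImplicit false
open Cfsg

namespace Cfsg.Agent.S0197
open CL.Char CL.GL23 CL.GL23.M CL.Transfer Subgroup

variable {G : Type*} [Group G] [Finite G] {t : G}

theorem card_H (e : centralizer ({t} : Set G) ≃* M) :
    Nat.card (centralizer ({t} : Set G)) = 48 := by
  rw [Nat.card_congr e.toEquiv, card_M]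

omit [Finite G] in
theorem t_mem (t : G) : t ∈ centralizer ({t} : Set G) := mem_centralizer_singleton_iff.mpr rfl

omit [Finite G] in
theorem e_t (e : centralizer ({t} : Set G) ≃* M) (ht : t ≠ 1) : e ⟨t, t_mem t⟩ = z := by
  refine (central_eq _ fun h => ?_).resolve_left fun h => ht ?_
  · obtain ⟨h, rfl⟩ := e.surjective h
    rw [← map_mul, ← map_mul]
    exact congrArg e (Subtype.ext (mem_centralizer_singleton_iff.mp h.2))
  · exact congrArg Subtype.val (e.injective (h.trans (map_one e).symm))

omit [Finite G] in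
theorem eq_t (e : centralizer ({t} : Set G) ≃* M) (ht : t ≠ 1) {h : centralizer ({t} : Set G)}
    (hz : e h = z) : (h : G) = t :=
  congrArg Subtype.val (e.injective (hz.trans (e_t e ht).symm))

theorem exists_odd (e : centralizer ({t} : Set G) ≃* M) (ht : t ≠ 1) :
    ∃ m, Odd m ∧ Nat.card G = 16 * m := by
  set w : G := (e.symm x : G) with hw
  have hw4 : w ^ 4 = t := eq_t e ht (h := e.symm x ^ 4)
    (by rw [map_pow, MulEquiv.apply_symm_apply, x_pow_four])
  have htt : t * t = 1 := congrArg Subtype.val (e.injective (a₁ := ⟨t, t_mem t⟩ * ⟨t, t_mem t⟩)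
    (a₂ := 1) (by rw [map_mul, e_t e ht, z_mul_z, map_one]))
  have hw8 : w ^ 2 ^ 3 = 1 := by rw [show 2 ^ 3 = 4 + 4 by norm_num, pow_add, hw4, htt]
  have hp : IsPGroup 2 (zpowers w) := by
    rintro ⟨y, hy⟩
    obtain ⟨n, rfl⟩ := mem_zpowers_iff.mp hy
    refine ⟨3, Subtype.ext ?_⟩
    change (w ^ n) ^ 2 ^ 3 = 1
    rw [← zpow_natCast, ← zpow_mul, mul_comm, zpow_mul, zpow_natCast, hw8, one_zpow]
  obtain ⟨S, hS, hwS⟩ := exists_isSylowIn_ge hp (zpowers_le.mpr (e.symm x).2)
  have hN : normalizer (S : Set G) ≤ centralizer ({t} : Set G) := fun y hy => by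
    have h1 : y * w * y⁻¹ ∈ centralizer ({t} : Set G) :=
      hS.le ((mem_normalizer_iff.mp hy w).mp (hwS (mem_zpowers w)))
    have h2 : (y * w * y⁻¹) ^ 4 = y * t * y⁻¹ := by rw [conj_pow, hw4]
    have h3 := pow_four_eq (e ⟨_, h1⟩)
      (by
        rw [← map_pow, ← map_one e]
        refine congrArg e (Subtype.ext ?_)
        change (y * w * y⁻¹) ^ 2 ^ 3 = 1
        rw [conj_pow, hw8, mul_one, mul_inv_cancel])
      (by
        rw [← map_pow, ← map_one e]
        intro h
        have h4 : (y * w * y⁻¹) ^ 4 = 1 := congrArg Subtype.val (e.injective h)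
        rw [h2] at h4
        exact ht (by simpa using h4))
    rw [← map_pow] at h3
    have h5 : (y * w * y⁻¹) ^ 4 = t := eq_t e ht h3
    rw [h2] at h5
    rw [mem_centralizer_singleton_iff]
    calc y * t = y * t * y⁻¹ * y := by group
      _ = t * y := by rw [h5]
  have hT := hS.top_of_normalizer_le hN
  obtain ⟨k, hk⟩ := hS.isPGroup.exists_card_eq
  have h1 := CL.card_mul_relIndex_of_le hS.le
  have h2 := hS.not_dvd
  rw [card_H e, hk] at h1
  have hk5 : k ≤ 5 := by
    by_contra hc
    have : 2 ^ 6 ∣ 48 := (pow_dvd_pow 2 (by omega)).trans (Dvd.intro _ h1)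
    omega
  have hk4 : k = 4 := by interval_cases k <;> omega
  refine ⟨S.index, ?_, by rw [← S.card_mul_index, hk, hk4]; rfl⟩
  have := hT.not_dvd
  rw [relIndex_top_right] at this
  exact Nat.odd_iff.mpr (Nat.two_dvd_ne_zero.mp this)

theorem isConj_t_iff [IsSimpleGroup G] (e : centralizer ({t} : Set G) ≃* M) (ht : orderOf t = 2)
    (u : G) : IsConj t u ↔ u * u = 1 ∧ u ≠ 1 := by
  have ht1 : t ≠ 1 := by rintro rfl; simp at ht
  have htt : t * t = 1 := by rw [← sq, ← ht, pow_orderOf_eq_one]
  constructor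
  · intro h
    obtain ⟨c, rfl⟩ := isConj_iff.mp h
    exact ⟨by rw [conj_mul, htt, mul_one, mul_inv_cancel], by simpa using ht1⟩
  · rintro ⟨hu, hu1⟩
    obtain ⟨m, hm, hG⟩ := exists_odd e ht1
    set w : G := (e.symm x : G) with hw
    have hw4 : w ^ 4 = t := eq_t e ht1 (h := e.symm x ^ 4)
      (by rw [map_pow, MulEquiv.apply_symm_apply, x_pow_four])
    have hw8 : orderOf w = 2 ^ 3 := orderOf_eq_prime_pow (by rw [← hw4] at ht1; exact ht1)
      (by rw [show 2 ^ (2 + 1) = 4 + 4 by norm_num, pow_add, hw4, htt])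
    have hi : (zpowers w).index = 2 * m := by
      have := (zpowers w).card_mul_index
      rw [Nat.card_zpowers, hw8, hG] at this
      omega
    by_contra hn
    obtain ⟨N, hN, hNi, -⟩ := thompson_transfer_of_index hm hi (u := u) (by rw [sq, hu])
      fun g hg => by
        have h1 : g * u * g⁻¹ ∈ centralizer ({t} : Set G) := zpowers_le.mpr (e.symm x).2 hg
        rcases eq_of_commute_x (e ⟨_, h1⟩)
          (by
            rw [← map_mul, ← map_one e]
            refine congrArg e (Subtype.ext ?_)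
            change g * u * g⁻¹ * (g * u * g⁻¹) = 1
            rw [conj_mul, hu, mul_one, mul_inv_cancel])
          (by
            rw [← e.apply_symm_apply x, ← map_mul, ← map_mul]
            refine congrArg e (Subtype.ext ?_)
            obtain ⟨n, hn⟩ := mem_zpowers_iff.mp hg
            change g * u * g⁻¹ * w = w * (g * u * g⁻¹)
            rw [← hn]
            exact (Commute.refl w).zpow_left n) with h | h
        · have h2 : g * u * g⁻¹ = 1 :=
            congrArg Subtype.val (e.injective (h.trans (map_one e).symm))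
          exact hu1 (by simpa using h2)
        · exact hn (isConj_iff.mpr ⟨g, eq_t e ht1 h⟩).symm
    rcases hN.eq_bot_or_eq_top with h | h
    · rw [h, index_bot, hG] at hNi
      omega
    · rw [h, index_top] at hNi
      omega

omit [Finite G] in
theorem exists_pow_of_root (e : centralizer ({t} : Set G) ≃* M) (ht : t ≠ 1)
    {h : centralizer ({t} : Set G)} (hr : Root (e h)) : ∃ k : Fin 5, (h : G) ^ (k : ℕ) = t := by
  obtain ⟨k, hk⟩ := hr
  exact ⟨k, eq_t e ht (h := h ^ (k : ℕ)) (by rw [map_pow, hk])⟩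

theorem data [IsSimpleGroup G] (e : centralizer ({t} : Set G) ≃* M) (ht : orderOf t = 2) :
    Nat.card G = 5616 ∨ Nat.card G = 7920 := by
  classical
  have := Fintype.ofFinite G
  have ht1 : t ≠ 1 := by rintro rfl; simp at ht
  have htt : t * t = 1 := by rw [← sq, ← ht, pow_orderOf_eq_one]
  set H := centralizer ({t} : Set G) with hH
  let θ : Fin 4 → H → ℂ := fun i h => (th i (e h) : ℂ)
  have hθ : ∀ i, IsGeneralizedCharacter H (θ i) := fun i =>
    gen_comp (gen_th i) e.toMonoidHom
  let T : Set G := {g | ∃ h : g ∈ H, Root (e ⟨g, h⟩)}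
  have hθT : ∀ i, ∀ y : H, (y : G) ∉ T → θ i y = 0 := fun i y hy => by
    simp only [θ]
    rw [th_eq_zero i _ fun h => hy ⟨y.2, h⟩, Int.cast_zero]
  have hθ1 : ∀ i, θ i 1 = 0 := fun i => by simp only [θ]; rw [map_one, th_one, Int.cast_zero]
  have hTI : ∀ g : G, g ∉ H → ∀ s ∈ T, g * s * g⁻¹ ∈ T → s = 1 := by
    rintro g hg s ⟨hs, hr⟩ ⟨hs', hr'⟩
    exfalso
    obtain ⟨k, hk⟩ := exists_pow_of_root e ht1 hr
    have h1 : (g * s * g⁻¹) ^ (k : ℕ) = g * t * g⁻¹ := by rw [conj_pow, ← hk]
    rcases root_pow _ hr' k (by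
      rw [← map_pow, ← map_mul, ← map_one e]
      refine congrArg e (Subtype.ext ?_)
      change (g * s * g⁻¹) ^ (k : ℕ) * (g * s * g⁻¹) ^ (k : ℕ) = 1
      rw [h1, conj_mul, htt, mul_one, mul_inv_cancel]) with h | h
    · rw [← map_pow] at h
      have h2 : (g * s * g⁻¹) ^ (k : ℕ) = 1 :=
        congrArg Subtype.val (e.injective (h.trans (map_one e).symm))
      rw [h1] at h2
      exact ht1 (by simpa using h2)
    · rw [← map_pow] at h
      have h2 : (g * s * g⁻¹) ^ (k : ℕ) = t := eq_t e ht1 h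
      rw [h1] at h2
      refine hg (mem_centralizer_singleton_iff.mpr ?_)
      calc g * t = g * t * g⁻¹ * g := by group
        _ = t * g := by rw [h2]
  have hcH : (Nat.card H : ℂ) = 48 := by rw [card_H e]; rfl
  have hsum : ∀ f : M → ℤ, ∑ h : H, (f (e h) : ℂ) = ((∑ g, f g : ℤ) : ℂ) := fun f => by
    rw [Int.cast_sum]
    exact Fintype.sum_equiv e.toEquiv _ _ fun _ => rfl
  choose b hb hb' using fun i => gen_exists_eq_sum (gen_indFun H (hθ i))
  have hgram : ∀ i j, ∑ χ, b i χ * b j χ = gram i j := fun i j => by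
    have h1 := classInner_indFun_of_TI H T hTI (gen_isClassFunction (hθ j)) (hθT i) (hθT j) (hθ1 i)
    have h2 : classInner (θ i) (θ j) = gram i j := by
      rw [classInner_def, hcH]
      simp only [θ, map_intCast, ← Int.cast_mul]
      rw [hsum fun g => th i g * th j g, sum_th_mul]
      push_cast; ring
    rw [h2, hb' j, classInner_sum_right] at h1
    simp only [classInner_smul_right, hb, map_intCast] at h1
    have h3 : ((∑ χ, b i χ * b j χ : ℤ) : ℂ) = gram i j := by
      rw [← h1]; push_cast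
      exact Finset.sum_congr rfl fun χ _ => mul_comm _ _
    exact_mod_cast h3
  let o : IrrCharacter G := ⟨fun _ => 1, irr_one⟩
  have ho : ∀ i, b i o = ![1, 1, 0, 0] i := fun i => by
    have h1 := classInner_indFun_one H (θ i)
    rw [classInner_def (θ i), hcH] at h1
    simp only [θ, map_one, mul_one] at h1
    rw [hsum (th i), sum_th] at h1
    have h3 : ((b i o : ℤ) : ℂ) = ((![1, 1, 0, 0] i : ℤ) : ℂ) := by
      rw [← hb i o]
      refine h1.trans ?_
      push_cast; ring
    exact_mod_cast h3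
  let d : IrrCharacter G → ℤ := fun χ => deg (χ : G → ℂ)
  have hd : ∀ χ : IrrCharacter G, (d χ : ℂ) = (χ : G → ℂ) 1 := fun χ => by
    simp only [d, Int.cast_natCast]
    exact char_cast_deg (irr_isCharacter χ.2)
  have hdeg : ∀ i, ∑ χ, b i χ * d χ = 0 := fun i => by
    have h1 := indFun_one_eq_zero H (hθ1 i)
    rw [hb' i] at h1
    simp only [Finset.sum_apply, Pi.smul_apply, smul_eq_mul, ← hd] at h1
    exact_mod_cast h1
  have hτ : ∀ χ : IrrCharacter G, (χ : G → ℂ) t =
      ((-2 * b 0 χ + 3 * b 1 χ + b 2 χ + 2 * b 3 χ : ℤ) : ℂ) := fun χ => by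
    have h1 : ∀ i, (48 : ℂ) * b i χ = ∑ h : H, (χ : G → ℂ) h * (th i (e h) : ℂ) := fun i => by
      have h2 := gen_inner_comm (gen_indFun H (hθ i)) (gen_of_irr χ.2)
      rw [hb, classInner_indFun_right H _ (irr_isClassFunction χ.2), classInner_def, hcH] at h2
      simp only [θ, map_intCast] at h2
      rw [h2]; ring
    have h2 : ∑ h : H, (χ : G → ℂ) h * ((if e h = z then 48 else 0 : ℤ) : ℂ) =
        48 * (χ : G → ℂ) t := by
      rw [Finset.sum_eq_single ⟨t, t_mem t⟩ (fun h _ hne => by
        rw [if_neg fun hz => hne (Subtype.ext (eq_t e ht1 hz)), Int.cast_zero, mul_zero])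
        (fun h => absurd (Finset.mem_univ _) h), if_pos (e_t e ht1)]
      push_cast; ring
    simp only [← th_comb] at h2
    push_cast at h2 ⊢
    simp only [mul_add, Finset.sum_add_distrib, mul_left_comm ((χ : G → ℂ) _),
      ← Finset.mul_sum, ← h1] at h2
    linear_combination (-1 / 48 : ℂ) * h2
  have hcount : ∀ i, ((Nat.card G : ℤ) : ℚ) * ∑ χ, (b i χ : ℚ) *
      (((-2 * b 0 χ + 3 * b 1 χ + b 2 χ + 2 * b 3 χ : ℤ) : ℚ) ^ 2 / d χ) =
      48 * ((![96, 192, 192, 0] i : ℤ) : ℚ) := fun i => by
    have h1 := invol_count H (θ i) t t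
    rw [sum_sum_extendByZero_mul H (θ i) _ _ (fun u v hu hv huv hne => by
      obtain ⟨k, hk⟩ := exists_pow_of_root e ht1 (h := ⟨u * v, huv⟩) (by
        by_contra hr
        exact hne (by simp only [θ]; rw [th_eq_zero i _ hr, Int.cast_zero]))
      have hu2 := ((isConj_t_iff e ht u).mp hu).1
      have hv2 := ((isConj_t_iff e ht v).mp hv).1
      have h3 : u * (u * v) * u⁻¹ = (u * v)⁻¹ := by
        rw [← mul_assoc, hu2, one_mul, mul_inv_rev, inv_eq_of_mul_eq_one_right hv2]
      have h4 : u * t * u⁻¹ = t := by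
        conv_lhs => rw [← hk]
        change u * (u * v) ^ (k : ℕ) * u⁻¹ = t
        rw [← conj_pow, h3, inv_pow, inv_eq_iff_mul_eq_one]
        change ((⟨u * v, huv⟩ : H) : G) ^ (k : ℕ) * t = 1
        rw [hk, htt]
      refine mem_centralizer_singleton_iff.mpr ?_
      calc u * t = u * t * u⁻¹ * u := by group
        _ = t * u := by rw [h4])] at h1
    have h2 : (∑ u : H, ∑ v : H, if IsConj t u ∧ IsConj t v then θ i (u * v) else 0) =
        ((![96, 192, 192, 0] i : ℤ) : ℂ) := by
      rw [← sum_invol i]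
      push_cast
      have h5 : ∀ u : H, IsConj t u ↔ e u * e u = 1 ∧ e u ≠ 1 := fun u => by
        rw [isConj_t_iff e ht, ← map_mul, MulEquiv.map_eq_one_iff, MulEquiv.map_ne_one_iff,
          Subtype.ext_iff, Ne, Ne, Subtype.ext_iff]
        rfl
      refine Fintype.sum_equiv e.toEquiv _ _ fun u => Fintype.sum_equiv e.toEquiv _ _ fun v => ?_
      simp only [h5, θ, map_mul]
      rfl
    rw [h2, ← hH, hcH] at h1
    simp only [hb, hτ, ← hd] at h1
    have h3 : (((Nat.card G : ℤ) : ℚ) * ∑ χ, (b i χ : ℚ) *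
        (((-2 * b 0 χ + 3 * b 1 χ + b 2 χ + 2 * b 3 χ : ℤ) : ℚ) ^ 2 / d χ) : ℚ) =
        ((48 * ((![96, 192, 192, 0] i : ℤ) : ℚ) : ℚ) : ℂ) := by
      push_cast at h1 ⊢
      simp only [sq]
      linear_combination (1 / 48 : ℂ) * h1
    exact_mod_cast h3
  obtain ⟨m, hm, hG⟩ := exists_odd e ht1
  have hD : Data o (b 0) (b 1) (b 2) (b 3) d (Nat.card G : ℤ) :=
    { hd := fun χ hχ => by
        obtain ⟨n, hn, h1⟩ := irr_apply_one χ.2
        have h2 : d χ = n := by
          have := hd χ
          rw [h1] at this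
          exact_mod_cast this
        by_contra hc
        have hn1 : n = 1 := by omega
        obtain ⟨lam, hlam⟩ := exists_linear_of_isIrrCharacter χ.2 (by rw [h1, hn1, Nat.cast_one])
        rcases (inferInstance : lam.ker.Normal).eq_bot_or_eq_top with h | h
        · have hinj := (MonoidHom.ker_eq_bot_iff lam).mp h
          have h3 : ∀ a : H, ∀ c : H, c * a = a * c := fun a c =>
            Subtype.ext (hinj (by simp [mul_comm]))
          have h4 := central_eq x fun c => by
            have := congrArg e (h3 (e.symm x) (e.symm c))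
            simpa using this
          revert h4
          decide +kernel
        · refine hχ (Subtype.ext ?_)
          rw [hlam]
          funext g
          rw [MonoidHom.mem_ker.mp (h ▸ mem_top g : g ∈ lam.ker)]
          rfl
      hdo := by
        have : (d o : ℂ) = 1 := hd o
        exact_mod_cast this
      h1o := ho 0, h2o := ho 1, h3o := ho 2, h4o := ho 3
      h11 := hgram 0 0, h22 := hgram 1 1, h33 := hgram 2 2, h44 := hgram 3 3
      h12 := hgram 0 1, h13 := hgram 0 2, h14 := hgram 0 3, h23 := hgram 1 2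
      h24 := hgram 1 3, h34 := hgram 2 3
      d1 := hdeg 0, d2 := hdeg 1, d3 := hdeg 2
      e1 := (hcount 0).trans (by norm_num)
      e2 := (hcount 1).trans (by norm_num)
      e3 := (hcount 2).trans (by simp; norm_num) }
  have := hD.card (by obtain ⟨k, rfl⟩ := hm; rw [hG]; omega)
  omega

/-- If a finite simple group has an involution whose centralizer is isomorphic to the general linear group GL(2, 3), then the group has order 5616 or 7920. -/
theorem result {G : Type*} [Group G] [Finite G] [IsSimpleGroup G] (t : G) (ht : orderOf t = 2) (e : Subgroup.centralizer ({t} : Set G) ≃* Matrix.GeneralLinearGroup (Fin 2) (ZMod 3)) : Nat.card G = 5616 ∨ Nat.card G = 7920 := by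
  exact data (e.trans CL.GL23.equivGL) ht

end Cfsg.Agent.S0197
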