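import Cfsg.Statements.S0203
import Cfsg.Agent.Base
import Cfsg.Agent.Invol.KleinSylow

set_option autoImplicit false
open Cfsg

namespace Cfsg.Agent.S0203

/-- If a Sylow 2-subgroup P of a finite group G is a Klein four-group, then G has three classes of involutions if and only if P has a normal complement in G. -/
theorem result {G : Type*} [Group G] [Finite G] (P : Sylow 2 G) (hP : IsKleinFour (P : Subgroup G)) : Nat.card {C : ConjClasses G // ∃ t : G, orderOf t = 2 ∧ ConjClasses.mk t = C} = 3 ↔ ∃ N : Subgroup G, N.Normal ∧ Subgroup.IsComplement' N (P : Subgroup G) := by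
  have : Fact (Nat.Prime 2) := ⟨Nat.prime_two⟩
  constructor
  · intro h3
    rcases CL.Invol.klein_sylow_dichotomy P hP with h | h
    · have hNC : Subgroup.normalizer (P : Set G) ≤ Subgroup.centralizer (P : Set G) := by
        intro n hn x hx
        have h1 : n * x * n⁻¹ ∈ (P : Subgroup G) := (Subgroup.mem_normalizer_iff.1 hn x).1 hx
        have h2 := h.1 x hx _ h1 (isConj_iff.2 ⟨n, rfl⟩)
        exact mul_eq_of_eq_mul_inv h2
      exact ⟨_, inferInstance, MonoidHom.ker_transferSylow_isComplement' P hNC⟩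
    · rw [h.2] at h3
      exact absurd h3 (by norm_num)
  · rintro ⟨N, hN, hc⟩
    rcases CL.Invol.klein_sylow_dichotomy P hP with h | h
    · exact h.2
    · exfalso
      obtain ⟨a, ha, b, hb, ha1, hb1, hab⟩ := CL.Invol.klein_exists_pair hP
      obtain ⟨g, hg⟩ := isConj_iff.1 (h.1 a ha b hb ha1 hb1)
      obtain ⟨⟨n, q⟩, rfl⟩ := hc.2 g
      have h1 : (n : G) * a * (n : G)⁻¹ = b := by
        rw [← hg]
        have := CL.Invol.klein_comm hP q.2 ha
        calc (n : G) * a * (n : G)⁻¹ = n * (a * q * (q : G)⁻¹) * (n : G)⁻¹ := by group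
          _ = _ := by rw [← this]; simp only []; group
      have h2 : b * a⁻¹ ∈ N := by
        rw [← h1]
        have := N.mul_mem n.2 (hN.conj_mem _ (N.inv_mem n.2) a)
        simpa [mul_assoc] using this
      have h3 : b * a⁻¹ ∈ N ⊓ (P : Subgroup G) := ⟨h2, Subgroup.mul_mem _ hb (Subgroup.inv_mem _ ha)⟩
      rw [hc.disjoint.eq_bot, Subgroup.mem_bot, mul_inv_eq_one] at h3
      exact hab h3.symm

end Cfsg.Agent.S0203
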