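import Cfsg.Statements.S0204
import Cfsg.Agent.Base
import Cfsg.Agent.S0225
import Cfsg.Agent.S0205

set_option autoImplicit false
open Cfsg

namespace Cfsg.Agent.S0204

/-- A non-cyclic finite simple group contains a subgroup which is a Klein four-group; this combines the Odd Order Theorem, Burnside's transfer argument for cyclic Sylow 2-subgroups and the Brauer–Suzuki Theorem. -/
theorem result {G : Type*} [Group G] [Finite G] [IsSimpleGroup G] (hG : ¬ IsCyclic G) : ∃ E : Subgroup G, IsKleinFour E := by
  by_contra hcon
  push Not at hcon
  have hprime : ∀ (_ : ∀ a b : G, a * b = b * a), False := fun hcomm => by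
    letI : CommGroup G := { (inferInstance : Group G) with mul_comm := hcomm }
    exact hG inferInstance
  rcases Nat.even_or_odd (Nat.card G) with heven | hodd
  · obtain ⟨z, hz, N, hN, hNodd, hzN⟩ := Cfsg.Agent.S0225.result heven hcon
    rcases hN.eq_bot_or_eq_top with h | h
    · have hc : z ∈ Subgroup.center G := by
        rw [Subgroup.mem_center_iff]
        intro g
        have := hzN g
        rw [h, Subgroup.mem_bot, mul_inv_eq_one, mul_inv_eq_iff_eq_mul] at this
        exact this.symm
      have : Fact (Nat.Prime 2) := ⟨Nat.prime_two⟩
      exact hG (isCyclic_of_prime_card (CL.BF.card_eq_two_of_simple_of_central hz hc))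
    · rw [h, Subgroup.card_top] at hNodd
      exact (Nat.not_even_iff_odd.2 hNodd) heven
  · exact hprime (IsSimpleGroup.comm_iff_isSolvable.2 (Cfsg.Agent.S0205.result hodd))

end Cfsg.Agent.S0204
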