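import Cfsg.Statements.S0212
import Cfsg.Agent.Invol.BFCor

set_option autoImplicit false
open Cfsg

namespace Cfsg.Agent.S0212

/-- The Brauer–Fowler bound: if G is a finite simple group and t an involution of G whose centralizer has order n, then |G| ≤ (2n^2)!. -/
theorem result {G : Type*} [Group G] [Finite G] [IsSimpleGroup G] (t : G) (ht : orderOf t = 2) : Nat.card G ≤ Nat.factorial (2 * (Nat.card (Subgroup.centralizer ({t} : Set G))) ^ 2) := by
  have hc := CL.BF.two_le_card_cent ht
  set c := Nat.card (Subgroup.centralizer ({t} : Set G)) with hcdef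
  by_cases h2 : Nat.card G = 2
  · rw [h2]
    exact (by nlinarith : 2 ≤ 2 * c ^ 2).trans (Nat.self_le_factorial _)
  obtain ⟨H, hH, h⟩ := CL.BF.exists_proper_index_lt
    (fun z hz hzc => h2 (CL.BF.card_eq_two_of_simple_of_central hz hzc)) ht
  refine (Nat.le_of_dvd (Nat.factorial_pos _)
    (CL.BF.card_dvd_factorial_index_of_simple hH)).trans (Nat.factorial_le ?_)
  rcases h with h | h
  · rw [h]; nlinarith
  · rw [← hcdef] at h; nlinarith

end Cfsg.Agent.S0212
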