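import Cfsg.Statements.S0213
import Cfsg.Agent.Invol.Beta

set_option autoImplicit false
open Cfsg

namespace Cfsg.Agent.S0213

/-- Thompson Order Formula, two-class case: if every involution of the finite group G is conjugate to exactly one of the non-conjugate involutions x₁, x₂, and nᵢ is the number of pairs (u, v) with u conjugate to x₁, v conjugate to x₂ and xᵢ in the cyclic group generated by uv, then |G| = |C(x₂)| n₁ + |C(x₁)| n₂. -/
theorem result {G : Type*} [Group G] [Finite G] (x₁ x₂ : G) (h₁ : orderOf x₁ = 2) (h₂ : orderOf x₂ = 2) (hnc : ¬ IsConj x₁ x₂) (hall : ∀ t : G, orderOf t = 2 → IsConj x₁ t ∨ IsConj x₂ t) : Nat.card G = Nat.card (Subgroup.centralizer ({x₂} : Set G)) * Nat.card {p : G × G // IsConj x₁ p.1 ∧ IsConj x₂ p.2 ∧ x₁ ∈ Subgroup.zpowers (p.1 * p.2)} + Nat.card (Subgroup.centralizer ({x₁} : Set G)) * Nat.card {p : G × G // IsConj x₁ p.1 ∧ IsConj x₂ p.2 ∧ x₂ ∈ Subgroup.zpowers (p.1 * p.2)}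 := by
  classical
  have := Fintype.ofFinite G
  have hc₁ := CL.BF.card_conj_mul_card_cent x₁
  have hc₂ := CL.BF.card_conj_mul_card_cent x₂
  -- the fibre count only depends on the class of `y`
  have hfib : ∀ x y : G, IsConj x y →
      Nat.card {p : G × G // IsConj x₁ p.1 ∧ IsConj x₂ p.2 ∧ y ∈ Subgroup.zpowers (p.1 * p.2)} =
      Nat.card {p : G × G // IsConj x₁ p.1 ∧ IsConj x₂ p.2 ∧ x ∈ Subgroup.zpowers (p.1 * p.2)} := by
    have hmove : ∀ (c y : G) (p : G × G),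
        (IsConj x₁ p.1 ∧ IsConj x₂ p.2 ∧ y ∈ Subgroup.zpowers (p.1 * p.2)) →
        (IsConj x₁ (c * p.1 * c⁻¹) ∧ IsConj x₂ (c * p.2 * c⁻¹) ∧
          c * y * c⁻¹ ∈ Subgroup.zpowers (c * p.1 * c⁻¹ * (c * p.2 * c⁻¹))) := by
      rintro c y ⟨u, v⟩ ⟨hu, hv, k, hk⟩
      refine ⟨hu.trans (isConj_iff.2 ⟨c, rfl⟩), hv.trans (isConj_iff.2 ⟨c, rfl⟩), k, ?_⟩
      dsimp only at hk ⊢
      rw [← hk, show c * u * c⁻¹ * (c * v * c⁻¹) = c * (u * v) * c⁻¹ by group, conj_zpow]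
    intro x y hxy
    obtain ⟨c, rfl⟩ := isConj_iff.1 hxy
    refine Nat.card_congr
      { toFun := fun p => ⟨(c⁻¹ * p.1.1 * c⁻¹⁻¹, c⁻¹ * p.1.2 * c⁻¹⁻¹), ?_⟩
        invFun := fun p => ⟨(c * p.1.1 * c⁻¹, c * p.1.2 * c⁻¹), hmove c x p.1 p.2⟩
        left_inv := fun p => by ext <;> simp [mul_assoc]
        right_inv := fun p => by ext <;> simp [mul_assoc] }
    have := hmove c⁻¹ _ p.1 p.2
    rwa [show c⁻¹ * (c * x * c⁻¹) * c⁻¹⁻¹ = x by group] at this
  -- all pairs, sorted by the involution among the powers of the product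
  have htot : Nat.card {y : G // IsConj x₁ y} * Nat.card {y : G // IsConj x₂ y} =
      ∑ y : {y : G // orderOf y = 2},
        Nat.card {p : G × G // IsConj x₁ p.1 ∧ IsConj x₂ p.2 ∧
          y.1 ∈ Subgroup.zpowers (p.1 * p.2)} := by
    rw [← Nat.card_sigma, ← Nat.card_prod]
    symm
    refine Nat.card_eq_of_bijective (fun p => (⟨p.2.1.1, p.2.2.1⟩, ⟨p.2.1.2, p.2.2.2.1⟩)) ⟨?_, ?_⟩
    · rintro ⟨⟨y, hy⟩, ⟨u, v⟩, hu, hv, h⟩ ⟨⟨y', hy'⟩, ⟨u', v'⟩, hu', hv', h'⟩ e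
      simp only [Prod.mk.injEq, Subtype.mk.injEq] at e
      obtain ⟨rfl, rfl⟩ := e
      have : y = y' := (CL.BF.eq_pow_half_of_mem_zpowers hy h).trans
        (CL.BF.eq_pow_half_of_mem_zpowers hy' h').symm
      subst this
      rfl
    · rintro ⟨⟨u, hu⟩, ⟨v, hv⟩⟩
      obtain ⟨z, hz, -, -, hzm⟩ := CL.BF.exists_ord2_commute_of_not_isConj
        (CL.BF.mul_self_of_ord2 ((CL.BF.orderOf_eq_of_isConj hu) ▸ h₁))
        (CL.BF.mul_self_of_ord2 ((CL.BF.orderOf_eq_of_isConj hv) ▸ h₂))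
        (fun h => hnc (hu.trans (h.trans hv.symm)))
      exact ⟨⟨⟨z, hz⟩, ⟨(u, v), hu, hv, hzm⟩⟩, rfl⟩
  set n₁ := Nat.card {p : G × G // IsConj x₁ p.1 ∧ IsConj x₂ p.2 ∧
    x₁ ∈ Subgroup.zpowers (p.1 * p.2)} with hn₁
  set n₂ := Nat.card {p : G × G // IsConj x₁ p.1 ∧ IsConj x₂ p.2 ∧
    x₂ ∈ Subgroup.zpowers (p.1 * p.2)} with hn₂
  have hsum : ∑ y : {y : G // orderOf y = 2},
        Nat.card {p : G × G // IsConj x₁ p.1 ∧ IsConj x₂ p.2 ∧
          y.1 ∈ Subgroup.zpowers (p.1 * p.2)} =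
      Nat.card {y : G // IsConj x₁ y} * n₁ + Nat.card {y : G // IsConj x₂ y} * n₂ := by
    have e : ∀ y : {y : G // orderOf y = 2},
        Nat.card {p : G × G // IsConj x₁ p.1 ∧ IsConj x₂ p.2 ∧
          y.1 ∈ Subgroup.zpowers (p.1 * p.2)} =
        (if IsConj x₁ y.1 then n₁ else 0) + (if IsConj x₂ y.1 then n₂ else 0) := by
      intro y
      rcases hall y.1 y.2 with h | h
      · have h' : ¬ IsConj x₂ y.1 := fun h' => hnc (h.trans h'.symm)
        rw [if_pos h, if_neg h', add_zero, hfib _ _ h]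
      · have h' : ¬ IsConj x₁ y.1 := fun h' => hnc (h'.trans h.symm)
        rw [if_pos h, if_neg h', zero_add, hfib _ _ h]
    have hcard : ∀ x : G, orderOf x = 2 →
        (Finset.univ.filter (fun y : {y : G // orderOf y = 2} => IsConj x y.1)).card =
          Nat.card {y : G // IsConj x y} := by
      intro x hx
      rw [← Fintype.card_subtype, ← Nat.card_eq_fintype_card]
      exact Nat.card_congr
        { toFun := fun y => ⟨y.1.1, y.2⟩
          invFun := fun y => ⟨⟨y.1, (CL.BF.orderOf_eq_of_isConj y.2) ▸ hx⟩, y.2⟩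
          left_inv := fun y => rfl
          right_inv := fun y => rfl }
    rw [Finset.sum_congr rfl (fun y _ => e y), Finset.sum_add_distrib, ← Finset.sum_filter,
      ← Finset.sum_filter, Finset.sum_const, Finset.sum_const, hcard _ h₁, hcard _ h₂,
      smul_eq_mul, smul_eq_mul]
  rw [hsum] at htot
  set k₁ := Nat.card {y : G // IsConj x₁ y}
  set k₂ := Nat.card {y : G // IsConj x₂ y}
  set c₁ := Nat.card (Subgroup.centralizer ({x₁} : Set G))
  set c₂ := Nat.card (Subgroup.centralizer ({x₂} : Set G))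
  have hg : 0 < Nat.card G := Nat.card_pos
  refine Nat.eq_of_mul_eq_mul_left hg ?_
  calc Nat.card G * Nat.card G = (k₁ * c₁) * (k₂ * c₂) := by rw [hc₁, hc₂]
    _ = (k₁ * k₂) * (c₁ * c₂) := by ring
    _ = (k₁ * c₁) * (c₂ * n₁) + (k₂ * c₂) * (c₁ * n₂) := by rw [htot]; ring
    _ = _ := by rw [hc₁, hc₂]; ring

end Cfsg.Agent.S0213
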