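import Cfsg.Statements.S0214
import Cfsg.Agent.Base
import Cfsg.Agent.Invol.StrEmb

set_option autoImplicit false
open Cfsg

namespace Cfsg.Agent.S0214

/-- Let H be a proper subgroup of the finite group G and P a nontrivial Sylow 2-subgroup of H. Then H is strongly embedded in G if and only if N_G(X) ≤ H for every nontrivial subgroup X of P. -/
theorem result {G : Type*} [Group G] [Finite G] (H : Subgroup G) (hH : H ≠ ⊤) (P : Sylow 2 ↥H) (hP : (P : Subgroup ↥H) ≠ ⊥) : Cfsg.IsStronglyEmbedded H ↔ (∀ X : Subgroup ↥H, X ≤ (P : Subgroup ↥H) → X ≠ ⊥ → Subgroup.normalizer ((X.map H.subtype : Subgroup G) : Set G) ≤ H) := by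
  have : Fact (Nat.Prime 2) := ⟨Nat.prime_two⟩
  constructor
  · intro h X hXP hX
    apply CL.Invol.strEmb_normalizer_le_of_isPGroup h (Subgroup.map_subtype_le X)
      ((P.isPGroup'.to_le hXP).map _)
    rwa [Ne, Subgroup.map_eq_bot_iff_of_injective _ H.subtype_injective]
  · intro h
    apply CL.Invol.isStronglyEmbedded_of_normalizers hH
    · obtain ⟨t, -, ht⟩ := CL.Invol.exists_involution_of_isPGroup P.isPGroup' hP
      exact CL.Invol.even_card_of_involution ht
    · intro X hXH hX hne
      have hX' : IsPGroup 2 (X.subgroupOf H) := hX.comap_of_injective _ H.subtype_injective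
      obtain ⟨Q, hQ⟩ := hX'.exists_le_sylow
      obtain ⟨k, hk⟩ := MulAction.exists_smul_eq H Q P
      have hle : (X.subgroupOf H).map (MulAut.conj k).toMonoidHom ≤ (P : Subgroup H) := by
        rw [← hk]
        rintro _ ⟨y, hy, rfl⟩
        exact (Subgroup.smul_mem_pointwise_smul_iff (a := MulAut.conj k)).2 (hQ hy)
      have hne' : (X.subgroupOf H).map (MulAut.conj k).toMonoidHom ≠ ⊥ := by
        rw [Ne, Subgroup.map_eq_bot_iff_of_injective _ (MulAut.conj k).injective,
          Subgroup.subgroupOf_eq_bot, disjoint_iff, inf_eq_left.2 hXH]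
        exact hne
      have h1 := h _ hle hne'
      have h2 : ((X.subgroupOf H).map (MulAut.conj k).toMonoidHom).map H.subtype =
          X.map (MulAut.conj (k : G)).toMonoidHom := by
        ext y
        constructor
        · rintro ⟨_, ⟨z, hz, rfl⟩, rfl⟩
          exact ⟨z, hz, rfl⟩
        · rintro ⟨z, hz, rfl⟩
          exact ⟨_, ⟨⟨z, hXH hz⟩, hz, rfl⟩, rfl⟩
      rw [h2, ← Subgroup.map_equiv_normalizer_eq] at h1
      intro g hg
      have h3 : (k : G) * g * (k : G)⁻¹ ∈ H := h1 ⟨g, hg, rfl⟩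
      simpa [mul_assoc] using H.mul_mem (H.mul_mem (H.inv_mem k.2) h3) k.2

end Cfsg.Agent.S0214
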