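import Cfsg.Statements.S0216
import Cfsg.Agent.Base
import Cfsg.Agent.Invol.StrEmb

set_option autoImplicit false
open Cfsg

namespace Cfsg.Agent.S0216

/-- For an involution u in a Sylow 2-subgroup P of a finite group G, the following are equivalent: no G-conjugate of u other than u lies in P; every commutator of u with an element of G has odd order. -/
theorem result {G : Type*} [Group G] [Finite G] (P : Sylow 2 G) (u : G) (hu : orderOf u = 2) (huP : u ∈ P) : (∀ g : G, g * u * g⁻¹ ∈ P → g * u * g⁻¹ = u) ↔ (∀ g : G, Odd (orderOf (u * g * u⁻¹ * g⁻¹))) := by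
  have : Fact (Nat.Prime 2) := ⟨Nat.prime_two⟩
  have hu2 := CL.Invol.mul_self_of_orderOf_two hu
  have hui := CL.Invol.inv_eq_of_orderOf_two hu
  have hcomm : ∀ g : G, u * g * u⁻¹ * g⁻¹ = u * (g * u * g⁻¹) := by
    intro g; rw [hui]; group
  have hv2 : ∀ g : G, (g * u * g⁻¹) * (g * u * g⁻¹) = 1 := fun g =>
    CL.Invol.mul_self_of_orderOf_two (CL.Invol.orderOf_conj_two hu g)
  constructor
  · intro hiso g
    rw [hcomm]
    set c := u * (g * u * g⁻¹) with hc
    have hinv : u * c * u⁻¹ = c⁻¹ := CL.Invol.left_conj_mul hu2 (hv2 g)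
    obtain ⟨k, m, hm, hkm⟩ := Nat.exists_eq_two_pow_mul_odd (orderOf_pos c).ne'
    -- `w = u * c ^ m` is a conjugate of `u` and `⟨u, w⟩` is a `2`-group
    obtain ⟨j, hj⟩ := hm
    have hw : ∃ d : G, d * u * d⁻¹ = u * c ^ m := by
      refine ⟨(c ^ j)⁻¹ * g, ?_⟩
      have h1 : g * u * g⁻¹ = u * c := by rw [hc, ← mul_assoc u u, hu2, one_mul]
      have h2 := CL.Invol.zpow_mul_of_inverts hinv (-(j : ℤ))
      rw [neg_neg, zpow_neg, zpow_natCast] at h2
      calc (c ^ j)⁻¹ * g * u * ((c ^ j)⁻¹ * g)⁻¹ = (c ^ j)⁻¹ * (g * u * g⁻¹) * c ^ j := by group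
        _ = ((c ^ j)⁻¹ * u) * c * c ^ j := by rw [h1]; group
        _ = u * c ^ m := by rw [h2, hj]; group
    obtain ⟨d, hd⟩ := hw
    have hprod : u * (d * u * d⁻¹) = c ^ m := by rw [hd, ← mul_assoc, hu2, one_mul]
    have h2g : IsPGroup 2 (Subgroup.closure ({u, d * u * d⁻¹} : Set G)) := by
      apply CL.Invol.isPGroup_closure_pair hu2 (hv2 d) (k := k)
      rw [hprod, ← pow_mul, mul_comm m, ← hkm]
      exact pow_orderOf_eq_one c
    obtain ⟨Q, hQ⟩ := h2g.exists_le_sylow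
    obtain ⟨a, rfl⟩ := MulAction.exists_smul_eq G Q P
    have e1 : a * u * a⁻¹ ∈ ((a • Q : Sylow 2 G) : Subgroup G) :=
      (Subgroup.smul_mem_pointwise_smul_iff (a := MulAut.conj a)).2
        (hQ (CL.Invol.left_mem_closure_pair _ _))
    have e2 : a * (d * u * d⁻¹) * a⁻¹ ∈ ((a • Q : Sylow 2 G) : Subgroup G) :=
      (Subgroup.smul_mem_pointwise_smul_iff (a := MulAut.conj a)).2
        (hQ (CL.Invol.right_mem_closure_pair _ _))
    have e3 := hiso a e1
    have e4 := hiso (a * d) (by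
      have : a * d * u * (a * d)⁻¹ = a * (d * u * d⁻¹) * a⁻¹ := by group
      rw [this]; exact e2)
    have e5 : d * u * d⁻¹ = u := by
      have : a * (d * u * d⁻¹) * a⁻¹ = a * u * a⁻¹ := by
        rw [e3]; exact Eq.trans (by group) e4
      simpa using this
    rw [e5, hu2] at hprod
    exact Odd.of_dvd_nat ⟨j, hj⟩ (orderOf_dvd_of_pow_eq_one hprod.symm)
  · intro h g hg
    have h1 := h g
    rw [hcomm] at h1
    have h2 : u * (g * u * g⁻¹) ∈ (P : Subgroup G) := P.1.mul_mem huP hg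
    obtain ⟨k, hk⟩ := P.isPGroup' ⟨_, h2⟩
    have hk' : (u * (g * u * g⁻¹)) ^ 2 ^ k = 1 := congrArg Subtype.val hk
    have h3 := orderOf_dvd_of_pow_eq_one hk'
    have h4 : orderOf (u * (g * u * g⁻¹)) = 1 :=
      Nat.eq_one_of_dvd_coprimes (Nat.Coprime.pow_right k (Nat.coprime_two_right.2 h1)) dvd_rfl h3
    rw [orderOf_eq_one_iff, mul_eq_one_iff_eq_inv'] at h4
    rw [h4, hui]

end Cfsg.Agent.S0216
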