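import Cfsg.Statements.S0220
import Cfsg.Agent.Base
import Cfsg.Agent.Invol.Index2

set_option autoImplicit false
open Cfsg

namespace Cfsg.Agent.S0220

/-- If x is an involution of a finite group G and a Sylow 2-subgroup of the centralizer of x is cyclic, then G has a subgroup of index 2; in particular G is not simple unless it has order 2. -/
theorem result {G : Type*} [Group G] [Finite G] (x : G) (hx : orderOf x = 2) (S : Sylow 2 ↥(Subgroup.centralizer ({x} : Set G))) (hS : IsCyclic (S : Subgroup ↥(Subgroup.centralizer ({x} : Set G)))) : ∃ H : Subgroup G, H.index = 2 := by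
  have : Fact (Nat.Prime 2) := ⟨Nat.prime_two⟩
  let C := Subgroup.centralizer ({x} : Set G)
  have hS' : IsCyclic (S : Subgroup C) := hS
  obtain ⟨P, hP⟩ := S.exists_comap_subtype_eq
  have hxC : x ∈ C := Subgroup.mem_centralizer_singleton_iff.2 rfl
  -- `x` lies in `S`
  have hxS : (⟨x, hxC⟩ : C) ∈ (S : Subgroup C) := by
    obtain ⟨g, hg⟩ := CL.Invol.exists_conj_mem_sylow (t := (⟨x, hxC⟩ : C))
      (Subtype.ext (CL.Invol.mul_self_of_orderOf_two hx)) S
    have : g * ⟨x, hxC⟩ * g⁻¹ = ⟨x, hxC⟩ := by
      apply Subtype.ext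
      have := Subgroup.mem_centralizer_singleton_iff.1 g.2
      simp [this]
    rwa [this] at hg
  have hxP : x ∈ (P : Subgroup G) := by rw [← hP] at hxS; exact hxS
  have hPne : (P : Subgroup G) ≠ ⊥ := by
    intro h
    rw [h] at hxP
    exact CL.Invol.ne_one_of_orderOf_two hx hxP
  obtain ⟨z, hzP, hz, hzc⟩ := CL.Invol.exists_central_involution P.isPGroup' hPne
  have hzC : z ∈ C := Subgroup.mem_centralizer_singleton_iff.2 (hzc x hxP)
  have hzS : (⟨z, hzC⟩ : C) ∈ (S : Subgroup C) := by rw [← hP]; exact hzP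
  have hzx : z = x := by
    have := CL.Invol.involution_unique_of_isCyclic (G := (S : Subgroup C))
      (s := ⟨_, hzS⟩) (t := ⟨_, hxS⟩)
      (by rw [← Subgroup.orderOf_coe, ← Subgroup.orderOf_coe]; exact hz)
      (by rw [← Subgroup.orderOf_coe, ← Subgroup.orderOf_coe]; exact hx)
    exact congrArg Subtype.val (congrArg Subtype.val this)
  subst hzx
  have hPC : (P : Subgroup G) ≤ C := fun y hy =>
    Subgroup.mem_centralizer_singleton_iff.2 (hzc y hy).symm
  apply CL.Invol.exists_index_two_of_isCyclic (CL.Invol.even_card_of_involution hx) P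
  have e : (S : Subgroup C) ≃* (P : Subgroup G) := by
    rw [← hP]
    exact Subgroup.subgroupOfEquivOfLe hPC
  exact isCyclic_of_surjective e e.surjective

end Cfsg.Agent.S0220
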