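import Cfsg.Agent.Base
import Cfsg.Statements.S1337
import Cfsg.Agent.S0130
import Cfsg.Agent.SigMisc.Rank

set_option autoImplicit false
open Cfsg

namespace Cfsg.Agent.S1337

open CL.SigMisc Subgroup

/-- A finite `p`-group of rank greater than two has a normal elementary abelian subgroup of
order `p ^ 2`. -/
theorem exists_normal_sq {P : Type*} [Group P] [Finite P] (p : ℕ) [hp : Fact p.Prime]
    (hP : IsPGroup p P) (hrk : ¬ Cfsg.PRankLE p 2 P) :
    ∃ U : Subgroup P, U.Normal ∧ IsElementaryAbelian p U ∧ Nat.card U = p ^ 2 := by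
  by_contra hno
  have H : ∀ V : Subgroup P, V.Normal → IsElementaryAbelian p V → Nat.card V ≤ p := by
    intro V hVn hV
    by_contra hlt
    have h2 : p ^ (1 + 1) ≤ Nat.card V := pow_succ_le_card (elemAb_isPGroup hV) (by simpa using hlt)
    obtain ⟨U, hU1, hU2, hU3⟩ := exists_normal_le_card_pow 2 hP V h2
    exact hno ⟨U, hU2, elemAb_of_le hV hU1, hU3⟩
  obtain ⟨E, hE, hEc⟩ := not_pRankLE_iff'.mp hrk
  obtain ⟨A, ⟨hAn, hAc, hAe⟩, hmax⟩ := exists_maximal_of_wellFoundedGT
    (fun A : Subgroup P => A.Normal ∧ IsMulCommutative A ∧ ∀ a ∈ A, a ^ p ^ 2 = 1)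
    ⟨⊥, inferInstance, inferInstance, fun a ha => by rw [mem_bot.mp ha, one_pow]⟩
  have hcomm : ∀ a ∈ A, ∀ b ∈ A, Commute a b := fun a ha b hb =>
    congrArg Subtype.val (hAc.is_comm.comm (⟨a, ha⟩ : A) ⟨b, hb⟩)
  have hp2 : p ^ 2 ≠ 2 := by
    intro h
    have := hp.out.two_le
    nlinarith
  have hS : ∀ x ∈ centralizer (A : Set P), x ^ p ^ 2 = 1 → x ∈ A := fun x hx hx2 =>
    Cfsg.Agent.S0130.result hP 2 hp2 A hAc hAe
      (fun B h1 h2 h3 h4 => le_antisymm (hmax ⟨h1, h2, h3⟩ h4) h4) x hx hx2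
  let W : Subgroup P :=
    { carrier := {x | x ∈ A ∧ x ^ p = 1}
      mul_mem' := fun {a b} ha hb => ⟨A.mul_mem ha.1 hb.1, by
        rw [(hcomm a ha.1 b hb.1).mul_pow, ha.2, hb.2, one_mul]⟩
      one_mem' := ⟨A.one_mem, one_pow _⟩
      inv_mem' := fun {a} ha => ⟨A.inv_mem ha.1, by rw [inv_pow, ha.2, inv_one]⟩ }
  have hWn : W.Normal := ⟨fun a ha g => ⟨hAn.conj_mem a ha.1 g, by
    rw [conj_pow, ha.2, mul_one, mul_inv_cancel]⟩⟩
  have hW : IsElementaryAbelian p W :=
    elemAb_mk (fun a ha b hb => hcomm a ha.1 b hb.1) (fun a ha => ha.2)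
  have hWc := H W hWn hW
  let f : A →* W := MonoidHom.mk' (fun a => ⟨(a : P) ^ p, A.pow_mem a.2 p, by
      rw [← pow_mul, ← sq]; exact hAe a a.2⟩)
    (fun a b => Subtype.ext ((hcomm a a.2 b b.2).mul_pow p))
  have hAcard : Nat.card A ≤ p ^ 2 := by
    have h1 : Nat.card f.ker * f.ker.index = Nat.card A := card_mul_index _
    have h2 : f.ker.index ≤ p := by
      rw [index_ker]
      exact (card_le_card_group _).trans hWc
    have h3 : Nat.card f.ker ≤ p := by
      refine le_trans ?_ hWc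
      rw [← card_map_of_injective A.subtype_injective]
      apply card_le_of_le
      rintro _ ⟨a, ha, rfl⟩
      exact ⟨a.2, congrArg Subtype.val (MonoidHom.mem_ker.mp ha)⟩
    rw [← h1, sq]
    exact Nat.mul_le_mul h3 h2
  have h1 := index_centralizer_le hP A hAcard
  have h2 := card_le_index_mul_card_inf E (centralizer (A : Set P))
  have h3 : E ⊓ centralizer (A : Set P) ≤ W := by
    rintro x ⟨hx1, hx2⟩
    refine ⟨hS x hx2 ?_, hE.2 x hx1⟩
    rw [sq, pow_mul, hE.2 x hx1, one_pow]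
  have h4 := (card_le_of_le h3).trans hWc
  have h5 := h2.trans (Nat.mul_le_mul h1 h4)
  rw [← sq] at h5
  omega

/-- Let P be a finite p-group of p-rank greater than 2. Then P has a normal elementary abelian subgroup U of order p², and for every elementary abelian X ≤ P with |X| ≥ p²: X is joined to U by a chain of pairwise commuting elementary abelian subgroups of order ≥ p² if and only if C_P(X) has p-rank greater than 2. -/
theorem result {P : Type*} [Group P] [Finite P] (p : ℕ) [Fact p.Prime] (hP : IsPGroup p P) (hrk : ¬ Cfsg.PRankLE p 2 P) : ∃ U : Subgroup P, U.Normal ∧ Cfsg.IsElementaryAbelian p U ∧ Nat.card ↥U = p ^ 2 ∧ ∀ X : Subgroup P, Cfsg.IsElementaryAbelian p X → p ^ 2 ≤ Nat.card ↥X → (Relation.ReflTransGen (fun A B : Subgroup P => Cfsg.IsElementaryAbelian p A ∧ p ^ 2 ≤ Nat.card ↥A ∧ Cfsg.IsElementaryAbelian p B ∧ p ^ 2 ≤ Nat.card ↥B ∧ ∀ a ∈ A, ∀ b ∈ B, a * b = b * a) X U ↔ ¬ Cfsg.PRankLE p 2 ↥(Subgroup.centralizer (X : Set P))) := by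
  have hp : p.Prime := Fact.out
  obtain ⟨U, hUn, hU, hUc⟩ := exists_normal_sq p hP hrk
  refine ⟨U, hUn, hU, hUc, ?_⟩
  have hidx := index_centralizer_le hP U hUc.le
  have hinf : ∀ E : Subgroup P, IsElementaryAbelian p E → p ^ 2 < Nat.card E →
      p ^ 2 ≤ Nat.card ↥(E ⊓ centralizer (U : Set P)) := by
    intro E hE hEc
    have h1 := pow_succ_le_card (elemAb_isPGroup hE) hEc
    have h2 := (card_le_index_mul_card_inf E (centralizer (U : Set P))).trans
      (Nat.mul_le_mul_right _ hidx)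
    rw [pow_succ'] at h1
    exact Nat.le_of_mul_le_mul_left (h1.trans h2) hp.pos
  -- two distinct adjacent vertices
  have hadj : ∀ A B : Subgroup P, IsElementaryAbelian p A → p ^ 2 ≤ Nat.card A →
      IsElementaryAbelian p B → p ^ 2 ≤ Nat.card B → (∀ a ∈ A, ∀ b ∈ B, a * b = b * a) → A ≠ B →
      ¬ Cfsg.PRankLE p 2 ↥(centralizer (A : Set P)) := by
    intro A B hA hAc hB hBc hAB hne
    rw [not_pRankLE_iff]
    refine ⟨A ⊔ B, sup_le (elemAb_le_centralizer hA)
      (fun b hb => mem_centralizer_iff.mpr fun a ha => hAB a ha b hb), elemAb_sup hA hB hAB, ?_⟩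
    by_cases h : B ≤ A
    · exact lt_of_le_of_lt hBc (card_lt_of_lt (lt_of_lt_of_le (lt_of_le_of_ne h hne.symm) le_sup_left))
    · exact lt_of_le_of_lt hAc (card_lt_of_lt (left_lt_sup.mpr h))
  intro X hX hXc
  constructor
  · intro h
    induction h using Relation.ReflTransGen.head_induction_on with
    | refl =>
      obtain ⟨E, hE, hEc⟩ := not_pRankLE_iff'.mp hrk
      by_cases hUE : U ≤ E
      · exact not_pRankLE_iff.mpr ⟨E, fun e he => mem_centralizer_iff.mpr fun u hu =>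
          elemAb_comm hE (hUE hu) he, hE, hEc⟩
      · refine hadj U (E ⊓ centralizer (U : Set P)) hU hUc.ge (elemAb_of_le hE inf_le_left)
          (hinf E hE hEc) (fun a ha b hb => mem_centralizer_iff.mp hb.2 a ha) ?_
        intro h
        exact hUE (h ▸ inf_le_left)
    | @head A B hAB _ ih =>
      obtain ⟨h1, h2, h3, h4, h5⟩ := hAB
      by_cases hne : A = B
      · subst hne; exact ih h1 h2
      · exact hadj A B h1 h2 h3 h4 h5 hne
  · intro h
    obtain ⟨E, hEX, hE, hEc⟩ := not_pRankLE_iff.mp h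
    have h1 := hinf E hE hEc
    have h2 := elemAb_of_le hE (inf_le_left : E ⊓ centralizer (U : Set P) ≤ E)
    refine Relation.ReflTransGen.head (b := E ⊓ centralizer (U : Set P))
      ⟨hX, hXc, h2, h1, fun a ha b hb => mem_centralizer_iff.mp (hEX hb.1) a ha⟩ ?_
    exact Relation.ReflTransGen.single
      ⟨h2, h1, hU, hUc.ge, fun a ha b hb => (mem_centralizer_iff.mp ha.2 b hb).symm⟩

end Cfsg.Agent.S1337
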