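import Cfsg.Statements.S0221
import Cfsg.Agent.Base
import Cfsg.Agent.Invol.KleinSylow
import Cfsg.Agent.PGrp.Basic
import Cfsg.Agent.S0111
import Cfsg.Agent.S1337

set_option autoImplicit false
open Cfsg

namespace Cfsg.Agent.S0221

theorem comm_of_sq {G : Type*} [Group G] {E : Subgroup G} (hE : ∀ e ∈ E, e ^ 2 = 1) {a b : G}
    (ha : a ∈ E) (hb : b ∈ E) : a * b = b * a := by
  have h : ∀ e ∈ E, e⁻¹ = e := fun e he =>
    inv_eq_of_mul_eq_one_right (by rw [← pow_two]; exact hE e he)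
  rw [← h _ (E.mul_mem ha hb), mul_inv_rev, h a ha, h b hb]

theorem sq_of_sup {G : Type*} [Group G] {A B : Subgroup G} (hA : ∀ e ∈ A, e ^ 2 = 1)
    (hB : ∀ e ∈ B, e ^ 2 = 1) (hAB : ∀ a ∈ A, ∀ b ∈ B, a * b = b * a) :
    ∀ e ∈ A ⊔ B, e ^ 2 = 1 := by
  have hle : B ≤ Subgroup.normalizer (A : Set G) := by
    rw [Subgroup.le_normalizer_iff]
    intro b hb a ha
    rw [← hAB a ha b hb, mul_inv_cancel_right]; exact ha
  intro e he
  have h1 : e ∈ ((A ⊔ B : Subgroup G) : Set G) := he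
  rw [Subgroup.coe_mul_of_right_le_normalizer_left A B hle] at h1
  obtain ⟨a, ha, b, hb, rfl⟩ := h1
  have hc : Commute a b := hAB a ha b hb
  show (a * b) ^ 2 = 1
  rw [hc.mul_pow, hA a ha, hB b hb, one_mul]

theorem exists_eight {G : Type*} [Group G] [Finite G] {A : Subgroup G} (hA : ∀ e ∈ A, e ^ 2 = 1)
    (h : 4 < Nat.card A) : ∃ E : Subgroup G, E ≤ A ∧ Nat.card E = 8 := by
  have : Fact (Nat.Prime 2) := ⟨Nat.prime_two⟩
  have hp : IsPGroup 2 A := fun x => ⟨1, Subtype.ext (by simpa using hA x x.2)⟩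
  obtain ⟨n, hn⟩ := hp.exists_card_eq
  have h3 : 3 ≤ n := by
    by_contra hlt
    have : 2 ^ n ≤ 2 ^ 2 := Nat.pow_le_pow_right (by norm_num) (by omega)
    omega
  obtain ⟨K, hK⟩ := Sylow.exists_subgroup_card_pow_prime (G := A) 2 (n := 3)
    (by rw [hn]; exact pow_dvd_pow 2 h3)
  exact ⟨K.map A.subtype, Subgroup.map_subtype_le K,
    by rw [Subgroup.card_map_of_injective A.subtype_injective, hK]; norm_num⟩

theorem card_lt_of_lt {G : Type*} [Group G] [Finite G] {A B : Subgroup G} (h : A < B) :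
    Nat.card A < Nat.card B := by
  refine lt_of_le_of_ne (Subgroup.card_le_of_le h.le) fun he => h.ne ?_
  exact Subgroup.eq_of_le_of_card_ge h.le he.ge

/-- In a `2`-group `P` with an elementary abelian subgroup of order `8` and a normal four-subgroup
`U`, every involution centralizing `U` is centralized by an elementary abelian group of order 8. -/
theorem exists_of_mem_centralizer {P : Type*} [Group P] [Finite P] (hP : IsPGroup 2 P)
    (U : Subgroup P) [U.Normal] (hU2 : ∀ e ∈ U, e ^ 2 = 1) (hU : Nat.card U = 2 ^ 2)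
    (E : Subgroup P) (hE : Nat.card E = 8) (hE2 : ∀ e ∈ E, e ^ 2 = 1) (y : P) (hy : y ^ 2 = 1)
    (hyU : y ∈ Subgroup.centralizer (U : Set P)) :
    ∃ A : Subgroup P, A ≤ Subgroup.centralizer ({y} : Set P) ∧ Nat.card A = 8 ∧
      ∀ e ∈ A, e ^ 2 = 1 := by
  have : Fact (Nat.Prime 2) := ⟨Nat.prime_two⟩
  suffices h : ∃ A : Subgroup P, A ≤ Subgroup.centralizer ({y} : Set P) ∧ 4 < Nat.card A ∧
      ∀ e ∈ A, e ^ 2 = 1 by
    obtain ⟨A, h1, h2, h3⟩ := h
    obtain ⟨B, h4, h5⟩ := exists_eight h3 h2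
    exact ⟨B, h4.trans h1, h5, fun e he => h3 e (h4 he)⟩
  have hUy : U ≤ Subgroup.centralizer ({y} : Set P) := fun u hu =>
    Subgroup.mem_centralizer_singleton_iff.2 (hyU u hu)
  by_cases hyU' : y ∈ U
  · set C := Subgroup.centralizer (U : Set P) with hC
    have hCy : C ≤ Subgroup.centralizer ({y} : Set P) :=
      Subgroup.centralizer_le (Set.singleton_subset_iff.2 hyU')
    by_cases hEC : E ≤ C
    · exact ⟨E, hEC.trans hCy, by omega, hE2⟩
    have hi : C.index ≤ 2 := by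
      simpa using CL.PGrp.index_centralizer_le hP 2 U hU
    have h1 := CL.PGrp.card_inf_mul_relIndex C E
    have h2 : C.relIndex E ≤ 2 :=
      (Subgroup.relIndex_le_of_le_right le_top (by
        rw [Subgroup.relIndex_top_right]; exact Subgroup.index_ne_zero_of_finite)).trans
        (by rw [Subgroup.relIndex_top_right]; exact hi)
    have h3 : 4 ≤ Nat.card (C ⊓ E : Subgroup P) := by
      rw [hE] at h1
      nlinarith
    refine ⟨U ⊔ (C ⊓ E), sup_le hUy (inf_le_left.trans hCy), ?_,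
      sq_of_sup hU2 (fun e he => hE2 e he.2) (fun a ha b hb => hb.1 a ha)⟩
    have h4 : U < U ⊔ (C ⊓ E) := by
      rw [left_lt_sup]
      intro hle
      have h5 : C ⊓ E = U := Subgroup.eq_of_le_of_card_ge hle (by omega)
      apply hEC
      intro e he u hu
      rw [← h5] at hu
      exact comm_of_sq hE2 hu.2 he
    have := card_lt_of_lt h4
    omega
  · have hz : ∀ e ∈ Subgroup.zpowers y, e ^ 2 = 1 := by
      intro e he
      obtain ⟨k, rfl⟩ := Subgroup.mem_zpowers_iff.1 he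
      rw [← zpow_natCast, ← zpow_mul, mul_comm k, zpow_mul, zpow_natCast, hy, one_zpow]
    refine ⟨U ⊔ Subgroup.zpowers y, sup_le hUy ?_, ?_, sq_of_sup hU2 hz ?_⟩
    · rw [Subgroup.zpowers_le, Subgroup.mem_centralizer_singleton_iff]
    · have h4 : U < U ⊔ Subgroup.zpowers y := by
        rw [left_lt_sup, Subgroup.zpowers_le]
        exact hyU'
      have := card_lt_of_lt h4
      omega
    · intro a ha b hb
      obtain ⟨k, rfl⟩ := Subgroup.mem_zpowers_iff.1 hb
      exact (Commute.zpow_right (hyU a ha) k).eq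

/-- Let G be a finite group with no subgroup of index 2 whose 2-rank is at least 3 (it contains an elementary abelian subgroup of order 8). Then the centralizer of every involution of G also contains an elementary abelian subgroup of order 8. -/
theorem result {G : Type*} [Group G] [Finite G] (hno : ∀ H : Subgroup G, H.index ≠ 2) (hrank : ∃ E : Subgroup G, Nat.card E = 8 ∧ ∀ e ∈ E, e ^ 2 = 1) (x : G) (hx : orderOf x = 2) : ∃ E : Subgroup G, E ≤ Subgroup.centralizer ({x} : Set G) ∧ Nat.card E = 8 ∧ ∀ e ∈ E, e ^ 2 = 1 := by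
  have : Fact (Nat.Prime 2) := ⟨Nat.prime_two⟩
  obtain ⟨E, hE, hE2⟩ := hrank
  have hEp : IsPGroup 2 E := IsPGroup.of_card (n := 3) (by rw [hE]; norm_num)
  obtain ⟨P, hEP⟩ := hEp.exists_le_sylow
  have hE' : Nat.card (E.subgroupOf P) = 8 := by
    rw [Nat.card_congr (Subgroup.subgroupOfEquivOfLe hEP).toEquiv, hE]
  have hE2' : ∀ e ∈ E.subgroupOf P, e ^ 2 = 1 := fun e he => Subtype.ext (hE2 e he)
  obtain ⟨U, hUn, ⟨-, hU2⟩, hU, -⟩ := Cfsg.Agent.S1337.result (P := (P : Subgroup G)) 2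
    P.isPGroup' (by
      intro h
      have := h (E.subgroupOf P) ⟨⟨fun a b => Subtype.ext (comm_of_sq hE2' a.2 b.2)⟩⟩ hE2'
      omega)
  -- some conjugate of `x` lies in `C_P(U)`
  set C := Subgroup.centralizer (U : Set (P : Subgroup G)) with hC
  obtain ⟨g, hg⟩ : ∃ g : G, g * x * g⁻¹ ∈ C.map (P : Subgroup G).subtype := by
    obtain ⟨a, ha⟩ := CL.Invol.exists_conj_mem_sylow (CL.Invol.mul_self_of_orderOf_two hx) P
    by_cases haC : a * x * a⁻¹ ∈ C.map (P : Subgroup G).subtype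
    · exact ⟨a, haC⟩
    have hi : C.index ≤ 2 := by
      simpa using CL.PGrp.index_centralizer_le P.isPGroup' 2 U hU
    have hi1 : C.index ≠ 1 := by
      intro h
      rw [Subgroup.index_eq_one] at h
      exact haC ⟨⟨_, ha⟩, by rw [h]; trivial, rfl⟩
    have hi0 : C.index ≠ 0 := Subgroup.index_ne_zero_of_finite
    have hi2 : (C.map (P : Subgroup G).subtype).relIndex (P : Subgroup G) = 2 := by
      rw [Subgroup.relIndex, Subgroup.subgroupOf,
        Subgroup.comap_map_eq_self_of_injective (Subgroup.subtype_injective _)]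
      omega
    rcases Cfsg.Agent.S0111.result P _ (Subgroup.map_subtype_le C) hi2 _
      (CL.Invol.orderOf_conj_two hx a) ha haC with ⟨M, -, hM, -⟩ | ⟨b, hb⟩
    · exact absurd hM (hno M)
    · exact ⟨b * a, by convert hb using 1; group⟩
  obtain ⟨y, hyC, hy⟩ := hg
  have hy' : (y : G) = g * x * g⁻¹ := hy
  have hy2 : y ^ 2 = 1 := Subtype.ext (by
    rw [Subgroup.coe_pow, hy']
    exact CL.Invol.sq_of_orderOf_two (CL.Invol.orderOf_conj_two hx g))
  obtain ⟨A, hA1, hA2, hA3⟩ := exists_of_mem_centralizer P.isPGroup' U hU2 hU _ hE' hE2' y hy2 hyC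
  refine ⟨(A.map (P : Subgroup G).subtype).map (MulAut.conj g⁻¹).toMonoidHom, ?_, ?_, ?_⟩
  · rintro _ ⟨_, ⟨a, ha, rfl⟩, rfl⟩
    have h1 : (a : G) * y = y * a :=
      congrArg Subtype.val (Subgroup.mem_centralizer_singleton_iff.1 (hA1 ha))
    rw [Subgroup.mem_centralizer_singleton_iff]
    rw [hy'] at h1
    show g⁻¹ * a * g⁻¹⁻¹ * x = x * (g⁻¹ * a * g⁻¹⁻¹)
    calc g⁻¹ * a * g⁻¹⁻¹ * x = g⁻¹ * (a * (g * x * g⁻¹)) * g := by group
      _ = _ := by rw [h1]; group
  · rw [Subgroup.card_map_of_injective (MulAut.conj g⁻¹).injective,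
      Subgroup.card_map_of_injective (Subgroup.subtype_injective _), hA2]
  · rintro _ ⟨_, ⟨a, ha, rfl⟩, rfl⟩
    rw [← map_pow, ← map_pow, hA3 a ha, map_one, map_one]

end Cfsg.Agent.S0221
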