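import Cfsg.Statements.S0223
import Cfsg.Agent.Base
import Cfsg.Agent.Invol.StrEmb

set_option autoImplicit false
open Cfsg

namespace Cfsg.Agent.S0223

/-- Let H be a proper subgroup of even order of the finite group G. Then H is strongly embedded if and only if (i) C_G(t) ≤ H for every involution t of H and (ii) H controls fusion of its involutions: involutions of H conjugate in G are conjugate in H. -/
theorem result {G : Type*} [Group G] [Finite G] (H : Subgroup G) (hH : H ≠ ⊤) (heven : Even (Nat.card H)) : Cfsg.IsStronglyEmbedded H ↔ ((∀ t ∈ H, orderOf t = 2 → Subgroup.centralizer ({t} : Set G) ≤ H) ∧ (∀ t ∈ H, ∀ s ∈ H, orderOf t = 2 → orderOf s = 2 → IsConj t s → ∃ h ∈ H, h * t * h⁻¹ = s)) := by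
  constructor
  · intro h
    refine ⟨fun t htH ht => CL.Invol.strEmb_centralizer_le h htH ht, ?_⟩
    intro t htH s hsH ht hs _
    exact CL.Invol.strEmb_exists_conj_mem h ht hs htH hsH
  · rintro ⟨h1, h2⟩
    rw [CL.Invol.isStronglyEmbedded_iff]
    refine ⟨hH, heven, fun t htH ht g hg => ?_⟩
    obtain ⟨k, hk, hk'⟩ := h2 t htH _ hg ht (CL.Invol.orderOf_conj_two ht g)
      (isConj_iff.2 ⟨g, rfl⟩)
    have h3 : k⁻¹ * g ∈ H := by
      apply h1 t htH ht
      rw [Subgroup.mem_centralizer_singleton_iff]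
      calc k⁻¹ * g * t = k⁻¹ * (g * t * g⁻¹) * g := by group
        _ = t * (k⁻¹ * g) := by rw [← hk']; group
    simpa using H.mul_mem hk h3

end Cfsg.Agent.S0223
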