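import Cfsg.Statements.S0224
import Cfsg.Agent.Base
import Cfsg.Agent.Invol.StrEmb

set_option autoImplicit false
open Cfsg

namespace Cfsg.Agent.S0224

/-- Let H be a proper subgroup of even order of the finite group G. Then H is strongly embedded if and only if each involution of H fixes exactly one point (namely the coset H) in the action of G on the cosets of H. -/
theorem result {G : Type*} [Group G] [Finite G] (H : Subgroup G) (hH : H ≠ ⊤) (heven : Even (Nat.card H)) : Cfsg.IsStronglyEmbedded H ↔ ∀ t ∈ H, orderOf t = 2 → Nat.card {c : G ⧸ H // t • c = c} = 1 := by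
  have key : ∀ t g : G, t • (g : G ⧸ H) = (g : G ⧸ H) ↔ g⁻¹ * t * g ∈ H := by
    intro t g
    rw [MulAction.Quotient.smul_coe, smul_eq_mul, eq_comm, QuotientGroup.eq, mul_assoc]
  constructor
  · intro h t htH ht
    rw [Nat.card_eq_one_iff_exists]
    refine ⟨⟨((1 : G) : G ⧸ H), (key t 1).2 (by simpa using htH)⟩, ?_⟩
    rintro ⟨c, hc⟩
    obtain ⟨g, rfl⟩ := QuotientGroup.mk_surjective c
    apply Subtype.ext
    have := CL.Invol.strEmb_mem_of_conj_mem' h htH ht ((key t g).1 hc)
    show (g : G ⧸ H) = ((1 : G) : G ⧸ H)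
    rw [QuotientGroup.eq]
    simpa using this
  · intro h
    rw [CL.Invol.isStronglyEmbedded_iff]
    refine ⟨hH, heven, fun t htH ht g hg => ?_⟩
    have h1 := (Nat.card_eq_one_iff_unique.1 (h t htH ht)).1
    have h2 := h1.elim ⟨((1 : G) : G ⧸ H), (key t 1).2 (by simpa using htH)⟩
      ⟨((g⁻¹ : G) : G ⧸ H), (key t g⁻¹).2 (by simpa using hg)⟩
    have h3 : ((1 : G) : G ⧸ H) = ((g⁻¹ : G) : G ⧸ H) := congrArg Subtype.val h2
    rw [QuotientGroup.eq] at h3
    simpa using h3

end Cfsg.Agent.S0224
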