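import Cfsg.Statements.S0226
import Cfsg.Agent.Invol.Beta

set_option autoImplicit false
open Cfsg

namespace Cfsg.Agent.S0226

/-- A finite group of even order has an odd number of involutions. -/
theorem result {G : Type*} [Group G] [Finite G] (heven : Even (Nat.card G)) : Odd (Nat.card {t : G // orderOf t = 2}) := by
  classical
  have := Fintype.ofFinite G
  have : Fact (Nat.Prime 2) := ⟨Nat.prime_two⟩
  let f : Function.End G := fun x : G => x⁻¹
  have h1 := Equiv.Perm.card_fixedPoints_modEq (α := G) (f := f)
    (p := 2) (n := 1) (by rw [pow_one, pow_two]; funext x; exact inv_inv x)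
  have h2 := CL.BF.card_sq_eq_one (G := G) (fun _ => True) trivial
  have h3 : Fintype.card (Function.fixedPoints f) =
      Nat.card {t : G // t * t = 1 ∧ True} := by
    rw [← Nat.card_eq_fintype_card]
    refine Nat.card_congr (Equiv.subtypeEquivRight fun x => ?_)
    change x⁻¹ = x ↔ _
    simp [inv_eq_iff_mul_eq_one]
  rw [h3, h2, ← Nat.card_eq_fintype_card] at h1
  simp only [and_true] at h1
  rw [Nat.odd_iff]
  rw [Nat.even_iff] at heven
  unfold Nat.ModEq at h1
  omega

end Cfsg.Agent.S0226
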