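import Cfsg.Statements.S0227
import Cfsg.Agent.Base
import Cfsg.Agent.Invol.AutSylow
import Cfsg.Agent.S0205

set_option autoImplicit false
open Cfsg

namespace Cfsg.Agent.S0227

/-- Let G be a finite group with no nontrivial normal subgroup of odd order, S a Sylow 2-subgroup, and C the group of automorphisms of G that fix every element of S. Then every Sylow 2-subgroup of C is abelian and has a normal complement in C; in particular C is solvable. -/
theorem result {G : Type*} [Group G] [Finite G] (hO : ∀ N : Subgroup G, N.Normal → Odd (Nat.card N) → N = ⊥) (S : Sylow 2 G) (C : Subgroup (MulAut G)) (hC : ∀ φ : MulAut G, φ ∈ C ↔ ∀ s : G, s ∈ S → φ s = s) : (∀ T : Sylow 2 ↥C, (∀ a b : ↥T, a * b = b * a) ∧ ∃ N : Subgroup ↥C, N.Normal ∧ Subgroup.IsComplement' N (T : Subgroup ↥C)) ∧ Group.IsSolvable ↥C := by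
  have : Fact (Nat.Prime 2) := ⟨Nat.prime_two⟩
  obtain ⟨K, hK, -, hcomm, hpow, hone⟩ := CL.AutSyl.exists_kernel hO S C.subtype
    (fun a => (hC a.1).1 a.2)
  have hodd : ¬ 2 ∣ Nat.card K := by
    intro h
    obtain ⟨⟨a, ha⟩, ha2⟩ := exists_prime_orderOf_dvd_card' (G := K) 2 h
    rw [← Subgroup.orderOf_coe] at ha2
    refine CL.BF.ne_one_of_ord2 ha2 (Subtype.ext (hone a ha 1 ?_))
    rw [← map_pow, pow_one, pow_two, CL.BF.mul_self_of_ord2 ha2, map_one]
  have hq : IsPGroup 2 (↥C ⧸ K) := by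
    obtain ⟨k, hk⟩ := S.isPGroup'.exists_card_eq
    intro q
    obtain ⟨a, rfl⟩ := QuotientGroup.mk_surjective q
    exact ⟨k, by rw [← QuotientGroup.mk_pow, QuotientGroup.eq_one_iff, ← hk]; exact hpow a⟩
  obtain ⟨k, hk⟩ := IsPGroup.iff_card.1 hq
  refine ⟨fun T => ?_, ?_⟩
  · have hc := CL.Transfer.isComplement'_sylow_of_not_dvd hodd hk T
    refine ⟨fun a b => Subtype.ext ?_, K, hK, hc⟩
    have h1 := Subgroup.disjoint_def.1 hc.disjoint (hcomm a b)
      (mul_mem (mul_mem (mul_mem a.2 b.2) (inv_mem a.2)) (inv_mem b.2))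
    rw [mul_inv_eq_one, mul_inv_eq_iff_eq_mul] at h1
    exact h1
  · have h1 : Group.IsSolvable K := Cfsg.Agent.S0205.result (Nat.odd_iff.2 (by omega))
    have h2 := hq.isNilpotent
    exact (Group.isSolvable_iff_subgroup_quotient K).2 ⟨h1, inferInstance⟩

end Cfsg.Agent.S0227
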