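import Cfsg.Statements.S0228
import Cfsg.Agent.Invol.BFCor

set_option autoImplicit false
open Cfsg

namespace Cfsg.Agent.S0228

/-- A group of order 12 in which no involution is central is isomorphic to the alternating group on four letters. -/
theorem result {G : Type*} [Group G] [Finite G] (hG : Nat.card G = 12) (hz : ∀ z : G, orderOf z = 2 → z ∉ Subgroup.center G) : Nonempty (G ≃* alternatingGroup (Fin 4)) := by
  classical
  have : Fact (Nat.Prime 3) := ⟨Nat.prime_three⟩
  have : Fact (Nat.Prime 2) := ⟨Nat.prime_two⟩
  obtain ⟨x, hx⟩ := exists_prime_orderOf_dvd_card' (G := G) 3 (by rw [hG]; norm_num)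
  set P := Subgroup.zpowers x with hPdef
  have hP : Nat.card P = 3 := by rw [Nat.card_zpowers, hx]
  have hPi : P.index = 4 := by
    have := P.card_mul_index
    rw [hP, hG] at this
    omega
  have hcore : P.normalCore = ⊥ := by
    have : Fact (Nat.card P).Prime := ⟨hP ▸ Nat.prime_three⟩
    rcases (P.normalCore.subgroupOf P).eq_bot_or_eq_top_of_prime_card with h | h
    · rw [Subgroup.subgroupOf_eq_bot] at h
      exact h.eq_bot_of_le P.normalCore_le
    · exfalso
      rw [Subgroup.subgroupOf_eq_top] at h
      have hnorm : P.Normal := by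
        rw [le_antisymm h P.normalCore_le]
        exact P.normalCore_normal
      -- a Sylow 2-subgroup is abelian of order 4
      obtain ⟨S⟩ : Nonempty (Sylow 2 G) := inferInstance
      have hS : Nat.card S = 2 ^ 2 := by
        rw [S.card_eq_multiplicity, hG]
        congr 1
        decide +kernel
      have hScomm : ∀ a ∈ (S : Subgroup G), ∀ b ∈ (S : Subgroup G), a * b = b * a := by
        intro a ha b hb
        have := (IsPGroup.isMulCommutative_of_card_eq_prime_sq hS).is_comm.comm ⟨a, ha⟩ ⟨b, hb⟩
        exact congrArg Subtype.val this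
      -- conjugation sends x to x or x⁻¹
      have hconj : ∀ g : G, g * x * g⁻¹ = x ∨ g * x * g⁻¹ = x⁻¹ := by
        intro g
        have h1 := hnorm.conj_mem x (Subgroup.mem_zpowers x) g
        rw [hPdef, mem_zpowers_iff_mem_range_orderOf, hx] at h1
        simp only [Finset.mem_image, Finset.mem_range] at h1
        obtain ⟨k, hk, hk'⟩ := h1
        have hx3 : x ^ 3 = 1 := hx ▸ pow_orderOf_eq_one x
        interval_cases k
        · exfalso
          have := CL.BF.orderOf_conj_eq g x
          rw [← hk', pow_zero, orderOf_one, hx] at this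
          omega
        · left; rw [← hk', pow_one]
        · right; rw [← hk']; exact eq_inv_of_mul_eq_one_left (by rw [← pow_succ, hx3])
      have hext : CL.BF.extCent x = ⊤ := eq_top_iff.2 (fun g _ => hconj g)
      have hcx : 6 ∣ Nat.card (Subgroup.centralizer ({x} : Set G)) := by
        by_cases hr : IsConj x x⁻¹
        · have h1 := CL.BF.card_extCent (x := x) (fun h => by
            have h2 : orderOf x ∣ 2 := orderOf_dvd_of_pow_eq_one (by rw [pow_two, h])
            rw [hx] at h2; omega) hr
          rw [hext, Subgroup.card_top, hG] at h1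
          exact ⟨1, by omega⟩
        · have : Subgroup.centralizer ({x} : Set G) = ⊤ := eq_top_iff.2 (fun g _ =>
            CL.BF.mem_cent_iff_conj.2 ((hconj g).resolve_right
              (fun h => hr (isConj_iff.2 ⟨g, h⟩))))
          rw [this, Subgroup.card_top, hG]
          norm_num
      obtain ⟨⟨t, htc⟩, ht⟩ := exists_prime_orderOf_dvd_card'
        (G := Subgroup.centralizer ({x} : Set G)) 2 (dvd_trans (by norm_num) hcx)
      rw [← Subgroup.orderOf_coe] at ht
      dsimp only at ht
      have ht2 := CL.BF.mul_self_of_ord2 ht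
      obtain ⟨T, htT, -⟩ := CL.BF.exists_sylow_of_commute ht2 ht2 rfl
      obtain ⟨g, rfl⟩ := MulAction.exists_smul_eq G T S
      have hz' := CL.BF.conj_mem_smul_sylow T g htT
      set z := g * t * g⁻¹ with hzdef
      have hzo : orderOf z = 2 := by rw [hzdef, CL.BF.orderOf_conj_eq, ht]
      apply hz z hzo
      have h4 : 4 ∣ Nat.card (Subgroup.centralizer ({z} : Set G)) := by
        have : (↑(g • T : Sylow 2 G) : Subgroup G) ≤ Subgroup.centralizer ({z} : Set G) :=
          fun a ha => CL.BF.mem_cent_iff.2 (hScomm a ha z hz')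
        have h5 := Subgroup.card_dvd_of_le this
        rwa [hS] at h5
      have h3 : 3 ∣ Nat.card (Subgroup.centralizer ({z} : Set G)) := by
        rw [← CL.BF.card_cent_conj (isConj_iff.2 ⟨g, rfl⟩), ← hx]
        exact Subgroup.orderOf_dvd_natCard _
          (CL.BF.mem_cent_iff.2 (CL.BF.mem_cent_iff.1 htc).symm)
      have h12 : 12 ∣ Nat.card (Subgroup.centralizer ({z} : Set G)) :=
        Nat.Coprime.mul_dvd_of_dvd_of_dvd (by norm_num : Nat.Coprime 4 3) h4 h3
      have htop : Subgroup.centralizer ({z} : Set G) = ⊤ :=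
        Subgroup.eq_top_of_le_card _ (hG ▸ Nat.le_of_dvd Nat.card_pos h12)
      rw [Subgroup.mem_center_iff]
      intro y
      exact CL.BF.mem_cent_iff.1 (htop ▸ Subgroup.mem_top y)
  have hinj : Function.Injective (MulAction.toPermHom G (G ⧸ P)) := by
    rw [← MonoidHom.ker_eq_bot_iff, ← Subgroup.normalCore_eq_ker, hcore]
  have := Fintype.ofFinite (G ⧸ P)
  let e : (G ⧸ P) ≃ Fin 4 := Finite.equivFinOfCardEq hPi
  let φ : G →* Equiv.Perm (Fin 4) := e.permCongrHom.toMonoidHom.comp (MulAction.toPermHom G (G ⧸ P))
  have hφ : Function.Injective φ := e.permCongrHom.injective.comp hinj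
  have hr : φ.range = alternatingGroup (Fin 4) := by
    apply Equiv.Perm.eq_alternatingGroup_of_index_eq_two
    have h1 := φ.range.card_mul_index
    rw [← Nat.card_congr (MonoidHom.ofInjective hφ).toEquiv, hG, Nat.card_perm] at h1
    simp only [Nat.card_eq_fintype_card, Fintype.card_fin] at h1
    have : Nat.factorial 4 = 24 := rfl
    omega
  exact ⟨(MonoidHom.ofInjective hφ).trans (MulEquiv.subgroupCongr hr)⟩

end Cfsg.Agent.S0228
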