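import Cfsg.Statements.S0229
import Cfsg.Agent.Invol.BFCor

set_option autoImplicit false
open Cfsg

namespace Cfsg.Agent.S0229

/-- Let t be an involution of a Sylow 2-subgroup S of a finite group G, conjugate in G to no other element of S, and let s be an involution of G not conjugate to t. Then the order of st is twice an odd number. -/
theorem result {G : Type*} [Group G] [Finite G] (S : Sylow 2 G) (t : G) (ht : orderOf t = 2) (htS : t ∈ S) (hiso : ∀ g : G, g * t * g⁻¹ ∈ S → g * t * g⁻¹ = t) (s : G) (hs : orderOf s = 2) (hns : ¬ IsConj s t) : orderOf (s * t) % 4 = 2 := by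
  have : Fact (Nat.Prime 2) := ⟨Nat.prime_two⟩
  have hs2 := CL.BF.mul_self_of_ord2 hs
  have ht2 := CL.BF.mul_self_of_ord2 ht
  have hev : Even (orderOf (s * t)) := by
    by_contra hne
    exact hns (CL.BF.isConj_of_odd hs2 ht2 (Nat.not_even_iff_odd.1 hne))
  by_contra hne
  obtain ⟨k, hk⟩ : 4 ∣ orderOf (s * t) := by
    rw [Nat.even_iff] at hev
    omega
  have hz := CL.BF.ord2_pow_half hev
  have hk2 : orderOf (s * t) / 2 = k + k := by omega
  rw [hk2] at hz
  have hinv := CL.BF.inverts_mul_right hs2 ht2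
  have hcomm := CL.BF.commute_of_inverts hinv (CL.BF.mul_self_of_ord2 hz)
  have hconj : (s * t) ^ k * t * ((s * t) ^ k)⁻¹ = (s * t) ^ (k + k) * t := by
    rw [← CL.BF.inverts_pow hinv k, pow_add, CL.BF.inv_eq_of_ord2 ht]
    calc (s * t) ^ k * t * (t * (s * t) ^ k * t) = (s * t) ^ k * (t * t) * (s * t) ^ k * t := by
          group
      _ = _ := by rw [ht2, mul_one]
  set z := (s * t) ^ (k + k)
  have hzt2 : z * t * (z * t) = 1 := by
    calc z * t * (z * t) = z * (t * z) * t := by group
      _ = 1 := by rw [hcomm, ← mul_assoc, CL.BF.mul_self_of_ord2 hz, one_mul, ht2]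
  obtain ⟨P, htP, hzP⟩ := CL.BF.exists_sylow_of_commute ht2 hzt2
    (by rw [← mul_assoc, hcomm])
  obtain ⟨g, rfl⟩ := MulAction.exists_smul_eq G P S
  have e1 := hiso g (CL.BF.conj_mem_smul_sylow P g htP)
  have e2 := CL.BF.conj_mem_smul_sylow P g hzP
  have e3 : g * (z * t) * g⁻¹ = g * (s * t) ^ k * t * (g * (s * t) ^ k)⁻¹ := by
    rw [← hconj]; group
  have e4 := hiso _ (e3 ▸ e2)
  rw [← e3] at e4
  have e5 : z * t = t := by
    have := e4.trans e1.symm
    simpa using this
  exact CL.BF.ne_one_of_ord2 hz (by simpa using e5)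

end Cfsg.Agent.S0229
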