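import Cfsg.Statements.S0230
import Cfsg.Agent.Invol.Beta

set_option autoImplicit false
open Cfsg

namespace Cfsg.Agent.S0230

/-- Let G be a finite group with two non-conjugate involutions, and let t be an involution whose centralizer has maximal order among centralizers of involutions. Then |G| < |C_G(t)|^3. -/
theorem result {G : Type*} [Group G] [Finite G] (s t : G) (hs : orderOf s = 2) (ht : orderOf t = 2) (hnc : ¬ IsConj s t) (hmax : ∀ u : G, orderOf u = 2 → Nat.card (Subgroup.centralizer ({u} : Set G)) ≤ Nat.card (Subgroup.centralizer ({t} : Set G))) : Nat.card G < Nat.card (Subgroup.centralizer ({t} : Set G)) ^ 3 := by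
  classical
  have := Fintype.ofFinite G
  set m := Nat.card (Subgroup.centralizer ({t} : Set G)) with hm
  have h1 := CL.BF.card_conj_mul_card_cent s
  have hinv : ∀ z : G, orderOf z = 2 →
      (Finset.univ.filter (fun u : G => orderOf u = 2 ∧ Commute u z)).card + 1 ≤ m := by
    intro z hz
    have h := (CL.BF.card_ord2_commute_add_one_le z).trans (hmax z hz)
    rwa [Nat.card_eq_fintype_card, Fintype.card_subtype] at h
  have h2 : Nat.card {y : G // IsConj s y} ≤ (m - 1) * (m - 1) := by
    rw [Nat.card_eq_fintype_card, Fintype.card_subtype]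
    calc (Finset.univ.filter (fun y : G => IsConj s y)).card
        ≤ ((Finset.univ.filter (fun u : G => orderOf u = 2 ∧ Commute u t)).biUnion
            (fun z => Finset.univ.filter (fun u : G => orderOf u = 2 ∧ Commute u z))).card := by
          refine Finset.card_le_card (fun y hy => ?_)
          simp only [Finset.mem_filter, Finset.mem_univ, true_and, Finset.mem_biUnion] at hy ⊢
          have hy2 : orderOf y = 2 := (CL.BF.orderOf_eq_of_isConj hy) ▸ hs
          obtain ⟨z, hz, hzy, hzt, -⟩ := CL.BF.exists_ord2_commute_of_not_isConj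
            (CL.BF.mul_self_of_ord2 hy2) (CL.BF.mul_self_of_ord2 ht) (fun h => hnc (hy.trans h))
          exact ⟨z, ⟨hz, hzt.symm⟩, hy2, hzy⟩
      _ ≤ _ := by
          refine (Finset.card_biUnion_le_card_mul _ _ (m - 1) (fun z hz => ?_)).trans ?_
          · simp only [Finset.mem_filter, Finset.mem_univ, true_and] at hz
            have := hinv z hz.1
            omega
          · have := hinv t ht
            exact Nat.mul_le_mul_right _ (by omega)
  have h3 := hmax s hs
  have hmpos : 0 < m := Nat.card_pos
  obtain ⟨k, hk⟩ : ∃ k, m = k + 1 := ⟨m - 1, by omega⟩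
  rw [← h1]
  calc _ ≤ (m - 1) * (m - 1) * m := Nat.mul_le_mul h2 h3
    _ < m ^ 3 := by
      rw [hk]
      simp only [add_tsub_cancel_right]
      nlinarith [Nat.zero_le k]

end Cfsg.Agent.S0230
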