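import Cfsg.Statements.S0231
import Cfsg.Agent.Invol.BFCor

set_option autoImplicit false
open scoped Pointwise
open Cfsg

namespace Cfsg.Agent.S0231

/-- Let T be a Sylow 2-subgroup of the finite group G which is not normal and which intersects every other Sylow 2-subgroup trivially. Then G has a single conjugacy class of involutions. -/
theorem result {G : Type*} [Group G] [Finite G] (T : Sylow 2 G) (hnn : ¬ (T : Subgroup G).Normal) (hTI : ∀ g : G, MulAut.conj g • (T : Subgroup G) ≠ T → MulAut.conj g • (T : Subgroup G) ⊓ T = ⊥) (s t : G) (hs : orderOf s = 2) (ht : orderOf t = 2) : IsConj s t := by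
  have : Fact (Nat.Prime 2) := ⟨Nat.prime_two⟩
  -- two Sylow subgroups with a common nontrivial element coincide
  have hTI' : ∀ (P Q : Sylow 2 G) (x : G), x ≠ 1 → x ∈ P → x ∈ Q → P = Q := by
    intro P Q x hx hP hQ
    obtain ⟨a, rfl⟩ := MulAction.exists_smul_eq G T Q
    obtain ⟨b, rfl⟩ := MulAction.exists_smul_eq G (a • T) P
    by_contra hne
    have h1 : MulAut.conj (a⁻¹ * b * a) • (T : Subgroup G) ≠ T := by
      intro h
      apply hne
      have : (a⁻¹ * b * a) • T = T := Sylow.ext h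
      calc b • a • T = a • ((a⁻¹ * b * a) • T) := by
            rw [← mul_smul, ← mul_smul]; congr 1; group
        _ = a • T := by rw [this]
    have h2 := hTI _ h1
    have h3 : a⁻¹ * x * a⁻¹⁻¹ ∈ (a⁻¹ * b * a) • T := by
      have := CL.BF.conj_mem_smul_sylow _ a⁻¹ hP
      rwa [← mul_smul, ← mul_smul] at this
    have h4 : a⁻¹ * x * a⁻¹⁻¹ ∈ T := by
      have := CL.BF.conj_mem_smul_sylow _ a⁻¹ hQ
      rwa [inv_smul_smul] at this
    have h5 : a⁻¹ * x * a⁻¹⁻¹ ∈ MulAut.conj (a⁻¹ * b * a) • (T : Subgroup G) ⊓ T := ⟨h3, h4⟩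
    rw [h2, Subgroup.mem_bot] at h5
    apply hx
    calc x = a * (a⁻¹ * x * a⁻¹⁻¹) * a⁻¹ := by group
      _ = 1 := by rw [h5]; group
  have hs2 := CL.BF.mul_self_of_ord2 hs
  have ht2 := CL.BF.mul_self_of_ord2 ht
  obtain ⟨P, hsP, -⟩ := CL.BF.exists_sylow_of_commute hs2 hs2 rfl
  obtain ⟨Q, htQ, -⟩ := CL.BF.exists_sylow_of_commute ht2 ht2 rfl
  have hnt : Nontrivial (Sylow 2 G) := by
    by_contra h
    rw [not_nontrivial_iff_subsingleton] at h
    exact hnn (Sylow.normal_of_subsingleton T)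
  obtain ⟨R, hR⟩ := exists_ne P
  obtain ⟨g, rfl⟩ := MulAction.exists_smul_eq G Q R
  have ht' := CL.BF.conj_mem_smul_sylow Q g htQ
  have ht'o : orderOf (g * t * g⁻¹) = 2 := by rw [CL.BF.orderOf_conj_eq, ht]
  by_contra hnc
  obtain ⟨z, hz, hsz, htz, -⟩ := CL.BF.exists_ord2_commute_of_not_isConj hs2
    (CL.BF.mul_self_of_ord2 ht'o) (fun h => hnc (h.trans (isConj_iff.2 ⟨g, rfl⟩).symm))
  obtain ⟨P', hsP', hzP'⟩ := CL.BF.exists_sylow_of_commute hs2 (CL.BF.mul_self_of_ord2 hz) hsz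
  obtain ⟨Q', htQ', hzQ'⟩ := CL.BF.exists_sylow_of_commute (CL.BF.mul_self_of_ord2 ht'o)
    (CL.BF.mul_self_of_ord2 hz) htz
  have e1 := hTI' _ _ _ (CL.BF.ne_one_of_ord2 hs) hsP hsP'
  have e2 := hTI' _ _ _ (CL.BF.ne_one_of_ord2 ht'o) ht' htQ'
  have e3 := hTI' _ _ _ (CL.BF.ne_one_of_ord2 hz) hzP' hzQ'
  exact hR (e2.trans (e3.symm.trans e1.symm))

end Cfsg.Agent.S0231
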