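import Cfsg.Statements.S0232
import Cfsg.Agent.Invol.BFCor

set_option autoImplicit false
open Cfsg

namespace Cfsg.Agent.S0232

theorem aux.{u} (n : ℕ) : ∀ (G : Type u) [Group G] [Finite G], Nat.card G = n →
    Even (Nat.card G) → 2 < Nat.card G →
    ∃ H : Subgroup G, H ≠ ⊤ ∧ Nat.card G < (Nat.card H) ^ 3 := by
  induction n using Nat.strong_induction_on with
  | _ n ih =>
  intro G _ _ hn heven hgt
  have hidx2 : ∀ H : Subgroup G, H.index = 2 → H ≠ ⊤ ∧ Nat.card G < (Nat.card H) ^ 3 := by
    intro H hH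
    refine ⟨fun h => by rw [h, Subgroup.index_top] at hH; omega, ?_⟩
    have h1 := H.card_mul_index
    rw [hH] at h1
    have h2 : 2 ≤ Nat.card H := by omega
    rw [← h1]
    nlinarith [Nat.mul_le_mul h2 h2]
  by_cases hZ : ∃ z : G, orderOf z = 2 ∧ z ∈ Subgroup.center G
  · obtain ⟨z, hz, hzc⟩ := hZ
    have hnorm : (Subgroup.zpowers z).Normal := by
      refine ⟨fun x hx g => ?_⟩
      have hx' : x ∈ Subgroup.center G := (Subgroup.zpowers_le.2 hzc) hx
      rw [Subgroup.mem_center_iff.1 hx' g, mul_inv_cancel_right]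
      exact hx
    have hcZ : Nat.card (Subgroup.zpowers z) = 2 := by rw [Nat.card_zpowers, hz]
    have hq := Subgroup.card_eq_card_quotient_mul_card_subgroup (Subgroup.zpowers z)
    rw [hcZ] at hq
    rcases Nat.even_or_odd (Nat.card (G ⧸ Subgroup.zpowers z)) with he | ho
    · by_cases h4 : Nat.card (G ⧸ Subgroup.zpowers z) = 2
      · refine ⟨Subgroup.zpowers z, fun h => ?_, by rw [hcZ, hq, h4]; norm_num⟩
        rw [h, Subgroup.card_top] at hcZ
        omega
      · obtain ⟨K, hK, hlt⟩ := ih (Nat.card (G ⧸ Subgroup.zpowers z)) (by omega)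
          (G ⧸ Subgroup.zpowers z) rfl he (by rw [Nat.even_iff] at he; omega)
        refine ⟨K.comap (QuotientGroup.mk' _), fun h => hK ?_, ?_⟩
        · rw [← Subgroup.map_comap_eq_self_of_surjective (QuotientGroup.mk'_surjective _) K, h]
          exact Subgroup.map_top_of_surjective _ (QuotientGroup.mk'_surjective _)
        · have h1 := Subgroup.index_comap_of_surjective K
            (QuotientGroup.mk'_surjective (Subgroup.zpowers z))
          have h2 := (K.comap (QuotientGroup.mk' (Subgroup.zpowers z))).card_mul_index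
          have h3 := K.card_mul_index
          have h5 : 0 < K.index := Nat.pos_of_ne_zero Subgroup.index_ne_zero_of_finite
          have h6 : Nat.card (K.comap (QuotientGroup.mk' (Subgroup.zpowers z))) =
              2 * Nat.card K := by
            refine Nat.eq_of_mul_eq_mul_right h5 ?_
            rw [h1] at h2
            rw [h2, hq, ← h3]; ring
          rw [h6, hq, mul_pow]
          omega
    · obtain ⟨H, hH⟩ := CL.BF.exists_index_two_of_two_mul_odd ho (by rw [hq, mul_comm])
      exact ⟨H, hidx2 H hH⟩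
  · push Not at hZ
    have : Fact (Nat.Prime 2) := ⟨Nat.prime_two⟩
    obtain ⟨t, ht⟩ := exists_prime_orderOf_dvd_card' (G := G) 2 heven.two_dvd
    obtain ⟨H, hH, h⟩ := CL.BF.exists_proper_index_lt hZ ht
    rcases h with h | h
    · exact ⟨H, hidx2 H h⟩
    by_contra hcon
    push Not at hcon
    have hC : Subgroup.centralizer ({t} : Set G) ≠ ⊤ := by
      intro h
      apply hZ t ht
      rw [Subgroup.mem_center_iff]
      intro y
      exact CL.BF.mem_cent_iff.1 (h ▸ Subgroup.mem_top y)
    have h1 := hcon _ hC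
    have h2 := hcon _ hH
    have h3 := H.card_mul_index
    set c := Nat.card (Subgroup.centralizer ({t} : Set G))
    set j := H.index
    set g := Nat.card G
    set k := Nat.card H
    have hj : j < c ^ 2 := by nlinarith
    have h4 : g ^ 3 ≤ g * j ^ 3 := by
      calc g ^ 3 = k ^ 3 * j ^ 3 := by rw [← h3]; ring
        _ ≤ g * j ^ 3 := Nat.mul_le_mul_right _ h2
    have h5 : g ^ 2 ≤ j ^ 3 := by
      refine Nat.le_of_mul_le_mul_left ?_ (by omega : 0 < g)
      calc g * g ^ 2 = g ^ 3 := by ring
        _ ≤ _ := h4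
    have h6 : j ^ 3 < (c ^ 2) ^ 3 := Nat.pow_lt_pow_left hj (by norm_num)
    have h7 : (c ^ 3) ^ 2 ≤ g ^ 2 := Nat.pow_le_pow_left h1 2
    have h8 : (c ^ 3) ^ 2 = (c ^ 2) ^ 3 := by ring
    omega

/-- A finite group G of even order greater than 2 has a proper subgroup H with |G| < |H|^3. -/
theorem result {G : Type*} [Group G] [Finite G] (heven : Even (Nat.card G)) (hgt : 2 < Nat.card G) : ∃ H : Subgroup G, H ≠ ⊤ ∧ Nat.card G < (Nat.card H) ^ 3 := by
  exact aux _ G rfl heven hgt

end Cfsg.Agent.S0232
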