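import Cfsg.Statements.S0234
import Cfsg.Agent.Invol.BFCor

set_option autoImplicit false
open Cfsg

namespace Cfsg.Agent.S0234

theorem card_inv_A5 : (Finset.univ.filter (fun σ : Equiv.Perm (Fin 5) =>
    σ * σ = 1 ∧ σ ≠ 1 ∧ Equiv.Perm.sign σ = 1)).card = 15 := by
  decide +kernel

/-- In a finite simple group G of even order greater than 2, the number n of involutions satisfies 3n < |G|. -/
theorem result {G : Type*} [Group G] [Finite G] [IsSimpleGroup G] (heven : Even (Nat.card G)) (hgt : 2 < Nat.card G) : 3 * Nat.card {t : G // orderOf t = 2} < Nat.card G := by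
  classical
  by_contra hcon
  have hidx : ∀ H : Subgroup G, H.index ≠ 2 := fun H h => by
    have := CL.BF.card_eq_two_of_simple_of_index_two h
    omega
  obtain ⟨H, hH, h⟩ := CL.BF.brauer_fowler_index heven (fun z hz hzc => by
    have := CL.BF.card_eq_two_of_simple_of_central hz hzc
    omega)
  have h := h.resolve_left (hidx H)
  change ¬ 3 * CL.BF.numInv G < _ at hcon
  set n := CL.BF.numInv G with hn
  have hj : H.index ≤ 5 := by
    by_contra hj
    have h1 : Nat.card G * (Nat.card G + n) ≤ (3 * n) * (3 * n + n) :=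
      Nat.mul_le_mul (by omega) (by omega)
    have h2 : 2 * 6 * n ^ 2 ≤ 2 * H.index * n ^ 2 :=
      Nat.mul_le_mul_right _ (Nat.mul_le_mul_left _ (by omega))
    nlinarith
  have := Fintype.ofFinite (G ⧸ H)
  obtain ⟨ι⟩ : Nonempty ((G ⧸ H) ↪ Fin 5) := Function.Embedding.nonempty_of_card_le (by
    rw [← Nat.card_eq_fintype_card, Fintype.card_fin]; exact hj)
  let φ : G →* Equiv.Perm (Fin 5) :=
    (Equiv.Perm.viaEmbeddingHom ι).comp (MulAction.toPermHom G (G ⧸ H))
  have hφ : Function.Injective φ :=
    (Equiv.Perm.viaEmbeddingHom_injective ι).comp (CL.BF.toPermHom_injective_of_simple hH)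
  have hsign : ∀ g : G, Equiv.Perm.sign (φ g) = 1 := by
    have h1 : (Equiv.Perm.sign.comp φ).ker = ⊤ := by
      rcases (Equiv.Perm.sign.comp φ).normal_ker.eq_bot_or_eq_top with h1 | h1
      · exfalso
        have h2 := Nat.card_le_card_of_injective _ ((MonoidHom.ker_eq_bot_iff _).1 h1)
        have h3 : Nat.card ℤˣ = 2 := by rw [Nat.card_eq_fintype_card]; rfl
        omega
      · exact h1
    intro g
    have : g ∈ (Equiv.Perm.sign.comp φ).ker := h1 ▸ Subgroup.mem_top g
    exact this
  have h60 : Nat.card G ∣ 60 := by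
    have h1 : φ.range ≤ alternatingGroup (Fin 5) := by
      rintro _ ⟨g, rfl⟩
      exact Equiv.Perm.mem_alternatingGroup.2 (hsign g)
    have h2 := Subgroup.card_dvd_of_le h1
    rw [← Nat.card_congr (MonoidHom.ofInjective hφ).toEquiv, nat_card_alternatingGroup] at h2
    simpa [Nat.factorial] using h2
  have h15 : n ≤ 15 := by
    rw [← card_inv_A5, ← Fintype.card_subtype, ← Nat.card_eq_fintype_card]
    refine Nat.card_le_card_of_injective (fun t => ⟨φ t.1, ?_, ?_, hsign _⟩) ?_
    · rw [← map_mul, CL.BF.mul_self_of_ord2 t.2, map_one]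
    · exact fun h => CL.BF.ne_one_of_ord2 t.2 (hφ (h.trans (map_one φ).symm))
    · intro a b h
      exact Subtype.ext (hφ (by simpa using h))
  have hsub : ∀ p k m : ℕ, p.Prime → Nat.card G = p ^ k * m → 1 < m →
      p ^ k * m ∣ m.factorial := by
    intro p k m hp hG hm
    have : Fact p.Prime := ⟨hp⟩
    obtain ⟨K, hK⟩ := Sylow.exists_subgroup_card_pow_prime (G := G) p (n := k) ⟨m, hG⟩
    have h1 := K.card_mul_index
    rw [hK, hG] at h1
    have h2 : K.index = m := Nat.eq_of_mul_eq_mul_left (pow_pos hp.pos k) h1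
    have h3 : K ≠ ⊤ := fun h => by rw [h, Subgroup.index_top] at h2; omega
    have := CL.BF.card_dvd_factorial_index_of_simple h3
    rwa [h2, hG] at this
  have hodd : ∀ m : ℕ, Odd m → Nat.card G ≠ 2 * m := fun m hm hG => by
    obtain ⟨K, hK⟩ := CL.BF.exists_index_two_of_two_mul_odd hm hG
    exact hidx K hK
  have hle : Nat.card G ≤ 45 := by omega
  rw [Nat.even_iff] at heven
  have hcases : Nat.card G = 4 ∨ Nat.card G = 6 ∨ Nat.card G = 10 ∨ Nat.card G = 12 ∨
      Nat.card G = 20 ∨ Nat.card G = 30 := by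
    generalize Nat.card G = g at heven hgt h60 hle
    interval_cases g <;> omega
  rcases hcases with h | h | h | h | h | h
  · exact absurd (hsub 2 1 2 Nat.prime_two h (by norm_num)) (by decide)
  · exact hodd 3 (by decide) h
  · exact hodd 5 (by decide) h
  · exact absurd (hsub 2 2 3 Nat.prime_two h (by norm_num)) (by decide)
  · exact absurd (hsub 5 1 4 Nat.prime_five h (by norm_num)) (by decide)
  · exact hodd 15 (by decide) h

end Cfsg.Agent.S0234
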