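import Cfsg.Statements.S0240
import Cfsg.Agent.Invol.Beta

set_option autoImplicit false
open Cfsg

namespace Cfsg.Agent.S0240

/-- Let G be a finite group with n involutions and H a subgroup with |H|·(n+1) > |G|. Then some nontrivial h ∈ H is strongly real in G: an involution t of G satisfies t h t⁻¹ = h⁻¹. -/
theorem result {G : Type*} [Group G] [Finite G] (H : Subgroup G) (hH : Nat.card G < Nat.card H * (Nat.card {t : G // orderOf t = 2} + 1)) : ∃ h : G, h ∈ H ∧ h ≠ 1 ∧ ∃ t : G, orderOf t = 2 ∧ t * h * t⁻¹ = h⁻¹ := by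
  have h2 := CL.BF.card_sq_eq_one (G := G) (fun _ => True) trivial
  simp only [and_true] at h2
  rw [← h2, ← H.card_mul_index] at hH
  have h3 : H.index < Nat.card {t : G // t * t = 1} := Nat.lt_of_mul_lt_mul_left hH
  have h4 : ¬ Function.Injective (fun t : {t : G // t * t = 1} => (t.1 : G ⧸ H)) := by
    intro hinj
    exact absurd (Nat.card_le_card_of_injective _ hinj) (not_le.2 h3)
  rw [Function.not_injective_iff] at h4
  obtain ⟨⟨u, hu⟩, ⟨v, hv⟩, huv, hne⟩ := h4
  dsimp only at huv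
  rw [QuotientGroup.eq, inv_eq_of_mul_eq_one_right hu] at huv
  have hne' : u ≠ v := fun h => hne (Subtype.ext h)
  refine ⟨u * v, huv, fun h => hne' ?_, ?_⟩
  · rw [← inv_eq_of_mul_eq_one_right hv]; exact eq_inv_of_mul_eq_one_left h
  · by_cases hu1 : u = 1
    · exact ⟨v, CL.BF.ord2_iff.2 ⟨hv, fun h => hne' (hu1.trans h.symm)⟩,
        CL.BF.inverts_mul_right hu hv⟩
    · exact ⟨u, CL.BF.ord2_iff.2 ⟨hu, hu1⟩, CL.BF.inverts_mul_left hu hv⟩

end Cfsg.Agent.S0240
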