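import Cfsg.Statements.S0241
import Cfsg.Agent.Invol.Beta

set_option autoImplicit false
open Cfsg

namespace Cfsg.Agent.S0241

/-- If x ≠ 1 is conjugate to x⁻¹ in a finite group G and |C_G(x)| is odd, then some involution t satisfies t x t⁻¹ = x⁻¹. -/
theorem result {G : Type*} [Group G] [Finite G] (x : G) (hx : x ≠ 1) (hreal : IsConj x x⁻¹) (hodd : Odd (Nat.card (Subgroup.centralizer ({x} : Set G)))) : ∃ t : G, orderOf t = 2 ∧ t * x * t⁻¹ = x⁻¹ := by
  obtain ⟨g, hg⟩ := isConj_iff.1 hreal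
  set m := Nat.card (Subgroup.centralizer ({x} : Set G)) with hm
  have h1 := CL.BF.pow_conj_of_inverts hg m
  rw [if_neg (Nat.not_even_iff_odd.2 hodd)] at h1
  have h2 := CL.BF.pow_conj_of_inverts hg 2
  rw [if_pos even_two, ← CL.BF.mem_cent_iff_conj] at h2
  have h3 : (g ^ 2) ^ m = 1 := by
    exact orderOf_dvd_iff_pow_eq_one.1 (Subgroup.orderOf_dvd_natCard _ h2)
  refine ⟨g ^ m, CL.BF.ord2_iff.2 ⟨?_, fun h => ?_⟩, h1⟩
  · rw [← pow_add, ← two_mul, pow_mul, h3]
  · rw [h] at h1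
    simp only [one_mul, inv_one, mul_one] at h1
    have h4 : orderOf x = 2 :=
      CL.BF.ord2_iff.2 ⟨by nth_rewrite 1 [h1]; exact inv_mul_cancel x, hx⟩
    have h5 := Subgroup.orderOf_dvd_natCard (Subgroup.centralizer ({x} : Set G))
      (CL.BF.mem_cent_iff.2 (rfl : x * x = x * x))
    rw [h4] at h5
    exact (Nat.not_even_iff_odd.2 hodd) (even_iff_two_dvd.2 h5)

end Cfsg.Agent.S0241
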