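import Cfsg.Statements.S0244
import Cfsg.Agent.SpG.Basic

set_option autoImplicit false
open Cfsg

namespace Cfsg.Agent.S0244

/-- Sp_2 = SL_2: a matrix on Fin 1 ⊕ Fin 1 lies in Mathlib's symplectic group iff its determinant is 1. -/
theorem result {R : Type*} [CommRing R] (A : Matrix (Fin 1 ⊕ Fin 1) (Fin 1 ⊕ Fin 1) R) : A ∈ Matrix.symplecticGroup (Fin 1) R ↔ A.det = 1 := by
  refine ⟨SymplecticGroup.det_eq_one, fun h => ?_⟩
  have hdet : A (.inl 0) (.inl 0) * A (.inr 0) (.inr 0) - A (.inl 0) (.inr 0) * A (.inr 0) (.inl 0)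
      = 1 := by
    rw [← h, ← Matrix.det_submatrix_equiv_self finSumFinEquiv.symm A, Matrix.det_fin_two]
    rfl
  rw [CL.SpG.mem_sp_iff]
  intro u v
  simp only [CL.SpG.sympForm_eq_sum, Finset.univ_unique, Finset.sum_singleton, Matrix.mulVec,
    dotProduct, Fintype.sum_sum_type, Fin.default_eq_zero]
  linear_combination (u (.inr 0) * v (.inl 0) - u (.inl 0) * v (.inr 0)) * hdet

end Cfsg.Agent.S0244
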