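import Cfsg.Statements.S0246
import Cfsg.Agent.SpG.Basic

set_option autoImplicit false
open Cfsg

namespace Cfsg.Agent.S0246

/-- The centre of Sp_{2m}(q), m at least 1, is {1, -1}: it has order gcd(2, q-1). -/
theorem result {F : Type*} [Field F] [Fintype F] {q : ℕ} (hF : Fintype.card F = q) (m : ℕ) (hm : 1 ≤ m) : Nat.card (Subgroup.center (Matrix.symplecticGroup (Fin m) F)) = Nat.gcd 2 (q - 1) := by
  classical
  by_cases h2 : (2 : F) = 0
  · have hc : Subgroup.center (Matrix.symplecticGroup (Fin m) F) = ⊥ := by
      rw [eq_bot_iff]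
      intro A hA
      rcases CL.SpG.mem_center_iff.1 hA with h | h
      · exact h
      · rw [h, CL.SpG.negOne_eq_one h2]; exact one_mem _
    rw [hc, Subgroup.card_bot]
    have hchar : ringChar F = 2 := by
      haveI : CharP F 2 := (CharP.charP_iff_prime_eq_zero Nat.prime_two).2 (by exact_mod_cast h2)
      exact ringChar.eq F 2
    have heven : Fintype.card F % 2 = 0 := FiniteField.even_card_of_char_two hchar
    have hpos : 1 < Fintype.card F := Fintype.one_lt_card
    rw [hF] at heven hpos
    have : (q - 1) % 2 = 1 := by omega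
    rw [Nat.gcd_rec, this]
    simp
  · have hne := CL.SpG.negOne_ne_one (F := F) hm h2
    have hc : (Subgroup.center (Matrix.symplecticGroup (Fin m) F) :
        Set (Matrix.symplecticGroup (Fin m) F)) = {1, CL.SpG.negOne m F} := by
      ext A
      simp [CL.SpG.mem_center_iff]
    have hcard : Nat.card (Subgroup.center (Matrix.symplecticGroup (Fin m) F)) = 2 := by
      rw [← SetLike.coe_sort_coe, hc, Nat.card_coe_set_eq, Set.ncard_pair hne.symm]
    rw [hcard]
    have hchar : ringChar F ≠ 2 := by
      intro h
      apply h2
      have := ringChar.Nat.cast_ringChar (R := F)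
      rw [h] at this
      exact_mod_cast this
    have hodd : Fintype.card F % 2 = 1 := FiniteField.odd_card_of_char_ne_two hchar
    rw [hF] at hodd
    have : (q - 1) % 2 = 0 := by omega
    rw [Nat.gcd_rec, this]
    simp

end Cfsg.Agent.S0246
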