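import Cfsg.Statements.S0826
import Cfsg.Agent.Symp.Matrix

set_option autoImplicit false
open Cfsg

namespace Cfsg.Agent.S0826

open Module

section Quot

variable {F V : Type*} [Field F] [AddCommGroup V] [Module F V]

/-- The form induced on the quotient by the radical. -/
noncomputable def qform {B : LinearMap.BilinForm F V} (hA : B.IsAlt) :
    LinearMap.BilinForm F (V ⧸ LinearMap.ker B) :=
  LinearMap.IsRefl.liftQ₂ B (LinearMap.ker B) hA.isRefl le_rfl

theorem qform_mk {B : LinearMap.BilinForm F V} (hA : B.IsAlt) (u v : V) :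
    qform hA (Submodule.Quotient.mk u) (Submodule.Quotient.mk v) = B u v := rfl

theorem qform_isAlt {B : LinearMap.BilinForm F V} (hA : B.IsAlt) : (qform hA).IsAlt := by
  intro x
  induction x using Submodule.Quotient.induction_on with | _ x => exact hA.self_eq_zero x

theorem qform_nondeg {B : LinearMap.BilinForm F V} (hA : B.IsAlt) : (qform hA).Nondegenerate := by
  constructor
  · intro x hx
    induction x using Submodule.Quotient.induction_on with | _ x =>
    rw [Submodule.Quotient.mk_eq_zero, LinearMap.mem_ker]
    ext y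
    exact hx (Submodule.Quotient.mk y)
  · intro x hx
    induction x using Submodule.Quotient.induction_on with | _ x =>
    rw [Submodule.Quotient.mk_eq_zero, LinearMap.mem_ker]
    ext y
    exact hA.isRefl _ _ (hx (Submodule.Quotient.mk y))

theorem map_ker {B : LinearMap.BilinForm F V} (g : CL.Symp.isom B) :
    (LinearMap.ker B).map (g.1 : V →ₗ[F] V) = LinearMap.ker B := by
  ext v
  rw [Submodule.mem_map_equiv, LinearMap.mem_ker, LinearMap.mem_ker]
  constructor
  · intro h
    ext w
    have := g.2 (g.1.symm v) (g.1.symm w)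
    simp only [LinearEquiv.apply_symm_apply] at this
    rw [this, h]; rfl
  · intro h
    ext w
    have := g.2 (g.1.symm v) w
    simp only [LinearEquiv.apply_symm_apply] at this
    rw [← this, h]; rfl

/-- Isometries act on the quotient by the radical. -/
noncomputable def qhom {B : LinearMap.BilinForm F V} (hA : B.IsAlt) :
    CL.Symp.isom B →* CL.Symp.isom (qform hA) where
  toFun g := ⟨Submodule.Quotient.equiv _ _ g.1 (map_ker g), fun x y => by
    induction x using Submodule.Quotient.induction_on with | _ x =>
    induction y using Submodule.Quotient.induction_on with | _ y =>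
    exact g.2 x y⟩
  map_one' := by
    ext x
    induction x using Submodule.Quotient.induction_on with | _ x => rfl
  map_mul' g h := by
    ext x
    induction x using Submodule.Quotient.induction_on with | _ x => rfl

theorem qhom_mk {B : LinearMap.BilinForm F V} (hA : B.IsAlt) (g : CL.Symp.isom B) (x : V) :
    (qhom hA g).1 (Submodule.Quotient.mk x) = Submodule.Quotient.mk (g.1 x) := rfl

end Quot

variable {ι : Type*} [Fintype ι] [DecidableEq ι]

/-- The sum of the coordinates. -/
def sumMap (ι : Type*) [Fintype ι] : (ι → ZMod 2) →ₗ[ZMod 2] ZMod 2 where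
  toFun v := ∑ i, v i
  map_add' u v := by simp [Finset.sum_add_distrib]
  map_smul' c v := by simp [Finset.mul_sum]

/-- The even-weight submodule. -/
abbrev ev (ι : Type*) [Fintype ι] : Submodule (ZMod 2) (ι → ZMod 2) := LinearMap.ker (sumMap ι)

/-- The dot product on the even-weight submodule. -/
noncomputable def dot (ι : Type*) [Fintype ι] : LinearMap.BilinForm (ZMod 2) (ev ι) :=
  LinearMap.BilinForm.restrict (dotProductBilin (ZMod 2) (ZMod 2)) (ev ι)

omit [DecidableEq ι] in
theorem dot_apply (u v : ev ι) : dot ι u v = ∑ i, u.1 i * v.1 i := rfl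

omit [DecidableEq ι] in
theorem dot_isAlt : (dot ι).IsAlt := by
  intro v
  change dot ι v v = 0
  rw [dot_apply]
  have : ∀ x : ZMod 2, x * x = x := by decide
  simp only [this]
  exact v.2

/-- The vector `e_i + e_j`. -/
def pair (i j : ι) : ev ι := ⟨Pi.single i 1 + Pi.single j 1, by
  change ∑ k, (Pi.single i 1 + Pi.single j 1 : ι → ZMod 2) k = 0
  simp only [Pi.add_apply, Finset.sum_add_distrib, Finset.sum_pi_single', Finset.mem_univ, if_true]
  decide⟩

theorem mem_ker_dot {v : ev ι} : v ∈ LinearMap.ker (dot ι) ↔ ∀ i j, v.1 i = v.1 j := by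
  rw [LinearMap.mem_ker]
  constructor
  · intro h i j
    have : dot ι v (pair i j) = 0 := by rw [h]; rfl
    rw [dot_apply] at this
    simp only [pair, Pi.add_apply, mul_add, Finset.sum_add_distrib, Pi.single_apply, mul_ite,
      mul_one, mul_zero, Finset.sum_ite_eq', Finset.mem_univ, if_true] at this
    revert this
    generalize v.1 i = a
    generalize v.1 j = b
    revert a b
    decide
  · intro h
    ext w
    rw [LinearMap.zero_apply, dot_apply]
    rcases isEmpty_or_nonempty ι with hι | ⟨⟨i⟩⟩
    · simp
    · simp only [fun k => h k i, ← Finset.mul_sum]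
      rw [show ∑ k, w.1 k = 0 from w.2, mul_zero]

/-- The permutation action on the even-weight submodule. -/
noncomputable def phom (ι : Type*) [Fintype ι] : Equiv.Perm ι →* CL.Symp.isom (dot ι) where
  toFun σ := ⟨{ toFun := fun v => ⟨v.1 ∘ σ.symm, (Equiv.sum_comp σ.symm v.1).trans v.2⟩
                map_add' := fun _ _ => rfl
                map_smul' := fun _ _ => rfl
                invFun := fun v => ⟨v.1 ∘ σ, (Equiv.sum_comp σ v.1).trans v.2⟩
                left_inv := fun v => by ext; simp
                right_inv := fun v => by ext; simp },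
    fun u v => Equiv.sum_comp σ.symm (fun i => u.1 i * v.1 i)⟩
  map_one' := rfl
  map_mul' _ _ := rfl

theorem injective_hom (h5 : 5 ≤ Fintype.card ι) :
    Function.Injective ((qhom (dot_isAlt (ι := ι))).comp (phom ι)) := by
  rw [injective_iff_map_eq_one]
  intro σ hσ
  ext a
  by_contra ha
  obtain ⟨j, hj⟩ : ∃ j, j ∉ ({a, σ a, σ.symm a} : Finset ι) := by
    by_contra h
    push Not at h
    have := (Finset.card_le_card (fun x _ => h x : Finset.univ ⊆ _)).trans Finset.card_le_three
    rw [Finset.card_univ] at this
    omega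
  obtain ⟨k, hk⟩ : ∃ k, k ∉ insert j ({a, σ a, σ j} : Finset ι) := by
    by_contra h
    push Not at h
    have := (Finset.card_le_card (fun x _ => h x : Finset.univ ⊆ _)).trans
      ((Finset.card_insert_le _ _).trans (Nat.succ_le_succ Finset.card_le_three))
    rw [Finset.card_univ] at this
    omega
  simp only [Finset.mem_insert, Finset.mem_singleton, not_or] at hj hk
  have h1 : (qhom dot_isAlt (phom ι σ)).1 (Submodule.Quotient.mk (pair a j)) =
      Submodule.Quotient.mk (pair a j) := by
    have : qhom dot_isAlt (phom ι σ) = 1 := hσ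
    rw [this]; rfl
  rw [qhom_mk, Submodule.Quotient.eq, mem_ker_dot] at h1
  have h2 := h1 a k
  have e1 : σ.symm a ≠ a := fun h => ha (by rw [Equiv.symm_apply_eq] at h; exact h.symm)
  have e2 : σ.symm k ≠ a := fun h => hk.2.2.1 (by rw [Equiv.symm_apply_eq] at h; exact h)
  have e3 : σ.symm k ≠ j := fun h => hk.2.2.2 (by rw [Equiv.symm_apply_eq] at h; exact h)
  change (pair a j).1 (σ.symm a) - (pair a j).1 a = (pair a j).1 (σ.symm k) - (pair a j).1 k at h2
  simp [pair, e1, e2, e3, Ne.symm hj.1, Ne.symm hj.2.2, hk.1, hk.2.1] at h2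

theorem finrank_quot (n : ℕ) (hn : Fintype.card ι = 2 * (n + 1)) :
    finrank (ZMod 2) (ev ι ⧸ LinearMap.ker (dot ι)) = 2 * n := by
  obtain ⟨i⟩ : Nonempty ι := Fintype.card_pos_iff.1 (by omega)
  have h1 : finrank (ZMod 2) (ev ι) + 1 = 2 * (n + 1) := by
    have := LinearMap.finrank_range_add_finrank_ker (sumMap ι)
    rw [LinearMap.range_eq_top.2 (fun c => ⟨Pi.single i c, by simp [sumMap]⟩)] at this
    simp only [finrank_top, finrank_self, finrank_fintype_fun_eq_card] at this
    unfold ev
    omega
  let o : ev ι := ⟨fun _ => 1, by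
    change ∑ _k : ι, (1 : ZMod 2) = 0
    rw [Finset.sum_const, Finset.card_univ, hn, nsmul_one, Nat.cast_mul]
    exact mul_eq_zero_of_left rfl _⟩
  have ho : o ≠ 0 := fun h => one_ne_zero (congrFun (congrArg Subtype.val h) i)
  have h2 : LinearMap.ker (dot ι) = Submodule.span (ZMod 2) {o} := by
    ext v
    rw [mem_ker_dot, Submodule.mem_span_singleton]
    constructor
    · intro h
      exact ⟨v.1 i, by ext k; simp [o, h i k]⟩
    · rintro ⟨c, rfl⟩ a b
      rfl
  have h3 := Submodule.finrank_quotient_add_finrank (LinearMap.ker (dot ι))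
  have h4 : finrank (ZMod 2) (LinearMap.ker (dot ι)) = 1 := by
    rw [h2, finrank_span_singleton ho]
  omega

/-- S_2n ≤ Sp_(2n−2)(2) for n ≥ 3: there is an injective homomorphism from the symmetric group on 2n letters into the symplectic group of degree 2n − 2 over the field with two elements. -/
theorem result (n : ℕ) (hn : 3 ≤ n) : ∃ f : Equiv.Perm (Fin (2 * n)) →* Matrix.symplecticGroup (Fin (n - 1)) (ZMod 2), Function.Injective f := by
  obtain ⟨e⟩ := CL.Symp.nonempty_isom_equiv_sp (Fin (n - 1))
    (qform_nondeg (dot_isAlt (ι := Fin (2 * n)))) (qform_isAlt _)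
    (by rw [Fintype.card_fin]; exact finrank_quot _ (by rw [Fintype.card_fin]; omega))
  exact ⟨e.toMonoidHom.comp ((qhom dot_isAlt).comp (phom _)),
    e.injective.comp (injective_hom (by rw [Fintype.card_fin]; omega))⟩

end Cfsg.Agent.S0826
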