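import Cfsg.Statements.S0247
import Cfsg.Agent.SpG.Card
import Cfsg.Agent.SpG.Congr
import Cfsg.Agent.S0826

set_option autoImplicit false
open Cfsg

namespace Cfsg.Agent.S0247

/-- Sp_4(2) is isomorphic to the symmetric group S_6. -/
theorem result {F : Type*} [Field F] [Fintype F] (hF : Fintype.card F = 2) : Nonempty (Matrix.symplecticGroup (Fin 2) F ≃* Equiv.Perm (Fin 6)) := by
  obtain ⟨f, hf⟩ := Cfsg.Agent.S0826.result 3 le_rfl
  have e : F ≃+* ZMod 2 := (ZMod.ringEquivOfPrime F Nat.prime_two hF).symm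
  have hb : Function.Bijective f := by
    rw [Nat.bijective_iff_injective_and_card]
    refine ⟨hf, ?_⟩
    rw [CL.SpG.card_sp, Nat.card_perm]
    simp only [Nat.card_eq_fintype_card, Fintype.card_fin, ZMod.card]
    decide
  exact ⟨(CL.SpG.spCongr (Fin 2) e).trans (MulEquiv.ofBijective f hb).symm⟩

end Cfsg.Agent.S0247
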