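import Cfsg.Agent.Base
import Cfsg.Statements.S0250
import Cfsg.Agent.Lin.PLine

set_option autoImplicit false
open Cfsg

namespace Cfsg.Agent.S0250

open CL.Lin
open scoped LinearAlgebra.Projectivization

/-- SL_2(2) is isomorphic to S_3. -/
theorem result {F : Type*} [Field F] [Fintype F] (hF : Fintype.card F = 2) : Nonempty (Matrix.SpecialLinearGroup (Fin 2) F ≃* Equiv.Perm (Fin 3)) := by
  classical
  have hc : Nat.card (ℙ F (Fin 2 → F)) = 3 := by rw [card_pline, hF]
  have : Fintype (ℙ F (Fin 2 → F)) := Fintype.ofFinite _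
  have e : ℙ F (Fin 2 → F) ≃ Fin 3 := Fintype.equivFinOfCardEq (by rw [← Nat.card_eq_fintype_card, hc])
  let φ := MulAction.toPermHom (Matrix.SpecialLinearGroup (Fin 2) F) (ℙ F (Fin 2 → F))
  have hinj : Function.Injective φ := by
    rw [← MonoidHom.ker_eq_bot_iff, Projectivization.SL_mulAction_ker]
    apply Subgroup.eq_bot_of_card_eq
    rw [card_center_SL, hF]; simp
  have hbij : Function.Bijective φ := by
    rw [Nat.bijective_iff_injective_and_card]
    refine ⟨hinj, ?_⟩
    rw [card_SL_two, Nat.card_perm, hc, hF]; rfl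
  exact ⟨(MulEquiv.ofBijective φ hbij).trans (Equiv.permCongrHom e)⟩

end Cfsg.Agent.S0250
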