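import Cfsg.Agent.Base
import Cfsg.Statements.S0254
import Cfsg.Agent.Lin.Congr

set_option autoImplicit false
open Cfsg

namespace Cfsg.Agent.S0254

open CL.Lin Matrix

local instance fact3 : Fact (Nat.Prime 3) := ⟨by norm_num⟩

local instance factIrr : Fact (∀ r : ZMod 3, r ^ 2 ≠ -1 + 0 * r) := ⟨by decide⟩

/-- the field with nine elements -/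
abbrev K9 : Type := QuadraticAlgebra (ZMod 3) (-1) 0

local instance fintypeK9 : Fintype K9 := Fintype.ofEquiv _ (QuadraticAlgebra.equivProd _ _).symm

theorem card_K9 : Fintype.card K9 = 9 := by
  rw [Fintype.card_congr (QuadraticAlgebra.equivProd _ _)]; simp

/-- six icosahedra in the space of symmetric matrices -/
def S : Fin 6 → Finset (Matrix (Fin 2) (Fin 2) K9) := ![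
  {!![⟨1, 0⟩, ⟨0, 0⟩; ⟨0, 0⟩, ⟨2, 1⟩], !![⟨1, 0⟩, ⟨1, 0⟩; ⟨1, 0⟩, ⟨0, 1⟩],
   !![⟨1, 0⟩, ⟨2, 0⟩; ⟨2, 0⟩, ⟨0, 1⟩], !![⟨1, 1⟩, ⟨0, 0⟩; ⟨0, 0⟩, ⟨0, 1⟩],
   !![⟨1, 1⟩, ⟨1, 1⟩; ⟨1, 1⟩, ⟨1, 2⟩], !![⟨1, 1⟩, ⟨2, 2⟩; ⟨2, 2⟩, ⟨1, 2⟩],
   !![⟨2, 0⟩, ⟨0, 0⟩; ⟨0, 0⟩, ⟨1, 2⟩], !![⟨2, 0⟩, ⟨1, 0⟩; ⟨1, 0⟩, ⟨0, 2⟩],
   !![⟨2, 0⟩, ⟨2, 0⟩; ⟨2, 0⟩, ⟨0, 2⟩], !![⟨2, 2⟩, ⟨0, 0⟩; ⟨0, 0⟩, ⟨0, 2⟩],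
   !![⟨2, 2⟩, ⟨1, 1⟩; ⟨1, 1⟩, ⟨2, 1⟩], !![⟨2, 2⟩, ⟨2, 2⟩; ⟨2, 2⟩, ⟨2, 1⟩]},
  {!![⟨0, 1⟩, ⟨0, 1⟩; ⟨0, 1⟩, ⟨1, 2⟩], !![⟨0, 1⟩, ⟨1, 1⟩; ⟨1, 1⟩, ⟨0, 1⟩],
   !![⟨0, 1⟩, ⟨2, 1⟩; ⟨2, 1⟩, ⟨2, 1⟩], !![⟨0, 2⟩, ⟨0, 2⟩; ⟨0, 2⟩, ⟨2, 1⟩],
   !![⟨0, 2⟩, ⟨1, 2⟩; ⟨1, 2⟩, ⟨1, 2⟩], !![⟨0, 2⟩, ⟨2, 2⟩; ⟨2, 2⟩, ⟨0, 2⟩],
   !![⟨1, 2⟩, ⟨0, 1⟩; ⟨0, 1⟩, ⟨0, 1⟩], !![⟨1, 2⟩, ⟨1, 2⟩; ⟨1, 2⟩, ⟨0, 2⟩],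
   !![⟨1, 2⟩, ⟨2, 0⟩; ⟨2, 0⟩, ⟨1, 2⟩], !![⟨2, 1⟩, ⟨0, 2⟩; ⟨0, 2⟩, ⟨0, 2⟩],
   !![⟨2, 1⟩, ⟨1, 0⟩; ⟨1, 0⟩, ⟨2, 1⟩], !![⟨2, 1⟩, ⟨2, 1⟩; ⟨2, 1⟩, ⟨0, 1⟩]},
  {!![⟨1, 0⟩, ⟨0, 1⟩; ⟨0, 1⟩, ⟨1, 1⟩], !![⟨1, 0⟩, ⟨1, 1⟩; ⟨1, 1⟩, ⟨2, 0⟩],
   !![⟨1, 0⟩, ⟨2, 1⟩; ⟨2, 1⟩, ⟨2, 2⟩], !![⟨1, 1⟩, ⟨0, 2⟩; ⟨0, 2⟩, ⟨1, 0⟩],
   !![⟨1, 1⟩, ⟨1, 0⟩; ⟨1, 0⟩, ⟨2, 2⟩], !![⟨1, 1⟩, ⟨2, 1⟩; ⟨2, 1⟩, ⟨2, 0⟩],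
   !![⟨2, 0⟩, ⟨0, 2⟩; ⟨0, 2⟩, ⟨2, 2⟩], !![⟨2, 0⟩, ⟨1, 2⟩; ⟨1, 2⟩, ⟨1, 1⟩],
   !![⟨2, 0⟩, ⟨2, 2⟩; ⟨2, 2⟩, ⟨1, 0⟩], !![⟨2, 2⟩, ⟨0, 1⟩; ⟨0, 1⟩, ⟨2, 0⟩],
   !![⟨2, 2⟩, ⟨1, 2⟩; ⟨1, 2⟩, ⟨1, 0⟩], !![⟨2, 2⟩, ⟨2, 0⟩; ⟨2, 0⟩, ⟨1, 1⟩]},
  {!![⟨0, 1⟩, ⟨0, 2⟩; ⟨0, 2⟩, ⟨1, 2⟩], !![⟨0, 1⟩, ⟨1, 2⟩; ⟨1, 2⟩, ⟨2, 1⟩],
   !![⟨0, 1⟩, ⟨2, 2⟩; ⟨2, 2⟩, ⟨0, 1⟩], !![⟨0, 2⟩, ⟨0, 1⟩; ⟨0, 1⟩, ⟨2, 1⟩],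
   !![⟨0, 2⟩, ⟨1, 1⟩; ⟨1, 1⟩, ⟨0, 2⟩], !![⟨0, 2⟩, ⟨2, 1⟩; ⟨2, 1⟩, ⟨1, 2⟩],
   !![⟨1, 2⟩, ⟨0, 2⟩; ⟨0, 2⟩, ⟨0, 1⟩], !![⟨1, 2⟩, ⟨1, 0⟩; ⟨1, 0⟩, ⟨1, 2⟩],
   !![⟨1, 2⟩, ⟨2, 1⟩; ⟨2, 1⟩, ⟨0, 2⟩], !![⟨2, 1⟩, ⟨0, 1⟩; ⟨0, 1⟩, ⟨0, 2⟩],
   !![⟨2, 1⟩, ⟨1, 2⟩; ⟨1, 2⟩, ⟨0, 1⟩], !![⟨2, 1⟩, ⟨2, 0⟩; ⟨2, 0⟩, ⟨2, 1⟩]},
  {!![⟨0, 1⟩, ⟨0, 0⟩; ⟨0, 0⟩, ⟨1, 1⟩], !![⟨0, 1⟩, ⟨1, 0⟩; ⟨1, 0⟩, ⟨1, 0⟩],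
   !![⟨0, 1⟩, ⟨2, 0⟩; ⟨2, 0⟩, ⟨1, 0⟩], !![⟨0, 2⟩, ⟨0, 0⟩; ⟨0, 0⟩, ⟨2, 2⟩],
   !![⟨0, 2⟩, ⟨1, 0⟩; ⟨1, 0⟩, ⟨2, 0⟩], !![⟨0, 2⟩, ⟨2, 0⟩; ⟨2, 0⟩, ⟨2, 0⟩],
   !![⟨1, 2⟩, ⟨0, 0⟩; ⟨0, 0⟩, ⟨2, 0⟩], !![⟨1, 2⟩, ⟨1, 1⟩; ⟨1, 1⟩, ⟨1, 1⟩],
   !![⟨1, 2⟩, ⟨2, 2⟩; ⟨2, 2⟩, ⟨1, 1⟩], !![⟨2, 1⟩, ⟨0, 0⟩; ⟨0, 0⟩, ⟨1, 0⟩],
   !![⟨2, 1⟩, ⟨1, 1⟩; ⟨1, 1⟩, ⟨2, 2⟩], !![⟨2, 1⟩, ⟨2, 2⟩; ⟨2, 2⟩, ⟨2, 2⟩]},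
  {!![⟨1, 0⟩, ⟨0, 2⟩; ⟨0, 2⟩, ⟨1, 1⟩], !![⟨1, 0⟩, ⟨1, 2⟩; ⟨1, 2⟩, ⟨2, 2⟩],
   !![⟨1, 0⟩, ⟨2, 2⟩; ⟨2, 2⟩, ⟨2, 0⟩], !![⟨1, 1⟩, ⟨0, 1⟩; ⟨0, 1⟩, ⟨1, 0⟩],
   !![⟨1, 1⟩, ⟨1, 2⟩; ⟨1, 2⟩, ⟨2, 0⟩], !![⟨1, 1⟩, ⟨2, 0⟩; ⟨2, 0⟩, ⟨2, 2⟩],
   !![⟨2, 0⟩, ⟨0, 1⟩; ⟨0, 1⟩, ⟨2, 2⟩], !![⟨2, 0⟩, ⟨1, 1⟩; ⟨1, 1⟩, ⟨1, 0⟩],
   !![⟨2, 0⟩, ⟨2, 1⟩; ⟨2, 1⟩, ⟨1, 1⟩], !![⟨2, 2⟩, ⟨0, 2⟩; ⟨0, 2⟩, ⟨2, 0⟩],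
   !![⟨2, 2⟩, ⟨1, 0⟩; ⟨1, 0⟩, ⟨1, 1⟩], !![⟨2, 2⟩, ⟨2, 1⟩; ⟨2, 1⟩, ⟨1, 0⟩]}]

theorem S_inj : Function.Injective S := by
  unfold Function.Injective
  decide +kernel

theorem h1 : ∀ y, congrAct (SpecialLinearGroup.transvection (zero_ne_one' (Fin 2)) 1) (S y) =
    S ((c[0, 1, 3] : Equiv.Perm (Fin 6)) • y) := by
  decide +kernel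

theorem h2 : ∀ y, congrAct (SpecialLinearGroup.transvection (zero_ne_one' (Fin 2)) ⟨0, 1⟩) (S y) =
    S ((c[2, 4, 5] : Equiv.Perm (Fin 6)) • y) := by
  decide +kernel

theorem h3 : ∀ y, congrAct (SpecialLinearGroup.transvection (one_ne_zero' (Fin 2)) 1) (S y) =
    S ((c[1, 3, 4] : Equiv.Perm (Fin 6)) • y) := by
  decide +kernel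

theorem h4 : ∀ y, congrAct (SpecialLinearGroup.transvection (one_ne_zero' (Fin 2)) ⟨0, 1⟩) (S y) =
    S ((c[0, 2, 5] : Equiv.Perm (Fin 6)) • y) := by
  decide +kernel

theorem closure_top : AddSubmonoid.closure ({1, ⟨0, 1⟩} : Set K9) = ⊤ := by
  rw [eq_top_iff]
  rintro ⟨x, y⟩ -
  obtain ⟨a, rfl⟩ := ZMod.natCast_zmod_surjective x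
  obtain ⟨b, rfl⟩ := ZMod.natCast_zmod_surjective y
  have : (⟨(a : ZMod 3), (b : ZMod 3)⟩ : K9) = a • (1 : K9) + b • (⟨0, 1⟩ : K9) := by
    ext <;> simp
  rw [this]
  exact add_mem (nsmul_mem (AddSubmonoid.subset_closure (by simp)) _)
    (nsmul_mem (AddSubmonoid.subset_closure (by simp)) _)

theorem main : Nonempty (Matrix.ProjectiveSpecialLinearGroup (Fin 2) K9 ≃*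
    alternatingGroup (Fin 6)) := by
  obtain ⟨φ, hφ⟩ := exists_hom_of_blocks (H := Equiv.Perm (Fin 6)) congrAct congrAct_mul S S_inj
    fun g ↦ transvection_induction_of_closure _ closure_top
      (fun g ↦ ∃ h : Equiv.Perm (Fin 6), ∀ y, congrAct g (S y) = S (h • y))
      ⟨1, fun y ↦ by rw [congrAct_one, one_smul]⟩ (by
        intro i j hij c hc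
        fin_cases i <;> fin_cases j
        · exact absurd rfl hij
        · rcases hc with rfl | rfl
          exacts [⟨_, h1⟩, ⟨_, h2⟩]
        · rcases hc with rfl | rfl
          exacts [⟨_, h3⟩, ⟨_, h4⟩]
        · exact absurd rfl hij)
      (fun A B hA hB ↦ blocks_mul congrAct congrAct_mul S A B hA hB) g
  refine quotCenter_equiv_alternating (SL2.commutator_eq_top (a := ⟨0, 1⟩) (by decide) (by decide))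
    (Matrix.ProjectiveSpecialLinearGroup.rank_two_simple (by simp [card_K9])) φ
    ⟨SpecialLinearGroup.transvection (zero_ne_one' (Fin 2)) 1, fun h => ?_⟩ ?_
  · have h0 := hφ (SpecialLinearGroup.transvection (zero_ne_one' (Fin 2)) 1) 0
    rw [h, h1] at h0
    exact absurd (S_inj h0) (by decide)
  · have := card_PSL_two_mul (F := K9)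
    rw [card_K9] at this
    generalize Nat.card (Matrix.ProjectiveSpecialLinearGroup (Fin 2) K9) = k at this ⊢
    norm_num [Nat.factorial] at this ⊢
    omega

/-- PSL_2(9) is isomorphic to A_6. -/
theorem result {F : Type*} [Field F] [Fintype F] (hF : Fintype.card F = 9) : Nonempty (Matrix.ProjectiveSpecialLinearGroup (Fin 2) F ≃* alternatingGroup (Fin 6)) := by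
  obtain ⟨e⟩ := nonempty_pslCongr (ι := Fin 2) (F := F) (K := K9) (by rw [hF, card_K9])
  obtain ⟨e'⟩ := main
  exact ⟨e.trans e'⟩

end Cfsg.Agent.S0254
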