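import Cfsg.Agent.Base
import Cfsg.Statements.S0255
import Cfsg.Agent.Lin.Congr

set_option autoImplicit false
open Cfsg

namespace Cfsg.Agent.S0255

open CL.Lin Matrix

/-- seven orthogonal frames, indexed by the nonzero vectors of a 3-space over the field with
two elements -/
def T : Fin 2 → Fin 2 → Fin 2 → Finset (Matrix (Fin 2) (Fin 2) (ZMod 7)) :=
  ![![![∅,
    {!![1, 1; 1, 2], !![2, 5; 5, 6], !![3, 1; 1, 3], !![4, 6; 6, 4], !![5, 2; 2, 1], !![6, 6; 6, 5]}],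
    ![{!![1, 6; 6, 2], !![2, 1; 1, 1], !![3, 2; 2, 4], !![4, 5; 5, 3], !![5, 6; 6, 6], !![6, 1; 1, 5]},
    {!![1, 2; 2, 5], !![2, 0; 0, 4], !![3, 4; 4, 1], !![4, 3; 3, 6], !![5, 0; 0, 3], !![6, 5; 5, 2]}]],
   ![![{!![1, 0; 0, 1], !![2, 3; 3, 5], !![3, 5; 5, 4], !![4, 2; 2, 3], !![5, 4; 4, 2], !![6, 0; 0, 6]},
    {!![1, 5; 5, 5], !![2, 6; 6, 1], !![3, 6; 6, 3], !![4, 1; 1, 4], !![5, 1; 1, 6], !![6, 2; 2, 2]}],
    ![{!![1, 4; 4, 3], !![2, 4; 4, 5], !![3, 3; 3, 1], !![4, 4; 4, 6], !![5, 3; 3, 2], !![6, 3; 3, 4]},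
    {!![1, 3; 3, 3], !![2, 2; 2, 6], !![3, 0; 0, 5], !![4, 0; 0, 2], !![5, 5; 5, 1], !![6, 4; 4, 4]}]]]

/-- the frame attached to a vector -/
def S (y : Fin 3 → ZMod 2) : Finset (Matrix (Fin 2) (Fin 2) (ZMod 7)) := T (y 0) (y 1) (y 2)

/-- image of the first generator -/
def a : SpecialLinearGroup (Fin 3) (ZMod 2) := ⟨!![0, 0, 1; 1, 0, 1; 0, 1, 0], by decide⟩

/-- image of the second generator -/
def b : SpecialLinearGroup (Fin 3) (ZMod 2) := ⟨!![0, 1, 0; 0, 0, 1; 1, 0, 1], by decide⟩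

theorem S_inj : Function.Injective S := by
  unfold Function.Injective
  decide +kernel

theorem h01 : ∀ y, congrAct (SpecialLinearGroup.transvection (zero_ne_one' (Fin 2)) 1) (S y) =
    S (a • y) := by
  decide +kernel

theorem h10 : ∀ y, congrAct (SpecialLinearGroup.transvection (one_ne_zero' (Fin 2)) 1) (S y) =
    S (b • y) := by
  decide +kernel

local instance fact7 : Fact (Nat.Prime 7) := ⟨by norm_num⟩

theorem main : Nonempty (Matrix.ProjectiveSpecialLinearGroup (Fin 2) (ZMod 7) ≃*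
    SpecialLinearGroup (Fin 3) (ZMod 2)) := by
  have : FaithfulSMul (SpecialLinearGroup (Fin 3) (ZMod 2)) (Fin 3 → ZMod 2) :=
    ⟨fun h => Subtype.ext (Matrix.ext_iff_smul.2 h)⟩
  obtain ⟨φ, hφ⟩ := exists_hom_of_congrAct 7 (H := SpecialLinearGroup (Fin 3) (ZMod 2)) S S_inj (by
    intro i j hij
    fin_cases i <;> fin_cases j
    · exact absurd rfl hij
    · exact ⟨_, h01⟩
    · exact ⟨_, h10⟩
    · exact absurd rfl hij)
  refine quotCenter_equiv_of_hom (SL2.commutator_eq_top (a := 2) (by decide) (by decide))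
    (Matrix.ProjectiveSpecialLinearGroup.rank_two_simple (by simp)) φ
    ⟨SpecialLinearGroup.transvection (zero_ne_one' (Fin 2)) 1, fun h => ?_⟩ ?_
  · have h1 := hφ (SpecialLinearGroup.transvection (zero_ne_one' (Fin 2)) 1) ![1, 0, 0]
    rw [h, h01] at h1
    exact absurd (S_inj h1) (by decide)
  · have h1 := card_PSL_two_mul (F := ZMod 7)
    have h2 := card_SL_mul (ι := Fin 3) (F := ZMod 2)
    rw [Matrix.card_GL_field, ZMod.card] at h2
    rw [ZMod.card] at h1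
    generalize Nat.card (Matrix.ProjectiveSpecialLinearGroup (Fin 2) (ZMod 7)) = k at h1 ⊢
    generalize Nat.card (Matrix.SpecialLinearGroup (Fin 3) (ZMod 2)) = l at h2 ⊢
    norm_num [Fin.prod_univ_three] at h1 h2 ⊢
    omega

/-- PSL_2(7) is isomorphic to PSL_3(2). -/
theorem result {F K : Type*} [Field F] [Fintype F] [Field K] [Fintype K] (hF : Fintype.card F = 7) (hK : Fintype.card K = 2) : Nonempty (Matrix.ProjectiveSpecialLinearGroup (Fin 2) F ≃* Matrix.ProjectiveSpecialLinearGroup (Fin 3) K) := by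
  obtain ⟨e⟩ := nonempty_pslCongr (ι := Fin 2) (F := F) (K := ZMod 7) (by rw [hF, ZMod.card])
  obtain ⟨e'⟩ := main
  obtain ⟨e''⟩ := nonempty_slCongr (ι := Fin 3) (F := ZMod 2) (K := K) (by rw [hK, ZMod.card])
  have hZ : Subgroup.center (SpecialLinearGroup (Fin 3) K) = ⊥ := by
    apply Subgroup.eq_bot_of_card_eq
    rw [card_center_SL, hK]; simp
  exact ⟨(e.trans e').trans (e''.trans (quotCenterEquivOfBot hZ).symm)⟩

end Cfsg.Agent.S0255
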