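import Cfsg.Agent.Base
import Cfsg.Statements.S0256
import Cfsg.Agent.Lin.Congr

set_option autoImplicit false
open Cfsg

namespace Cfsg.Agent.S0256

open CL.Lin Matrix

/-- the eight Conwell heptads of nondegenerate alternating forms -/
def S : Fin 8 → Finset (Matrix (Fin 4) (Fin 4) (ZMod 2)) := ![
  {!![0, 0, 0, 1; 0, 0, 1, 0; 0, 1, 0, 0; 1, 0, 0, 0], !![0, 0, 1, 0; 0, 0, 1, 1; 1, 1, 0, 1; 0, 1, 1, 0], !![0, 0, 1, 1; 0, 0, 0, 1; 1, 0, 0, 0; 1, 1, 0, 0], !![0, 1, 0, 0; 1, 0, 1, 0; 0, 1, 0, 1; 0, 0, 1, 0], !![0, 1, 0, 1; 1, 0, 0, 1; 0, 0, 0, 1; 1, 1, 1, 0], !![0, 1, 1, 0; 1, 0, 1, 1; 1, 1, 0, 0; 0, 1, 0, 0], !![0, 1, 1, 1; 1, 0, 0, 0; 1, 0, 0, 1; 1, 0, 1, 0]},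
  {!![0, 0, 0, 1; 0, 0, 1, 1; 0, 1, 0, 1; 1, 1, 1, 0], !![0, 0, 1, 0; 0, 0, 0, 1; 1, 0, 0, 0; 0, 1, 0, 0], !![0, 0, 1, 1; 0, 0, 1, 0; 1, 1, 0, 0; 1, 0, 0, 0], !![0, 1, 0, 0; 1, 0, 0, 1; 0, 0, 0, 1; 0, 1, 1, 0], !![0, 1, 0, 1; 1, 0, 1, 1; 0, 1, 0, 0; 1, 1, 0, 0], !![0, 1, 1, 0; 1, 0, 1, 0; 1, 1, 0, 1; 0, 0, 1, 0], !![0, 1, 1, 1; 1, 0, 0, 0; 1, 0, 0, 1; 1, 0, 1, 0]},
  {!![0, 0, 0, 1; 0, 0, 1, 0; 0, 1, 0, 1; 1, 0, 1, 0], !![0, 0, 1, 0; 0, 0, 1, 1; 1, 1, 0, 0; 0, 1, 0, 0], !![0, 0, 1, 1; 0, 0, 0, 1; 1, 0, 0, 0; 1, 1, 0, 0], !![0, 1, 0, 0; 1, 0, 0, 1; 0, 0, 0, 1; 0, 1, 1, 0], !![0, 1, 0, 1; 1, 0, 1, 0; 0, 1, 0, 0; 1, 0, 0, 0], !![0, 1, 1, 0; 1, 0, 0, 0; 1, 0, 0, 1; 0, 0, 1, 0], !![0, 1, 1, 1; 1, 0, 1, 1; 1, 1, 0, 1; 1, 1, 1, 0]},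
  {!![0, 0, 0, 1; 0, 0, 1, 0; 0, 1, 0, 0; 1, 0, 0, 0], !![0, 0, 1, 0; 0, 0, 1, 1; 1, 1, 0, 0; 0, 1, 0, 0], !![0, 0, 1, 1; 0, 0, 0, 1; 1, 0, 0, 1; 1, 1, 1, 0], !![0, 1, 0, 0; 1, 0, 1, 1; 0, 1, 0, 1; 0, 1, 1, 0], !![0, 1, 0, 1; 1, 0, 0, 0; 0, 0, 0, 1; 1, 0, 1, 0], !![0, 1, 1, 0; 1, 0, 1, 0; 1, 1, 0, 1; 0, 0, 1, 0], !![0, 1, 1, 1; 1, 0, 0, 1; 1, 0, 0, 0; 1, 1, 0, 0]},
  {!![0, 0, 0, 1; 0, 0, 1, 1; 0, 1, 0, 0; 1, 1, 0, 0], !![0, 0, 1, 0; 0, 0, 0, 1; 1, 0, 0, 1; 0, 1, 1, 0], !![0, 0, 1, 1; 0, 0, 1, 0; 1, 1, 0, 0; 1, 0, 0, 0], !![0, 1, 0, 0; 1, 0, 1, 0; 0, 1, 0, 1; 0, 0, 1, 0], !![0, 1, 0, 1; 1, 0, 0, 0; 0, 0, 0, 1; 1, 0, 1, 0], !![0, 1, 1, 0; 1, 0, 0, 1; 1, 0, 0, 0; 0, 1, 0, 0], !![0, 1, 1, 1; 1, 0, 1, 1; 1, 1, 0, 1; 1, 1, 1, 0]},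
  {!![0, 0, 0, 1; 0, 0, 1, 1; 0, 1, 0, 1; 1, 1, 1, 0], !![0, 0, 1, 0; 0, 0, 0, 1; 1, 0, 0, 1; 0, 1, 1, 0], !![0, 0, 1, 1; 0, 0, 1, 0; 1, 1, 0, 1; 1, 0, 1, 0], !![0, 1, 0, 0; 1, 0, 0, 0; 0, 0, 0, 1; 0, 0, 1, 0], !![0, 1, 0, 1; 1, 0, 1, 0; 0, 1, 0, 0; 1, 0, 0, 0], !![0, 1, 1, 0; 1, 0, 1, 1; 1, 1, 0, 0; 0, 1, 0, 0], !![0, 1, 1, 1; 1, 0, 0, 1; 1, 0, 0, 0; 1, 1, 0, 0]},
  {!![0, 0, 0, 1; 0, 0, 1, 0; 0, 1, 0, 1; 1, 0, 1, 0], !![0, 0, 1, 0; 0, 0, 1, 1; 1, 1, 0, 1; 0, 1, 1, 0], !![0, 0, 1, 1; 0, 0, 0, 1; 1, 0, 0, 1; 1, 1, 1, 0], !![0, 1, 0, 0; 1, 0, 0, 0; 0, 0, 0, 1; 0, 0, 1, 0], !![0, 1, 0, 1; 1, 0, 1, 1; 0, 1, 0, 0; 1, 1, 0, 0], !![0, 1, 1, 0; 1, 0, 0, 1; 1, 0, 0, 0; 0, 1, 0, 0], !![0, 1, 1, 1; 1, 0, 1, 0; 1, 1, 0, 0; 1, 0, 0, 0]},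
  {!![0, 0, 0, 1; 0, 0, 1, 1; 0, 1, 0, 0; 1, 1, 0, 0], !![0, 0, 1, 0; 0, 0, 0, 1; 1, 0, 0, 0; 0, 1, 0, 0], !![0, 0, 1, 1; 0, 0, 1, 0; 1, 1, 0, 1; 1, 0, 1, 0], !![0, 1, 0, 0; 1, 0, 1, 1; 0, 1, 0, 1; 0, 1, 1, 0], !![0, 1, 0, 1; 1, 0, 0, 1; 0, 0, 0, 1; 1, 1, 1, 0], !![0, 1, 1, 0; 1, 0, 0, 0; 1, 0, 0, 1; 0, 0, 1, 0], !![0, 1, 1, 1; 1, 0, 1, 0; 1, 1, 0, 0; 1, 0, 0, 0]}]

/-- the permutations of the heptads induced by the elementary transvections -/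
def P : Fin 4 → Fin 4 → Equiv.Perm (Fin 8) := ![
  ![1, c[0, 1] * c[2, 7] * c[3, 4] * c[5, 6], c[0, 2] * c[1, 7] * c[3, 5] * c[4, 6], c[0, 3] * c[1, 4] * c[2, 5] * c[6, 7]],
  ![c[0, 4] * c[1, 2] * c[3, 7] * c[5, 6], 1, c[0, 3] * c[1, 6] * c[2, 5] * c[4, 7], c[0, 5] * c[1, 7] * c[2, 3] * c[4, 6]],
  ![c[0, 6] * c[1, 7] * c[2, 3] * c[4, 5], c[0, 3] * c[1, 4] * c[2, 6] * c[5, 7], 1, c[0, 4] * c[1, 3] * c[2, 7] * c[5, 6]],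
  ![c[0, 3] * c[1, 5] * c[2, 6] * c[4, 7], c[0, 2] * c[1, 7] * c[3, 6] * c[4, 5], c[0, 7] * c[1, 2] * c[3, 4] * c[5, 6], 1]]

theorem S_inj : Function.Injective S := by
  unfold Function.Injective
  decide +kernel

theorem hgen : ∀ (i j : Fin 4) (hij : i ≠ j), ∀ y,
    congrAct (SpecialLinearGroup.transvection hij 1) (S y) = S (P i j • y) := by
  decide +kernel

theorem main : Nonempty (Matrix.ProjectiveSpecialLinearGroup (Fin 4) (ZMod 2) ≃*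
    alternatingGroup (Fin 8)) := by
  obtain ⟨φ, hφ⟩ := exists_hom_of_congrAct 2 (H := Equiv.Perm (Fin 8)) S S_inj
    (fun i j hij => ⟨_, hgen i j hij⟩)
  refine quotCenter_equiv_alternating (SL_commutator_eq_top (by simp)) (PSL_simple (by simp)) φ
    ⟨SpecialLinearGroup.transvection (zero_ne_one' (Fin 4)) 1, fun h => ?_⟩ ?_
  · have h1 := hφ (SpecialLinearGroup.transvection (zero_ne_one' (Fin 4)) 1) 0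
    rw [h, hgen] at h1
    exact absurd (S_inj h1) (by decide)
  · have h1 := card_PSL_mul (ι := Fin 4) (F := ZMod 2)
    have h2 := card_SL_mul (ι := Fin 4) (F := ZMod 2)
    rw [Matrix.card_GL_field, ZMod.card] at h2
    rw [ZMod.card] at h1
    generalize Nat.card (Matrix.ProjectiveSpecialLinearGroup (Fin 4) (ZMod 2)) = k at h1 ⊢
    generalize Nat.card (Matrix.SpecialLinearGroup (Fin 4) (ZMod 2)) = l at h1 h2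
    norm_num [Nat.factorial, Fin.prod_univ_four] at h1 h2 ⊢
    omega

/-- PSL_4(2) is isomorphic to A_8. -/
theorem result {F : Type*} [Field F] [Fintype F] (hF : Fintype.card F = 2) : Nonempty (Matrix.ProjectiveSpecialLinearGroup (Fin 4) F ≃* alternatingGroup (Fin 8)) := by
  obtain ⟨e⟩ := nonempty_pslCongr (ι := Fin 4) (F := F) (K := ZMod 2) (by rw [hF, ZMod.card])
  obtain ⟨e'⟩ := main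
  exact ⟨e.trans e'⟩

end Cfsg.Agent.S0256
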