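import Cfsg.Agent.Base
import Cfsg.Statements.S0257
import Cfsg.Agent.Lin.SL2
import Cfsg.Agent.S0251

set_option autoImplicit false
open Cfsg

namespace Cfsg.Agent.S0257

open CL.Lin

/-- SL_2(3) has a normal subgroup of index 3 isomorphic to the quaternion group of order 8, and its centre has order 2. -/
theorem result {F : Type*} [Field F] [Fintype F] (hF : Fintype.card F = 3) : (∃ Q : Subgroup (Matrix.SpecialLinearGroup (Fin 2) F), Q.Normal ∧ Q.index = 3 ∧ Nonempty (Q ≃* QuaternionGroup 2)) ∧ Nat.card (Subgroup.center (Matrix.SpecialLinearGroup (Fin 2) F)) = 2 := by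
  refine ⟨?_, by rw [card_center_SL, hF]; rfl⟩
  obtain ⟨e⟩ := Cfsg.Agent.S0251.result hF
  let φ : Matrix.SpecialLinearGroup (Fin 2) F →* alternatingGroup (Fin 4) :=
    e.toMonoidHom.comp (QuotientGroup.mk' _)
  have hφ : Function.Surjective φ := e.surjective.comp (QuotientGroup.mk'_surjective _)
  have h4 : Nat.card (Fin 4) = 4 := by simp
  have := alternatingGroup.normal_kleinFour h4
  have hidx : ((alternatingGroup.kleinFour (Fin 4)).comap φ).index = 3 := by
    rw [Subgroup.index_comap_of_surjective _ hφ]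
    have := (alternatingGroup.kleinFour (Fin 4)).card_mul_index
    rw [alternatingGroup.kleinFour_card_of_card_eq_four h4,
      alternatingGroup.card_of_card_eq_four h4] at this
    omega
  have hG : Nat.card (Matrix.SpecialLinearGroup (Fin 2) F) = 2 ^ 3 * 3 := by
    rw [card_SL_two, hF]; rfl
  have hcard : Nat.card ((alternatingGroup.kleinFour (Fin 4)).comap φ) = 2 ^ 3 := by
    have := ((alternatingGroup.kleinFour (Fin 4)).comap φ).card_mul_index
    rw [hidx, hG] at this
    omega
  refine ⟨_, inferInstance, hidx, ?_⟩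
  obtain ⟨k, hk, ⟨e'⟩⟩ := sylow_two_SL_two_quaternion (by rw [hF]; decide)
    (Sylow.ofCard (p := 2) ((alternatingGroup.kleinFour (Fin 4)).comap φ)
      (by rw [hcard, factorization_eq_of_eq_pow_mul Nat.prime_two hG (by decide)]))
  have h1 := Nat.card_congr e'.toEquiv
  rw [Sylow.coe_ofCard, hcard, Nat.card_eq_fintype_card, QuaternionGroup.card] at h1
  have h2 : 2 ^ k = 2 := by omega
  rw [h2] at e'
  exact ⟨e'⟩

end Cfsg.Agent.S0257
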