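import Cfsg.Agent.Base
import Cfsg.Statements.S0262
import Cfsg.Agent.Lin.SL2

set_option autoImplicit false
open Cfsg

namespace Cfsg.Agent.S0262

open CL.Lin

/-- For an odd prime r different from the characteristic, the Sylow r-subgroups of SL_2(q) are cyclic. -/
theorem result {F : Type*} [Field F] [Fintype F] (p : ℕ) [Fact p.Prime] [CharP F p] (r : ℕ) [Fact r.Prime] (hr : r ≠ 2) (hrp : r ≠ p) (R : Sylow r (Matrix.SpecialLinearGroup (Fin 2) F)) : IsCyclic (R : Subgroup (Matrix.SpecialLinearGroup (Fin 2) F)) := by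
  have hr' : r.Prime := Fact.out
  have hp' : p.Prime := Fact.out
  rcases subsingleton_or_nontrivial (R : Subgroup (Matrix.SpecialLinearGroup (Fin 2) F)) with h | h
  · infer_instance
  obtain ⟨⟨z, hz⟩, hz1⟩ := @exists_ne _ R.isPGroup'.center_nontrivial 1
  have hord : ∀ g : (R : Subgroup (Matrix.SpecialLinearGroup (Fin 2) F)), ∀ s : ℕ, s.Prime → s ≠ r →
      (g : Matrix.SpecialLinearGroup (Fin 2) F) ^ s = 1 → g = 1 := by
    intro g s hs hsr hg
    obtain ⟨k, hk⟩ := R.isPGroup' g
    have h1 : orderOf g ∣ r ^ k := orderOf_dvd_of_pow_eq_one hk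
    have h2 : orderOf g ∣ s := orderOf_dvd_of_pow_eq_one (Subtype.ext hg)
    have h3 : Nat.Coprime (r ^ k) s := Nat.Coprime.pow_left _ ((Nat.coprime_primes hr' hs).2 hsr.symm)
    exact orderOf_eq_one_iff.1 (Nat.eq_one_of_dvd_coprimes h3 h1 h2)
  refine isCyclic_of_commute_noncentral _ (fun g hg hu => ?_) z (fun hc => ?_) (fun g hg => ?_)
  · exact congrArg Subtype.val
      (hord ⟨g, hg⟩ p hp' hrp.symm (pow_char_eq_one_of_unipotent p g hu))
  · apply hz1
    apply Subtype.ext
    refine hord z 2 Nat.prime_two hr.symm ?_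
    rcases mem_center_SL_two_iff.1 hc with h | h <;> simp [h]
  · exact congrArg Subtype.val (Subgroup.mem_center_iff.1 hz ⟨g, hg⟩).symm

end Cfsg.Agent.S0262
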