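import Cfsg.Agent.Base
import Cfsg.Statements.S0264
import Cfsg.Agent.Lin.Card
import Cfsg.Agent.Lin.Gen

set_option autoImplicit false
open Cfsg

namespace Cfsg.Agent.S0264

open Matrix
open scoped commutatorElement

theorem transvection_mem {ι F : Type*} [Fintype ι] [DecidableEq ι] [Field F] {a : F} (ha : a ≠ 0)
    (ha1 : a ≠ 1) {i j : ι} (hij : i ≠ j) (c : F) :
    Matrix.SpecialLinearGroup.toGL (Matrix.SpecialLinearGroup.transvection hij c) ∈
      commutator (GeneralLinearGroup ι F) := by
  let d : GeneralLinearGroup ι F :=
    ⟨diagonal (Function.update 1 i a), diagonal (Function.update 1 i a⁻¹),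
      by
        rw [diagonal_mul_diagonal, ← diagonal_one]; congr 1; ext k
        by_cases hk : k = i <;> simp [hk, ha],
      by
        rw [diagonal_mul_diagonal, ← diagonal_one]; congr 1; ext k
        by_cases hk : k = i <;> simp [hk, ha]⟩
  have key : ⁅d, Matrix.SpecialLinearGroup.toGL
      (Matrix.SpecialLinearGroup.transvection hij (c / (a - 1)))⁆ =
      Matrix.SpecialLinearGroup.toGL (Matrix.SpecialLinearGroup.transvection hij c) := by
    have h1 : d * Matrix.SpecialLinearGroup.toGL
        (Matrix.SpecialLinearGroup.transvection hij (c / (a - 1))) =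
        Matrix.SpecialLinearGroup.toGL
          (Matrix.SpecialLinearGroup.transvection hij (a * (c / (a - 1)))) * d := by
      refine Units.ext ?_
      simp only [Units.val_mul, Matrix.SpecialLinearGroup.coe_GL_coe_matrix,
        Matrix.SpecialLinearGroup.transvection_coe, d]
      ext k l
      simp only [diagonal_mul, mul_diagonal, Matrix.add_apply, one_apply, single_apply]
      simp only [Function.update_apply, Pi.one_apply]
      by_cases hki : k = i <;> by_cases hlj : l = j <;> by_cases hkl : k = l <;>
        grind
    rw [commutatorElement_def, h1, mul_inv_cancel_right, ← map_inv, ← map_mul,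
      Matrix.SpecialLinearGroup.transvection_inv, ← Matrix.SpecialLinearGroup.transvection_add]
    congr 2
    have : a - 1 ≠ 0 := sub_ne_zero.2 ha1
    field_simp
    ring
  rw [← key]
  exact Subgroup.commutator_mem_commutator (Subgroup.mem_top _) (Subgroup.mem_top _)

/-- GL_n(F)' = SL_n(F) (as the kernel of det), for every field F and every n, except n = 2 over the field of two elements. -/
theorem result {F : Type*} [Field F] (n : ℕ) (h : n = 2 → ∃ a : F, a ≠ 0 ∧ a ≠ 1) : commutator (Matrix.GeneralLinearGroup (Fin n) F) = (Matrix.GeneralLinearGroup.det : Matrix.GeneralLinearGroup (Fin n) F →* Fˣ).ker := by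
  apply le_antisymm
  · exact Abelianization.commutator_subset_ker _
  · rw [← CL.Lin.range_toGL]
    rintro _ ⟨g, rfl⟩
    refine CL.Lin.transvection_induction (fun g => Matrix.SpecialLinearGroup.toGL g ∈
      commutator (Matrix.GeneralLinearGroup (Fin n) F)) (by simp) (fun i j hij c => ?_)
      (fun A B hA hB => by rw [map_mul]; exact mul_mem hA hB) g
    by_cases h2 : n = 2
    · obtain ⟨a, ha, ha1⟩ := h h2
      exact transvection_mem ha ha1 hij c
    · have h3 : 3 ≤ n := by
        have hi := i.2
        have hj := j.2
        have : (i : ℕ) ≠ j := fun h => hij (Fin.ext h)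
        omega
      have hm : Matrix.SpecialLinearGroup.transvection hij c ∈
          commutator (Matrix.SpecialLinearGroup (Fin n) F) := by
        rw [CL.Lin.SL_commutator_eq_top (by simpa using h3)]; trivial
      have := Subgroup.mem_map_of_mem Matrix.SpecialLinearGroup.toGL hm
      rw [commutator_def, Subgroup.map_commutator] at this
      exact Subgroup.commutator_mono le_top le_top this

end Cfsg.Agent.S0264
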