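import Cfsg.Agent.Base
import Cfsg.Statements.S0267
import Cfsg.Agent.Lin.PLine

set_option autoImplicit false
open Cfsg

namespace Cfsg.Agent.S0267

open CL.Lin

/-- SL_2(q) is 3-transitive on the q+1 points of the projective line if and only if q is even. -/
theorem result {F : Type*} [Field F] [Fintype F] : MulAction.IsMultiplyPretransitive (Matrix.SpecialLinearGroup (Fin 2) F) (Projectivization F (Fin 2 → F)) 3 ↔ ringChar F = 2 := by
  constructor
  · intro h
    by_contra hc
    obtain ⟨d, hd⟩ := FiniteField.exists_nonsquare hc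
    have hd0 : (0 : F) ≠ d := by rintro rfl; exact hd IsSquare.zero
    obtain ⟨g, h1, h2, h3⟩ := three_pretransitive_iff.1 h (ptInf F) (ptAff 0) (ptAff 1)
      (ptInf F) (ptAff 0) (ptAff d) (ptInf_ne_ptAff _) (ptInf_ne_ptAff _)
      (ptAff_injective.ne zero_ne_one) (ptInf_ne_ptAff _) (ptInf_ne_ptAff _)
      (ptAff_injective.ne hd0)
    rw [← toGL_smul_pt] at h1 h2 h3
    rw [GL_smul_ptInf_eq_iff] at h1
    rw [GL_smul_ptAff_eq_iff] at h2 h3
    have hdet := g.det_coe
    rw [Matrix.det_fin_two] at hdet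
    simp only [Matrix.SpecialLinearGroup.coe_GL_coe_matrix, mul_zero, zero_add, mul_one] at h1 h2 h3
    rw [h1, h2] at h3
    rw [h1, h2] at hdet
    apply hd
    refine ⟨(g : Matrix (Fin 2) (Fin 2) F) 0 0, ?_⟩
    linear_combination (-(g : Matrix (Fin 2) (Fin 2) F) 0 0) * h3 - d * hdet
  · intro hc
    have hs : Function.Surjective (Matrix.ProjectiveSpecialLinearGroup.toPGL (n := Fin 2) (R := F)) := by
      refine Matrix.ProjectiveSpecialLinearGroup.toPGL_surj_of_roots fun r => ?_
      obtain ⟨s, hs⟩ := FiniteField.isSquare_of_char_two hc (r : F)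
      have hs0 : s ≠ 0 := by rintro rfl; simp at hs
      exact ⟨Units.mk0 s hs0, Units.ext (by simp [hs, pow_two])⟩
    have := three_pretransitive_iff.1 (PGL_three_pretransitive (F := F))
    rw [three_pretransitive_iff]
    intro a b c a' b' c' hab hac hbc hab' hac' hbc'
    obtain ⟨g, h⟩ := this a b c a' b' c' hab hac hbc hab' hac' hbc'
    obtain ⟨g, rfl⟩ := hs g
    induction g using QuotientGroup.induction_on with | H g =>
    rw [Matrix.ProjectiveSpecialLinearGroup.toPGL_mk] at h
    simp only [PGL_mk_smul_pt, toGL_smul_pt] at h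
    exact ⟨g, h⟩

end Cfsg.Agent.S0267
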