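import Cfsg.Agent.Base
import Cfsg.Statements.S0268

set_option autoImplicit false
open Cfsg

namespace Cfsg.Agent.S0268

/-- For q odd, -1 is the unique involution of SL_2(q). -/
theorem result {F : Type*} [Field F] [Fintype F] (hF : Odd (Fintype.card F)) (g : Matrix.SpecialLinearGroup (Fin 2) F) (h1 : g ≠ 1) (h2 : g * g = 1) : (g : Matrix (Fin 2) (Fin 2) F) = -1 := by
  have h2ne : (2 : F) ≠ 0 := by
    intro h
    have hc : ringChar F = 2 := by
      have := (ringChar.spec F 2).1 (by exact_mod_cast h)
      exact ((Nat.dvd_prime Nat.prime_two).1 this).resolve_left CharP.ringChar_ne_one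
    have := FiniteField.even_card_of_char_two hc
    rw [Nat.odd_iff] at hF
    omega
  have hinv : g⁻¹ = g := inv_eq_of_mul_eq_one_right h2
  have hadj : (g : Matrix (Fin 2) (Fin 2) F).adjugate = g := by
    rw [← Matrix.SpecialLinearGroup.coe_inv, hinv]
  have hdet := g.det_coe
  rw [Matrix.adjugate_fin_two] at hadj
  rw [Matrix.det_fin_two] at hdet
  have e00 := congrFun (congrFun hadj 0) 0
  have e01 := congrFun (congrFun hadj 0) 1
  have e10 := congrFun (congrFun hadj 1) 0
  simp at e00 e01 e10
  have h01 : (g : Matrix (Fin 2) (Fin 2) F) 0 1 = 0 := by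
    have : 2 * (g : Matrix (Fin 2) (Fin 2) F) 0 1 = 0 := by linear_combination -e01
    exact (mul_eq_zero.1 this).resolve_left h2ne
  have h10 : (g : Matrix (Fin 2) (Fin 2) F) 1 0 = 0 := by
    have : 2 * (g : Matrix (Fin 2) (Fin 2) F) 1 0 = 0 := by linear_combination -e10
    exact (mul_eq_zero.1 this).resolve_left h2ne
  rw [h01, e00] at hdet
  have : ((g : Matrix (Fin 2) (Fin 2) F) 0 0 - 1) * ((g : Matrix (Fin 2) (Fin 2) F) 0 0 + 1) = 0 := by
    linear_combination hdet
  rcases mul_eq_zero.1 this with h | h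
  · exfalso
    apply h1
    ext i j
    fin_cases i <;> fin_cases j <;> simp [h01, h10, e00, sub_eq_zero.1 h]
  · ext i j
    fin_cases i <;> fin_cases j <;> simp [h01, h10, e00, eq_neg_of_add_eq_zero_left h]

end Cfsg.Agent.S0268
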