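import Cfsg.Statements.S0275
import Cfsg.Agent.Base
import Cfsg.Agent.PSL2.SL2Sub
import Cfsg.Agent.Lin.SL2

set_option autoImplicit false
open Cfsg

namespace Cfsg.Agent.S0275

/-- If p is odd and H is a subgroup of SL_2(q), q a power of p, with more than one Sylow p-subgroup, then the Sylow 2-subgroups of H are generalised quaternion. -/
theorem result {F : Type*} [Field F] [Fintype F] (p : ℕ) [Fact p.Prime] [CharP F p] (hp : p ≠ 2) (H : Subgroup (Matrix.SpecialLinearGroup (Fin 2) F)) (hH : 1 < Nat.card (Sylow p H)) (S : Sylow 2 H) : ∃ k : ℕ, 1 ≤ k ∧ Nonempty ((S : Subgroup H) ≃* QuaternionGroup (2 ^ k)) := by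
  have h2 : (2 : F) ≠ 0 := fun h =>
    CL.PSL2.neg_one_ne_one_SL p hp (CL.PSL2.neg_one_eq_one_SL_iff.2 h)
  have e := (S : Subgroup H).equivMapOfInjective H.subtype H.subtype_injective
  rcases CL.Lin.isCyclic_or_quaternion_of_two_subgroup h2 ((S : Subgroup H).map H.subtype)
    (S.2.map _) with hc | ⟨k, hk, ⟨e'⟩⟩
  · exfalso
    have hS : IsCyclic S := isCyclic_of_surjective _ e.symm.surjective
    obtain ⟨k, γ, hle⟩ := CL.PSL2.exists_range_subSL_le p hp H hH
    let _ : Fintype k := Fintype.ofFinite k
    have hk : Odd (Fintype.card k) := by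
      rw [← Nat.not_even_iff_odd, ← CL.PSL2.two_eq_zero_iff_even_card]
      intro h
      exact h2 (by rw [← map_ofNat k.subtype 2, h, map_zero])
    obtain ⟨a, b, -, -, -, ⟨eq⟩⟩ := CL.Lin.exists_quaternion_subgroup hk
    let f : QuaternionGroup 2 →* H :=
      (((CL.PSL2.subSL k γ).codRestrict H fun g => hle ⟨g, rfl⟩).comp
        (Subgroup.subtype _)).comp eq.symm.toMonoidHom
    have hf : Function.Injective f := fun x y h => eq.symm.injective (Subtype.ext
      (CL.PSL2.subSL_injective k γ (congrArg Subtype.val h)))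
    have hQ : IsPGroup 2 f.range := by
      refine IsPGroup.of_card (n := 3) ?_
      rw [← Nat.card_congr (MonoidHom.ofInjective hf).toEquiv, Nat.card_eq_fintype_card,
        QuaternionGroup.card]
      rfl
    obtain ⟨P, hP⟩ := hQ.exists_le_sylow
    have hP' : IsCyclic P := isCyclic_of_surjective _ (Sylow.equiv S P).surjective
    have h3 : IsCyclic f.range := Subgroup.isCyclic_of_le hP
    have h4 : IsCyclic (QuaternionGroup 2) :=
      isCyclic_of_surjective _ (MonoidHom.ofInjective hf).symm.surjective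
    have := (IsCyclic.isMulCommutative (α := QuaternionGroup 2)).is_comm.comm
      (QuaternionGroup.a 1) (QuaternionGroup.xa 0)
    revert this
    decide
  · exact ⟨k, hk, ⟨e.trans e'⟩⟩

end Cfsg.Agent.S0275
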