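import Cfsg.Agent.Base
import Cfsg.Statements.S0276
import Cfsg.Agent.Lin.SL2

set_option autoImplicit false
open Cfsg

namespace Cfsg.Agent.S0276

open CL.Lin

/-- For q = 3 or 5 mod 8 the Sylow 2-subgroups of PSL_2(q) are elementary abelian of order 4. -/
theorem result {F : Type*} [Field F] [Fintype F] {q : ℕ} (hF : Fintype.card F = q) (hq : q % 8 = 3 ∨ q % 8 = 5) (P : Sylow 2 (Matrix.ProjectiveSpecialLinearGroup (Fin 2) F)) : IsKleinFour (P : Subgroup (Matrix.ProjectiveSpecialLinearGroup (Fin 2) F)) := by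
  have hodd : Odd (Fintype.card F) := by rw [hF, Nat.odd_iff]; omega
  have h2 := two_ne_zero_of_odd_card hodd
  have hcard : ∃ m, ¬ 2 ∣ m ∧ Nat.card (Matrix.ProjectiveSpecialLinearGroup (Fin 2) F) = 2 ^ 2 * m := by
    have h := card_PSL_two_mul (F := F)
    rw [hF] at h
    generalize Nat.card (Matrix.ProjectiveSpecialLinearGroup (Fin 2) F) = N at h ⊢
    have hg : Nat.gcd 2 (q - 1) = 2 := Nat.gcd_eq_left (by omega)
    rw [hg] at h
    rcases hq with hq | hq
    · obtain ⟨k, rfl⟩ : ∃ k, q = 8 * k + 3 := ⟨q / 8, by omega⟩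
      refine ⟨(8 * k + 3) * (4 * k + 1) * (2 * k + 1), ?_, ?_⟩
      · rw [Nat.prime_two.dvd_mul, Nat.prime_two.dvd_mul]; omega
      · rw [show 8 * k + 3 - 1 = 8 * k + 2 by omega] at h
        nlinarith
    · obtain ⟨k, rfl⟩ : ∃ k, q = 8 * k + 5 := ⟨q / 8, by omega⟩
      refine ⟨(8 * k + 5) * (2 * k + 1) * (4 * k + 3), ?_, ?_⟩
      · rw [Nat.prime_two.dvd_mul, Nat.prime_two.dvd_mul]; omega
      · rw [show 8 * k + 5 - 1 = 8 * k + 4 by omega] at h
        nlinarith
  obtain ⟨m, hm, hN⟩ := hcard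
  have hP : ∀ Q : Sylow 2 (Matrix.ProjectiveSpecialLinearGroup (Fin 2) F), Nat.card Q = 4 :=
    fun Q => card_sylow_of_card_eq hN hm Q
  obtain ⟨a, b, ha, hb, hab, ⟨e⟩⟩ := exists_quaternion_subgroup hodd
  have hp : IsPGroup 2 (Subgroup.closure ({a, b} : Set (Matrix.SpecialLinearGroup (Fin 2) F))) :=
    IsPGroup.of_card (n := 3) (by
      rw [Nat.card_congr e.toEquiv, Nat.card_eq_fintype_card, QuaternionGroup.card]; rfl)
  obtain ⟨Q, hQ⟩ := (hp.map (QuotientGroup.mk' (Subgroup.center _))).exists_le_sylow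
  have hnc : ¬ IsCyclic Q := by
    intro hc
    let a' : Q := ⟨a, hQ (Subgroup.mem_map_of_mem _ (Subgroup.subset_closure (by simp)))⟩
    let b' : Q := ⟨b, hQ (Subgroup.mem_map_of_mem _ (Subgroup.subset_closure (by simp)))⟩
    have hsq : ∀ x : Matrix.SpecialLinearGroup (Fin 2) F, x ^ 2 = -1 →
        (x : Matrix.ProjectiveSpecialLinearGroup (Fin 2) F) ^ 2 = 1 ∧
        (x : Matrix.ProjectiveSpecialLinearGroup (Fin 2) F) ≠ 1 := by
      intro x hx
      constructor
      · rw [← QuotientGroup.mk_pow, hx, QuotientGroup.eq_one_iff]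
        exact mem_center_SL_two_iff.2 (Or.inr rfl)
      · rw [Ne, QuotientGroup.eq_one_iff, mem_center_SL_two_iff]
        rintro (rfl | rfl) <;> exact SL_two_neg_one_ne_one h2 (by simpa using hx.symm)
    have ha' : orderOf a' = 2 :=
      orderOf_eq_prime (Subtype.ext (hsq a ha).1) (fun h => (hsq a ha).2 (congrArg Subtype.val h))
    have hb' : orderOf b' = 2 :=
      orderOf_eq_prime (Subtype.ext (hsq b hb).1) (fun h => (hsq b hb).2 (congrArg Subtype.val h))
    have hab' : a' = b' := by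
      classical
      have : Fintype Q := Fintype.ofFinite _
      have h1 := IsCyclic.card_orderOf_eq_totient (α := Q) (d := 2)
        (by rw [← Nat.card_eq_fintype_card, hP]; decide)
      rw [Nat.totient_two, Finset.card_eq_one] at h1
      obtain ⟨c, hc⟩ := h1
      have e1 : a' ∈ ({c} : Finset Q) := by rw [← hc]; simp [ha']
      have e2 : b' ∈ ({c} : Finset Q) := by rw [← hc]; simp [hb']
      rw [Finset.mem_singleton] at e1 e2
      rw [e1, e2]
    have h3 : a⁻¹ * b ∈ Subgroup.center _ := QuotientGroup.eq.1 (congrArg Subtype.val hab')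
    have h4 : b * a = a * b := by
      have := Subgroup.mem_center_iff.1 h3 a
      calc b * a = a * (a⁻¹ * b * a) := by group
        _ = a * (a * (a⁻¹ * b)) := by rw [this]
        _ = a * b := by group
    apply SL_two_neg_one_ne_one h2
    have : (-1 : Matrix.SpecialLinearGroup (Fin 2) F) * (a * b) = 1 * (a * b) := by
      rw [neg_one_mul, one_mul, ← hab, h4]
    exact mul_right_cancel this
  have hnc' : ¬ IsCyclic P := fun hc => hnc ((Sylow.equiv P Q).isCyclic.1 hc)
  exact ⟨hP P, (not_isCyclic_iff_exponent_eq_prime Nat.prime_two (hP P)).1 hnc'⟩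

end Cfsg.Agent.S0276
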