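import Cfsg.Agent.Base
import Cfsg.Statements.S0282
import Cfsg.Agent.Unitary.Center
import Cfsg.Agent.Char.Burnside

set_option autoImplicit false
open Cfsg

namespace Cfsg.Agent.S0282

/-- PSU_3(2) is a solvable group of order 72. -/
theorem result {F : Type*} [Field F] [Fintype F] (hF : Fintype.card F = 4) : Nat.card (Cfsg.PSU 3 F 2) = 72 ∧ Group.IsSolvable (Cfsg.PSU 3 F 2) := by
  obtain ⟨σ, hσ⟩ := CL.Herm.exists_conj' (q := 2) hF
  have h := hσ.card_PSU (n := 3) (by norm_num)
  have h2 : CL.Herm.guOrder 2 3 = 648 := by decide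
  have h3 : Nat.card (Cfsg.PSU 3 F 2) = 72 := by
    rw [h2] at h
    norm_num at h
    omega
  exact ⟨h3, CL.Char.isSolvable_of_card_eq (p := 2) (q := 3) (a := 3) (b := 2) Nat.prime_two
    Nat.prime_three h3⟩

end Cfsg.Agent.S0282
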