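import Cfsg.Statements.S0298
import Cfsg.Agent.LowIso.Basic
import Cfsg.Agent.Lin.Card
import Cfsg.Agent.S0286

set_option autoImplicit false
open Cfsg

namespace Cfsg.Agent.S0298

section Helpers

open Matrix CL.LowIso

variable {F : Type*} [Field F]

/-- Trace-zero matrices. -/
def emb : (Unit ⊕ (Fin 1 ⊕ Fin 1) → F) →ₗ[F] Matrix (Fin 2) (Fin 2) F where
  toFun v := !![v (.inl ()), v (.inr (.inl 0)); v (.inr (.inr 0)), - v (.inl ())]
  map_add' u v := by
    ext i j
    fin_cases i <;> fin_cases j <;> simp [add_comm]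
  map_smul' c v := by
    ext i j
    fin_cases i <;> fin_cases j <;> simp

theorem emb_apply (v : Unit ⊕ (Fin 1 ⊕ Fin 1) → F) :
    emb v = !![v (.inl ()), v (.inr (.inl 0)); v (.inr (.inr 0)), - v (.inl ())] := rfl

/-- Coordinates. -/
def crd : Matrix (Fin 2) (Fin 2) F →ₗ[F] (Unit ⊕ (Fin 1 ⊕ Fin 1) → F) where
  toFun Z := Sum.elim (fun _ => Z 0 0) (Sum.elim (fun _ => Z 0 1) (fun _ => Z 1 0))
  map_add' Z W := by
    funext i
    rcases i with _ | i | i <;> simp
  map_smul' c Z := by
    funext i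
    rcases i with _ | i | i <;> simp

theorem crd_apply (Z : Matrix (Fin 2) (Fin 2) F) :
    crd Z = Sum.elim (fun _ => Z 0 0) (Sum.elim (fun _ => Z 0 1) (fun _ => Z 1 0)) := rfl

theorem emb_crd (Z : Matrix (Fin 2) (Fin 2) F) (h : Z.trace = 0) : emb (crd Z) = Z := by
  rw [Matrix.trace_fin_two] at h
  ext i j
  fin_cases i <;> fin_cases j <;> simp [emb_apply, crd_apply]
  linear_combination -h

theorem det_emb (v : Unit ⊕ (Fin 1 ⊕ Fin 1) → F) : (emb v).det = - quadFormOdd 1 F v := by
  simp [emb_apply, quadFormOdd, Matrix.det_fin_two]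
  ring

/-- Conjugation action. -/
def sig : Matrix.SpecialLinearGroup (Fin 2) F →* Module.End F (Matrix (Fin 2) (Fin 2) F) where
  toFun A := (LinearMap.mulRight F (A⁻¹).1) ∘ₗ (LinearMap.mulLeft F A.1)
  map_one' := by ext1 X; simp
  map_mul' A B := by
    ext1 X
    simp [Matrix.mul_assoc, -Matrix.SpecialLinearGroup.coe_inv]

theorem sig_apply (A : Matrix.SpecialLinearGroup (Fin 2) F) (X : Matrix (Fin 2) (Fin 2) F) :
    sig A X = A.1 * X * (A⁻¹).1 := rfl

theorem emb_crd_sig (A : Matrix.SpecialLinearGroup (Fin 2) F) (v : Unit ⊕ (Fin 1 ⊕ Fin 1) → F) :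
    emb (crd (sig A (emb v))) = sig A (emb v) := by
  apply emb_crd
  have hiA : (A⁻¹).1 * A.1 = 1 := congrArg Subtype.val (inv_mul_cancel A)
  rw [sig_apply, Matrix.trace_mul_comm, ← Matrix.mul_assoc, hiA, Matrix.one_mul]
  simp [emb_apply]

/-- The data of the homomorphism `SL_2 → O_3`. -/
def dat (F : Type*) [Field F] : RhoData (Unit ⊕ (Fin 1 ⊕ Fin 1)) F (Matrix (Fin 2) (Fin 2) F)
    (Matrix.SpecialLinearGroup (Fin 2) F) (quadFormOdd 1 F) where
  c := emb
  d := crd
  σ := sig
  d_c v := by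
    funext i
    rcases i with _ | i | i
    · simp [emb_apply, crd_apply]
    · fin_cases i; simp [emb_apply, crd_apply]
    · fin_cases i; simp [emb_apply, crd_apply]
  c_d := emb_crd_sig
  quad A v := by
    apply neg_injective
    rw [← det_emb, ← det_emb, emb_crd_sig, sig_apply, Matrix.det_mul, Matrix.det_mul, A.2,
      (A⁻¹).2, one_mul, mul_one]

theorem ker_rho : (dat F).rho.ker = Subgroup.center _ := by
  ext A
  have hAi : A.1 * (A⁻¹).1 = 1 := congrArg Subtype.val (mul_inv_cancel A)
  have hiA : (A⁻¹).1 * A.1 = 1 := congrArg Subtype.val (inv_mul_cancel A)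
  rw [RhoData.mem_ker_iff]
  change (∀ v, sig A (emb v) = emb v) ↔ _
  constructor
  · intro h
    have h1 : ∀ v, A.1 * emb v = emb v * A.1 := by
      intro v
      conv_rhs => rw [← h v, sig_apply, Matrix.mul_assoc, hiA, Matrix.mul_one]
    apply mem_center_sl_of_commute_single
    intro i j hij
    rw [← emb_crd _ (Matrix.trace_single_eq_of_ne _ _ (1 : F) hij)]
    exact h1 _
  · intro h v
    obtain ⟨r, -, hr⟩ := Matrix.SpecialLinearGroup.mem_center_iff.1 h
    have : A.1 * emb v = emb v * A.1 := by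
      rw [← hr]
      exact (Matrix.scalar_commute r (fun _ => Commute.all _ _) _).eq
    rw [sig_apply, this, Matrix.mul_assoc, hAi, Matrix.mul_one]

theorem range_le (h2 : (2 : F) ≠ 0) : (dat F).rho.range ≤
    ⁅specialIsometryGroup F (quadFormOdd 1 F), specialIsometryGroup F (quadFormOdd 1 F)⁆ := by
  let N : Matrix (Unit ⊕ (Fin 1 ⊕ Fin 1)) (Unit ⊕ (Fin 1 ⊕ Fin 1)) F :=
    Matrix.diagonal (Sum.elim (fun _ => 1) (fun _ => -1))
  have hN : N * N = 1 := by
    rw [Matrix.diagonal_mul_diagonal, ← Matrix.diagonal_one]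
    congr 1
    funext i
    rcases i with _ | i <;> simp
  let d : isometryGroup F (quadFormOdd 1 F) := involIsom N hN (fun v => by
    simp [N, quadFormOdd, Matrix.mulVec_diagonal])
  have hd : d ∈ specialIsometryGroup F (quadFormOdd 1 F) := by
    rw [mem_special_iff, involIsom_val]
    simp [N, Matrix.det_diagonal, Fintype.prod_sum_type]
  rintro _ ⟨A, rfl⟩
  induction A using Matrix.SL2.transvection_induction with
  | hmul A B hA hB => rw [map_mul]; exact mul_mem hA hB
  | htransvec i j hij c =>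
    refine mem_commutator_of_inverted h2 _ commutator_le_special hd
      (fun c => (dat F).rho (Matrix.SpecialLinearGroup.transvection hij c)) ?_ ?_ c
    · intro c
      rw [Matrix.SpecialLinearGroup.transvection_add, map_mul]
    · intro c
      rw [← map_inv, mul_inv_eq_iff_eq_mul, Matrix.SpecialLinearGroup.transvection_inv]
      refine (dat F).mul_rho_eq d (fun X => !![-1, 0; 0, 1] * X * !![-1, 0; 0, 1]) ?_ _ _ ?_
      · intro v
        change emb (N *ᵥ v) = _ * emb v * _
        ext a b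
        fin_cases a <;> fin_cases b <;> simp [emb_apply, N, Matrix.mulVec_diagonal]
      · intro X
        change _ * sig _ X * _ = sig _ _
        rw [sig_apply, sig_apply, Matrix.SpecialLinearGroup.transvection_inv,
          Matrix.SpecialLinearGroup.transvection_inv]
        rw [← Matrix.mul_assoc, ← Matrix.mul_assoc, diagNeg_mul_transvection]
        simp only [Matrix.mul_assoc]
        rw [transvection_mul_diagNeg]

end Helpers

/-- PΩ_3(q) is isomorphic to PSL_2(q) for q odd. -/
theorem result {F : Type*} [Field F] [Fintype F] (hodd : Odd (Fintype.card F)) : Nonempty (Cfsg.POmega F (Cfsg.quadFormOdd 1 F) ≃* Matrix.ProjectiveSpecialLinearGroup (Fin 2) F) := by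
  have h2 : (2 : F) ≠ 0 := CL.LowIso.two_ne_zero_of_odd_card hodd
  refine CL.LowIso.nonempty_pomega_equiv (dat F).rho ?_ ker_rho.le CL.LowIso.center_psl_eq_bot
  refine CL.LowIso.omega_eq_range_odd _ ?_ ?_ ?_ (range_le h2)
  · rw [Cfsg.Agent.S0286.result rfl hodd 1, CL.Lin.card_SL_two]
    obtain ⟨k, hk⟩ : ∃ k, Fintype.card F = k + 1 :=
      ⟨_, (Nat.succ_pred_eq_of_pos Fintype.card_pos).symm⟩
    rw [hk, Finset.prod_range_one, show (k + 1) ^ (2 * (0 + 1)) = k * (k + 2) + 1 by ring]
    simp only [Nat.add_sub_cancel]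
    ring
  · rw [ker_rho, CL.Lin.card_center_SL, Fintype.card_fin]
    rw [Nat.odd_iff] at hodd
    apply Nat.gcd_eq_left
    omega
  · refine ⟨CL.LowIso.involIsom (-1) (by simp) (fun v => ?_), ?_⟩
    · simp [Matrix.neg_mulVec, quadFormOdd]
    · rw [CL.LowIso.involIsom_val, Matrix.det_neg]
      simp only [Fintype.card_sum, Fintype.card_unique, Matrix.det_one, mul_one]
      intro h
      apply h2
      linear_combination -h

end Cfsg.Agent.S0298
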