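import Cfsg.Statements.S0299
import Cfsg.Agent.LowIso.Basic
import Cfsg.Agent.Lin.Card
import Cfsg.Agent.SpG.Perfect
import Cfsg.Agent.S0287

set_option autoImplicit false
open Cfsg

namespace Cfsg.Agent.S0299

section Helpers

open Matrix CL.LowIso

theorem nonempty_prod_quot_center (G H : Type*) [Group G] [Group H] :
    Nonempty ((G × H) ⧸ Subgroup.center (G × H) ≃*
      (G ⧸ Subgroup.center G) × (H ⧸ Subgroup.center H)) := by
  let f : G × H →* (G ⧸ Subgroup.center G) × (H ⧸ Subgroup.center H) :=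
    (QuotientGroup.mk' _).prodMap (QuotientGroup.mk' _)
  have hf : Function.Surjective f :=
    (QuotientGroup.mk'_surjective _).prodMap (QuotientGroup.mk'_surjective _)
  have hk : f.ker = Subgroup.center (G × H) := by
    ext ⟨a, b⟩
    rw [MonoidHom.mem_ker, Prod.ext_iff]
    change ((a : G ⧸ Subgroup.center G) = 1 ∧ (b : H ⧸ Subgroup.center H) = 1) ↔ _
    rw [QuotientGroup.eq_one_iff, QuotientGroup.eq_one_iff]
    simp only [Subgroup.mem_center_iff, Prod.forall, Prod.mk_mul_mk, Prod.mk.injEq]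
    exact ⟨fun h x y => ⟨h.1 x, h.2 y⟩, fun h => ⟨fun x => (h x 1).1, fun y => (h 1 y).2⟩⟩
  exact ⟨(QuotientGroup.quotientMulEquivOfEq hk.symm).trans
    (QuotientGroup.quotientKerEquivOfSurjective f hf)⟩

theorem center_eq_bot_of_equiv_prod {S G H : Type*} [Group S] [Group G] [Group H]
    (e : S ≃* G × H) (hG : Subgroup.center G = ⊥) (hH : Subgroup.center H = ⊥) :
    Subgroup.center S = ⊥ := by
  rw [eq_bot_iff]
  intro z hz
  rw [Subgroup.mem_center_iff] at hz
  have h1 : ∀ y, y * e z = e z * y := fun y => by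
    obtain ⟨y, rfl⟩ := e.surjective y
    rw [← map_mul, ← map_mul, hz]
  rw [Subgroup.mem_bot, ← e.map_eq_one_iff, Prod.ext_iff]
  constructor
  · rw [Prod.fst_one, ← Subgroup.mem_bot, ← hG, Subgroup.mem_center_iff]
    exact fun x => congrArg Prod.fst (h1 (x, 1))
  · rw [Prod.snd_one, ← Subgroup.mem_bot, ← hH, Subgroup.mem_center_iff]
    exact fun x => congrArg Prod.snd (h1 (1, x))

variable {F : Type*} [Field F]

/-- Two by two matrices. -/
def emb : (Fin 2 ⊕ Fin 2 → F) →ₗ[F] Matrix (Fin 2) (Fin 2) F where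
  toFun v := !![v (.inl 0), v (.inl 1); - v (.inr 1), v (.inr 0)]
  map_add' u v := by
    ext i j
    fin_cases i <;> fin_cases j <;> simp [add_comm]
  map_smul' c v := by
    ext i j
    fin_cases i <;> fin_cases j <;> simp

theorem emb_apply (v : Fin 2 ⊕ Fin 2 → F) :
    emb v = !![v (.inl 0), v (.inl 1); - v (.inr 1), v (.inr 0)] := rfl

/-- Coordinates. -/
def crd : Matrix (Fin 2) (Fin 2) F →ₗ[F] (Fin 2 ⊕ Fin 2 → F) where
  toFun Z := Sum.elim ![Z 0 0, Z 0 1] ![Z 1 1, - Z 1 0]
  map_add' Z W := by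
    funext i
    rcases i with i | i <;> fin_cases i <;> simp [add_comm]
  map_smul' c Z := by
    funext i
    rcases i with i | i <;> fin_cases i <;> simp

theorem crd_apply (Z : Matrix (Fin 2) (Fin 2) F) :
    crd Z = Sum.elim ![Z 0 0, Z 0 1] ![Z 1 1, - Z 1 0] := rfl

theorem emb_crd (Z : Matrix (Fin 2) (Fin 2) F) : emb (crd Z) = Z := by
  ext i j
  fin_cases i <;> fin_cases j <;> simp [emb_apply, crd_apply]

theorem det_emb (v : Fin 2 ⊕ Fin 2 → F) : (emb v).det = quadFormPlus 2 F v := by
  simp [emb_apply, quadFormPlus, Matrix.det_fin_two]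

/-- Two-sided action. -/
def sig : Matrix.SpecialLinearGroup (Fin 2) F × Matrix.SpecialLinearGroup (Fin 2) F →*
    Module.End F (Matrix (Fin 2) (Fin 2) F) where
  toFun A := (LinearMap.mulRight F (A.2⁻¹).1) ∘ₗ (LinearMap.mulLeft F A.1.1)
  map_one' := by ext1 X; simp
  map_mul' A B := by
    ext1 X
    simp [Matrix.mul_assoc, -Matrix.SpecialLinearGroup.coe_inv]

theorem sig_apply (A B : Matrix.SpecialLinearGroup (Fin 2) F) (X : Matrix (Fin 2) (Fin 2) F) :
    sig (A, B) X = A.1 * X * (B⁻¹).1 := rfl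

/-- The data of the homomorphism `SL_2 × SL_2 → O_4^+`. -/
def dat (F : Type*) [Field F] : RhoData (Fin 2 ⊕ Fin 2) F (Matrix (Fin 2) (Fin 2) F)
    (Matrix.SpecialLinearGroup (Fin 2) F × Matrix.SpecialLinearGroup (Fin 2) F)
    (quadFormPlus 2 F) where
  c := emb
  d := crd
  σ := sig
  d_c v := by
    funext i
    rcases i with i | i <;> fin_cases i <;> simp [emb_apply, crd_apply]
  c_d _ _ := emb_crd _
  quad := by
    rintro ⟨A, B⟩ v
    rw [← det_emb, ← det_emb, emb_crd, sig_apply, Matrix.det_mul, Matrix.det_mul, A.2,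
      (B⁻¹).2, one_mul, mul_one]

theorem mem_ker_rho (A B : Matrix.SpecialLinearGroup (Fin 2) F) :
    (A, B) ∈ (dat F).rho.ker ↔ B = A ∧ A ∈ Subgroup.center _ := by
  have hAi : A.1 * (A⁻¹).1 = 1 := congrArg Subtype.val (mul_inv_cancel A)
  have hiB : (B⁻¹).1 * B.1 = 1 := congrArg Subtype.val (inv_mul_cancel B)
  rw [RhoData.mem_ker_iff]
  change (∀ v, sig (A, B) (emb v) = emb v) ↔ _
  constructor
  · intro h
    have h1 : ∀ X, A.1 * X = X * B.1 := by
      intro X
      have := h (crd X)
      rw [emb_crd] at this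
      conv_rhs => rw [← this, sig_apply, Matrix.mul_assoc, hiB, Matrix.mul_one]
    have h2 : B = A := Subtype.ext (by simpa using (h1 1).symm)
    subst h2
    exact ⟨rfl, mem_center_sl_of_commute_single fun i j _ => h1 _⟩
  · rintro ⟨rfl, h⟩ v
    obtain ⟨r, -, hr⟩ := Matrix.SpecialLinearGroup.mem_center_iff.1 h
    have : B.1 * emb v = emb v * B.1 := by
      rw [← hr]
      exact (Matrix.scalar_commute r (fun _ => Commute.all _ _) _).eq
    rw [sig_apply, this, Matrix.mul_assoc, hAi, Matrix.mul_one]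

theorem ker_rho_le : (dat F).rho.ker ≤ Subgroup.center _ := by
  rintro ⟨A, B⟩ h
  obtain ⟨rfl, h⟩ := (mem_ker_rho A B).1 h
  rw [Subgroup.mem_center_iff] at h ⊢
  rintro ⟨x, y⟩
  exact Prod.ext (h x) (h y)

theorem card_ker_rho : Nat.card (dat F).rho.ker =
    Nat.card (Subgroup.center (Matrix.SpecialLinearGroup (Fin 2) F)) :=
  Nat.card_congr
    { toFun := fun x => ⟨x.1.1, ((mem_ker_rho x.1.1 x.1.2).1 x.2).2⟩
      invFun := fun x => ⟨(x.1, x.1), (mem_ker_rho _ _).2 ⟨rfl, x.2⟩⟩
      left_inv := fun x => Subtype.ext (Prod.ext rfl ((mem_ker_rho x.1.1 x.1.2).1 x.2).1.symm)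
      right_inv := fun _ => rfl }

theorem range_le (h2 : (2 : F) ≠ 0) : (dat F).rho.range ≤
    ⁅specialIsometryGroup F (quadFormPlus 2 F), specialIsometryGroup F (quadFormPlus 2 F)⁆ := by
  let N : Matrix (Fin 2 ⊕ Fin 2) (Fin 2 ⊕ Fin 2) F :=
    Matrix.diagonal (Sum.elim ![1, -1] ![1, -1])
  have hN : N * N = 1 := by
    rw [Matrix.diagonal_mul_diagonal, ← Matrix.diagonal_one]
    congr 1
    funext i
    rcases i with i | i <;> fin_cases i <;> simp
  let d : isometryGroup F (quadFormPlus 2 F) := involIsom N hN (fun v => by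
    simp [N, quadFormPlus, Matrix.mulVec_diagonal])
  have hd : d ∈ specialIsometryGroup F (quadFormPlus 2 F) := by
    rw [mem_special_iff, involIsom_val]
    simp [N, Matrix.det_diagonal, Fintype.prod_sum_type]
  have hτ : ∀ v, (dat F).c (d.1.1 *ᵥ v) = !![-1, 0; 0, 1] * (dat F).c v * !![-1, 0; 0, 1] := by
    intro v
    change emb (N *ᵥ v) = _ * emb v * _
    ext a b
    fin_cases a <;> fin_cases b <;> simp [emb_apply, N, Matrix.mulVec_diagonal]
  rintro _ ⟨⟨A, B⟩, rfl⟩
  rw [show (A, B) = (A, 1) * (1, B) by simp, map_mul]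
  apply mul_mem
  · induction A using Matrix.SL2.transvection_induction with
    | hmul A B hA hB =>
      rw [show (A * B, (1 : Matrix.SpecialLinearGroup (Fin 2) F)) = (A, 1) * (B, 1) by simp,
        map_mul]
      exact mul_mem hA hB
    | htransvec i j hij c =>
      refine mem_commutator_of_inverted h2 _ commutator_le_special hd
        (fun c => (dat F).rho (Matrix.SpecialLinearGroup.transvection hij c, 1)) ?_ ?_ c
      · intro c
        rw [Matrix.SpecialLinearGroup.transvection_add, ← map_mul, Prod.mk_mul_mk, one_mul]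
      · intro c
        rw [← map_inv, mul_inv_eq_iff_eq_mul, Prod.inv_mk, inv_one,
          Matrix.SpecialLinearGroup.transvection_inv]
        refine (dat F).mul_rho_eq d (fun X => !![-1, 0; 0, 1] * X * !![-1, 0; 0, 1]) hτ _ _ ?_
        intro X
        change _ * sig _ X * _ = sig _ _
        rw [sig_apply, sig_apply, inv_one, Matrix.SpecialLinearGroup.coe_one, Matrix.mul_one,
          Matrix.mul_one, ← Matrix.mul_assoc, diagNeg_mul_transvection]
        simp only [Matrix.mul_assoc]
  · induction B using Matrix.SL2.transvection_induction with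
    | hmul A B hA hB =>
      rw [show ((1 : Matrix.SpecialLinearGroup (Fin 2) F), A * B) = (1, A) * (1, B) by simp,
        map_mul]
      exact mul_mem hA hB
    | htransvec i j hij c =>
      refine mem_commutator_of_inverted h2 _ commutator_le_special hd
        (fun c => (dat F).rho (1, Matrix.SpecialLinearGroup.transvection hij c)) ?_ ?_ c
      · intro c
        rw [Matrix.SpecialLinearGroup.transvection_add, ← map_mul, Prod.mk_mul_mk, one_mul]
      · intro c
        rw [← map_inv, mul_inv_eq_iff_eq_mul, Prod.inv_mk, inv_one,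
          Matrix.SpecialLinearGroup.transvection_inv]
        refine (dat F).mul_rho_eq d (fun X => !![-1, 0; 0, 1] * X * !![-1, 0; 0, 1]) hτ _ _ ?_
        intro X
        change _ * sig _ X * _ = sig _ _
        rw [sig_apply, sig_apply, Matrix.SpecialLinearGroup.coe_one, Matrix.one_mul,
          Matrix.one_mul, Matrix.SpecialLinearGroup.transvection_inv,
          Matrix.SpecialLinearGroup.transvection_inv]
        simp only [Matrix.mul_assoc]
        rw [transvection_mul_diagNeg]

end Helpers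

/-- PΩ^+_4(q) is isomorphic to PSL_2(q) x PSL_2(q) for q at least 3. -/
theorem result {F : Type*} [Field F] [Fintype F] (hF : 3 ≤ Fintype.card F) : Nonempty (Cfsg.POmega F (Cfsg.quadFormPlus 2 F) ≃* Matrix.ProjectiveSpecialLinearGroup (Fin 2) F × Matrix.ProjectiveSpecialLinearGroup (Fin 2) F) := by
  obtain ⟨e⟩ := nonempty_prod_quot_center (Matrix.SpecialLinearGroup (Fin 2) F)
    (Matrix.SpecialLinearGroup (Fin 2) F)
  have hcard : Nat.card (isometryGroup F (quadFormPlus 2 F)) = 2 * Nat.card
      (Matrix.SpecialLinearGroup (Fin 2) F × Matrix.SpecialLinearGroup (Fin 2) F) := by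
    rw [Cfsg.Agent.S0287.result rfl 2 (by norm_num), Nat.card_prod, CL.Lin.card_SL_two]
    obtain ⟨k, hk⟩ : ∃ k, Fintype.card F = k + 1 :=
      ⟨_, (Nat.succ_pred_eq_of_pos Fintype.card_pos).symm⟩
    rw [hk, show 2 - 1 = 1 from rfl, Finset.prod_range_one,
      show (k + 1) ^ (2 * (0 + 1)) = k * (k + 2) + 1 by ring]
    simp only [Nat.add_sub_cancel]
    ring
  have hOm : Omega F (quadFormPlus 2 F) = (dat F).rho.range := by
    by_cases h2 : (2 : F) = 0
    · have hev := CL.LowIso.even_card_of_two_eq_zero h2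
      refine CL.LowIso.omega_eq_range_even _ hcard ?_ ?_
      · rw [← Subgroup.card_eq_one, card_ker_rho, CL.Lin.card_center_SL, Fintype.card_fin,
          Nat.gcd_rec, show (Fintype.card F - 1) % 2 = 1 by omega]
        simp
      · obtain ⟨b, hb0, hb⟩ := CL.SpG.exists_sq_ne_one_of_four_le (F := F) (by omega)
        rw [_root_.commutator_def, ← Subgroup.top_prod_top, Subgroup.commutator_prod_prod,
          ← _root_.commutator_def, Matrix.SL2.commutator_eq_top hb0 hb]
    · refine CL.LowIso.omega_eq_range_odd _ hcard ?_ ?_ (range_le h2)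
      · have hodd : Fintype.card F % 2 = 1 := FiniteField.odd_card_of_char_ne_two
          (fun h => h2 (by simpa [h] using ringChar.Nat.cast_ringChar (R := F)))
        rw [card_ker_rho, CL.Lin.card_center_SL, Fintype.card_fin]
        apply Nat.gcd_eq_left
        omega
      · refine CL.LowIso.exists_det_ne_one_of_swap h2 (i := .inl 0) (j := .inr 0) (by simp) ?_
        intro v
        simp [quadFormPlus, Equiv.swap_apply_of_ne_of_ne, mul_comm]
  obtain ⟨e'⟩ := CL.LowIso.nonempty_pomega_equiv (dat F).rho hOm ker_rho_le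
    (center_eq_bot_of_equiv_prod e CL.LowIso.center_psl_eq_bot CL.LowIso.center_psl_eq_bot)
  exact ⟨e'.trans e⟩

end Cfsg.Agent.S0299
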