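import Cfsg.Statements.S0300
import Cfsg.Agent.LowIso.Quad
import Cfsg.Agent.Lin.Card
import Cfsg.Agent.Lin.Gen
import Cfsg.Agent.SpG.Perfect
import Cfsg.Agent.S0288

set_option autoImplicit false
open Cfsg

namespace Cfsg.Agent.S0300

section Helpers

open Matrix CL.LowIso

variable {F : Type*} [Field F] (a b : F)

/-- Hermitian matrices. -/
def emb : ((Fin 1 ⊕ Fin 1) ⊕ Fin 2 → F) →ₗ[F] Matrix (Fin 2) (Fin 2) (QA a b) where
  toFun v := !![⟨v (.inl (.inl 0)), 0⟩, ⟨v (.inr 0), v (.inr 1)⟩;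
    star (⟨v (.inr 0), v (.inr 1)⟩ : QA a b), ⟨- v (.inl (.inr 0)), 0⟩]
  map_add' u v := by
    ext i j <;> fin_cases i <;> fin_cases j <;> simp <;> ring
  map_smul' c v := by
    ext i j <;> fin_cases i <;> fin_cases j <;> simp <;> ring

theorem emb_apply (v : (Fin 1 ⊕ Fin 1) ⊕ Fin 2 → F) :
    emb a b v = !![⟨v (.inl (.inl 0)), 0⟩, ⟨v (.inr 0), v (.inr 1)⟩;
    star (⟨v (.inr 0), v (.inr 1)⟩ : QA a b), ⟨- v (.inl (.inr 0)), 0⟩] := rfl

/-- Coordinates. -/
def crd : Matrix (Fin 2) (Fin 2) (QA a b) →ₗ[F] ((Fin 1 ⊕ Fin 1) ⊕ Fin 2 → F) where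
  toFun Z := Sum.elim (Sum.elim (fun _ => (Z 0 0).re) (fun _ => - (Z 1 1).re))
    ![(Z 0 1).re, (Z 0 1).im]
  map_add' Z W := by
    funext i
    rcases i with (i | i) | i
    · simp
    · simp [add_comm]
    · fin_cases i <;> simp
  map_smul' c Z := by
    funext i
    rcases i with (i | i) | i
    · simp
    · simp
    · fin_cases i <;> simp

theorem crd_apply (Z : Matrix (Fin 2) (Fin 2) (QA a b)) :
    crd a b Z = Sum.elim (Sum.elim (fun _ => (Z 0 0).re) (fun _ => - (Z 1 1).re))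
    ![(Z 0 1).re, (Z 0 1).im] := rfl

theorem emb_crd (Z : Matrix (Fin 2) (Fin 2) (QA a b)) (h0 : ∀ i, (Z i i).im = 0)
    (h : Z 1 0 = star (Z 0 1)) : emb a b (crd a b Z) = Z := by
  ext i j <;> fin_cases i <;> fin_cases j <;> simp [emb_apply, crd_apply, h0, h]

theorem det_emb (v : (Fin 1 ⊕ Fin 1) ⊕ Fin 2 → F) :
    (emb a b v).det = algebraMap F (QA a b) (- quadFormMinus 1 F a b v) := by
  ext <;> simp [emb_apply, quadFormMinus, Matrix.det_fin_two, sq] <;> ring

theorem emb_crd_congr (A : Matrix (Fin 2) (Fin 2) (QA a b)) (v : (Fin 1 ⊕ Fin 1) ⊕ Fin 2 → F) :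
    emb a b (crd a b (A * emb a b v * Aᴴ)) = A * emb a b v * Aᴴ := by
  apply emb_crd
  · intro i
    simp [emb_apply, Matrix.mul_apply, Fin.sum_univ_two]
    ring
  · ext <;> simp [emb_apply, Matrix.mul_apply, Fin.sum_univ_two] <;> ring

/-- Congruence action. -/
def sig : Matrix.SpecialLinearGroup (Fin 2) (QA a b) →*
    Module.End F (Matrix (Fin 2) (Fin 2) (QA a b)) where
  toFun A := (LinearMap.mulRight F A.1ᴴ) ∘ₗ (LinearMap.mulLeft F A.1)
  map_one' := by ext1 X; simp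
  map_mul' A B := by
    ext1 X
    simp [Matrix.mul_assoc]

theorem sig_apply (A : Matrix.SpecialLinearGroup (Fin 2) (QA a b))
    (X : Matrix (Fin 2) (Fin 2) (QA a b)) : sig a b A X = A.1 * X * A.1ᴴ := rfl

/-- The data of the homomorphism `SL_2(q²) → O_4^-`. -/
def dat : RhoData ((Fin 1 ⊕ Fin 1) ⊕ Fin 2) F (Matrix (Fin 2) (Fin 2) (QA a b))
    (Matrix.SpecialLinearGroup (Fin 2) (QA a b)) (quadFormMinus 1 F a b) where
  c := emb a b
  d := crd a b
  σ := sig a b
  d_c v := by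
    funext i
    rcases i with (i | i) | i <;> fin_cases i <;> simp [emb_apply, crd_apply]
  c_d A v := emb_crd_congr a b A.1 v
  quad A v := by
    apply neg_injective
    apply QuadraticAlgebra.algebraMap_injective (a := -b) (b := a)
    rw [← det_emb, ← det_emb, sig_apply, emb_crd_congr, Matrix.det_mul, Matrix.det_mul,
      Matrix.det_conjTranspose, A.2, star_one, one_mul, mul_one]

theorem mem_ker_rho [Fact (∀ r : F, r ^ 2 ≠ -b + a * r)]
    (hperf : commutator (Matrix.SpecialLinearGroup (Fin 2) (QA a b)) = ⊤)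
    (A : Matrix.SpecialLinearGroup (Fin 2) (QA a b)) :
    A ∈ (dat a b).rho.ker ↔ A = 1 ∨ A = slNegOne 2 (by decide) (QA a b) := by
  constructor
  · intro hA
    have hs : IsSimpleGroup (Matrix.SpecialLinearGroup (Fin 2) (QA a b) ⧸ Subgroup.center _) :=
      CL.Lin.PSL_simple_of_perfect hperf
    rcases normal_le_center_or_eq_top hperf (dat a b).rho.ker with h | h
    · obtain ⟨r, hr1, hr⟩ := Matrix.SpecialLinearGroup.mem_center_iff.1 (h hA)
      refine eq_one_or_slNegOne 2 _ hr ?_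
      rw [← sq]
      exact hr1
    · exfalso
      have h01 : (0 : Fin 2) ≠ 1 := by decide
      have h1 : sig a b (Matrix.SpecialLinearGroup.transvection h01 (1 : QA a b))
          (emb a b (Pi.single (.inl (.inr 0)) 1)) = emb a b (Pi.single (.inl (.inr 0)) 1) :=
        ((dat a b).mem_ker_iff _).1 (h ▸ Subgroup.mem_top _) _
      have h2 := congrArg QuadraticAlgebra.re (congrFun (congrFun h1 0) 0)
      rw [sig_apply] at h2
      simp [emb_apply, Matrix.SpecialLinearGroup.transvection_coe, Matrix.mul_apply,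
        Fin.sum_univ_two] at h2
  · rintro (rfl | rfl)
    · exact one_mem _
    · rw [RhoData.mem_ker_iff]
      intro v
      change sig a b _ _ = emb a b v
      rw [sig_apply, slNegOne_val]
      simp
      rfl

end Helpers

/-- PΩ^-_4(q) is isomorphic to PSL_2(q^2). -/
theorem result {F K : Type*} [Field F] [Fintype F] [Field K] [Fintype K] {q : ℕ} (hF : Fintype.card F = q) (hK : Fintype.card K = q ^ 2) (a b : F) (hab : ∀ z₁ z₂ : F, z₁ ^ 2 + a * z₁ * z₂ + b * z₂ ^ 2 = 0 → z₁ = 0 ∧ z₂ = 0) : Nonempty (Cfsg.POmega F (Cfsg.quadFormMinus 1 F a b) ≃* Matrix.ProjectiveSpecialLinearGroup (Fin 2) K) := by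
  have := CL.LowIso.fact_of_aniso hab
  have : Finite (CL.LowIso.QA a b) := CL.LowIso.qa_finite
  have := Fintype.ofFinite (CL.LowIso.QA a b)
  have hc : Fintype.card (CL.LowIso.QA a b) = q ^ 2 := by rw [CL.LowIso.qa_card, hF]
  have hq : 2 ≤ q := hF ▸ Fintype.one_lt_card
  obtain ⟨t, ht0, ht⟩ := CL.SpG.exists_sq_ne_one_of_four_le (F := CL.LowIso.QA a b)
    (by rw [hc]; nlinarith)
  have hperf := Matrix.SL2.commutator_eq_top ht0 ht
  obtain ⟨e⟩ := CL.Lin.nonempty_pslCongr (ι := Fin 2) (hc.trans hK.symm)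
  obtain ⟨e'⟩ := CL.LowIso.nonempty_pomega_equiv_of_perfect (dat a b).rho hperf (by
      have h := Cfsg.Agent.S0288.result hF 2 (by norm_num) a b hab
      rw [CL.Lin.card_SL_two, hc]
      refine h.trans ?_
      rw [show 2 - 1 = 1 from rfl, Finset.prod_range_one]
      ring)
    _ (CL.LowIso.slNegOne_mem_center 2 _ _) (mem_ker_rho a b hperf)
    ((CL.LowIso.slNegOne_eq_one_iff 2 _ (by norm_num) _).trans CL.LowIso.qa_two_eq_zero_iff)
    (i := .inl (.inl 0)) (j := .inl (.inr 0)) (by simp) (fun v => by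
      simp [quadFormMinus, Equiv.swap_apply_of_ne_of_ne, mul_comm])
  exact ⟨e'.trans e⟩

end Cfsg.Agent.S0300
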