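import Cfsg.Statements.S0301
import Cfsg.Agent.SpG.Simple
import Cfsg.Agent.SpG.Card
import Cfsg.Agent.SpG.Congr
import Cfsg.Agent.S0286
import Cfsg.Agent.S0246

set_option autoImplicit false
open Cfsg

namespace Cfsg.Agent.S0301

section Helpers

open Matrix CL.SpG

theorem commutator_eq_of_index_four {O : Type*} [Group O] (H K : Subgroup O)
    (hK : commutator O ≤ K) (hH : H ≤ commutator O) (h4 : H.index = 4) (z : O)
    (hz : z ∈ Subgroup.center O) (hzK : z ∉ K) : commutator O = H := by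
  have hHK : H ≤ K := hH.trans hK
  have hmul : H.relIndex K * K.index = 4 := by rw [Subgroup.relIndex_mul_index hHK, h4]
  have hK1 : K.index ≠ 1 := by
    intro h
    rw [Subgroup.index_eq_one] at h
    exact hzK (h ▸ Subgroup.mem_top z)
  have hdvd : K.index ∣ 2 ^ 2 := Dvd.intro_left _ hmul
  obtain ⟨i, hi, hKi⟩ := (Nat.dvd_prime_pow Nat.prime_two).1 hdvd
  refine le_antisymm ?_ hH
  interval_cases i
  · exact absurd hKi hK1
  · have hK2 : K.index = 2 := hKi
    have hrel : H.relIndex K = 2 := by rw [hK2] at hmul; omega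
    have hn : (H.subgroupOf K).Normal := Subgroup.normal_of_index_eq_two hrel
    have hn' : ∀ g ∈ K, ∀ h ∈ H, g * h * g⁻¹ ∈ H := by
      intro g hg h hh
      exact hn.conj_mem ⟨h, hHK hh⟩ hh ⟨g, hg⟩
    have hHn : H.Normal := by
      refine ⟨fun h hh g => ?_⟩
      by_cases hg : g ∈ K
      · exact hn' g hg h hh
      · have hgz : g * z ∈ K := by
          rw [Subgroup.mul_mem_iff_of_index_two hK2]
          tauto
        have := hn' _ hgz h hh
        have hc := Subgroup.mem_center_iff.1 hz h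
        rw [_root_.mul_inv_rev, mul_assoc g z h, ← hc] at this
        simpa [mul_assoc] using this
    have : Fact (Nat.Prime 2) := ⟨Nat.prime_two⟩
    rw [← Subgroup.Normal.quotient_commutative_iff_commutator_le]
    exact IsPGroup.isMulCommutative_of_card_eq_prime_sq (p := 2) h4
  · have hK4 : K.index = 4 := hKi
    have hrel : H.relIndex K = 1 := by rw [hK4] at hmul; omega
    rw [Subgroup.relIndex_eq_one] at hrel
    exact hK.trans hrel

variable {F : Type*} [Field F]

/-- The Clifford embedding of the five-dimensional quadratic space into `4 × 4` matrices. -/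
def cliff (v : Unit ⊕ (Fin 2 ⊕ Fin 2) → F) : Matrix (Fin 2 ⊕ Fin 2) (Fin 2 ⊕ Fin 2) F :=
  Matrix.fromBlocks
    !![v (.inl ()), v (.inr (.inl 0)); v (.inr (.inr 0)), - v (.inl ())]
    !![0, v (.inr (.inl 1)); - v (.inr (.inl 1)), 0]
    !![0, - v (.inr (.inr 1)); v (.inr (.inr 1)), 0]
    !![v (.inl ()), v (.inr (.inr 0)); v (.inr (.inl 0)), - v (.inl ())]

/-- A left inverse of `cliff`. -/
def coord : Matrix (Fin 2 ⊕ Fin 2) (Fin 2 ⊕ Fin 2) F →ₗ[F] (Unit ⊕ (Fin 2 ⊕ Fin 2) → F) where
  toFun Z := Sum.elim (fun _ => Z (.inl 0) (.inl 0))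
    (Sum.elim ![Z (.inl 0) (.inl 1), Z (.inl 0) (.inr 1)]
      ![Z (.inl 1) (.inl 0), Z (.inr 1) (.inl 0)])
  map_add' Z W := by
    funext i
    rcases i with _ | i | i
    · simp
    · fin_cases i <;> simp
    · fin_cases i <;> simp
  map_smul' c Z := by
    funext i
    rcases i with _ | i | i
    · simp
    · fin_cases i <;> simp
    · fin_cases i <;> simp

/-- `cliff` as a linear map. -/
def cliffL : (Unit ⊕ (Fin 2 ⊕ Fin 2) → F) →ₗ[F] Matrix (Fin 2 ⊕ Fin 2) (Fin 2 ⊕ Fin 2) F where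
  toFun := cliff
  map_add' u v := by
    ext i j
    rcases i with i | i <;> rcases j with j | j <;> fin_cases i <;> fin_cases j <;>
      simp [cliff, add_comm]
  map_smul' c v := by
    ext i j
    rcases i with i | i <;> rcases j with j | j <;> fin_cases i <;> fin_cases j <;>
      simp [cliff]

theorem coord_cliff (v : Unit ⊕ (Fin 2 ⊕ Fin 2) → F) : coord (cliff v) = v := by
  funext i
  rcases i with _ | i | i
  · simp [coord, cliff]
  · fin_cases i <;> simp [coord, cliff]
  · fin_cases i <;> simp [coord, cliff]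

theorem cliff_sq (v : Unit ⊕ (Fin 2 ⊕ Fin 2) → F) :
    cliff v * cliff v = quadFormOdd 2 F v • (1 : Matrix _ _ F) := by
  ext i j
  rcases i with i | i <;> rcases j with j | j <;> fin_cases i <;> fin_cases j <;>
    simp [cliff, quadFormOdd, Matrix.mul_apply, Fintype.sum_sum_type, Fin.sum_univ_two] <;> ring

theorem cliff_adj (v : Unit ⊕ (Fin 2 ⊕ Fin 2) → F) :
    (cliff v)ᵀ * Matrix.J (Fin 2) F = Matrix.J (Fin 2) F * cliff v := by
  ext i j
  rcases i with i | i <;> rcases j with j | j <;> fin_cases i <;> fin_cases j <;>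
    simp [cliff, Matrix.J, Matrix.mul_apply, Fintype.sum_sum_type, Fin.sum_univ_two]

theorem cliff_trace (v : Unit ⊕ (Fin 2 ⊕ Fin 2) → F) : (cliff v).trace = 0 := by
  simp [cliff, Matrix.trace, Fintype.sum_sum_type, Fin.sum_univ_two]

theorem cliff_coord (h2 : (2 : F) ≠ 0) (Z : Matrix (Fin 2 ⊕ Fin 2) (Fin 2 ⊕ Fin 2) F)
    (hadj : Zᵀ * Matrix.J (Fin 2) F = Matrix.J (Fin 2) F * Z) (htr : Z.trace = 0) :
    cliff (coord Z) = Z := by
  have e := fun i j => congrFun (congrFun hadj i) j
  have e1 := e (.inl 0) (.inl 0)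
  have e2 := e (.inl 0) (.inl 1)
  have e3 := e (.inl 1) (.inl 1)
  have e4 := e (.inr 0) (.inr 0)
  have e5 := e (.inr 0) (.inr 1)
  have e6 := e (.inr 1) (.inr 1)
  have e7 := e (.inl 0) (.inr 0)
  have e8 := e (.inl 0) (.inr 1)
  have e9 := e (.inl 1) (.inr 0)
  have e10 := e (.inl 1) (.inr 1)
  simp only [Matrix.J, Matrix.mul_apply, Fintype.sum_sum_type, Fin.sum_univ_two,
    Matrix.transpose_apply, Matrix.fromBlocks_apply₁₁, Matrix.fromBlocks_apply₁₂,
    Matrix.fromBlocks_apply₂₁, Matrix.fromBlocks_apply₂₂, Matrix.zero_apply, Matrix.neg_apply,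
    Matrix.one_apply, Matrix.trace, Matrix.diag_apply] at e1 e2 e3 e4 e5 e6 e7 e8 e9 e10 htr
  simp at e1 e2 e3 e4 e5 e6 e7 e8 e9 e10
  have f1 : Z (.inr 0) (.inl 0) = 0 := by
    apply mul_left_cancel₀ h2; linear_combination e1
  have f3 : Z (.inr 1) (.inl 1) = 0 := by
    apply mul_left_cancel₀ h2; linear_combination e3
  have f4 : Z (.inl 0) (.inr 0) = 0 := by
    apply mul_left_cancel₀ h2; linear_combination -e4
  have f6 : Z (.inl 1) (.inr 1) = 0 := by
    apply mul_left_cancel₀ h2; linear_combination -e6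
  have f7 : Z (.inl 1) (.inl 1) = - Z (.inl 0) (.inl 0) := by
    apply mul_left_cancel₀ h2; linear_combination htr + e7 + e10
  ext i j
  rcases i with i | i <;> rcases j with j | j <;> fin_cases i <;> fin_cases j <;>
    simp [cliff, coord, f1, f3, f4, f6, f7]
  · linear_combination e5
  · linear_combination -e2
  · exact e7
  · exact e8
  · exact e9
  · linear_combination e10 - f7

theorem conj_cliff (h2 : (2 : F) ≠ 0) (A : Matrix.symplecticGroup (Fin 2) F)
    (v : Unit ⊕ (Fin 2 ⊕ Fin 2) → F) :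
    cliff (coord (A.1 * cliff v * (A⁻¹).1)) = A.1 * cliff v * (A⁻¹).1 := by
  have hAi : A.1 * (A⁻¹).1 = 1 := congrArg Subtype.val (mul_inv_cancel A)
  have hiA : (A⁻¹).1 * A.1 = 1 := congrArg Subtype.val (inv_mul_cancel A)
  apply cliff_coord h2
  · have h1 : A.1ᵀ * Matrix.J (Fin 2) F = Matrix.J (Fin 2) F * (A⁻¹).1 := by
      conv_rhs => rw [← SymplecticGroup.mem_iff'.1 A.2]
      rw [Matrix.mul_assoc, hAi, Matrix.mul_one]
    have h3 : (A⁻¹).1ᵀ * Matrix.J (Fin 2) F = Matrix.J (Fin 2) F * A.1 := by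
      conv_rhs => rw [← SymplecticGroup.mem_iff'.1 (A⁻¹).2]
      rw [Matrix.mul_assoc, hiA, Matrix.mul_one]
    rw [Matrix.transpose_mul, Matrix.transpose_mul, Matrix.mul_assoc, Matrix.mul_assoc, h1,
      ← Matrix.mul_assoc (cliff v)ᵀ, cliff_adj, ← Matrix.mul_assoc, ← Matrix.mul_assoc, h3]
    simp only [Matrix.mul_assoc]
  · rw [Matrix.trace_mul_comm, ← Matrix.mul_assoc, hiA, Matrix.one_mul, cliff_trace]

/-- The matrix of conjugation by `A` on the five-dimensional space. -/
noncomputable def rhoMat (A : Matrix.symplecticGroup (Fin 2) F) :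
    Matrix (Unit ⊕ (Fin 2 ⊕ Fin 2)) (Unit ⊕ (Fin 2 ⊕ Fin 2)) F :=
  LinearMap.toMatrix' (coord ∘ₗ (LinearMap.mulRight F (A⁻¹).1) ∘ₗ (LinearMap.mulLeft F A.1) ∘ₗ
    cliffL)

theorem rhoMat_mulVec (A : Matrix.symplecticGroup (Fin 2) F) (v : Unit ⊕ (Fin 2 ⊕ Fin 2) → F) :
    rhoMat A *ᵥ v = coord (A.1 * cliff v * (A⁻¹).1) := by
  rw [rhoMat, LinearMap.toMatrix'_mulVec]
  rfl

theorem cliff_rhoMat (h2 : (2 : F) ≠ 0) (A : Matrix.symplecticGroup (Fin 2) F)
    (v : Unit ⊕ (Fin 2 ⊕ Fin 2) → F) :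
    cliff (rhoMat A *ᵥ v) = A.1 * cliff v * (A⁻¹).1 := by
  rw [rhoMat_mulVec, conj_cliff h2]

/-- Conjugation as a monoid homomorphism to matrices. -/
noncomputable def rhoHom (h2 : (2 : F) ≠ 0) : Matrix.symplecticGroup (Fin 2) F →*
    Matrix (Unit ⊕ (Fin 2 ⊕ Fin 2)) (Unit ⊕ (Fin 2 ⊕ Fin 2)) F where
  toFun := rhoMat
  map_one' := by
    rw [Matrix.ext_iff_mulVec]
    intro v
    rw [rhoMat_mulVec, inv_one, Matrix.one_mulVec]
    simp [coord_cliff]
  map_mul' A B := by
    rw [Matrix.ext_iff_mulVec]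
    intro v
    rw [← Matrix.mulVec_mulVec, rhoMat_mulVec A, cliff_rhoMat h2, rhoMat_mulVec,
      _root_.mul_inv_rev]
    simp only [Submonoid.coe_mul, Matrix.mul_assoc]

theorem quad_rhoMat (h2 : (2 : F) ≠ 0) (A : Matrix.symplecticGroup (Fin 2) F)
    (v : Unit ⊕ (Fin 2 ⊕ Fin 2) → F) :
    quadFormOdd 2 F (rhoMat A *ᵥ v) = quadFormOdd 2 F v := by
  have hAi : A.1 * (A⁻¹).1 = 1 := congrArg Subtype.val (mul_inv_cancel A)
  have hiA : (A⁻¹).1 * A.1 = 1 := congrArg Subtype.val (inv_mul_cancel A)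
  have h := cliff_sq (rhoMat A *ᵥ v)
  rw [cliff_rhoMat h2, Matrix.mul_assoc, Matrix.mul_assoc, ← Matrix.mul_assoc (A⁻¹).1,
    ← Matrix.mul_assoc (A⁻¹).1, hiA, Matrix.one_mul, ← Matrix.mul_assoc (cliff v), cliff_sq,
    Matrix.smul_mul, Matrix.one_mul, Matrix.mul_smul, hAi] at h
  simpa using (congrFun (congrFun h (.inl 0)) (.inl 0)).symm

/-- The homomorphism `Sp_4 → O_5`. -/
noncomputable def rho (h2 : (2 : F) ≠ 0) :
    Matrix.symplecticGroup (Fin 2) F →* isometryGroup F (quadFormOdd 2 F) :=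
  (rhoHom h2).toHomUnits.codRestrict _ fun A v _ => quad_rhoMat h2 A v

theorem rho_val (h2 : (2 : F) ≠ 0) (A : Matrix.symplecticGroup (Fin 2) F) :
    (rho h2 A).1.1 = rhoMat A := rfl

theorem ker_rho [Finite F] (h2 : (2 : F) ≠ 0) :
    (rho h2).ker = Subgroup.center (Matrix.symplecticGroup (Fin 2) F) := by
  apply le_antisymm
  · rcases normal_le_center_or (by norm_num) (rho h2).ker with h | h
    · exact h
    · exfalso
      rw [commutator_eq_top (Or.inr (Or.inl ⟨le_rfl, h2⟩))] at h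
      have h1 : rho h2 (tv (Pi.single (.inl 0) 1) 1) = 1 := h (Subgroup.mem_top _)
      have h3 : rhoMat (tv (Pi.single (.inl 0) 1) (1 : F)) = 1 := by
        rw [← rho_val h2, h1]; rfl
      have h4 := cliff_rhoMat h2 (tv (Pi.single (.inl 0) 1) (1 : F)) (Pi.single (.inr (.inr 0)) 1)
      have hiA : ((tv (m := 2) (Pi.single (.inl 0) 1) (1 : F))⁻¹).1 *
        (tv (m := 2) (Pi.single (.inl 0) 1) (1 : F)).1 = 1 :=
          congrArg Subtype.val (inv_mul_cancel (tv (m := 2) (Pi.single (.inl 0) 1) (1 : F)))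
      have h5 := congrArg (· * (tv (m := 2) (Pi.single (.inl 0) 1) (1 : F)).1) h4
      simp only [h3, Matrix.one_mulVec, Matrix.mul_assoc, hiA, Matrix.mul_one] at h5
      have h6 := congrFun (congrFun h5 (.inl 1)) (.inr 0)
      simp [cliff, tv_val, sympTransvection, Matrix.mul_apply, Fintype.sum_sum_type,
        Fin.sum_univ_two, Matrix.vecMulVec_apply, Matrix.J, Matrix.one_apply] at h6
  · intro A hA
    have hAi : A.1 * (A⁻¹).1 = 1 := congrArg Subtype.val (mul_inv_cancel A)
    rw [MonoidHom.mem_ker]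
    apply Subtype.ext
    apply Units.ext
    rw [rho_val]
    change _ = 1
    rw [Matrix.ext_iff_mulVec]
    intro v
    have hc : A.1 * cliff v = cliff v * A.1 := by
      rcases mem_center_iff.1 hA with rfl | rfl
      · simp
      · simp [negOne]
    rw [rhoMat_mulVec, hc, Matrix.mul_assoc, hAi, Matrix.mul_one, coord_cliff, Matrix.one_mulVec]

theorem center_eq_bot_of_simple {G : Type*} [Group G] [IsSimpleGroup G]
    (h : commutator G = ⊤) : Subgroup.center G = ⊥ := by
  rcases (inferInstance : (Subgroup.center G).Normal).eq_bot_or_eq_top with h1 | h1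
  · exact h1
  · exfalso
    have : commutator G = ⊥ := by
      rw [_root_.commutator_def, Subgroup.commutator_eq_bot_iff_le_centralizer,
        Subgroup.coe_top, Subgroup.centralizer_univ, h1]
    exact bot_ne_top (this.symm.trans h)

end Helpers

/-- PΩ_5(q) is isomorphic to PSp_4(q) for q odd. -/
theorem result {F : Type*} [Field F] [Fintype F] (hodd : Odd (Fintype.card F)) : Nonempty (Cfsg.POmega F (Cfsg.quadFormOdd 2 F) ≃* Cfsg.PSp 2 F) := by
  have h2 : (2 : F) ≠ 0 := by
    intro h2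
    have : CharP F 2 := (CharP.charP_iff_prime_eq_zero Nat.prime_two).2 (by exact_mod_cast h2)
    have heven : Fintype.card F % 2 = 0 := FiniteField.even_card_of_char_two (ringChar.eq F 2)
    rw [Nat.odd_iff] at hodd
    omega
  have hperf : commutator (Matrix.symplecticGroup (Fin 2) F) = ⊤ :=
    CL.SpG.commutator_eq_top (Or.inr (Or.inl ⟨le_rfl, h2⟩))
  have hsimple : IsSimpleGroup (Cfsg.PSp 2 F) := CL.SpG.isSimpleGroup_psp (by norm_num) hperf
  have e1 : Cfsg.PSp 2 F ≃* (rho h2).range :=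
    (QuotientGroup.quotientMulEquivOfEq (ker_rho h2).symm).trans
      (QuotientGroup.quotientKerEquivRange (rho h2))
  have hneg : ∀ v : Unit ⊕ (Fin 2 ⊕ Fin 2) → F, quadFormOdd 2 F (-v) = quadFormOdd 2 F v := by
    intro v
    simp [quadFormOdd]
  let z : isometryGroup F (quadFormOdd 2 F) := ⟨-1, fun v _ => by
    simpa [Matrix.neg_mulVec] using hneg v⟩
  have hz : z ∈ Subgroup.center (isometryGroup F (quadFormOdd 2 F)) := by
    rw [Subgroup.mem_center_iff]
    intro g
    apply Subtype.ext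
    simp [z]
  have hzK : z ∉ specialIsometryGroup F (quadFormOdd 2 F) := by
    intro h
    have h1 : Matrix.GeneralLinearGroup.det z.1 = 1 := h
    have h3 := congrArg Units.val h1
    simp only [z, Matrix.GeneralLinearGroup.val_det_apply, Units.val_neg, Units.val_one,
      Matrix.det_neg, Matrix.det_one, Fintype.card_sum, Fintype.card_unique, Fintype.card_fin,
      mul_one] at h3
    apply h2
    linear_combination -h3
  have hK : commutator (isometryGroup F (quadFormOdd 2 F)) ≤
      specialIsometryGroup F (quadFormOdd 2 F) := Abelianization.commutator_subset_ker _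
  have hH : (rho h2).range ≤ commutator (isometryGroup F (quadFormOdd 2 F)) := by
    rw [MonoidHom.range_eq_map, ← hperf, _root_.commutator_def, Subgroup.map_commutator]
    exact Subgroup.commutator_mono le_top le_top
  have hidx : (rho h2).range.index = 4 := by
    have c1 := Cfsg.Agent.S0286.result (F := F) rfl hodd 2
    have c2 := CL.SpG.card_sp (F := F) 2
    have c3 := Cfsg.Agent.S0246.result (F := F) rfl 2 (by norm_num)
    have c4 := Subgroup.card_mul_index (rho h2).range
    have c5 := Subgroup.card_eq_card_quotient_mul_card_subgroup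
      (Subgroup.center (Matrix.symplecticGroup (Fin 2) F))
    have c6 : Nat.card (Cfsg.PSp 2 F) = Nat.card (rho h2).range := Nat.card_congr e1.toEquiv
    have c7 : Nat.gcd 2 (Fintype.card F - 1) = 2 := by
      rw [Nat.odd_iff] at hodd
      apply Nat.gcd_eq_left
      omega
    rw [Nat.card_eq_fintype_card (α := F)] at c2
    rw [mul_assoc, ← c2, c5, c3, c7, ← c4, c6] at c1
    have hpos : 0 < Nat.card (rho h2).range := Nat.card_pos
    apply Nat.eq_of_mul_eq_mul_left hpos
    rw [c1]; ring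
  have hOm : Cfsg.Omega F (quadFormOdd 2 F) = (rho h2).range :=
    commutator_eq_of_index_four _ _ hK hH hidx z hz hzK
  have e2 : Cfsg.Omega F (quadFormOdd 2 F) ≃* Cfsg.PSp 2 F :=
    (MulEquiv.subgroupCongr hOm).trans e1.symm
  have hperf' : commutator (Cfsg.PSp 2 F) = ⊤ := by
    have := congrArg (Subgroup.map (QuotientGroup.mk' (Subgroup.center _))) hperf
    rw [_root_.commutator_def, Subgroup.map_commutator,
      Subgroup.map_top_of_surjective _ (QuotientGroup.mk'_surjective _)] at this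
    exact this
  exact ⟨(CL.SpG.quotCenterCongr e2).trans
    ((QuotientGroup.quotientMulEquivOfEq (center_eq_bot_of_simple hperf')).trans
      QuotientGroup.quotientBot)⟩

end Cfsg.Agent.S0301
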