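import Cfsg.Statements.S0302
import Cfsg.Agent.LowIso.Lambda2
import Cfsg.Agent.Lin.Card
import Cfsg.Agent.S0287

set_option autoImplicit false
open Cfsg

namespace Cfsg.Agent.S0302

/-- PΩ^+_6(q) is isomorphic to PSL_4(q). -/
theorem result {F : Type*} [Field F] [Fintype F] : Nonempty (Cfsg.POmega F (Cfsg.quadFormPlus 3 F) ≃* Matrix.ProjectiveSpecialLinearGroup (Fin 4) F) := by
  refine CL.LowIso.nonempty_pomega_equiv_of_perfect (CL.LowIso.L2.dat F).rho
    (CL.Lin.SL_commutator_eq_top (by simp)) ?_ _ (CL.LowIso.slNegOne_mem_center 4 _ F)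
    CL.LowIso.L2.mem_ker_rho
    (CL.LowIso.slNegOne_eq_one_iff 4 _ (by norm_num) F) (i := .inl 0) (j := .inr 0) (by simp) ?_
  · have h1 : 0 < Fintype.card F - 1 := by have := Fintype.one_lt_card (α := F); omega
    refine Nat.eq_of_mul_eq_mul_left h1 ?_
    rw [mul_left_comm, CL.Lin.card_SL_mul, Matrix.card_GL_field,
      Cfsg.Agent.S0287.result rfl 3 (by norm_num)]
    have hq : 1 ≤ Fintype.card F := Fintype.card_pos
    simp only [Fin.prod_univ_four, Finset.prod_range_succ, Finset.range_zero, Finset.prod_empty]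
    have hp : ∀ a b : ℕ, a ≤ b → Fintype.card F ^ a ≤ Fintype.card F ^ b :=
      fun a b h => Nat.pow_le_pow_right hq h
    have hp0 : ∀ b : ℕ, 1 ≤ Fintype.card F ^ b := fun b => Nat.one_le_pow _ _ hq
    zify [hq, hp0, hp ((0 : Fin 4) : ℕ) 4 (by decide), hp ((1 : Fin 4) : ℕ) 4 (by decide),
      hp ((2 : Fin 4) : ℕ) 4 (by decide), hp ((3 : Fin 4) : ℕ) 4 (by decide)]
    simp only [Fin.coe_ofNat_eq_mod]
    ring
  · intro v
    simp [quadFormPlus, Fin.sum_univ_three, Equiv.swap_apply_of_ne_of_ne, mul_comm]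

end Cfsg.Agent.S0302
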