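import Cfsg.Statements.S0303
import Cfsg.Agent.LowIso.Quad
import Cfsg.Agent.LowIso.Lambda2
import Cfsg.Agent.Lin.Card
import Cfsg.Agent.Unitary.Simple
import Cfsg.Agent.S0278
import Cfsg.Agent.S0288
import Cfsg.Agent.Auto.ACL_Lin_slCongr_5ac202

set_option autoImplicit false
open Cfsg

namespace Cfsg.Agent.S0303

section Helpers

open Matrix CL.LowIso

theorem slCongr_mem_su {K L : Type*} [Field K] [Field L] {n q : ℕ} (e : K ≃+* L)
    (g : Matrix.SpecialLinearGroup (Fin n) K) (hg : g ∈ SU n K q) :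
    CL.Lin.slCongr e g ∈ SU n L q := by
  intro u v
  have h := congrArg e (hg (e.symm ∘ u) (e.symm ∘ v))
  simpa [hermForm, Matrix.mulVec, dotProduct, CL.Lin.slCongr, map_sum] using h

/-- Transport of `SU` along a field isomorphism. -/
def suCongr {K L : Type*} [Field K] [Field L] (n q : ℕ) (e : K ≃+* L) : SU n K q ≃* SU n L q :=
  ((CL.Lin.slCongr e).subgroupMap (SU n K q)).trans (MulEquiv.subgroupCongr (by
    ext g
    constructor
    · rintro ⟨g, hg, rfl⟩
      exact slCongr_mem_su e g hg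
    · intro hg
      exact ⟨_, slCongr_mem_su e.symm g hg, (CL.Lin.slCongr e).apply_symm_apply g⟩))

theorem det_four {K : Type*} [Field K] (A : Matrix (Fin 4) (Fin 4) K) : A.det =
    (A 0 0 * A 1 1 - A 0 1 * A 1 0) * (A 2 2 * A 3 3 - A 2 3 * A 3 2)
    - (A 0 0 * A 1 2 - A 0 2 * A 1 0) * (A 2 1 * A 3 3 - A 2 3 * A 3 1)
    + (A 0 0 * A 1 3 - A 0 3 * A 1 0) * (A 2 1 * A 3 2 - A 2 2 * A 3 1)
    + (A 0 1 * A 1 2 - A 0 2 * A 1 1) * (A 2 0 * A 3 3 - A 2 3 * A 3 0)
    - (A 0 1 * A 1 3 - A 0 3 * A 1 1) * (A 2 0 * A 3 2 - A 2 2 * A 3 0)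
    + (A 0 2 * A 1 3 - A 0 3 * A 1 2) * (A 2 0 * A 3 1 - A 2 1 * A 3 0) := by
  simp [Matrix.det_succ_row_zero, Fin.sum_univ_succ, Fin.succAbove]
  ring

theorem hodge {K : Type*} [Field K] (A : Matrix (Fin 4) (Fin 4) K) (w : Fin 3 ⊕ Fin 3 → K) :
    Aᵀ * L2.emb (L2.crd (A * L2.emb w * Aᵀ) ∘ Sum.swap) * A = A.det • L2.emb (w ∘ Sum.swap) := by
  have h := L2.congr_apply Aᵀ (L2.crd (A * L2.emb w * Aᵀ) ∘ Sum.swap)
  have h' := L2.emb_crd_congr Aᵀ (L2.crd (A * L2.emb w * Aᵀ) ∘ Sum.swap)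
  rw [Matrix.transpose_transpose] at h h'
  rw [← h', ← map_smul, det_four]
  congr 1
  have e0 : ∀ Z : Matrix (Fin 4) (Fin 4) K, L2.crd Z (.inl 0) = Z 0 1 := fun _ => rfl
  have e1 : ∀ Z : Matrix (Fin 4) (Fin 4) K, L2.crd Z (.inl 1) = Z 0 2 := fun _ => rfl
  have e2 : ∀ Z : Matrix (Fin 4) (Fin 4) K, L2.crd Z (.inl 2) = Z 0 3 := fun _ => rfl
  have e3 : ∀ Z : Matrix (Fin 4) (Fin 4) K, L2.crd Z (.inr 0) = Z 2 3 := fun _ => rfl
  have e4 : ∀ Z : Matrix (Fin 4) (Fin 4) K, L2.crd Z (.inr 1) = Z 3 1 := fun _ => rfl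
  have e5 : ∀ Z : Matrix (Fin 4) (Fin 4) K, L2.crd Z (.inr 2) = Z 1 2 := fun _ => rfl
  have key : ∀ u v : Fin 3 ⊕ Fin 3 → K, u (.inl 0) = v (.inl 0) → u (.inl 1) = v (.inl 1) →
      u (.inl 2) = v (.inl 2) → u (.inr 0) = v (.inr 0) → u (.inr 1) = v (.inr 1) →
      u (.inr 2) = v (.inr 2) → u = v := by
    intro u v h0 h1 h2 h3 h4 h5
    funext i
    rcases i with i | i <;> fin_cases i <;> assumption
  apply key <;>
    simp only [e0, e1, e2, e3, e4, e5, h, Function.comp, Sum.swap_inl, Sum.swap_inr,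
      L2.congr_apply, Matrix.transpose_apply, Pi.smul_apply, smul_eq_mul] <;> ring

variable {F K : Type*} [Field F] [Field K] [StarRing K] [Algebra F K]
  (hsa : ∀ x : F, star (algebraMap F K x) = algebraMap F K x)

/-- The real form. -/
def rl : (Fin 3 → K) →ₗ[F] (Fin 3 ⊕ Fin 3 → K) where
  toFun α := Sum.elim α (star α)
  map_add' α β := by
    funext i
    rcases i with i | i <;> simp
  map_smul' c α := by
    funext i
    rcases i with i | i
    · simp
    · simp [Algebra.smul_def, star_mul', hsa]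

theorem rl_apply (α : Fin 3 → K) : rl hsa α = Sum.elim α (star α) := rfl

theorem emb_star (w : Fin 3 ⊕ Fin 3 → K) :
    L2.emb (star w) = (L2.emb w).map (starRingEnd K) := by
  rw [L2.emb_apply, L2.emb_apply]
  simp only [Pi.star_apply, ← star_neg]
  ext1 i j
  rw [Matrix.map_apply, starRingEnd_apply]
  fin_cases i <;> fin_cases j <;> first | exact (star_zero K).symm | rfl

theorem rl_crd (A : Matrix (Fin 4) (Fin 4) K) (hdet : A.det = 1)
    (hA : Aᵀ * A.map (starRingEnd K) = 1) (α : Fin 3 → K) :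
    rl hsa (L2.crd (A * L2.emb (rl hsa α) * Aᵀ) ∘ Sum.inl) =
      L2.crd (A * L2.emb (rl hsa α) * Aᵀ) := by
  have h := hodge A (rl hsa α)
  have h1 : rl hsa α ∘ Sum.swap = star (rl hsa α) := by
    funext i
    rcases i with i | i <;> simp [rl_apply]
  have hA' : A.map (starRingEnd K) * Aᵀ = 1 := mul_eq_one_comm.1 hA
  have hA'' : A * (A.map (starRingEnd K))ᵀ = 1 := by
    simpa using congrArg Matrix.transpose hA'
  have h2 : L2.emb (L2.crd (A * L2.emb (rl hsa α) * Aᵀ) ∘ Sum.swap) =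
      L2.emb (star (L2.crd (A * L2.emb (rl hsa α) * Aᵀ))) := by
    rw [emb_star, L2.emb_crd_congr, Matrix.map_mul, Matrix.map_mul, ← emb_star, ← h1,
      ← one_smul K (L2.emb (rl hsa α ∘ Sum.swap)), ← hdet, ← h, Matrix.transpose_map,
      ← Matrix.mul_assoc, ← Matrix.mul_assoc, hA', Matrix.one_mul, Matrix.mul_assoc _ A, hA'',
      Matrix.mul_one]
  have h3 := congrArg L2.crd h2
  rw [L2.crd_emb, L2.crd_emb] at h3
  funext i
  rcases i with i | i
  · rfl
  · exact (congrFun h3 (.inl i)).symm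

theorem su_mul_conj {q : ℕ} (hq : ∀ x : K, star x = x ^ q) (A : SU 4 K q) :
    A.1.1ᵀ * A.1.1.map (starRingEnd K) = 1 := by
  ext1 i j
  have h := A.2 (Pi.single i 1) (Pi.single j 1)
  simp only [hermForm, ← hq] at h
  simpa [Matrix.mul_apply, Matrix.one_apply, Pi.single_apply, starRingEnd_apply,
    apply_ite star, eq_comm] using h

theorem exists_phi {a b : F} {ω : K} (hω : star ω ≠ ω) (htr : ω + star ω = algebraMap F K a)
    (hnm : ω * star ω = algebraMap F K b) [FiniteDimensional F K] (hrk : Module.finrank F K = 2)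
    {ε : K} (hε : ε * star ε = -1) :
    ∃ φ : ((Fin 2 ⊕ Fin 2) ⊕ Fin 2 → F) ≃ₗ[F] (Fin 3 → K),
      ∀ v, quadFormPlus 3 K (rl hsa (φ v)) =
        algebraMap F K (quadFormMinus 2 F a b v) := by
  have hΔ : star ω - ω ≠ 0 := sub_ne_zero.2 hω
  let u : K := (star ω - ω)⁻¹
  have hu : u * (star ω - ω) = 1 := inv_mul_cancel₀ hΔ
  have hsu : star u = -u := by
    simp only [u, star_inv₀, star_sub, star_star]
    rw [← neg_sub, inv_neg]
  let s : ((Fin 2 ⊕ Fin 2) ⊕ Fin 2 → F) →ₗ[F] K :=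
    (LinearMap.proj (.inl (.inl 0))).smulRight (-ω * u) + (LinearMap.proj (.inl (.inl 1))).smulRight u
  let t : ((Fin 2 ⊕ Fin 2) ⊕ Fin 2 → F) →ₗ[F] K :=
    (LinearMap.proj (.inl (.inr 0))).smulRight 1 + (LinearMap.proj (.inl (.inr 1))).smulRight ω
  let z : ((Fin 2 ⊕ Fin 2) ⊕ Fin 2 → F) →ₗ[F] K :=
    (LinearMap.proj (.inr 0)).smulRight 1 + (LinearMap.proj (.inr 1)).smulRight ω
  have hs : ∀ v, s v = algebraMap F _ (v (.inl (.inl 0))) * (-ω * u) +
      algebraMap F _ (v (.inl (.inl 1))) * u := fun v => by simp [s, Algebra.smul_def]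
  have ht : ∀ v, t v = algebraMap F _ (v (.inl (.inr 0))) +
      algebraMap F _ (v (.inl (.inr 1))) * ω := fun v => by simp [t, Algebra.smul_def]
  have hz : ∀ v, z v = algebraMap F _ (v (.inr 0)) + algebraMap F _ (v (.inr 1)) * ω :=
    fun v => by simp [z, Algebra.smul_def]
  let φ : ((Fin 2 ⊕ Fin 2) ⊕ Fin 2 → F) →ₗ[F] (Fin 3 → K) :=
    LinearMap.pi ![s + (LinearMap.mulLeft F (ω * u + 1)) ∘ₗ t,
      (LinearMap.mulLeft F ε) ∘ₗ (s + (LinearMap.mulLeft F (ω * u)) ∘ₗ t), z]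
  have hφ0 : ∀ v, φ v 0 = s v + (ω * u + 1) * t v := fun v => rfl
  have hφ1 : ∀ v, φ v 1 = ε * (s v + ω * u * t v) := fun v => rfl
  have hφ2 : ∀ v, φ v 2 = z v := fun v => rfl
  have hinj : Function.Injective φ := by
    rw [injective_iff_map_eq_zero]
    intro v hv
    have h0 := congrFun hv 0
    have h1 := congrFun hv 1
    have h2 := congrFun hv 2
    rw [hφ0] at h0
    rw [hφ1] at h1
    rw [hφ2, hz] at h2
    have hε0 : ε ≠ 0 := by rintro rfl; simp at hε
    have h3 : s v + ω * u * t v = 0 := (mul_eq_zero.1 h1).resolve_left hε0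
    have h4 : t v = 0 := by
      simp only [Pi.zero_apply] at h0
      linear_combination h0 - h3
    have h5 : s v = 0 := by rw [h4] at h3; simpa using h3
    rw [ht] at h4
    rw [hs] at h5
    have hu0 : u ≠ 0 := inv_ne_zero hΔ
    have h6 : algebraMap F _ (v (.inl (.inl 1))) + algebraMap F _ (-v (.inl (.inl 0))) * ω = 0 := by
      apply mul_right_cancel₀ hu0
      rw [map_neg]
      linear_combination h5
    have key : ∀ x y : F, algebraMap F K x + algebraMap F _ y * ω = 0 → x = 0 ∧ y = 0 := by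
      intro x y h
      have h7 := congrArg star h
      rw [star_add, star_mul', hsa, hsa, star_zero] at h7
      have h8 : algebraMap F K y = 0 := by
        apply mul_right_cancel₀ hΔ
        linear_combination h7 - h
      rw [h8, zero_mul, add_zero] at h
      exact ⟨(map_eq_zero _).1 h, (map_eq_zero _).1 h8⟩
    obtain ⟨e1, e2⟩ := key _ _ h2
    obtain ⟨e3, e4⟩ := key _ _ h4
    obtain ⟨e5, e6⟩ := key _ _ h6
    rw [neg_eq_zero] at e6
    funext i
    rcases i with (i | i) | i <;> fin_cases i <;> assumption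
  refine ⟨LinearEquiv.ofInjectiveOfFinrankEq φ hinj ?_, fun v => ?_⟩
  · simp [Module.finrank_pi_fintype, hrk]
  · change quadFormPlus 3 K (rl hsa (φ v)) = _
    simp only [quadFormPlus, quadFormMinus, rl_apply, Fin.sum_univ_three, Fin.sum_univ_two,
      Sum.elim_inl, Sum.elim_inr, Pi.star_apply, hφ0, hφ1, hφ2, hs, ht, hz, star_add, star_mul',
      star_neg, star_one, hsu, hsa, map_add, map_mul, map_pow, ← htr, ← hnm]
    set x0 := algebraMap F K (v (.inl (.inl 0)))
    set x1 := algebraMap F K (v (.inl (.inl 1)))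
    set y0 := algebraMap F K (v (.inl (.inr 0)))
    set y1 := algebraMap F K (v (.inl (.inr 1)))
    linear_combination ((x0 * (-ω * u) + x1 * u + ω * u * (y0 + y1 * ω)) *
      (x0 * (-star ω * -u) + x1 * -u + star ω * -u * (y0 + y1 * star ω))) * hε +
      (x0 * y0 + x1 * y1 - (y0 + y1 * ω) * (y0 + y1 * star ω)) * hu

variable {a b : F} {q : ℕ}

/-- The data of the homomorphism `SU_4 → O_6^-`. -/
noncomputable def dat (hq : ∀ x : K, star x = x ^ q)
    (φ : ((Fin 2 ⊕ Fin 2) ⊕ Fin 2 → F) ≃ₗ[F] (Fin 3 → K))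
    (hφ : ∀ v, quadFormPlus 3 K (rl hsa (φ v)) =
      algebraMap F K (quadFormMinus 2 F a b v)) :
    RhoData ((Fin 2 ⊕ Fin 2) ⊕ Fin 2) F (Matrix (Fin 4) (Fin 4) K)
      (SU 4 K q) (quadFormMinus 2 F a b) where
  c := (L2.emb.restrictScalars F) ∘ₗ rl hsa ∘ₗ φ.toLinearMap
  d := φ.symm.toLinearMap ∘ₗ (LinearMap.funLeft F K Sum.inl) ∘ₗ (L2.crd.restrictScalars F)
  σ :=
    { toFun := fun A => (L2.sig A.1).restrictScalars F
      map_one' := by ext1 X; simp
      map_mul' := fun A B => by ext1 X; simp }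
  d_c v := by
    change φ.symm (L2.crd (L2.emb (rl hsa (φ v))) ∘ Sum.inl) = v
    rw [L2.crd_emb]
    exact φ.symm_apply_apply v
  c_d A v := by
    change L2.emb (rl hsa (φ (φ.symm (L2.crd (A.1.1 * L2.emb (rl hsa (φ v)) * A.1.1ᵀ) ∘ Sum.inl))))
      = A.1.1 * L2.emb (rl hsa (φ v)) * A.1.1ᵀ
    rw [φ.apply_symm_apply, rl_crd hsa _ A.1.2 (su_mul_conj hq A), L2.emb_crd_congr]
  quad A v := by
    apply (algebraMap F K).injective
    rw [← hφ, ← hφ]
    change quadFormPlus 3 K (rl hsa (φ (φ.symm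
      (L2.crd (A.1.1 * L2.emb (rl hsa (φ v)) * A.1.1ᵀ) ∘ Sum.inl)))) = _
    rw [φ.apply_symm_apply, rl_crd hsa _ A.1.2 (su_mul_conj hq A), L2.quad_congr, A.1.2,
      one_mul]

/-- The scalar `-1` in `SU_4`. -/
def suNegOne (hq : ∀ x : K, star x = x ^ q) : SU 4 K q :=
  ⟨slNegOne 4 (by decide) _, fun u v => by
    change hermForm 4 _ q ((-1 : Matrix _ _ _) *ᵥ u) ((-1 : Matrix _ _ _) *ᵥ v) = _
    simp [hermForm, ← hq, Matrix.neg_mulVec]⟩

theorem mem_ker_rho {ω : K} (hω : star ω ≠ ω)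
    (hq : ∀ x : K, star x = x ^ q)
    (φ : ((Fin 2 ⊕ Fin 2) ⊕ Fin 2 → F) ≃ₗ[F] (Fin 3 → K))
    (hφ : ∀ v, quadFormPlus 3 K (rl hsa (φ v)) =
      algebraMap F K (quadFormMinus 2 F a b v)) (A : SU 4 K q) :
    A ∈ (dat hsa hq φ hφ).rho.ker ↔ A = 1 ∨ A = suNegOne hq := by
  have h1 : A ∈ (dat hsa hq φ hφ).rho.ker ↔ A.1 ∈ (L2.dat K).rho.ker := by
    rw [RhoData.mem_ker_iff, RhoData.mem_ker_iff]
    change (∀ v, L2.sig A.1 (L2.emb (rl hsa (φ v))) = L2.emb (rl hsa (φ v))) ↔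
      ∀ w, L2.sig A.1 (L2.emb w) = L2.emb w
    refine ⟨fun h w => ?_, fun h v => h _⟩
    have hΔ : ω - star ω ≠ 0 := sub_ne_zero.2 hω.symm
    have hΔ' : star ω - ω ≠ 0 := sub_ne_zero.2 hω
    let β : Fin 3 → K := fun i => (w (.inl i) - star (w (.inr i))) / (ω - star ω)
    let α : Fin 3 → K := fun i => w (.inl i) - ω * β i
    have hw : w = rl hsa α + ω • rl hsa β := by
      funext i
      rcases i with i | i
      · simp [rl_apply, α]
      · simp only [rl_apply, α, β, Pi.add_apply, Sum.elim_inr, Pi.star_apply, star_sub, star_mul',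
          star_div₀, star_star, Pi.smul_apply, smul_eq_mul]
        field_simp
        ring
    have h2 := h (φ.symm α)
    have h3 := h (φ.symm β)
    rw [φ.apply_symm_apply] at h2 h3
    rw [hw, map_add, map_smul, map_add, map_smul, h2, h3]
  rw [h1, L2.mem_ker_rho, Subtype.ext_iff (a1 := A), Subtype.ext_iff (a1 := A)]
  rfl

end Helpers

/-- PΩ^-_6(q) is isomorphic to PSU_4(q). -/
theorem result {F K : Type*} [Field F] [Fintype F] [Field K] [Fintype K] {q : ℕ} (hF : Fintype.card F = q) (hK : Fintype.card K = q ^ 2) (a b : F) (hab : ∀ z₁ z₂ : F, z₁ ^ 2 + a * z₁ * z₂ + b * z₂ ^ 2 = 0 → z₁ = 0 ∧ z₂ = 0) : Nonempty (Cfsg.POmega F (Cfsg.quadFormMinus 2 F a b) ≃* Cfsg.PSU 4 K q) := by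
  have := CL.LowIso.fact_of_aniso hab
  have : Finite (CL.LowIso.QA a b) := CL.LowIso.qa_finite
  have := Fintype.ofFinite (CL.LowIso.QA a b)
  have hc : Fintype.card (CL.LowIso.QA a b) = q ^ 2 := by rw [CL.LowIso.qa_card, hF]
  have hω : star (QuadraticAlgebra.omega : CL.LowIso.QA a b) ≠ QuadraticAlgebra.omega := by
    intro h
    have h1 := congrArg QuadraticAlgebra.re h
    have h2 := congrArg QuadraticAlgebra.im h
    simp only [QuadraticAlgebra.re_star, QuadraticAlgebra.omega_re, QuadraticAlgebra.omega_im,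
      mul_one, zero_add, QuadraticAlgebra.im_star] at h1 h2
    have h3 : (2 : F) = 0 := by linear_combination -h2
    have : CharP F 2 := (CharP.charP_iff_prime_eq_zero Nat.prime_two).2 (by exact_mod_cast h3)
    obtain ⟨c, hc⟩ := FiniteField.isSquare_of_char_two (ringChar.eq F 2) b
    exact one_ne_zero (hab c 1 (by rw [h1, hc]; linear_combination (c * c) * h3)).2
  obtain ⟨q', hq'⟩ := CL.Herm.exists_conj_of_invol (starRingEnd (CL.LowIso.QA a b))
    (fun h => hω (congrFun (congrArg DFunLike.coe h) _)) (fun x => star_star x)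
  obtain rfl : q' = q := by
    have := hq'.card
    rw [Nat.card_eq_fintype_card, hc] at this
    exact (Nat.pow_left_injective (by norm_num) this).symm
  have hq : ∀ x : CL.LowIso.QA a b, star x = x ^ q' := hq'.apply
  obtain ⟨ε, hε⟩ := hq'.exists_norm_neg_one
  have hsa : ∀ x : F, star (algebraMap F (CL.LowIso.QA a b) x) = algebraMap F _ x := by
    intro x; ext <;> simp
  obtain ⟨φ, hφ⟩ := exists_phi hsa (a := a) (b := b) hω (by ext <;> simp) (by ext <;> simp)
    (QuadraticAlgebra.finrank_eq_two _ _) hε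
  obtain ⟨e'⟩ := CL.LowIso.nonempty_pomega_equiv_of_perfect (dat hsa hq φ hφ).rho
    (hq'.commutator_SU (by norm_num) (by norm_num)) (by
      have h := Cfsg.Agent.S0288.result hF 3 (by norm_num) a b hab
      have h' := Cfsg.Agent.S0278.result hc 4 (by norm_num)
      refine h.trans (Nat.eq_of_mul_eq_mul_left (Nat.succ_pos q') ?_)
      rw [mul_left_comm _ 2 (Nat.card _), Nat.succ_eq_add_one, h']
      simp only [Finset.prod_range_succ, Finset.range_zero, Finset.prod_empty]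
      simp only [Nat.even_iff]
      norm_num
      ring)
    (suNegOne hq) (by
      rw [Subgroup.mem_center_iff]
      intro g
      exact Subtype.ext (Subgroup.mem_center_iff.1 
        (CL.LowIso.slNegOne_mem_center 4 (by decide) _) g.1))
    (mem_ker_rho hsa hω hq φ hφ)
    (Subtype.ext_iff.trans
      ((CL.LowIso.slNegOne_eq_one_iff 4 (by decide) (by norm_num) _).trans
        CL.LowIso.qa_two_eq_zero_iff))
    (i := .inl (.inl 0)) (j := .inl (.inr 0)) (by simp) (fun v => by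
      simp [quadFormMinus, Equiv.swap_apply_of_ne_of_ne, mul_comm])
  exact ⟨e'.trans (CL.SpG.quotCenterCongr
    (suCongr 4 q' (FiniteField.ringEquivOfCardEq (hc.trans hK.symm))))⟩

end Cfsg.Agent.S0303
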