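import Cfsg.Statements.S0304
import Cfsg.Agent.SpG.Basic

set_option autoImplicit false
open Cfsg

namespace Cfsg.Agent.S0304

section Helpers

open Matrix CL.SpG

variable {F : Type*} [Field F] {m : ℕ}

/-- projection onto the hyperbolic coordinates -/
def prj (v : Unit ⊕ (Fin m ⊕ Fin m) → F) : Fin m ⊕ Fin m → F := fun i => v (.inr i)

theorem quad_eq (v : Unit ⊕ (Fin m ⊕ Fin m) → F) :
    quadFormOdd m F v = v (.inl ()) ^ 2 + quadFormPlus m F (prj v) := rfl

theorem plus_add [CharP F 2] (u v : Fin m ⊕ Fin m → F) :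
    quadFormPlus m F (u + v) = quadFormPlus m F u + quadFormPlus m F v + sympForm m F u v := by
  rw [sympForm_eq_sum]
  simp only [quadFormPlus, ← Finset.sum_add_distrib, Pi.add_apply]
  refine Finset.sum_congr rfl fun i _ => ?_
  have h2 : (2 : F) = 0 := CharTwo.two_eq_zero
  linear_combination (u (.inl i) * v (.inr i)) * h2

theorem plus_smul (c : F) (u : Fin m ⊕ Fin m → F) :
    quadFormPlus m F (c • u) = c ^ 2 * quadFormPlus m F u := by
  simp only [quadFormPlus, Finset.mul_sum, Pi.smul_apply, smul_eq_mul]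
  exact Finset.sum_congr rfl fun i _ => by ring

theorem odd_add [CharP F 2] (u v : Unit ⊕ (Fin m ⊕ Fin m) → F) :
    quadFormOdd m F (u + v) =
      quadFormOdd m F u + quadFormOdd m F v + sympForm m F (prj u) (prj v) := by
  have h : prj (u + v) = prj u + prj v := rfl
  rw [quad_eq, quad_eq, quad_eq, h, plus_add, Pi.add_apply, CharTwo.add_sq]
  ring

theorem iso_apply (g : isometryGroup F (quadFormOdd m F)) (v : Unit ⊕ (Fin m ⊕ Fin m) → F) :
    quadFormOdd m F (g.1.1 *ᵥ v) = quadFormOdd m F v := g.2 v v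

theorem iso_form [CharP F 2] (g : isometryGroup F (quadFormOdd m F))
    (u v : Unit ⊕ (Fin m ⊕ Fin m) → F) :
    sympForm m F (prj (g.1.1 *ᵥ u)) (prj (g.1.1 *ᵥ v)) = sympForm m F (prj u) (prj v) := by
  have h := iso_apply g (u + v)
  rw [Matrix.mulVec_add, odd_add, odd_add, iso_apply, iso_apply] at h
  exact add_left_cancel h

omit [Field F] in
theorem prj_elim (a : Unit → F) (w : Fin m ⊕ Fin m → F) : prj (Sum.elim a w) = w := rfl

theorem iso_prj [CharP F 2] (g : isometryGroup F (quadFormOdd m F))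
    (v : Unit ⊕ (Fin m ⊕ Fin m) → F) :
    prj (g.1.1 *ᵥ v) = g.1.1.toBlocks₂₂ *ᵥ prj v := by
  have h0 : prj (g.1.1 *ᵥ Pi.single (.inl ()) 1) = 0 := by
    apply eq_zero_of_form_left
    intro w
    have h := iso_form g (Pi.single (.inl ()) 1) ((g.1⁻¹).1 *ᵥ Sum.elim 0 w)
    have h1 : prj (Pi.single (.inl ()) 1 : Unit ⊕ (Fin m ⊕ Fin m) → F) = 0 := by
      funext i; simp [prj]
    rw [Matrix.mulVec_mulVec, Units.mul_inv, Matrix.one_mulVec, prj_elim, h1,
      form_zero_left] at h
    exact h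
  funext i
  have h1 : g.1.1 (.inr i) (.inl ()) = 0 := by simpa [prj] using congrFun h0 i
  simp [prj, Matrix.mulVec, dotProduct, Fintype.sum_sum_type, h1, Matrix.toBlocks₂₂]

/-- the induced symplectic matrix -/
def toSp [CharP F 2] : isometryGroup F (quadFormOdd m F) →* Matrix.symplecticGroup (Fin m) F where
  toFun g := ⟨g.1.1.toBlocks₂₂, mem_sp_iff.2 fun u v => by
    have h := iso_form g (Sum.elim 0 u) (Sum.elim 0 v)
    rwa [iso_prj, iso_prj, prj_elim, prj_elim] at h⟩
  map_one' := sp_ext fun v => by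
    have h := iso_prj (1 : isometryGroup F (quadFormOdd m F)) (Sum.elim 0 v)
    rw [prj_elim] at h
    rw [sp_one_mulVec]
    simpa [prj_elim] using h.symm
  map_mul' g h := sp_ext fun v => by
    have h1 := iso_prj (g * h) (Sum.elim 0 v)
    have h2 : (g * h).1.1 *ᵥ (Sum.elim 0 v) = g.1.1 *ᵥ (h.1.1 *ᵥ (Sum.elim 0 v)) := by
      simp [Matrix.mulVec_mulVec]
    rw [h2, iso_prj, iso_prj, prj_elim] at h1
    rw [sp_mul_mulVec]
    exact h1.symm

theorem toSp_injective [CharP F 2] : Function.Injective (toSp (F := F) (m := m)) := by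
  rw [injective_iff_map_eq_one]
  intro g hg
  have h1 : g.1.1.toBlocks₂₂ = 1 := congrArg Subtype.val hg
  have h2 : ∀ v, g.1.1 *ᵥ v = v := by
    intro v
    have h3 : prj (g.1.1 *ᵥ v) = prj v := by rw [iso_prj, h1, Matrix.one_mulVec]
    have h4 := iso_apply g v
    rw [quad_eq, quad_eq, h3, add_left_inj] at h4
    funext i
    rcases i with _ | i
    · exact CharTwo.sq_injective h4
    · exact congrFun h3 i
  apply Subtype.ext
  apply Units.ext
  ext i j
  simpa [Matrix.one_apply, Pi.single_apply] using congrFun (h2 (Pi.single j 1)) i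

theorem toSp_surjective [Fintype F] [CharP F 2] :
    Function.Surjective (toSp (F := F) (m := m)) := by
  intro h
  have h2 : (2 : F) = 0 := CharTwo.two_eq_zero
  let D : (Fin m ⊕ Fin m → F) →+ F :=
    { toFun := fun w => quadFormPlus m F (h.1 *ᵥ w) + quadFormPlus m F w
      map_zero' := by simp [quadFormPlus]
      map_add' := fun u v => by
        rw [Matrix.mulVec_add, plus_add, plus_add, form_sp]
        linear_combination (sympForm m F u v) * h2 }
  have hD : ∀ (c : F) w, D (c • w) = c ^ 2 * D w := by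
    intro c w
    change quadFormPlus m F (h.1 *ᵥ (c • w)) + quadFormPlus m F (c • w) =
      c ^ 2 * (quadFormPlus m F (h.1 *ᵥ w) + quadFormPlus m F w)
    rw [Matrix.mulVec_smul, plus_smul, plus_smul]
    ring
  have hsq : ∀ a : F, ∃ b : F, b ^ 2 = a := fun a => by
    obtain ⟨b, hb⟩ := FiniteField.isSquare_of_char_two (ringChar.eq F 2) a
    exact ⟨b, by rw [hb, sq]⟩
  choose r hr using fun j => hsq (D (Pi.single j 1))
  have hrD : ∀ w, (r ⬝ᵥ w) ^ 2 = D w := by
    intro w
    conv_rhs => rw [← Finset.univ_sum_single w, map_sum]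
    rw [dotProduct, CharTwo.sum_sq]
    refine Finset.sum_congr rfl fun j _ => ?_
    have : (Pi.single j (w j) : Fin m ⊕ Fin m → F) = w j • Pi.single j 1 := by
      rw [← Pi.single_smul, smul_eq_mul, mul_one]
    rw [this, hD, ← hr]
    ring
  let M : Matrix (Unit ⊕ (Fin m ⊕ Fin m)) (Unit ⊕ (Fin m ⊕ Fin m)) F :=
    Matrix.fromBlocks 1 (Matrix.of fun _ j => r j) 0 h.1
  have hdet : M.det ≠ 0 := by
    rw [Matrix.det_fromBlocks_zero₂₁, SymplecticGroup.det_eq_one h.2]
    simp
  refine ⟨⟨Matrix.GeneralLinearGroup.mkOfDetNeZero M hdet, fun v _ => ?_⟩, ?_⟩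
  · change quadFormOdd m F (M *ᵥ v) = quadFormOdd m F v
    have h3 : prj (M *ᵥ v) = h.1 *ᵥ prj v := by
      funext i
      simp [prj, M, Matrix.mulVec, dotProduct, Fintype.sum_sum_type]
    have h4 : (M *ᵥ v) (.inl ()) = v (.inl ()) + r ⬝ᵥ prj v := by
      simp [prj, M, Matrix.mulVec, dotProduct, Fintype.sum_sum_type]
    rw [quad_eq, quad_eq, h3, h4, CharTwo.add_sq, hrD]
    change _ + (quadFormPlus m F (h.1 *ᵥ prj v) + quadFormPlus m F (prj v)) + _ = _
    linear_combination (quadFormPlus m F (h.1 *ᵥ prj v)) * h2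
  · apply Subtype.ext
    change M.toBlocks₂₂ = h.1
    simp [M]

end Helpers

/-- In characteristic 2, O_{2m+1}(q) is isomorphic to Sp_{2m}(q). -/
theorem result {F : Type*} [Field F] [Fintype F] [CharP F 2] (m : ℕ) : Nonempty (Cfsg.isometryGroup F (Cfsg.quadFormOdd m F) ≃* Matrix.symplecticGroup (Fin m) F) := by
  exact ⟨MulEquiv.ofBijective toSp ⟨toSp_injective, toSp_surjective⟩⟩

end Cfsg.Agent.S0304
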