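import Cfsg.Statements.S0305
import Cfsg.Agent.Base
import Cfsg.Agent.Orth.Order

set_option autoImplicit false
open Cfsg

namespace Cfsg.Agent.S0305

/-- GO^+_2(q) is dihedral of order 2(q-1). -/
theorem result {F : Type*} [Field F] [Fintype F] {q : ℕ} (hF : Fintype.card F = q) : Nonempty (Cfsg.isometryGroup F (Cfsg.quadFormPlus 1 F) ≃* DihedralGroup (q - 1)) := by
  subst hF
  obtain ⟨e⟩ := CL.Orth.nonempty_O_plus_equiv_dihedral (F := F)
  rw [← Nat.card_eq_fintype_card]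
  exact ⟨(CL.Orth.bridge (CL.Orth.qPlus 1 F)).trans ((CL.Orth.OCongr ((CL.Orth.plusIso 1 F).trans
    ((CL.Orth.hypNSucc 0 (0 : QuadraticForm F Unit)).trans
      (CL.Orth.hypCongr (CL.Orth.hypNZero (0 : QuadraticForm F Unit)))))).trans e)⟩

end Cfsg.Agent.S0305
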