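import Cfsg.Agent.Base
import Cfsg.Statements.S0307
import Cfsg.Agent.Lin.Card

set_option autoImplicit false
open Cfsg

namespace Cfsg.Agent.S0307

/-- PSL_n(q) is normal in PGL_n(q) with cyclic quotient of order gcd(n, q-1): the image of the natural map PSL_n → PGL_n is the kernel of a surjective homomorphism onto the cyclic group of that order. -/
theorem result {F : Type*} [Field F] [Fintype F] {q : ℕ} (hF : Fintype.card F = q) (n : ℕ) (hn : 1 ≤ n) : ∃ g : Matrix.ProjGenLinGroup (Fin n) F →* Multiplicative (ZMod (Nat.gcd n (q - 1))), Function.Surjective g ∧ g.ker = (Matrix.ProjectiveSpecialLinearGroup.toPGL : Matrix.ProjectiveSpecialLinearGroup (Fin n) F →* Matrix.ProjGenLinGroup (Fin n) F).range := by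
  have : Nonempty (Fin n) := ⟨⟨0, hn⟩⟩
  subst hF
  set N : Subgroup Fˣ := (powMonoidHom n : Fˣ →* Fˣ).range with hN
  have hcard : Nat.card (Fˣ ⧸ N) = Nat.gcd n (Fintype.card F - 1) := by
    have := IsCyclic.index_powMonoidHom_range Fˣ n
    rw [CL.Lin.card_units_eq, Nat.gcd_comm] at this
    exact this
  have hcyc : IsCyclic (Fˣ ⧸ N) := isCyclic_of_surjective _ (QuotientGroup.mk'_surjective N)
  have e : Multiplicative (ZMod (Nat.gcd n (Fintype.card F - 1))) ≃* (Fˣ ⧸ N) :=
    hcard ▸ zmodCyclicMulEquiv hcyc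
  let f : Matrix.GeneralLinearGroup (Fin n) F →* (Fˣ ⧸ N) :=
    (QuotientGroup.mk' N).comp Matrix.GeneralLinearGroup.det
  have hf : f.comp (Matrix.GeneralLinearGroup.scalar (Fin n)) = 1 := by
    ext u
    simp only [f, MonoidHom.comp_apply, Matrix.GeneralLinearGroup.det_scalar, Fintype.card_fin,
      QuotientGroup.mk'_apply, MonoidHom.one_apply, QuotientGroup.eq_one_iff]
    exact ⟨u, rfl⟩
  refine ⟨e.symm.toMonoidHom.comp (Matrix.ProjGenLinGroup.lift f hf), ?_, ?_⟩
  · intro x
    obtain ⟨u, hu⟩ := QuotientGroup.mk'_surjective N (e x)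
    obtain ⟨g, hg⟩ := Matrix.GeneralLinearGroup.det_surjective (n := Fin n) u
    refine ⟨Matrix.ProjGenLinGroup.mk g, ?_⟩
    simp only [MonoidHom.comp_apply, Matrix.ProjGenLinGroup.lift_mk, f, hg, hu]
    simp
  · ext g
    induction g using Matrix.ProjGenLinGroup.induction_on with | mk g =>
    simp only [MonoidHom.mem_ker, MonoidHom.comp_apply, Matrix.ProjGenLinGroup.lift_mk, f,
      MulEquiv.coe_toMonoidHom, MulEquiv.map_eq_one_iff, QuotientGroup.mk'_apply,
      QuotientGroup.eq_one_iff]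
    constructor
    · rintro ⟨u, hu⟩
      have hker : g * Matrix.GeneralLinearGroup.scalar (Fin n) u⁻¹ ∈
          (Matrix.GeneralLinearGroup.det : Matrix.GeneralLinearGroup (Fin n) F →* Fˣ).ker := by
        rw [MonoidHom.mem_ker, map_mul, Matrix.GeneralLinearGroup.det_scalar, ← hu]
        simp
      rw [← CL.Lin.range_toGL] at hker
      obtain ⟨s, hs⟩ := hker
      refine ⟨(s : Matrix.ProjectiveSpecialLinearGroup (Fin n) F), ?_⟩
      rw [Matrix.ProjectiveSpecialLinearGroup.toPGL_mk, hs, map_mul,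
        Matrix.ProjGenLinGroup.mk_scalar, mul_one]
    · rintro ⟨s, hs⟩
      induction s using QuotientGroup.induction_on with | H s =>
      rw [Matrix.ProjectiveSpecialLinearGroup.toPGL_mk, Matrix.ProjGenLinGroup.mk_eq_mk_iff] at hs
      obtain ⟨u, rfl⟩ := hs
      refine ⟨u, ?_⟩
      rw [map_mul, Matrix.GeneralLinearGroup.det_scalar, Matrix.SpecialLinearGroup.coeToGL_det]
      simp

end Cfsg.Agent.S0307
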