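import Cfsg.Agent.Base
import Cfsg.Statements.S0316
import Cfsg.Agent.BN.Parabolic

set_option autoImplicit false
open Cfsg

namespace Cfsg.Agent.S0316

/-- The map `J ↦ P_J` is a lattice isomorphism from the power set of the set of distinguished generators onto the
subgroups containing `B`. -/
theorem result {G : Type*} [Group G] (P : Cfsg.BNPair G) :
    ∃ e : Set P.S ≃o {M : Subgroup G // P.B ≤ M},
      ∀ J : Set P.S, ((e J : {M : Subgroup G // P.B ≤ M}) : Subgroup G) = P.parabolic (Subtype.val '' J) := by
  have hsub : ∀ J : Set P.S, Subtype.val '' J ⊆ P.S := fun J => Subtype.coe_image_subset _ _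
  refine ⟨{ toFun := fun J => ⟨P.parabolic (Subtype.val '' J), CL.BN.B_le_parabolic P _⟩
            invFun := fun M => {s | (s : G) ∈ (M : Subgroup G)}
            left_inv := fun J => ?_
            right_inv := fun M => ?_
            map_rel_iff' := fun {J K} => ?_ }, fun J => rfl⟩
  · ext s
    constructor
    · intro h
      obtain ⟨t, ht, e⟩ := CL.BN.mem_of_mem_parabolic P (hsub J) s.2 h
      rwa [← Subtype.ext e]
    · intro h
      exact CL.BN.mem_parabolic_of_mem P (J := Subtype.val '' J) ⟨s, h, rfl⟩
  · apply Subtype.ext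
    refine Eq.trans ?_ (CL.BN.eq_parabolic P M.2).symm
    change P.parabolic _ = _
    congr 1
    ext s
    constructor
    · rintro ⟨t, ht, rfl⟩; exact ⟨t.2, ht⟩
    · rintro ⟨h1, h2⟩; exact ⟨⟨s, h1⟩, h2, rfl⟩
  · change P.parabolic _ ≤ P.parabolic _ ↔ _
    rw [CL.BN.parabolic_le_iff P (hsub J) (hsub K)]
    exact Set.image_subset_image_iff Subtype.val_injective

end Cfsg.Agent.S0316
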