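import Cfsg.Agent.Base
import Cfsg.Statements.S0321
import Cfsg.Agent.BN.Parabolic

set_option autoImplicit false
open Cfsg

namespace Cfsg.Agent.S0321

/-- For `n ∈ N` not in `B`, the union `B ∪ B n B` is (the underlying set of) a subgroup exactly when `n` agrees
modulo `B ⊓ N` with one of the distinguished representatives; thus the distinguished involutions are
determined by `B` and `N`. -/
theorem result {G : Type*} [Group G] (P : Cfsg.BNPair G) {n : G}
    (hn : n ∈ P.N) (hnB : n ∉ P.B) :
    (∃ H : Subgroup G, (H : Set G) = (P.B : Set G) ∪ DoubleCoset.doubleCoset n (P.B : Set G) P.B) ↔ ∃ s ∈ P.S, s⁻¹ * n ∈ P.B := by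
  have := CL.BN.T_normal P
  rw [← CL.BN.cell_wmk P hn]
  constructor
  · rintro ⟨H, hH⟩
    have hB : P.B ≤ H := fun b hb => by
      rw [← SetLike.mem_coe, hH]; exact Or.inl hb
    have hnH : n ∈ H := by
      rw [← SetLike.mem_coe, hH]; exact Or.inr (CL.BN.self_mem_cell P hn)
    obtain ⟨l, hl, e⟩ := (CL.BN.exch P).exists_reduced (CL.BN.wmk P n hn)
    rw [CL.BN.exch_s] at e
    match l, hl, e with
    | [], _, e => exact absurd ((CL.BN.wmk_eq_one_iff P hn).mp e.symm) hnB
    | s :: l, hl, e =>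
      have hs := CL.BN.letters_mem_of_mem P hB _ hl (e ▸ CL.BN.self_mem_cell P hn) hnH s
        List.mem_cons_self
      rw [← SetLike.mem_coe, hH] at hs
      rcases hs with hs | hs
      · exact absurd hs (CL.BN.s_not_mem_B P s)
      · exact ⟨s, s.2, (CL.BN.wmk_eq_iff P _ hn).mp (CL.BN.eq_of_mem_cell (CL.BN.s_mem_cell P s) hs)⟩
  · rintro ⟨s, hs, h⟩
    have e : CL.BN.wmk P n hn = CL.BN.sw P ⟨s, hs⟩ := ((CL.BN.wmk_eq_iff P (P.subset hs) hn).mpr h).symm
    rw [e]
    refine ⟨{ carrier := (P.B : Set G) ∪ CL.BN.cell P (CL.BN.sw P ⟨s, hs⟩)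
              one_mem' := Or.inl P.B.one_mem
              mul_mem' := ?_
              inv_mem' := ?_ }, rfl⟩
    · rintro a b (ha | ha) (hb | hb)
      · exact Or.inl (P.B.mul_mem ha hb)
      · exact Or.inr (CL.BN.cell_mul_left ha hb)
      · exact Or.inr (CL.BN.cell_mul_right hb ha)
      · rcases CL.BN.cell_s_mul ha hb with h | h
        · rw [CL.BN.sw_sq, CL.BN.mem_cell_one] at h; exact Or.inl h
        · exact Or.inr h
    · rintro a (ha | ha)
      · exact Or.inl (P.B.inv_mem ha)
      · have := CL.BN.cell_inv ha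
        rw [CL.BN.sw_inv] at this
        exact Or.inr this

end Cfsg.Agent.S0321
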