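import Cfsg.Agent.Base
import Cfsg.Statements.S0322
import Cfsg.Agent.BN.Parabolic

set_option autoImplicit false
open Cfsg

namespace Cfsg.Agent.S0322

/-- A group with a (B,N)-pair of rank one acts doubly transitively on the left cosets of `B`. -/
theorem result {G : Type*} [Group G] (P : Cfsg.BNPair G) (h : P.rank = 1) : MulAction.IsMultiplyPretransitive G (G ⧸ P.B) 2 := by
  have := CL.BN.T_normal P
  obtain ⟨⟨hsub⟩, ⟨s⟩⟩ := Nat.card_eq_one_iff_unique.mp h
  have key : ∀ g : G, g ∉ P.B → g ∈ CL.BN.cell P (CL.BN.sw P s) := by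
    intro g hg
    obtain ⟨w, hw⟩ := CL.BN.exists_cell P g
    obtain ⟨l, hl, rfl⟩ := (CL.BN.exch P).exists_reduced w
    rw [CL.BN.exch_s] at hw
    match l, hl, hw with
    | [], _, hw => exact absurd ((CL.BN.mem_cell_one P).mp hw) hg
    | [t], _, hw => rwa [CL.BN.wprod_singleton, hsub t s] at hw
    | t :: u :: l, hl, hw =>
      exfalso
      have h1 := hl.tail_mem
      rw [hsub t u] at h1
      exact hl.tail.not_mem h1
  rw [MulAction.is_two_pretransitive_iff]
  intro a b c d hab hcd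
  obtain ⟨a, rfl⟩ := QuotientGroup.mk_surjective a
  obtain ⟨b, rfl⟩ := QuotientGroup.mk_surjective b
  obtain ⟨c, rfl⟩ := QuotientGroup.mk_surjective c
  obtain ⟨d, rfl⟩ := QuotientGroup.mk_surjective d
  rw [Ne, QuotientGroup.eq] at hab hcd
  obtain ⟨x, hx, y, hy, e⟩ := CL.BN.cell_exists (key _ hab) (key _ hcd)
  refine ⟨c * x * a⁻¹, ?_, ?_⟩
  · rw [MulAction.Quotient.smul_coe, QuotientGroup.eq]
    simpa using hx
  · rw [MulAction.Quotient.smul_coe, QuotientGroup.eq]
    have : (((c * x * a⁻¹) • b)⁻¹ * d) = y := by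
      rw [smul_eq_mul, inv_mul_eq_iff_eq_mul, ← mul_inv_cancel_left c d, e]; group
    rw [this]; exact hy

end Cfsg.Agent.S0322
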