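import Cfsg.Agent.Base
import Cfsg.Statements.S0323
import Cfsg.Agent.BN.Parabolic

set_option autoImplicit false
open scoped Pointwise
open Cfsg

namespace Cfsg.Agent.S0323

/-- A doubly transitive action on a set with at least three points yields a (B,N)-pair of rank one:
`B` is the stabiliser of a point `x`, `N` the setwise stabiliser of a pair `{x, y}`. -/
theorem result {G Ω : Type*} [Group G] [MulAction G Ω]
    (h2 : MulAction.IsMultiplyPretransitive G Ω 2) {x y z : Ω} (hxy : x ≠ y) (hyz : y ≠ z) (hxz : x ≠ z) :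
    ∃ P : Cfsg.BNPair G, P.B = MulAction.stabilizer G x ∧
      P.N = MulAction.stabilizer G ({x, y} : Set Ω) ∧ P.rank = 1 := by
  rw [MulAction.is_two_pretransitive_iff] at h2
  obtain ⟨s, hs1, hs2⟩ := h2 hxy hxy.symm
  have hN : ∀ g : G, g ∈ MulAction.stabilizer G ({x, y} : Set Ω) ↔
      (g • x = x ∧ g • y = y) ∨ (g • x = y ∧ g • y = x) := by
    intro g
    rw [MulAction.mem_stabilizer_iff, Set.smul_set_insert, Set.smul_set_singleton,
      Set.pair_eq_pair_iff]
  have hsN : s ∈ MulAction.stabilizer G ({x, y} : Set Ω) := (hN s).mpr (Or.inr ⟨hs1, hs2⟩)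
  have hsi : s⁻¹ • x = y := by rw [inv_smul_eq_iff, hs2]
  have hdc : ∀ g : G, g • x ≠ x → ∀ n : G, n • x ≠ x →
      g ∈ DoubleCoset.doubleCoset n (MulAction.stabilizer G x : Set G) (MulAction.stabilizer G x) := by
    intro g hg n hn
    obtain ⟨b, hb1, hb2⟩ := h2 hn.symm hg.symm
    refine DoubleCoset.mem_doubleCoset.mpr ⟨b, hb1, (b * n)⁻¹ * g, ?_, by group⟩
    rw [SetLike.mem_coe, MulAction.mem_stabilizer_iff, mul_smul, inv_smul_eq_iff, mul_smul, hb2]
  have hdc1 : ∀ g : G, g • x = x → ∀ n : G, n • x = x →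
      g ∈ DoubleCoset.doubleCoset n (MulAction.stabilizer G x : Set G) (MulAction.stabilizer G x) := by
    intro g hg n hn
    refine DoubleCoset.mem_doubleCoset.mpr ⟨1, Subgroup.one_mem _, n⁻¹ * g, ?_, by group⟩
    rw [SetLike.mem_coe, MulAction.mem_stabilizer_iff, mul_smul, inv_smul_eq_iff, hg, hn]
  refine ⟨{ B := MulAction.stabilizer G x
            N := MulAction.stabilizer G ({x, y} : Set Ω)
            S := {s}
            sup_eq_top := ?_
            conj_mem := ?_
            subset := ?_
            sq_mem := ?_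
            inj := ?_
            closure_sup := ?_
            mul_mem_union := ?_
            conj_ne := ?_ }, rfl, rfl, ?_⟩
  · rw [eq_top_iff]
    intro g _
    by_cases hg : g • x = x
    · exact Subgroup.mem_sup_left hg
    · obtain ⟨b, hb, b', hb', rfl⟩ := DoubleCoset.mem_doubleCoset.mp (hdc g hg s (hs1 ▸ hxy.symm))
      exact Subgroup.mul_mem _ (Subgroup.mul_mem _ (Subgroup.mem_sup_left hb) (Subgroup.mem_sup_right hsN))
        (Subgroup.mem_sup_left hb')
  · rintro n hn t ⟨ht1, ht2⟩
    have ht1' : t • x = x := ht1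
    have ht3 : t • y = y := by
      rcases (hN t).mp ht2 with h | h
      · exact h.2
      · exact absurd (ht1'.symm.trans h.1) hxy
    rw [MulAction.mem_stabilizer_iff, mul_smul, mul_smul]
    rcases (hN n⁻¹).mp (Subgroup.inv_mem _ hn) with h | h
    · rw [h.1, ht1', ← inv_smul_eq_iff.mp h.1]
    · rw [h.1, ht3, ← inv_smul_eq_iff.mp h.1]
  · rintro _ rfl; exact hsN
  · rintro _ rfl
    rw [MulAction.mem_stabilizer_iff, mul_smul, hs1, hs2]
  · rintro _ rfl _ rfl _; rfl
  · apply le_antisymm
    · exact sup_le ((Subgroup.closure_le _).mpr (by rintro _ rfl; exact hsN)) inf_le_right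
    · intro n hn
      rcases (hN n).mp hn with h | h
      · exact Subgroup.mem_sup_right ⟨h.1, hn⟩
      · have e : n = s * (s⁻¹ * n) := by group
        rw [e]
        refine Subgroup.mul_mem_sup (Subgroup.subset_closure rfl) ⟨?_, Subgroup.mul_mem _
          (Subgroup.inv_mem _ hsN) hn⟩
        change (s⁻¹ * n) • x = x
        rw [mul_smul, h.1, inv_smul_eq_iff, hs1]
  · rintro s' hs' n hn b hb
    rw [Set.mem_singleton_iff.mp hs']
    have hb' : b • x = x := hb
    rcases (hN n).mp hn with h | h
    · left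
      apply hdc
      · rw [mul_smul, mul_smul, h.1, hb', hs1]; exact hxy.symm
      · rw [mul_smul, h.1, hs1]; exact hxy.symm
    · by_cases hg : (s * b * n) • x = x
      · left
        apply hdc1 _ hg
        rw [mul_smul, h.1, hs2]
      · right
        apply hdc _ hg
        rw [h.1]; exact hxy.symm
  · rintro s' hs' h
    rw [Set.mem_singleton_iff.mp hs'] at h
    obtain ⟨b, hb1, hb2⟩ := h2 hxy hxz
    have : s * b * s ∈ (MulAction.stabilizer G x : Set G) := h ▸ ⟨b, hb1, rfl⟩
    rw [SetLike.mem_coe, MulAction.mem_stabilizer_iff, mul_smul, mul_smul, hs1, hb2] at this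
    exact hyz (smul_left_cancel s (hs2.trans this.symm))
  · simp [Cfsg.BNPair.rank]

end Cfsg.Agent.S0323
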