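import Cfsg.Statements.S0335
import Cfsg.Agent.Sz.Order

set_option autoImplicit false
open Cfsg

namespace Cfsg.Agent.S0335

/-- The Suzuki–Tits point set is an ovoid: any three distinct points of it are projectively independent
(no line of projective 3-space meets it in more than two points). -/
theorem result {F : Type*} [Field F] [Fintype F] {m : ℕ} (hm : 1 ≤ m)
    (hF : Fintype.card F = 2 ^ (2 * m + 1)) (p : Fin 3 ↪ Cfsg.suzukiOvoid F m) :
    Projectivization.Independent (fun i => (p i : Projectivization F (Fin 4 → F))) := by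
  let c := CL.Sz.Ctx.mk hm hF
  have h01 : p 0 ≠ p 1 := fun h => absurd (p.injective h) (by decide)
  have h02 : p 0 ≠ p 2 := fun h => absurd (p.injective h) (by decide)
  have h12 : p 1 ≠ p 2 := fun h => absurd (p.injective h) (by decide)
  obtain ⟨g, h0, h1⟩ := c.exists_smul_pair h01
  have hne : g⁻¹ • p 2 ≠ CL.Sz.inf F m := by
    rw [Ne, inv_smul_eq_iff, h0]; exact h02.symm
  obtain ⟨x, y, e⟩ := CL.Sz.exists_pt_of_ne_inf hne
  have h2 : g • CL.Sz.pt m x y = p 2 := by rw [← e, smul_inv_smul]
  have hxy : ¬ (x = 0 ∧ y = 0) := by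
    rintro ⟨rfl, rfl⟩
    exact h12 (h1.symm.trans h2)
  let f : Fin 3 → Fin 4 → F := ![![1, 0, 0, 0], CL.Sz.vec m 0 0, CL.Sz.vec m x y]
  have hf : LinearIndependent F f := by
    rw [Fintype.linearIndependent_iff]
    intro a ha
    have e0 := congrFun ha 0
    have e1 := congrFun ha 1
    have e2 := congrFun ha 2
    have e3 := congrFun ha 3
    simp [f, Fin.sum_univ_succ, CL.Sz.vec, CL.Sz.fo_zero] at e0 e1 e2 e3
    have a2 : a 2 = 0 := by
      by_contra h
      exact hxy ⟨e2.resolve_left h, e1.resolve_left h⟩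
    intro i
    fin_cases i
    · simpa [a2] using e0
    · simpa [a2] using e3
    · exact a2
  let L : (Fin 4 → F) ≃ₗ[F] (Fin 4 → F) :=
    DistribMulAction.toLinearEquiv F _ (g : Matrix.SpecialLinearGroup (Fin 4) F)
  have hf' : LinearIndependent F (L.toLinearMap ∘ f) := hf.map' _ (LinearEquiv.ker L)
  have := Projectivization.Independent.mk _ (fun i => hf'.ne_zero i) hf'
  convert this using 2 with i
  fin_cases i
  · exact (congrArg Subtype.val h0).symm
  · exact (congrArg Subtype.val h1).symm
  · exact (congrArg Subtype.val h2).symm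

end Cfsg.Agent.S0335
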