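import Cfsg.Statements.S0347
import Cfsg.Agent.Base
import Cfsg.Agent.RankOneRec.ZT

set_option autoImplicit false
open Cfsg

namespace Cfsg.Agent.S0347

/-- If in a finite simple Zassenhaus group the stabiliser of a point `x` has a normal `2`-subgroup `U` which is
non-abelian and acts regularly on the points other than `x`, then the group is simple of Suzuki order (order-level
predicate `IsSuzuki`). -/
theorem result {G Ω : Type*} [Group G] [Finite G] [MulAction G Ω] [Finite Ω]
    (hZ : Cfsg.IsZassenhausGroup G Ω) [IsSimpleGroup G]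
    (x : Ω) (U : Subgroup G) (hUle : U ≤ MulAction.stabilizer G x) (hUn : (U.subgroupOf (MulAction.stabilizer G x)).Normal)
    (hU2 : IsPGroup 2 U) (hUna : ∃ u v : U, u * v ≠ v * u)
    (hreg : ∀ y z : Ω, y ≠ x → z ≠ x → ∃! u : U, (u : G) • y = z) :
    Cfsg.IsSuzuki G := by
  obtain ⟨b, hb⟩ := (CL.Zass.pre_of_zass hZ).exists_ne x
  obtain ⟨t, rfl, hS, hD, hq⟩ := CL.ROR.setup_of_zass hZ hb.symm hUle hreg hU2
  obtain ⟨n, ⟨m, rfl⟩, hn1, hZ', hQ, -⟩ := CL.ROR.zt_card hS hD hU2 hUna hq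
  refine ⟨inferInstance, m, by omega, ?_⟩
  have hDc : Nat.card (CL.RankOne.DD x t) = Nat.card (CL.RankOne.KK x t) :=
    Nat.card_congr (Equiv.subtypeEquivRight fun y => ⟨hD y, fun h => h.1⟩)
  have := CL.ROR.card_QZ_eq hS
  rw [← hDc, hZ'] at this
  rw [CL.RankOne.card_G hS, hQ, Nat.eq_sub_of_add_eq this.symm]
  ring

end Cfsg.Agent.S0347
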