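import Cfsg.Statements.S0340
import Cfsg.Agent.Base
import Cfsg.Agent.Zass.Classify
import Cfsg.Agent.S0347

set_option autoImplicit false
open Cfsg

namespace Cfsg.Agent.S0340

/-- Classification of Zassenhaus groups, simple case, order-level form: a finite simple Zassenhaus group is
isomorphic to `PSL₂(F)` for some finite field `F` or is simple of Suzuki order. -/
theorem result {G Ω : Type*} [Group G] [Finite G] [MulAction G Ω]
    [Finite Ω] (hZ : Cfsg.IsZassenhausGroup G Ω) [IsSimpleGroup G] :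
    (∃ (F : Type) (_ : Field F) (_ : Fintype F), Nonempty (G ≃* Matrix.ProjectiveSpecialLinearGroup (Fin 2) F)) ∨ Cfsg.IsSuzuki G := by
  have h := CL.Zass.pre_of_zass hZ
  obtain ⟨a⟩ := h.nonempty
  obtain ⟨F, hF⟩ := h.exists_isKer a
  rcases CL.Zass.simple_dichotomy hZ hF with ⟨K, _, _, -, hK⟩ | ⟨h1, h2⟩
  · exact Or.inl ⟨K, inferInstance, inferInstance, hK⟩
  · refine Or.inr (Cfsg.Agent.S0347.result hZ a F hF.le hF.normal h1 ?_ (hF.regular h))
    by_contra hc
    push Not at hc
    exact h2 ⟨⟨hc⟩⟩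

end Cfsg.Agent.S0340
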