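import Cfsg.Statements.S0344
import Cfsg.Agent.Base
import Cfsg.Agent.Zass.Sharp3Even

set_option autoImplicit false
open Cfsg

namespace Cfsg.Agent.S0344

/-- A finite simple Zassenhaus group with a two-point stabiliser of even order is isomorphic to `PSL₂(F)` for a finite
field `F` with more than three elements. -/
theorem result {G Ω : Type*} [Group G] [Finite G] [MulAction G Ω] [Finite Ω]
    (hZ : Cfsg.IsZassenhausGroup G Ω) [IsSimpleGroup G]
    {a b : Ω} (hab : a ≠ b) (heven : Even (Nat.card ↥(MulAction.stabilizer G a ⊓ MulAction.stabilizer G b))) :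
    ∃ (F : Type) (_ : Field F) (_ : Fintype F), 3 < Fintype.card F ∧ Nonempty (G ≃* Matrix.ProjectiveSpecialLinearGroup (Fin 2) F) := by
  have h := CL.Zass.pre_of_zass hZ
  obtain ⟨h1, h2⟩ := h.inverts_of_even_small hab heven
    (CL.Zass.two_mul_eq_of_simple_of_even h hab heven)
  obtain ⟨s, -, hsa, hsb⟩ := h.exists_swap hab
  obtain ⟨K, _, _, hK, hG⟩ := h.psl_of_half hab h1 hsa hsb (h2 s hsa hsb)
  refine ⟨K, inferInstance, inferInstance, ?_, hG⟩
  have := CL.Zass.one_lt_card_st2_of_zass hZ hab
  omega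

end Cfsg.Agent.S0344
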