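import Cfsg.Statements.S0346
import Cfsg.Agent.Base
import Cfsg.Agent.Zass.Feit

set_option autoImplicit false
open Cfsg

namespace Cfsg.Agent.S0346

/-- The number of points of a finite simple Zassenhaus group is `p^k + 1` for some prime power `p^k` (the regular normal
subgroup of a point stabiliser is a `p`-group). -/
theorem result {G Ω : Type*} [Group G] [Finite G] [MulAction G Ω] [Fintype Ω]
    (hZ : Cfsg.IsZassenhausGroup G Ω) [IsSimpleGroup G] :
    IsPrimePow (Fintype.card Ω - 1) := by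
  have hP := CL.Zass.pre_of_zass hZ
  obtain ⟨a⟩ := hP.nonempty
  obtain ⟨F, hF⟩ := hP.exists_isKer a
  obtain ⟨p, hp, hF'⟩ := CL.Zass.exists_isPGroup_ker hZ hF
  obtain ⟨f, hf, hc⟩ := hF.card_eq_prime_pow hP hp hF'
  rw [← Nat.card_eq_fintype_card, hc, Nat.add_sub_cancel]
  exact (isPrimePow_nat_iff _).2 ⟨p, f, hp, hf, rfl⟩

end Cfsg.Agent.S0346
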