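import Cfsg.Agent.Base
import Cfsg.Statements.S0353
import Cfsg.Agent.Spor.SteinerGolay

set_option autoImplicit false
open Cfsg

namespace Cfsg.Agent.S0353

/-- In an S(5, 8, 24), the symmetric difference of two blocks meeting in four points is a block. -/
theorem result {α : Type*} [Fintype α] [DecidableEq α] (hα : Fintype.card α = 24) {B : Set (Finset α)} (hB : Cfsg.IsSteinerSystem 5 8 B) {b c : Finset α} (hb : b ∈ B) (hc : c ∈ B) (h4 : (b ∩ c).card = 4) : symmDiff b c ∈ B := by
  obtain ⟨e, -, he⟩ := CL.Steiner.exists_iso24 hα hB (n := 0) (by norm_num)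
    ⟨Fin.elim0, fun i => i.elim0⟩ ⟨Fin.elim0, fun i => i.elim0⟩
  have hb' : b.image e ∈ Cfsg.octads := he ▸ ⟨b, hb, rfl⟩
  have hc' : c.image e ∈ Cfsg.octads := he ▸ ⟨c, hc, rfl⟩
  have h1 : (symmDiff b c).image e ∈ CL.Steiner.imageFam e B := by
    rw [he]
    refine ⟨?_, ?_⟩
    · rw [Finset.image_symmDiff _ _ e.injective]
      exact CL.Golay.symmDiff_mem_CSet hb'.1 hc'.1
    · have := CL.Golay.card_symmDiff_add b c
      rw [Finset.card_image_of_injective _ e.injective]
      rw [hB.1 b hb, hB.1 c hc, h4] at this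
      omega
  obtain ⟨d, hd, hde⟩ := h1
  rwa [← Finset.image_injective e.injective hde]

end Cfsg.Agent.S0353
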