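import Cfsg.Statements.S0371
import Cfsg.Agent.Base
import Cfsg.Agent.Spor.GolayPerm

set_option autoImplicit false
open Cfsg

namespace Cfsg.Agent.S0371
open CL.Golay

/-- Multiplication by a nonzero square residue modulo 23, fixing the extra point, lies in the group of the length-24 code. -/
theorem result (u : (ZMod 23)ˣ) (hu : IsSquare u) : Equiv.optionCongr (Units.mulLeft u) ∈ Cfsg.M24 := by
  obtain ⟨r, rfl⟩ := hu
  have key : ∀ r : ZMod 23, r ≠ 0 →
      isM24 (packN (fun i => if i = 23 then 23 else (r * r).val * i % 23) 24) = true ∧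
      ∀ p : GolayPt, idx (Option.map (fun x => r * r * x) p) =
        app (packN (fun i => if i = 23 then 23 else (r * r).val * i % 23) 24) (idx p) := by
    decide +kernel
  haveI : Fact (Nat.Prime 23) := ⟨by norm_num⟩
  obtain ⟨h1, h2⟩ := key r r.ne_zero
  refine Rep.mem_M24 (fun p => ?_) h1
  rw [← h2]
  cases p <;> rfl

end Cfsg.Agent.S0371
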