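import Cfsg.Agent.Base
import Cfsg.Statements.S0375
import Cfsg.Agent.Spor.SteinerEmb

set_option autoImplicit false
open Cfsg

namespace Cfsg.Agent.S0375

open Finset CL.Golay CL.Steiner in
theorem cover {α : Type*} [Fintype α] [DecidableEq α] (hα : Fintype.card α = 24) (p₀ : α)
    {X : Set (Finset α)} (hX : X.ncard = 4096)
    (hs : ∀ x ∈ X, ∀ y ∈ X, symmDiff x y ∈ X) (hw : ∀ x ∈ X, x.card < 8 → x = ∅)
    (s : Finset α) (hs5 : s.card = 5) (h0 : p₀ ∈ s) : ∃ x ∈ X, x.card = 8 ∧ s ⊆ x := by
  let U : Finset α := univ.erase p₀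
  have hU : U.card = 23 := by simp [U, hα]
  let D := blk X ×ˢ (range 4).sigma fun i => powersetCard i U
  let f : Finset α × (Σ _ : ℕ, Finset α) → Finset α :=
    fun p => (symmDiff p.1 p.2.2).erase p₀
  have hD : ∀ p ∈ D, p.1 ∈ X ∧ p.2.2.card = p.2.1 ∧ p.2.1 < 4 ∧ p₀ ∉ p.2.2 := by
    intro p hp
    simp only [D, mem_product, mem_blk, mem_sigma, mem_range, mem_powersetCard] at hp
    exact ⟨hp.1, hp.2.2.2, hp.2.1, fun h => by simpa [U] using hp.2.2.1 h⟩
  have hinj : Set.InjOn f D := by
    rintro ⟨c, i, e⟩ hp ⟨c', i', e'⟩ hp' h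
    obtain ⟨h1, h2, h3, h4⟩ := hD _ hp
    obtain ⟨h1', h2', h3', h4'⟩ := hD _ hp'
    simp only at h1 h2 h3 h4 h1' h2' h3' h4'
    have h' : ∀ x, x ≠ p₀ → (x ∈ symmDiff c e ↔ x ∈ symmDiff c' e') := fun x hx => by
      simpa [f, hx] using Finset.ext_iff.1 h x
    have hsub : symmDiff c c' ⊆ insert p₀ (e ∪ e') := fun x hx => by
      by_contra hx'
      simp only [mem_insert, mem_union, not_or] at hx'
      have := h' x hx'.1
      simp only [mem_symmDiff, hx'.2.1, hx'.2.2] at this hx
      tauto
    have hc : c = c' := by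
      have := hw _ (hs c h1 c' h1') (by
        have := card_le_card hsub
        have := card_insert_le p₀ (e ∪ e')
        have := card_union_le e e'
        omega)
      rwa [← bot_eq_empty, symmDiff_eq_bot] at this
    subst hc
    have he : e = e' := by
      ext x
      by_cases hx : x = p₀
      · subst hx; exact iff_of_false h4 h4'
      · have := h' x hx
        simp only [mem_symmDiff] at this
        tauto
    subst he
    subst h2
    subst h2'
    rfl
  have himg : D.image f = U.powerset := by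
    apply eq_of_subset_of_card_le
    · intro x hx
      obtain ⟨p, -, rfl⟩ := mem_image.1 hx
      exact mem_powerset.2 (erase_subset_erase _ (subset_univ _))
    · rw [card_image_of_injOn hinj, card_powerset, card_product, ← ncard_eq_blk, hX, card_sigma, hU]
      simp only [card_powersetCard, hU]
      decide +kernel
  have : s.erase p₀ ∈ D.image f := by
    rw [himg]; exact mem_powerset.2 (erase_subset_erase _ (subset_univ _))
  obtain ⟨⟨c, i, e⟩, hp, h⟩ := mem_image.1 this
  obtain ⟨h1, h2, h3, h4⟩ := hD _ hp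
  simp only at h1 h2 h3 h4
  have h' : ∀ x, x ≠ p₀ → (x ∈ symmDiff c e ↔ x ∈ s) := fun x hx => by
    simpa [f, hx] using Finset.ext_iff.1 h x
  have hsub : c ⊆ s ∪ e := fun x hx => by
    by_cases hx0 : x = p₀
    · subst hx0; exact mem_union_left _ h0
    · have := h' x hx0
      simp only [mem_symmDiff, mem_union] at this ⊢
      tauto
  have hc8 : 8 ≤ c.card := by
    by_contra hlt
    have := hw c h1 (by omega)
    subst this
    have hsub' : s ⊆ insert p₀ e := fun x hx => by
      by_cases hx0 : x = p₀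
      · subst hx0; exact mem_insert_self _ _
      · have := h' x hx0
        simp only [mem_symmDiff, notMem_empty] at this
        exact mem_insert_of_mem (by tauto)
    have := card_le_card hsub'
    have := card_insert_le p₀ e
    omega
  have hle := card_union_le s e
  have hceq : c = s ∪ e := eq_of_subset_of_card_le hsub (by omega)
  refine ⟨c, h1, ?_, hceq ▸ subset_union_left⟩
  have := card_le_card hsub
  omega

/-- A doubly even self-dual binary code of length 24 with no words of weight 4 is equivalent to the length-24 code built from the squares modulo 23. -/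
theorem result (C : Submodule (ZMod 2) (Fin 24 → ZMod 2)) (hdim : Module.finrank (ZMod 2) C = 12) (horth : ∀ v ∈ C, ∀ w ∈ C, ∑ i, v i * w i = 0) (h4 : ∀ w ∈ C, 4 ∣ hammingNorm w) (hno4 : ∀ w ∈ C, hammingNorm w ≠ 4) : ∃ e : Fin 24 ≃ Cfsg.GolayPt, ∀ w : Cfsg.GolayPt → ZMod 2, w ∈ Cfsg.golayCode ↔ (fun i => w (e i)) ∈ C := by
  have hcard : (supports (C : Set (Fin 24 → ZMod 2))).ncard = 4096 := by
    have h := Module.natCard_eq_pow_finrank (K := ZMod 2) (V := C)
    rw [hdim, Nat.card_zmod] at h
    rw [supports, Set.ncard_image_of_injective _ CL.Golay.support₂_injective]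
    exact h
  have hs : ∀ x ∈ supports (C : Set (Fin 24 → ZMod 2)), ∀ y ∈ supports (C : Set (Fin 24 → ZMod 2)),
      symmDiff x y ∈ supports (C : Set (Fin 24 → ZMod 2)) := by
    rintro _ ⟨v, hv, rfl⟩ _ ⟨w, hw, rfl⟩
    exact ⟨v + w, add_mem hv hw, CL.Golay.support₂_add v w⟩
  have h4' : ∀ x ∈ supports (C : Set (Fin 24 → ZMod 2)), 4 ∣ x.card := by
    rintro _ ⟨v, hv, rfl⟩
    rw [CL.Golay.card_support₂]; exact h4 v hv
  have hw : ∀ x ∈ supports (C : Set (Fin 24 → ZMod 2)), x.card < 8 → x = ∅ := by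
    rintro _ ⟨v, hv, rfl⟩ hlt
    have h1 := h4 v hv
    have h2 := hno4 v hv
    rw [← Finset.card_eq_zero]
    rw [CL.Golay.card_support₂] at hlt ⊢
    omega
  obtain ⟨e, -, he⟩ := CL.Steiner.exists_equiv_CSet' (α := Fin 24) (by simp) h4' (by
      rintro _ ⟨v, hv, rfl⟩ _ ⟨w, hw, rfl⟩
      rw [← ZMod.natCast_eq_zero_iff_even, ← CL.Golay.sum_ind_mul_ind, CL.Golay.ind_support,
        CL.Golay.ind_support]
      exact horth v hv w hw) (by
      intro x hx y hy hx8 hy8 hne
      have h1 := CL.Golay.card_symmDiff_add x y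
      by_contra hlt
      have := hw _ (hs x hx y hy) (by omega)
      rw [← Finset.bot_eq_empty, symmDiff_eq_bot] at this
      exact hne this) {0} (by simp)
    (fun s hs5 h0 => cover (by simp) 0 hcard hs hw s hs5 (Finset.singleton_subset_iff.1 h0))
    (κ := Fin 0) (by simp) ⟨Fin.elim0, fun i => i.elim0⟩ ⟨Fin.elim0, fun i => i.elim0⟩
  have heq : CL.Steiner.imageFam e (supports (C : Set (Fin 24 → ZMod 2))) = CL.Golay.CSet := by
    apply Set.eq_of_subset_of_ncard_le
    · rintro _ ⟨x, hx, rfl⟩
      exact he x hx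
    · rw [CL.Golay.ncard_CSet_eq, CL.Steiner.imageFam,
        Set.ncard_image_of_injective _ (Finset.image_injective e.injective), hcard]
    · exact Set.toFinite _
  refine ⟨e, fun w => ?_⟩
  rw [← CL.Golay.support_mem_CSet_iff, ← heq, CL.Steiner.mem_imageFam_equiv,
    ← SetLike.mem_coe (p := C), ← CL.Golay.support_mem_supports_iff]
  congr! 1
  ext i
  obtain ⟨p, rfl⟩ := e.symm.surjective i
  rw [e.symm.injective.mem_finset_image]
  simp

end Cfsg.Agent.S0375
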