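import Cfsg.Statements.S0384
import Cfsg.Agent.Base
import Cfsg.Agent.Spor.M12

set_option autoImplicit false
open scoped Pointwise
open Cfsg

namespace Cfsg.Agent.S0384

/-- A dodecad stabiliser is sharply 5-transitive on the dodecad. -/
theorem result (d : Finset Cfsg.GolayPt) (hd : d ∈ Cfsg.dodecads) (x y : Fin 5 ↪ Cfsg.GolayPt) (hx : ∀ i, x i ∈ d) (hy : ∀ i, y i ∈ d) : ∃! g : MulAction.stabilizer Cfsg.M24 d, ∀ i, ((g : Cfsg.M24) : Equiv.Perm Cfsg.GolayPt) (x i) = y i := by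
  obtain ⟨g, hg, h⟩ := CL.M12.exists_smul_five hd x.injective y.injective hx hy
  refine ⟨⟨⟨g, hg.1⟩, hg.2⟩, h, fun g' h' => ?_⟩
  apply Subtype.ext; apply Subtype.ext
  have h1 : g⁻¹ * g'.1.1 = 1 := by
    refine CL.M12.eq_one_of_fix_five hd x.injective hx
      (mul_mem (inv_mem hg) (show g'.1.1 ∈ CL.M12.stabS d from ⟨g'.1.2, g'.2⟩)) fun i => ?_
    rw [Equiv.Perm.mul_apply, h' i, ← h i]
    simp
  exact (inv_mul_eq_one.1 h1).symm

end Cfsg.Agent.S0384
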