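import Cfsg.Statements.S0385
import Cfsg.Agent.Base
import Cfsg.Agent.Spor.GolaySteiner

set_option autoImplicit false
open Cfsg

namespace Cfsg.Agent.S0385
open CL.Golay

/-- The 6-point intersections of octads with a fixed dodecad form a Steiner system S(5, 6, 12) on the dodecad. -/
theorem result (d : Finset Cfsg.GolayPt) (hd : d ∈ Cfsg.dodecads) : Cfsg.IsSteinerSystem 5 6 {h : Finset {p : Cfsg.GolayPt // p ∈ d} | ∃ o ∈ Cfsg.octads, (o ∩ d).card = 6 ∧ h = Finset.subtype (fun p => p ∈ d) o} := by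
  have hinj : Set.InjOn (fun o : Finset GolayPt => o.subtype (fun p => p ∈ d))
      {o | o ∈ octads ∧ (o ∩ d).card = 6} := by
    intro o ho o' ho' h
    have h1 : o ∩ d = o' ∩ d := by
      ext p
      simp only [Finset.mem_inter]
      constructor
      · rintro ⟨h1, h2⟩
        have : (⟨p, h2⟩ : {p // p ∈ d}) ∈ o.subtype (fun p => p ∈ d) := Finset.mem_subtype.2 h1
        simp only at h
        rw [h] at this
        exact ⟨Finset.mem_subtype.1 this, h2⟩
      · rintro ⟨h1, h2⟩
        have : (⟨p, h2⟩ : {p // p ∈ d}) ∈ o'.subtype (fun p => p ∈ d) := Finset.mem_subtype.2 h1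
        simp only at h
        rw [← h] at this
        exact ⟨Finset.mem_subtype.1 this, h2⟩
    exact octad_eq_of_subset ho.1 ho'.1 (s := o ∩ d) (by rw [ho.2]; norm_num)
      Finset.inter_subset_left (h1 ▸ Finset.inter_subset_left)
  have hcard : ∀ o : Finset GolayPt, (o.subtype (fun p => p ∈ d)).card = (o ∩ d).card := by
    intro o
    rw [Finset.card_subtype, Finset.filter_mem_eq_inter]
  apply isSteinerSystem_of_count
  · rintro _ ⟨o, -, h6, rfl⟩
    rw [hcard, h6]
  · rintro _ ⟨o, ho, h6, rfl⟩ _ ⟨o', ho', h6', rfl⟩ h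
    have e : o.subtype (fun p => p ∈ d) ∩ o'.subtype (fun p => p ∈ d) =
        (o ∩ o').subtype (fun p => p ∈ d) := by
      ext p; simp
    rw [e, hcard] at h
    rw [octad_eq_of_five_le ho ho' (h.trans (Finset.card_le_card Finset.inter_subset_left))]
  · have e : {h : Finset {p : Cfsg.GolayPt // p ∈ d} | ∃ o ∈ Cfsg.octads, (o ∩ d).card = 6 ∧
        h = Finset.subtype (fun p => p ∈ d) o} =
        (fun o : Finset GolayPt => o.subtype (fun p => p ∈ d)) ''
          {o | o ∈ octads ∧ (o ∩ d).card = 6} := by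
      ext h
      constructor
      · rintro ⟨o, ho, h6, rfl⟩; exact ⟨o, ⟨ho, h6⟩, rfl⟩
      · rintro ⟨o, ⟨ho, h6⟩, rfl⟩; exact ⟨o, ho, h6, rfl⟩
    rw [e, hinj.ncard_image, (ncard_octads_inter_dodecad hd).1, Fintype.card_coe,
      hd.2]
    decide +kernel

end Cfsg.Agent.S0385
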