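import Cfsg.Statements.S1634
import Cfsg.Agent.Base
import Cfsg.Agent.Spor.CoOrbSmall

set_option autoImplicit false
open Cfsg

namespace Cfsg.Agent.S1634

/-- The McLaughlin group acts on 2025 points (minimal vectors orthogonal to v with customary inner product 2 with w) transitively with rank 4 and subdegrees 1, 330, 462, 1232. -/
theorem result (v w : ↥Cfsg.leechLattice) (hv : Cfsg.sqNorm (v : Cfsg.GolayPt → ℤ) = 32) (hw : Cfsg.sqNorm (w : Cfsg.GolayPt → ℤ) = 32) (hvw : Cfsg.dotInt (v : Cfsg.GolayPt → ℤ) (w : Cfsg.GolayPt → ℤ) = -8) : {x : ↥Cfsg.leechLattice | Cfsg.sqNorm (x : Cfsg.GolayPt → ℤ) = 32 ∧ Cfsg.dotInt (v : Cfsg.GolayPt → ℤ) (x : Cfsg.GolayPt → ℤ) = 0 ∧ Cfsg.dotInt (w : Cfsg.GolayPt → ℤ) (x : Cfsg.GolayPt → ℤ) = 16}.ncard = 2025 ∧ (∀ x ∈ {x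 : ↥Cfsg.leechLattice | Cfsg.sqNorm (x : Cfsg.GolayPt → ℤ) = 32 ∧ Cfsg.dotInt (v : Cfsg.GolayPt → ℤ) (x : Cfsg.GolayPt → ℤ) = 0 ∧ Cfsg.dotInt (w : Cfsg.GolayPt → ℤ) (x : Cfsg.GolayPt → ℤ) = 16}, ∀ x' ∈ {x : ↥Cfsg.leechLattice | Cfsg.sqNorm (x : Cfsg.GolayPt → ℤ) = 32 ∧ Cfsg.dotInt (v : Cfsg.GolayPt → ℤ) (x : Cfsg.GolayPt → ℤ) = 0 ∧ Cfsg.dotInt (w : Cfsg.GolayPt → ℤ) (x : Cfsg.GolayPt → ℤ) = 16}, ∃ g : ↥Cfsg.Co0, g • v = v ∧ g • w = w ∧ g • x = x') ∧ ∀ x ∈ {x : ↥Cfsg.leechLattice | Cfsg.sqNorm (x : Cfsg.GolayPt → ℤ) = 32 ∧ Cfsg.dotInt (v : Cfsg.GolayPt → ℤ) (x : Cfsg.GolayPt → ℤ) = 0 ∧ Cfsg.dotInt (w : Cfsg.GolayPt → ℤ) (x : Cfsg.GolayPt → ℤ) = 16}, ∃ y₁ ∈ {x : ↥Cfsg.leechLattice | Cfsg.sqNorm (x : Cfsg.GolayPt → ℤ) = 32 ∧ Cfsg.dotInt (v : Cfsg.GolayPt →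 ℤ) (x : Cfsg.GolayPt → ℤ) = 0 ∧ Cfsg.dotInt (w : Cfsg.GolayPt → ℤ) (x : Cfsg.GolayPt → ℤ) = 16}, ∃ y₂ ∈ {x : ↥Cfsg.leechLattice | Cfsg.sqNorm (x : Cfsg.GolayPt → ℤ) = 32 ∧ Cfsg.dotInt (v : Cfsg.GolayPt → ℤ) (x : Cfsg.GolayPt → ℤ) = 0 ∧ Cfsg.dotInt (w : Cfsg.GolayPt → ℤ) (x : Cfsg.GolayPt → ℤ) = 16}, ∃ y₃ ∈ {x : ↥Cfsg.leechLattice | Cfsg.sqNorm (x : Cfsg.GolayPt → ℤ) = 32 ∧ Cfsg.dotInt (v : Cfsg.GolayPt → ℤ) (x : Cfsg.GolayPt → ℤ) = 0 ∧ Cfsg.dotInt (w : Cfsg.GolayPt → ℤ) (x : Cfsg.GolayPt → ℤ) = 16}, (MulAction.orbit ↥(MulAction.stabilizer ↥Cfsg.Co0 v ⊓ MulAction.stabilizer ↥Cfsg.Co0 w ⊓ MulAction.stabilizer ↥Cfsg.Co0 x) y₁).ncard = 330 ∧ (MulAction.orbit ↥(MulAction.stabilizer ↥Cfsg.Co0 v ⊓ MulAction.stabilizer ↥Cfsg.Co0 w ⊓ MulAction.stabilizer ↥Cfsg.Co0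 x) y₂).ncard = 462 ∧ (MulAction.orbit ↥(MulAction.stabilizer ↥Cfsg.Co0 v ⊓ MulAction.stabilizer ↥Cfsg.Co0 w ⊓ MulAction.stabilizer ↥Cfsg.Co0 x) y₃).ncard = 1232 := by
  refine ⟨CL.Co.ncard_2025 hv hw hvw, fun x hx x' hx' => CL.Co.trans_2025 hv hw hvw hx hx',
    fun x hx => ?_⟩
  have key : ∀ (c : ℤ) (n : ℕ), {y | CL.Co.nrm y = 32 ∧ (CL.Co.ip v y = 0 ∧ CL.Co.ip w y = 16) ∧
      CL.Co.ip x y = c}.ncard = n + 1 → ∃ y, (CL.Co.nrm y = 32 ∧ CL.Co.ip v y = 0 ∧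
        CL.Co.ip w y = 16) ∧ (MulAction.orbit ↥(MulAction.stabilizer Co0 v ⊓
          MulAction.stabilizer Co0 w ⊓ MulAction.stabilizer Co0 x) y).ncard = n + 1 := by
    intro c n h
    obtain ⟨y, hy, ⟨hy1, hy2⟩, hy3⟩ := Set.nonempty_of_ncard_ne_zero (h.trans_ne (Nat.succ_ne_zero n))
    refine ⟨y, ⟨hy, hy1, hy2⟩, ?_⟩
    rw [← h]
    congr 1
    refine CL.Co.orbit_eq_of ?_ ?_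
    · rintro g ⟨⟨g1, g2⟩, g3⟩
      simp only [Set.mem_ofPred_eq, CL.Co.nrm_smul, CL.Co.ip_smul_of_fix g1,
        CL.Co.ip_smul_of_fix g2, CL.Co.ip_smul_of_fix g3]
      exact ⟨hy, ⟨hy1, hy2⟩, hy3⟩
    · rintro z ⟨hz, ⟨hz1, hz2⟩, hz3⟩
      obtain ⟨g, g1, g2, g3, g4⟩ := CL.Co.sub_2025_trans hv hw hvw hx ⟨hy, hy1, hy2⟩
        ⟨hz, hz1, hz2⟩ (hy3.trans hz3.symm)
      exact ⟨g, ⟨⟨g1, g2⟩, g3⟩, g4⟩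
  obtain ⟨h1, h2, h3⟩ := CL.Co.sub_2025_ncard hv hw hvw hx
  obtain ⟨y1, a1, b1⟩ := key _ _ h1
  obtain ⟨y2, a2, b2⟩ := key _ _ h2
  obtain ⟨y3, a3, b3⟩ := key _ _ h3
  exact ⟨y1, a1, y2, a2, y3, a3, b1, b2, b3⟩

end Cfsg.Agent.S1634
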