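import Cfsg.Statements.S1588
import Cfsg.Agent.Base
-- import your own Cfsg.Agent.* helpers here

set_option autoImplicit false
open Matrix
open Cfsg

namespace Cfsg.Agent.S1588

/-- Second step of the characterisation: under the vector counts of the rank-24 lattice, the norm-8 vectors fall into congruence classes of exactly 48 modulo twice the lattice. -/
theorem result (B : Matrix (Fin 24) (Fin 24) ℤ) (hsymm : B.IsSymm) (hpos : ∀ x : Fin 24 → ℤ, x ≠ 0 → 0 < x ⬝ᵥ (B *ᵥ x)) (heven : ∀ x : Fin 24 → ℤ, (2 : ℤ) ∣ x ⬝ᵥ (B *ᵥ x)) (h2 : ∀ x : Fin 24 → ℤ, x ⬝ᵥ (B *ᵥ x) ≠ 2) (h4 : {x : Fin 24 → ℤ | x ⬝ᵥ (B *ᵥ x) = 4}.ncard = 196560) (h6 : {x : Fin 24 → ℤ | x ⬝ᵥ (B *ᵥ x) = 6}.ncard = 16773120) (h8 : {x : Fin 24 → ℤ | x ⬝ᵥ (B *ᵥ x) = 8}.ncard = 398034000) (x : Fin 24 → ℤ) (hx : x ⬝ᵥ (B *ᵥ x) = 8) : {y : Fin 24 → ℤ | y ⬝ᵥ (B *ᵥ y) = 8 ∧ ∀ i, (2 : ℤ) ∣ (x - y) i}.ncard = 48 := by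
  classical
  have hs : ∀ u v : Fin 24 → ℤ, u ⬝ᵥ (B *ᵥ v) = v ⬝ᵥ (B *ᵥ u) := by
    intro u v
    rw [Matrix.dotProduct_mulVec, ← Matrix.mulVec_transpose, hsymm.eq, dotProduct_comm]
  have hge : ∀ z : Fin 24 → ℤ, z ≠ 0 → 4 ≤ z ⬝ᵥ (B *ᵥ z) := by
    intro z hz
    have h1 := hpos z hz
    have h3 := h2 z
    obtain ⟨k, hk⟩ := heven z
    omega
  -- congruent short vectors
  have key : ∀ u v : Fin 24 → ℤ, u ⬝ᵥ (B *ᵥ u) ≤ 8 → v ⬝ᵥ (B *ᵥ v) ≤ 8 →
      (∀ i, (2 : ℤ) ∣ (u - v) i) → v = u ∨ v = -u ∨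
        (u ⬝ᵥ (B *ᵥ u) = 8 ∧ v ⬝ᵥ (B *ᵥ v) = 8 ∧ u ⬝ᵥ (B *ᵥ v) = 0) := by
    intro u v hu hv hc
    choose z hz using hc
    have hxz : u = v + (2 : ℤ) • z := by
      funext i
      have := hz i
      simp only [Pi.sub_apply] at this
      simp only [Pi.add_apply, Pi.smul_apply, smul_eq_mul]
      linarith
    by_cases hz0 : z = 0
    · left
      rw [hxz, hz0]; simp
    by_cases hw0 : v + z = 0
    · right; left
      have : z = -v := by
        have := hw0
        rw [add_comm] at this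
        exact eq_neg_of_add_eq_zero_left this
      rw [hxz, this]
      funext i
      simp only [Pi.add_apply, Pi.smul_apply, smul_eq_mul, Pi.neg_apply]
      ring
    right; right
    have a1 := hge z hz0
    have a2 := hge _ hw0
    have e1 : u ⬝ᵥ (B *ᵥ u) = v ⬝ᵥ (B *ᵥ v) + 4 * (v ⬝ᵥ (B *ᵥ z)) + 4 * (z ⬝ᵥ (B *ᵥ z)) := by
      rw [hxz]
      simp only [Matrix.mulVec_add, Matrix.mulVec_smul, add_dotProduct, dotProduct_add,
        smul_dotProduct, dotProduct_smul, smul_eq_mul, hs z v]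
      ring
    have e2 : (v + z) ⬝ᵥ (B *ᵥ (v + z)) =
        v ⬝ᵥ (B *ᵥ v) + 2 * (v ⬝ᵥ (B *ᵥ z)) + (z ⬝ᵥ (B *ᵥ z)) := by
      simp only [Matrix.mulVec_add, add_dotProduct, dotProduct_add, hs z v]
      ring
    have e3 : u ⬝ᵥ (B *ᵥ v) = v ⬝ᵥ (B *ᵥ v) + 2 * (v ⬝ᵥ (B *ᵥ z)) := by
      rw [hxz]
      simp only [add_dotProduct, smul_dotProduct, smul_eq_mul, hs z v]
    omega
  let π : (Fin 24 → ℤ) → (Fin 24 → ZMod 2) := fun u i => (u i : ZMod 2)
  have hπ : ∀ u v : Fin 24 → ℤ, π u = π v ↔ ∀ i, (2 : ℤ) ∣ (u - v) i := by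
    intro u v
    rw [funext_iff]
    refine forall_congr' fun i => ?_
    show ((u i : ℤ) : ZMod 2) = ((v i : ℤ) : ZMod 2) ↔ _
    rw [eq_comm, ZMod.intCast_eq_intCast_iff_dvd_sub]
    rfl
  have hneg : ∀ u : Fin 24 → ℤ, (-u) ⬝ᵥ (B *ᵥ (-u)) = u ⬝ᵥ (B *ᵥ u) := by
    intro u; simp [Matrix.mulVec_neg]
  have f4 : {x : Fin 24 → ℤ | x ⬝ᵥ (B *ᵥ x) = 4}.Finite := Set.finite_of_ncard_ne_zero (by omega)
  have f6 : {x : Fin 24 → ℤ | x ⬝ᵥ (B *ᵥ x) = 6}.Finite := Set.finite_of_ncard_ne_zero (by omega)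
  have f8 : {x : Fin 24 → ℤ | x ⬝ᵥ (B *ᵥ x) = 8}.Finite := Set.finite_of_ncard_ne_zero (by omega)
  rw [Set.ncard_eq_toFinset_card _ f4] at h4
  rw [Set.ncard_eq_toFinset_card _ f6] at h6
  rw [Set.ncard_eq_toFinset_card _ f8] at h8
  set S4 := f4.toFinset with hS4
  set S6 := f6.toFinset with hS6
  set S8 := f8.toFinset with hS8
  have m4 : ∀ u, u ∈ S4 ↔ u ⬝ᵥ (B *ᵥ u) = 4 := fun u => by simp [hS4]
  have m6 : ∀ u, u ∈ S6 ↔ u ⬝ᵥ (B *ᵥ u) = 6 := fun u => by simp [hS6]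
  have m8 : ∀ u, u ∈ S8 ↔ u ⬝ᵥ (B *ᵥ u) = 8 := fun u => by simp [hS8]
  -- fibres of size at most two
  have small : ∀ (S : Finset (Fin 24 → ℤ)), (∀ u ∈ S, u ⬝ᵥ (B *ᵥ u) < 8) →
      S.card ≤ 2 * (S.image π).card := by
    intro S hS
    refine Finset.card_le_mul_card_image S 2 fun a ha => ?_
    obtain ⟨u, hu, rfl⟩ := Finset.mem_image.mp ha
    refine le_trans (Finset.card_le_card (t := {u, -u}) fun v hv => ?_) Finset.card_le_two
    obtain ⟨hv1, hv2⟩ := Finset.mem_filter.mp hv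
    have := key u v (hS u hu).le (hS v hv1).le ((hπ _ _).mp hv2.symm)
    have h8' := hS u hu
    rcases this with h | h | h
    · simp [h]
    · simp [h]
    · omega
  have c4 := small S4 fun u hu => by rw [(m4 u).mp hu]; norm_num
  have c6 := small S6 fun u hu => by rw [(m6 u).mp hu]; norm_num
  -- fibres of size at most 48
  have big : ∀ u ∈ S8, (S8.filter fun v => π v = π u).card ≤ 48 := by
    intro u hu
    set F := S8.filter fun v => π v = π u with hF
    set Fp := F.filter fun v => toLex (-v) < toLex v with hFp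
    have hneF : ∀ v ∈ F, -v ∈ F := by
      intro v hv
      obtain ⟨hv1, hv2⟩ := Finset.mem_filter.mp hv
      refine Finset.mem_filter.mpr ⟨(m8 _).mpr (by rw [hneg]; exact (m8 _).mp hv1), ?_⟩
      rw [← hv2, hπ]
      intro i
      exact ⟨-(v i), by simp only [Pi.sub_apply, Pi.neg_apply]; ring⟩
    have hsub : F ⊆ Fp ∪ Fp.image (fun v => -v) := by
      intro v hv
      rcases lt_trichotomy (toLex (-v)) (toLex v) with h | h | h
      · exact Finset.mem_union_left _ (Finset.mem_filter.mpr ⟨hv, h⟩)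
      · exfalso
        have h1 : -v = v := toLex.injective h
        have h0 : v = 0 := by
          funext i
          have := congrFun h1 i
          simp only [Pi.neg_apply] at this
          simp only [Pi.zero_apply]
          omega
        have := (m8 _).mp (Finset.mem_filter.mp hv).1
        rw [h0] at this
        simp at this
      · refine Finset.mem_union_right _ (Finset.mem_image.mpr ⟨-v, ?_, neg_neg v⟩)
        exact Finset.mem_filter.mpr ⟨hneF v hv, by rwa [neg_neg]⟩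
    have hli : LinearIndependent ℤ (fun v : Fp => (v : Fin 24 → ℤ)) := by
      rw [linearIndependent_iff']
      intro s g hsum i hi
      have hi8 : (i : Fin 24 → ℤ) ⬝ᵥ (B *ᵥ (i : Fin 24 → ℤ)) = 8 :=
        (m8 _).mp (Finset.mem_filter.mp (Finset.mem_filter.mp i.2).1).1
      have h0 : (∑ j ∈ s, g j • (j : Fin 24 → ℤ)) ⬝ᵥ (B *ᵥ (i : Fin 24 → ℤ)) = 0 := by
        rw [hsum]; simp
      rw [sum_dotProduct, Finset.sum_eq_single i] at h0
      · rw [smul_dotProduct, hi8, smul_eq_mul] at h0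
        omega
      · intro j _ hji
        obtain ⟨hj1, hj2⟩ := Finset.mem_filter.mp j.2
        obtain ⟨hi1, hi2⟩ := Finset.mem_filter.mp i.2
        obtain ⟨hj3, hj4⟩ := Finset.mem_filter.mp hj1
        obtain ⟨hi3, hi4⟩ := Finset.mem_filter.mp hi1
        have := key j i ((m8 _).mp hj3).le ((m8 _).mp hi3).le ((hπ _ _).mp (hj4.trans hi4.symm))
        rcases this with h | h | h
        · exact absurd (Subtype.ext h).symm hji
        · exfalso
          rw [h, neg_neg] at hi2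
          exact lt_asymm hi2 hj2
        · rw [smul_dotProduct, h.2.2, smul_zero]
      · intro h; exact absurd hi h
    have hcard : Fp.card ≤ 24 := by
      have := hli.fintype_card_le_finrank
      simpa using this
    calc F.card ≤ (Fp ∪ Fp.image (fun v => -v)).card := Finset.card_le_card hsub
      _ ≤ Fp.card + (Fp.image (fun v => -v)).card := Finset.card_union_le _ _
      _ ≤ Fp.card + Fp.card := Nat.add_le_add_left Finset.card_image_le _
      _ ≤ 48 := by omega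
  -- the images are disjoint
  have dis : ∀ (S T : Finset (Fin 24 → ℤ)) (a b : ℤ), a < b → b ≤ 8 →
      (∀ u ∈ S, u ⬝ᵥ (B *ᵥ u) = a) → (∀ u ∈ T, u ⬝ᵥ (B *ᵥ u) = b) →
      Disjoint (S.image π) (T.image π) := by
    intro S T a b hab hb hS hT
    rw [Finset.disjoint_left]
    intro c hc1 hc2
    obtain ⟨u, hu, rfl⟩ := Finset.mem_image.mp hc1
    obtain ⟨v, hv, hvu⟩ := Finset.mem_image.mp hc2
    have e1 := hS u hu
    have e2 := hT v hv
    rcases key u v (by omega) (by omega) ((hπ _ _).mp hvu.symm) with h | h | h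
    · rw [h] at e2; omega
    · rw [h, hneg] at e2; omega
    · omega
  have m0 : ∀ u ∈ ({0} : Finset (Fin 24 → ℤ)), u ⬝ᵥ (B *ᵥ u) = 0 := by
    intro u hu; rw [Finset.mem_singleton.mp hu]; simp
  have d04 := dis {0} S4 0 4 (by norm_num) (by norm_num) m0 fun u => (m4 u).mp
  have d06 := dis {0} S6 0 6 (by norm_num) (by norm_num) m0 fun u => (m6 u).mp
  have d08 := dis {0} S8 0 8 (by norm_num) (by norm_num) m0 fun u => (m8 u).mp
  have d46 := dis S4 S6 4 6 (by norm_num) (by norm_num) (fun u => (m4 u).mp) fun u => (m6 u).mp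
  have d48 := dis S4 S8 4 8 (by norm_num) (by norm_num) (fun u => (m4 u).mp) fun u => (m8 u).mp
  have d68 := dis S6 S8 6 8 (by norm_num) (by norm_num) (fun u => (m6 u).mp) fun u => (m8 u).mp
  have htot : ((({0} : Finset (Fin 24 → ℤ)).image π ∪ S4.image π) ∪ S6.image π ∪ S8.image π).card
      ≤ 16777216 := by
    refine le_trans (Finset.card_le_univ _) ?_
    simp
  rw [Finset.card_union_of_disjoint (by simp only [Finset.disjoint_union_left, d08, d48, d68, and_self]),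
    Finset.card_union_of_disjoint (by simp only [Finset.disjoint_union_left, d06, d46, and_self]),
    Finset.card_union_of_disjoint d04, Finset.image_singleton, Finset.card_singleton] at htot
  have hx8 : x ∈ S8 := (m8 x).mpr hx
  have hset : {y : Fin 24 → ℤ | y ⬝ᵥ (B *ᵥ y) = 8 ∧ ∀ i, (2 : ℤ) ∣ (x - y) i} =
      ↑(S8.filter fun v => π v = π x) := by
    ext y
    simp only [Set.mem_ofPred_eq, Finset.coe_filter, m8]
    rw [← hπ, eq_comm (a := π x)]
  rw [hset, Set.ncard_coe_finset]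
  refine le_antisymm (big x hx8) ?_
  by_contra hlt
  have hsum : S8.card = ∑ a ∈ S8.image π, (S8.filter fun v => π v = a).card :=
    Finset.card_eq_sum_card_image π S8
  have hlt2 : ∑ a ∈ S8.image π, (S8.filter fun v => π v = a).card < ∑ _a ∈ S8.image π, 48 := by
    refine Finset.sum_lt_sum (fun a ha => ?_) ⟨π x, Finset.mem_image_of_mem _ hx8, by omega⟩
    obtain ⟨u, hu, rfl⟩ := Finset.mem_image.mp ha
    exact big u hu
  rw [Finset.sum_const, smul_eq_mul] at hlt2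
  omega

end Cfsg.Agent.S1588
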