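import Cfsg.Statements.S0406
import Cfsg.Agent.Base
import Cfsg.Agent.Spor.LeechUnique
import Cfsg.Agent.S1587
import Cfsg.Agent.S1588

set_option autoImplicit false
open Matrix
open Cfsg

namespace Cfsg.Agent.S0406

open CL.Leech


/-- A rank-24 even lattice with no roots and the stated numbers of vectors of norms 4, 6, 8 is isomorphic to the Leech lattice. -/
theorem result (B : Matrix (Fin 24) (Fin 24) ℤ) (hsymm : B.IsSymm) (hpos : ∀ x : Fin 24 → ℤ, x ≠ 0 → 0 < x ⬝ᵥ (B *ᵥ x)) (heven : ∀ x : Fin 24 → ℤ, (2 : ℤ) ∣ x ⬝ᵥ (B *ᵥ x)) (h2 : ∀ x : Fin 24 → ℤ, x ⬝ᵥ (B *ᵥ x) ≠ 2) (h4 : {x : Fin 24 → ℤ | x ⬝ᵥ (B *ᵥ x) = 4}.ncard = 196560) (h6 : {x : Fin 24 → ℤ | x ⬝ᵥ (B *ᵥ x) = 6}.ncard = 16773120) (h8 : {x : Fin 24 → ℤ | x ⬝ᵥ (B *ᵥ x) = 8}.ncard = 398034000) : ∃ f : (Fin 24 → ℤ) ≃+ Cfsg.leechLattice, ∀ x : Fin 24 → ℤ, Cfsg.sqNorm ((f x : Cfsg.leechLattice) : Cfsg.GolayPt → ℤ) = 8 * (x ⬝ᵥ (B *ᵥ x)) := by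
  classical
  obtain ⟨x0, hx0⟩ : {x : Fin 24 → ℤ | x ⬝ᵥ (B *ᵥ x) = 8}.Nonempty :=
    Set.nonempty_of_ncard_ne_zero (by omega)
  have h48 := Cfsg.Agent.S1588.result B hsymm hpos heven h2 h4 h6 h8 x0 hx0
  have hfin : {y : Fin 24 → ℤ | y ⬝ᵥ (B *ᵥ y) = 8 ∧ ∀ i, (2 : ℤ) ∣ (x0 - y) i}.Finite :=
    Set.finite_of_ncard_ne_zero (by omega)
  rw [Set.ncard_eq_toFinset_card _ hfin] at h48
  set F := hfin.toFinset with hF
  have hm : ∀ y, y ∈ F ↔ y ⬝ᵥ (B *ᵥ y) = 8 ∧ ∀ i, (2 : ℤ) ∣ (x0 - y) i := fun y => by simp [hF]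
  have hneg : ∀ y ∈ F, -y ∈ F := by
    intro y hy
    rw [hm] at hy ⊢
    refine ⟨by simpa [Matrix.mulVec_neg] using hy.1, fun i => ?_⟩
    have := hy.2 i
    simp only [Pi.sub_apply, Pi.neg_apply] at this ⊢
    omega
  set P := F.filter fun y => toLex (-y) < toLex y with hP
  have hPc : P.card = 24 := by
    have h1 := Finset.card_filter_add_card_filter_not (s := F) (fun y => toLex (-y) < toLex y)
    have h3 : (F.filter fun y => ¬ toLex (-y) < toLex y).card = P.card := by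
      apply Finset.card_bijective (fun y => -y) neg_involutive.bijective
      intro y
      simp only [hP, Finset.mem_filter, neg_neg]
      constructor
      · rintro ⟨h4, h5⟩
        refine ⟨hneg y h4, lt_of_le_of_ne (not_lt.1 h5) fun h => ?_⟩
        have h7 : y = -y := toLex.injective h
        have h0 : y = 0 := by
          funext i; have := congrFun h7 i; simp only [Pi.neg_apply] at this; simp; omega
        have := ((hm y).1 h4).1
        rw [h0] at this; simp at this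
      · rintro ⟨h4, h5⟩
        exact ⟨by simpa using hneg _ h4, not_lt.2 h5.le⟩
    rw [← hP] at h1
    omega
  let e : Fin 24 ≃ P := (Finset.equivFinOfCardEq hPc).symm
  let V : Matrix (Fin 24) (Fin 24) ℤ := Matrix.of fun k => (e k : Fin 24 → ℤ)
  have hVF : ∀ k, V k ∈ F := fun k => (Finset.mem_filter.1 (e k).2).1
  have hcong : ∀ k l i, (2 : ℤ) ∣ (V k - V l) i := by
    intro k l i
    have h1 := ((hm _).1 (hVF k)).2 i
    have h3 := ((hm _).1 (hVF l)).2 i
    simp only [Pi.sub_apply] at h1 h3 ⊢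
    omega
  have horth : ∀ k l, V k ⬝ᵥ (B *ᵥ V l) = if k = l then 8 else 0 := by
    intro k l
    split_ifs with h
    · subst h; exact ((hm _).1 (hVF k)).1
    · rcases Cfsg.Agent.S1587.result B hsymm hpos heven h2 _ _ ((hm _).1 (hVF k)).1
        ((hm _).1 (hVF l)).1 (hcong k l) with h1 | h1 | h1
      · exact absurd (e.injective (Subtype.ext h1)).symm h
      · exfalso
        have h3 : toLex (-V k) < toLex (V k) := (Finset.mem_filter.1 (e k).2).2
        have h5 : toLex (-V l) < toLex (V l) := (Finset.mem_filter.1 (e l).2).2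
        rw [h1, neg_neg] at h5
        exact lt_asymm h3 h5
      · exact h1
  have h1 : (V * B) * Vᵀ = (8 : ℤ) • (1 : Matrix (Fin 24) (Fin 24) ℤ) := by
    ext k l
    have := horth k l
    rw [Matrix.dotProduct_mulVec] at this
    rw [Matrix.smul_apply, Matrix.one_apply, smul_eq_mul, mul_ite, mul_one, mul_zero, ← this]
    rfl
  have hdet : (V * B).det ≠ 0 := by
    intro h
    have := congrArg Matrix.det h1
    rw [Matrix.det_mul, h, Matrix.det_smul] at this
    simp at this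
  have h3 : Vᵀ * (V * B) = (8 : ℤ) • (1 : Matrix (Fin 24) (Fin 24) ℤ) := by
    have h5 : (V * B) * (Vᵀ * (V * B) - (8 : ℤ) • 1) = 0 := by
      rw [Matrix.mul_sub, ← Matrix.mul_assoc, h1, Matrix.smul_mul, Matrix.mul_smul,
        Matrix.one_mul, Matrix.mul_one, sub_self]
    have h7 := congrArg ((V * B).adjugate * ·) h5
    beta_reduce at h7
    rw [← Matrix.mul_assoc, Matrix.adjugate_mul, Matrix.mul_zero, Matrix.smul_mul,
      Matrix.one_mul] at h7
    exact sub_eq_zero.1 ((smul_eq_zero.1 h7).resolve_left hdet)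
  let φ : GolayPt ≃ Fin 24 := Fintype.equivFinOfCardEq card_golayPt
  let Φ : (Fin 24 → ℤ) →+ (GolayPt → ℤ) :=
    AddMonoidHom.mk' (fun u p => ((V * B) *ᵥ u) (φ p)) fun u v => by
      funext p; simp [Matrix.mulVec_add]
  have hΦ : ∀ u p, Φ u p = ((V * B) *ᵥ u) (φ p) := fun _ _ => rfl
  have hn : ∀ u, sqNorm (Φ u) = 8 * (u ⬝ᵥ (B *ᵥ u)) := by
    intro u
    have h5 : sqNorm (Φ u) = ((V * B) *ᵥ u) ⬝ᵥ ((V * B) *ᵥ u) := by
      rw [dotProduct, ← Equiv.sum_comp φ]; simp only [sqNorm, hΦ, sq]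
    rw [h5, Matrix.dotProduct_mulVec, ← Matrix.mulVec_transpose, Matrix.mulVec_mulVec,
      Matrix.transpose_mul, Matrix.mul_assoc, h3, hsymm.eq, dotProduct_comm, Matrix.mul_smul,
      Matrix.mul_one, Matrix.smul_mulVec, dotProduct_smul, smul_eq_mul]
  have hinj : Function.Injective Φ := by
    rw [injective_iff_map_eq_zero]
    intro u hu
    by_contra h0
    have := hpos u h0
    have h5 := hn u
    rw [hu, sqNorm_eq_zero.2 rfl] at h5
    omega
  have hL : FrameLat Φ.range := by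
    refine ⟨fun i j => ?_, ?_, ?_⟩
    · choose z hz using hcong (φ i) (φ j)
      refine ⟨z + V (φ j), funext fun p => ?_⟩
      have h5 : V (φ i) + V (φ j) = (2 : ℤ) • (z + V (φ j)) := by
        funext k; have := hz k
        simp only [Pi.sub_apply, Pi.add_apply, Pi.smul_apply, smul_eq_mul] at this ⊢; omega
      have h7 : ∀ l, Φ (V l) p = if φ p = l then 8 else 0 := fun l => by
        rw [← horth, hΦ, ← Matrix.mulVec_mulVec]; rfl
      have h9 := congrFun (congrArg Φ h5) p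
      rw [map_add, map_zsmul, Pi.add_apply, h7, h7, Pi.smul_apply, smul_eq_mul] at h9
      simp only [EmbeddingLike.apply_eq_iff_eq] at h9
      rw [pairVec_apply]
      split_ifs at h9 ⊢ <;> omega
    · rintro _ ⟨u, rfl⟩
      have := heven u
      rw [hn]; omega
    · rintro _ ⟨u, rfl⟩
      have := h2 u
      rw [hn]; omega
  have hc : {x | x ∈ Φ.range ∧ sqNorm x = 32}.ncard = 196560 := by
    rw [← h4, ← Set.ncard_image_of_injective _ hinj]
    congr 1; ext x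
    constructor
    · rintro ⟨⟨u, rfl⟩, h⟩
      exact ⟨u, by rw [hn] at h; show u ⬝ᵥ (B *ᵥ u) = 4; omega, rfl⟩
    · rintro ⟨u, hu, rfl⟩
      exact ⟨⟨u, rfl⟩, by rw [hn, show u ⬝ᵥ (B *ᵥ u) = 4 from hu]; rfl⟩
  obtain ⟨T, hT1, hT2⟩ := hL.exists_signedPerm hc
  have hmem : ∀ u, (T.toAddMonoidHom.comp Φ) u ∈ leechLattice := fun u =>
    hT2 ▸ ⟨Φ u, ⟨u, rfl⟩, rfl⟩
  refine ⟨AddEquiv.ofBijective ((T.toAddMonoidHom.comp Φ).codRestrict _ hmem) ⟨?_, ?_⟩,
    fun u => (hT1 _).trans (hn u)⟩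
  · intro u v h
    exact hinj (T.injective (congrArg Subtype.val h))
  · rintro ⟨y, hy⟩
    rw [← hT2] at hy
    obtain ⟨_, ⟨u, rfl⟩, rfl⟩ := hy
    exact ⟨u, rfl⟩

end Cfsg.Agent.S0406
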