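import Cfsg.Agent.Base
import Cfsg.Statements.S0407
import Cfsg.Agent.Spor.SteinerGolay

set_option autoImplicit false
open Cfsg

namespace Cfsg.Agent.S0407

/-- Uniqueness of the Steiner system S(5, 8, 24) up to isomorphism. -/
theorem result {α β : Type*} [Fintype α] [DecidableEq α] [Fintype β] [DecidableEq β] (hα : Fintype.card α = 24) (hβ : Fintype.card β = 24) {B : Set (Finset α)} {B' : Set (Finset β)} (hB : Cfsg.IsSteinerSystem 5 8 B) (hB' : Cfsg.IsSteinerSystem 5 8 B') : Cfsg.SetSystemIso B B' := by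
  obtain ⟨e, -, he⟩ := CL.Steiner.exists_iso24 hα hB (n := 0) (by norm_num)
    ⟨Fin.elim0, fun i => i.elim0⟩ ⟨Fin.elim0, fun i => i.elim0⟩
  obtain ⟨e', -, he'⟩ := CL.Steiner.exists_iso24 hβ hB' (n := 0) (by norm_num)
    ⟨Fin.elim0, fun i => i.elim0⟩ ⟨Fin.elim0, fun i => i.elim0⟩
  exact CL.Steiner.setSystemIso_trans ⟨e, he⟩ (CL.Steiner.setSystemIso_symm ⟨e', he'⟩)

end Cfsg.Agent.S0407
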