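import Cfsg.Agent.Base
import Cfsg.Statements.S0412
import Cfsg.Agent.Spor.SteinerEmb

set_option autoImplicit false
open Cfsg

namespace Cfsg.Agent.S0412

/-- Aut of an S(5, 8, 24) is simple of order 244823040 and 5-transitive on points. -/
theorem result {α : Type*} [Fintype α] [DecidableEq α] (hα : Fintype.card α = 24) {B : Set (Finset α)} (hB : Cfsg.IsSteinerSystem 5 8 B) : Cfsg.IsM24 (Cfsg.setSystemAut B) ∧ MulAction.IsMultiplyPretransitive (Cfsg.setSystemAut B) α 5 := by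
  obtain ⟨v⟩ := CL.Steiner.exists_emb (α := Cfsg.GolayPt) 5 (by simp)
  refine ⟨?_, CL.Steiner.multiplyPretransitive_of_marked v fun u =>
    CL.Steiner.exists_iso24 hα hB le_rfl u v⟩
  obtain ⟨e, -, he⟩ := CL.Steiner.exists_iso24 hα hB (n := 0) (by norm_num)
    ⟨Fin.elim0, fun i => i.elim0⟩ ⟨Fin.elim0, fun i => i.elim0⟩
  let f := (CL.Steiner.autCongr e he).trans (MulEquiv.subgroupCongr CL.Golay.M24_eq_octadAut.symm)
  exact ⟨f.isSimpleGroup_congr.2 CL.M24.isSimpleGroup_M24,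
    (Nat.card_congr f.toEquiv).trans CL.M24.card_M24⟩

end Cfsg.Agent.S0412
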