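import Cfsg.Agent.Base
import Cfsg.Statements.S0413
import Cfsg.Agent.Spor.SteinerEmb

set_option autoImplicit false
open Cfsg

namespace Cfsg.Agent.S0413

/-- Aut of an S(4, 7, 23) is simple of order 10200960 and 4-transitive. -/
theorem result {α : Type*} [Fintype α] [DecidableEq α] (hα : Fintype.card α = 23) {B : Set (Finset α)} (hB : Cfsg.IsSteinerSystem 4 7 B) : Cfsg.IsM23 (Cfsg.setSystemAut B) ∧ MulAction.IsMultiplyPretransitive (Cfsg.setSystemAut B) α 4 := by
  obtain ⟨v⟩ := CL.Steiner.exists_emb (α := α) 4 (by omega)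
  refine ⟨?_, CL.Steiner.multiplyPretransitive_of_marked v fun u =>
    CL.Steiner.exists_iso23 hα hα hB hB le_rfl u v⟩
  obtain ⟨f⟩ := CL.Steiner.nonempty_aut23_equiv hα hB none
  exact ⟨f.isSimpleGroup_congr.2 (CL.M24.isSimpleGroup_fix_one _),
    (Nat.card_congr f.toEquiv).trans (CL.M24.card_fix_one _)⟩

end Cfsg.Agent.S0413
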