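import Cfsg.Agent.Base
import Cfsg.Statements.S0414
import Cfsg.Agent.Spor.SteinerEmb

set_option autoImplicit false
open Cfsg

namespace Cfsg.Agent.S0414

/-- Aut of an S(3, 6, 22) has order 887040, is 3-transitive, and contains a simple subgroup of index 2. -/
theorem result {α : Type*} [Fintype α] [DecidableEq α] (hα : Fintype.card α = 22) {B : Set (Finset α)} (hB : Cfsg.IsSteinerSystem 3 6 B) : Nat.card (Cfsg.setSystemAut B) = 887040 ∧ MulAction.IsMultiplyPretransitive (Cfsg.setSystemAut B) α 3 ∧ ∃ H : Subgroup (Cfsg.setSystemAut B), H.index = 2 ∧ Cfsg.IsM22 H := by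
  obtain ⟨v⟩ := CL.Steiner.exists_emb (α := α) 3 (by omega)
  obtain ⟨H, hH, ⟨f⟩⟩ := CL.Steiner.exists_index_two22 hα hB
  have hne : CL.Steiner.tau 1 ≠ CL.Steiner.tau 2 := by decide
  have hc : Nat.card H = 443520 := (Nat.card_congr f.toEquiv).trans (CL.M24.card_fix_two hne)
  refine ⟨?_, CL.Steiner.multiplyPretransitive_of_marked v fun u =>
    CL.Steiner.exists_iso22 hα hα hB hB le_rfl u v, H, hH,
    f.isSimpleGroup_congr.2 (CL.M24.isSimpleGroup_fix_two hne), hc⟩
  rw [← H.index_mul_card, hH, hc]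

end Cfsg.Agent.S0414
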