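import Cfsg.Statements.S0423
import Cfsg.Agent.Base
import Cfsg.Agent.Spor.IcoPres

set_option autoImplicit false
open Cfsg

namespace Cfsg.Agent.S0423

/-- Existence of a simple group of order 604800. -/
theorem result : ∃ G : Subgroup (Equiv.Perm (Fin 100)), Cfsg.IsJ2 G := by
  have hc := CL.CGT.J2R.T1.card
  obtain ⟨P, e, -⟩ := CL.CGT.exists_perm_realization CL.CGT.J2R.T1.isCoset.index
    (CL.CGT.J2R.T1.isCoset.normalCore_eq_bot hc.2.2)
  have := CL.CGT.J2R.T1.simple
  exact ⟨P, e.symm.isSimpleGroup, by rw [← Nat.card_congr e.toEquiv, hc.2.1]⟩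

end Cfsg.Agent.S0423
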