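import Cfsg.Agent.Base
import Cfsg.Statements.S0437
import Cfsg.Agent.Spor.ThreeTrans

set_option autoImplicit false
open Cfsg

namespace Cfsg.Agent.S0437


/-- For three distinct, pairwise commuting members a, b, c of a set of 3-transpositions E, a member e of E centralises a * b * c if and only if it centralises each of a, b and c. -/
theorem result {G : Type*} [Group G] {E : Set G} (hE : Cfsg.IsThreeTranspositionSet E) {a b c e : G} (ha : a ∈ E) (hb : b ∈ E) (hc : c ∈ E) (he : e ∈ E) (hab : a ≠ b) (hac : a ≠ c) (hbc : b ≠ c) (h₁ : Commute a b) (h₂ : Commute a c) (h₃ : Commute b c) : Commute e (a * b * c) ↔ (Commute e a ∧ Commute e b ∧ Commute e c) := by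
  refine ⟨fun h => ?_, fun h => (h.1.mul_right h.2.1).mul_right h.2.2⟩
  have aa := CL.ThreeTrans.mul_self hE ha
  have bb := CL.ThreeTrans.mul_self hE hb
  have cc := CL.ThreeTrans.mul_self hE hc
  have ee := CL.ThreeTrans.mul_self hE he
  by_cases ea : Commute e a
  · have h1 : Commute e (b * c) := by
      have : b * c = a * (a * b * c) := by
        rw [← mul_assoc, ← mul_assoc, aa, one_mul]
      rw [this]; exact ea.mul_right h
    exact ⟨ea, (CL.ThreeTrans.commute_mul_iff hE hb hc he hbc).1 h1⟩
  by_cases eb : Commute e b
  · have h1 : Commute e (a * c) := by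
      have : a * c = b * (a * b * c) := by
        rw [h₁.eq, ← mul_assoc, ← mul_assoc, bb, one_mul]
      rw [this]; exact eb.mul_right h
    exact absurd ((CL.ThreeTrans.commute_mul_iff hE ha hc he hac).1 h1).1 ea
  by_cases ec : Commute e c
  · have h1 : Commute e (a * b) := by
      have : a * b = (a * b * c) * c := by
        rw [mul_assoc, cc, mul_one]
      rw [this]; exact h.mul_right ec
    exact absurd ((CL.ThreeTrans.commute_mul_iff hE ha hb he hab).1 h1).1 ea
  exfalso
  have ba := CL.ThreeTrans.braid_of_not_commute hE he ha ea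
  have bb' := CL.ThreeTrans.braid_of_not_commute hE he hb eb
  have bc := CL.ThreeTrans.braid_of_not_commute hE he hc ec
  -- a e a = (b c) e (b c)⁻¹
  have h4 : a * e * a = b * (c * e * c) * b := by
    have h5 : e * (a * b * c) = (a * b * c) * e := h.eq
    have h6 : a * (e * (a * b * c)) * c * b = a * ((a * b * c) * e) * c * b := by rw [h5]
    calc a * e * a = a * e * a * (b * (c * c) * b) := by rw [cc, mul_one, bb, mul_one]
      _ = a * (e * (a * b * c)) * c * b := by simp only [mul_assoc]
      _ = a * ((a * b * c) * e) * c * b := h6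
      _ = (a * a) * b * (c * e * c) * b := by simp only [mul_assoc]
      _ = b * (c * e * c) * b := by rw [aa, one_mul]
  have h7 : Commute (e * a * e) (e * b * e) := by
    have : ∀ x y : G, (e * x * e) * (e * y * e) = e * (x * y) * e := by
      intro x y
      calc (e * x * e) * (e * y * e) = e * x * (e * e) * y * e := by simp only [mul_assoc]
        _ = e * (x * y) * e := by rw [ee]; simp only [mul_assoc, mul_one]
    unfold Commute SemiconjBy
    rw [this, this, h₁.eq]
  rw [ba, bb', h4, ← bc] at h7
  have h8 : ∀ x y : G, (b * x * b) * (b * y * b) = b * (x * y) * b := by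
    intro x y
    calc (b * x * b) * (b * y * b) = b * x * (b * b) * y * b := by simp only [mul_assoc]
      _ = b * (x * y) * b := by rw [bb]; simp only [mul_assoc, mul_one]
  have h9 : b * ((e * c * e) * e) * b = b * (e * (e * c * e)) * b := by
    rw [← h8 (e * c * e) e, ← h8 e (e * c * e)]; exact h7.eq
  have h10 : (e * c * e) * e = e * (e * c * e) := mul_left_cancel (mul_right_cancel h9)
  apply ec
  have h11 : e * c = c * e := by
    calc e * c = e * c * (e * e) := by rw [ee, mul_one]
      _ = (e * c * e) * e := by simp only [mul_assoc]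
      _ = e * (e * c * e) := h10
      _ = (e * e) * c * e := by simp only [mul_assoc]
      _ = c * e := by rw [ee, one_mul]
  exact h11

end Cfsg.Agent.S0437
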