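import Cfsg.Agent.Base
import Cfsg.Statements.S0439
import Cfsg.Agent.Spor.ThreeTrans

set_option autoImplicit false
open Cfsg

namespace Cfsg.Agent.S0439


/-- In the symmetric group of degree n ≥ 2, the set of transpositions is a conjugacy class of 3-transpositions which generates the group. -/
theorem result (n : ℕ) (hn : 2 ≤ n) : Cfsg.IsThreeTranspositionClass {σ : Equiv.Perm (Fin n) | σ.IsSwap} := by
  have h01 : (⟨0, by omega⟩ : Fin n) ≠ ⟨1, by omega⟩ := by simp [Fin.ext_iff]
  refine ⟨⟨?_, ?_⟩, ⟨Equiv.swap ⟨0, by omega⟩ ⟨1, by omega⟩, ⟨_, _, h01, rfl⟩, ?_⟩, ?_⟩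
  · rintro d ⟨a, b, hab, rfl⟩
    exact (Equiv.Perm.IsSwap.orderOf ⟨a, b, hab, rfl⟩)
  · rintro d ⟨a, b, hab, rfl⟩ e ⟨c, f, hcf, rfl⟩
    have br : ∀ x y z : Fin n, x ≠ y → x ≠ z → y ≠ z →
        (Equiv.swap x y * Equiv.swap x z) ^ 3 = 1 := by
      intro x y z h1 h2 h3
      apply CL.ThreeTrans.cube_of_braid (Equiv.swap_mul_self _ _) (Equiv.swap_mul_self _ _)
      have e1 : Equiv.swap x y * Equiv.swap x z * Equiv.swap x y = Equiv.swap y z := by
        rw [Equiv.swap_comm x z, Equiv.swap_mul_swap_mul_swap h2.symm h3.symm]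
      have e2 : Equiv.swap x z * Equiv.swap x y * Equiv.swap x z = Equiv.swap y z := by
        rw [Equiv.swap_comm x y, Equiv.swap_mul_swap_mul_swap h1.symm h3, Equiv.swap_comm]
      rw [e1, e2]
    by_cases hac : a = c
    · subst hac
      by_cases hbf : b = f
      · subst hbf; left; simp [pow_two]
      · right; exact br _ _ _ hab hcf hbf
    by_cases haf : a = f
    · subst haf
      by_cases hbc : b = c
      · subst hbc; left; rw [Equiv.swap_comm b a]; simp [pow_two]
      · right; rw [Equiv.swap_comm c a]; exact br _ _ _ hab hac hbc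
    by_cases hbc : b = c
    · subst hbc
      right; rw [Equiv.swap_comm a b]; exact br _ _ _ (Ne.symm hab) hcf haf
    by_cases hbf : b = f
    · subst hbf
      right; rw [Equiv.swap_comm a b, Equiv.swap_comm c b]
      exact br _ _ _ (Ne.symm hab) hbc hac
    left
    have hd : (Equiv.swap a b).Disjoint (Equiv.swap c f) := by
      intro x
      by_cases hx1 : x = a
      · right; rw [hx1]; exact Equiv.swap_apply_of_ne_of_ne hac haf
      by_cases hx2 : x = b
      · right; rw [hx2]; exact Equiv.swap_apply_of_ne_of_ne hbc hbf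
      · left; exact Equiv.swap_apply_of_ne_of_ne hx1 hx2
    rw [hd.commute.mul_pow]
    simp [pow_two]
  · ext σ
    constructor
    · rintro ⟨a, b, hab, rfl⟩
      exact Equiv.Perm.isConj_swap h01 hab
    · intro hσ
      obtain ⟨c, hc⟩ := isConj_iff.1 (show IsConj _ σ from hσ)
      rw [← hc, ← Equiv.swap_apply_apply]
      exact ⟨_, _, c.injective.ne h01, rfl⟩
  · exact Equiv.Perm.closure_isSwap

end Cfsg.Agent.S0439
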