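import Cfsg.Statements.S0441
import Cfsg.Agent.Base
import Cfsg.Agent.Fischer.Hyp
import Cfsg.Agent.Fischer.Rank3

set_option autoImplicit false
open Cfsg

namespace Cfsg.Agent.S0441

/-- Fischer's rank-three property. Let a finite group be generated by a conjugacy class D of 3-transpositions, with non-abelian simple commutator subgroup. Then for a in D there are members of D other than a commuting with a and members not commuting with a, and the centraliser of a acts transitively on each of these two sets. -/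
theorem result {G : Type*} [Group G] [Finite G] {D : Set G} (hD : Cfsg.IsThreeTranspositionClass D) (hsimple : IsSimpleGroup (commutator G)) (hnonab : ∃ x y : commutator G, x * y ≠ y * x) {a : G} (ha : a ∈ D) : (∃ b ∈ D, b ≠ a ∧ Commute a b) ∧ (∃ c ∈ D, ¬ Commute a c) ∧ (∀ b ∈ D, ∀ b' ∈ D, b ≠ a → b' ≠ a → Commute a b → Commute a b' → ∃ g : G, Commute g a ∧ g * b * g⁻¹ = b') ∧ (∀ c ∈ D, ∀ c' ∈ D, ¬ Commute a c → ¬ Commute a c' → ∃ g : G, Commute g a ∧ g * c * g⁻¹ = c') := by
  have h := CL.Fischer.fis_of_simple hD hsimple hnonab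
  refine ⟨h.Dx_nonempty ha, h.exists_not_commute ha, fun b hb b' hb' h1 h2 h3 h4 => ?_,
    fun c hc c' hc' h1 h2 => ?_⟩
  · obtain ⟨g, hg, e⟩ := h.Dx_trans' ha ⟨hb, h1, h3⟩ ⟨hb', h2, h4⟩
    exact ⟨g, CL.Fischer.commute_of_mem_perpGrp hg, e⟩
  · obtain ⟨g, hg, e⟩ := h.Ax_trans ha hc hc' h1 h2
    exact ⟨g, CL.Fischer.commute_of_mem_perpGrp hg, e⟩

end Cfsg.Agent.S0441
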