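import Cfsg.Statements.S0442
import Cfsg.Agent.Base

set_option autoImplicit false
open Cfsg

namespace Cfsg.Agent.S0442


/-- A standard trick for producing elements of an involution centraliser: for an involution a and an element g, let b be the conjugate g⁻¹ * a * g. If a * b has odd order 2m + 1 then g * (a * b) ^ m commutes with a; if a * b has even order 2m then (a * b) ^ m and (a * (g * a * g⁻¹)) ^ m commute with a. -/
theorem result {G : Type*} [Group G] (a g : G) (ha : orderOf a = 2) : (∀ m : ℕ, orderOf (a * (g⁻¹ * a * g)) = 2 * m + 1 → Commute (g * (a * (g⁻¹ * a * g)) ^ m) a) ∧ (∀ m : ℕ, orderOf (a * (g⁻¹ * a * g)) = 2 * m → Commute ((a * (g⁻¹ * a * g)) ^ m) a ∧ Commute ((a * (g * a * g⁻¹)) ^ m) a) := by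
  have aa : a * a = 1 := by
    have h := pow_orderOf_eq_one a
    rwa [ha, pow_two] at h
  have ainv : a⁻¹ = a := inv_eq_of_mul_eq_one_right aa
  -- for any involution-like b, a (a b)^m a = ((a b)^m)⁻¹
  have key : ∀ b : G, b * b = 1 → ∀ m : ℕ, a * (a * b) ^ m * a = ((a * b) ^ m)⁻¹ := by
    intro b bb m
    have binv : b⁻¹ = b := inv_eq_of_mul_eq_one_right bb
    have h1 : a * (a * b) * a⁻¹ = (a * b)⁻¹ := by
      rw [mul_inv_rev, ainv, binv, ← mul_assoc, aa, one_mul]
    have h2 : a * (a * b) ^ m * a⁻¹ = ((a * b) ^ m)⁻¹ := by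
      rw [← conj_pow, h1, inv_pow]
    rwa [ainv] at h2
  have even : ∀ b : G, b * b = 1 → ∀ m : ℕ, (a * b) ^ (2 * m) = 1 → Commute ((a * b) ^ m) a := by
    intro b bb m h
    have h1 := key b bb m
    have h2 : ((a * b) ^ m)⁻¹ = (a * b) ^ m := by
      apply inv_eq_of_mul_eq_one_right
      rw [← pow_add, ← two_mul, h]
    rw [h2] at h1
    have h3 : (a * b) ^ m * a = a * (a * b) ^ m := by
      calc (a * b) ^ m * a = a * (a * (a * b) ^ m * a) := by
            rw [← mul_assoc, ← mul_assoc, aa, one_mul]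
        _ = a * (a * b) ^ m := by rw [h1]
    exact h3
  have bb : (g⁻¹ * a * g) * (g⁻¹ * a * g) = 1 := by
    calc (g⁻¹ * a * g) * (g⁻¹ * a * g) = g⁻¹ * (a * a) * g := by group
      _ = 1 := by rw [aa]; group
  have bb' : (g * a * g⁻¹) * (g * a * g⁻¹) = 1 := by
    calc (g * a * g⁻¹) * (g * a * g⁻¹) = g * (a * a) * g⁻¹ := by group
      _ = 1 := by rw [aa]; group
  refine ⟨fun m hm => ?_, fun m hm => ⟨?_, ?_⟩⟩
  · set b := g⁻¹ * a * g with hb
    have h0 : (a * b) ^ (2 * m + 1) = 1 := by rw [← hm]; exact pow_orderOf_eq_one _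
    have h1 := key b bb m
    -- (ab)^m a = b (ab)^m
    have h2 : (a * b) ^ m * a = b * (a * b) ^ m := by
      have h3 : (a * b) ^ m * a = a * ((a * b) ^ m)⁻¹ := by
        rw [← h1, ← mul_assoc a _ a, ← mul_assoc a a, aa, one_mul]
      have h4 : ((a * b) ^ m)⁻¹ = (a * b) * (a * b) ^ m := by
        apply inv_eq_of_mul_eq_one_right
        rw [← h0, ← pow_succ', ← pow_add]
        congr 1
        ring
      rw [h3, h4, ← mul_assoc a, ← mul_assoc a a, aa, one_mul]
    show g * (a * b) ^ m * a = a * (g * (a * b) ^ m)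
    rw [mul_assoc, h2, hb]
    group
  · apply even _ bb
    rw [← hm]; exact pow_orderOf_eq_one _
  · apply even _ bb'
    have h0 : (a * (g⁻¹ * a * g)) ^ (2 * m) = 1 := by rw [← hm]; exact pow_orderOf_eq_one _
    have h1 : a * (g * a * g⁻¹) = g * ((a * (g⁻¹ * a * g))⁻¹) * g⁻¹ := by
      simp only [mul_inv_rev, ainv, inv_inv]
      group
    rw [h1, conj_pow, inv_pow, h0]
    group

end Cfsg.Agent.S0442
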