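import Cfsg.Agent.Base
import Cfsg.Statements.S0444
import Cfsg.Agent.Spor.ThreeTrans

set_option autoImplicit false
open Cfsg

namespace Cfsg.Agent.S0444

/-- the six elements of the subgroup generated by `d` and `e`, indexed by `Perm (Fin 3)` -/
def f {G : Type*} [Group G] (d e : G) (σ : Equiv.Perm (Fin 3)) : G :=
  if σ = 1 then 1 else if σ = Equiv.swap 0 1 then d else if σ = Equiv.swap 1 2 then e
  else if σ = Equiv.swap 0 1 * Equiv.swap 1 2 then d * e
  else if σ = Equiv.swap 1 2 * Equiv.swap 0 1 then e * d else d * e * d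

theorem hall : ∀ σ : Equiv.Perm (Fin 3), σ = 1 ∨ σ = Equiv.swap 0 1 ∨ σ = Equiv.swap 1 2 ∨
    σ = Equiv.swap 0 1 * Equiv.swap 1 2 ∨ σ = Equiv.swap 1 2 * Equiv.swap 0 1 ∨
    σ = Equiv.swap 0 1 * Equiv.swap 1 2 * Equiv.swap 0 1 := by decide

section
variable {G : Type*} [Group G] (d e : G)
theorem f1 : f d e 1 = 1 := by simp [f]
theorem f2 : f d e (Equiv.swap 0 1) = d := by
  unfold f; rw [if_neg (by decide), if_pos rfl]
theorem f3 : f d e (Equiv.swap 1 2) = e := by
  unfold f; rw [if_neg (by decide), if_neg (by decide), if_pos rfl]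
theorem f4 : f d e (Equiv.swap 0 1 * Equiv.swap 1 2) = d * e := by
  unfold f; rw [if_neg (by decide), if_neg (by decide), if_neg (by decide), if_pos rfl]
theorem f5 : f d e (Equiv.swap 1 2 * Equiv.swap 0 1) = e * d := by
  unfold f
  rw [if_neg (by decide), if_neg (by decide), if_neg (by decide), if_neg (by decide), if_pos rfl]
theorem f6 : f d e (Equiv.swap 0 1 * Equiv.swap 1 2 * Equiv.swap 0 1) = d * e * d := by
  unfold f
  rw [if_neg (by decide), if_neg (by decide), if_neg (by decide), if_neg (by decide),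
    if_neg (by decide)]

variable {d e}
theorem fs (dd : d * d = 1) (σ : Equiv.Perm (Fin 3)) :
    f d e (Equiv.swap 0 1 * σ) = d * f d e σ := by
  have dd' : ∀ x, d * (d * x) = x := fun x => by rw [← mul_assoc, dd, one_mul]
  rcases hall σ with rfl | rfl | rfl | rfl | rfl | rfl
  · rw [mul_one, f1, f2, mul_one]
  · rw [Equiv.swap_mul_self, f1, f2, dd]
  · rw [f4, f3]
  · rw [show (Equiv.swap 0 1 * (Equiv.swap 0 1 * Equiv.swap 1 2) : Equiv.Perm (Fin 3)) =
      Equiv.swap 1 2 by decide, f3, f4, dd']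
  · rw [← mul_assoc, f6, f5, mul_assoc]
  · rw [show (Equiv.swap 0 1 * (Equiv.swap 0 1 * Equiv.swap 1 2 * Equiv.swap 0 1) :
      Equiv.Perm (Fin 3)) = Equiv.swap 1 2 * Equiv.swap 0 1 by decide, f5, f6, mul_assoc, dd']

theorem ft (ee : e * e = 1) (br : d * e * d = e * d * e) (σ : Equiv.Perm (Fin 3)) :
    f d e (Equiv.swap 1 2 * σ) = e * f d e σ := by
  have ee' : ∀ x, e * (e * x) = x := fun x => by rw [← mul_assoc, ee, one_mul]
  rcases hall σ with rfl | rfl | rfl | rfl | rfl | rfl
  · rw [mul_one, f1, f3, mul_one]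
  · rw [f5, f2]
  · rw [Equiv.swap_mul_self, f1, f3, ee]
  · rw [show (Equiv.swap 1 2 * (Equiv.swap 0 1 * Equiv.swap 1 2) : Equiv.Perm (Fin 3)) =
      Equiv.swap 0 1 * Equiv.swap 1 2 * Equiv.swap 0 1 by decide, f6, f4, br, mul_assoc]
  · rw [show (Equiv.swap 1 2 * (Equiv.swap 1 2 * Equiv.swap 0 1) : Equiv.Perm (Fin 3)) =
      Equiv.swap 0 1 by decide, f2, f5, ee']
  · rw [show (Equiv.swap 1 2 * (Equiv.swap 0 1 * Equiv.swap 1 2 * Equiv.swap 0 1) :
      Equiv.Perm (Fin 3)) = Equiv.swap 0 1 * Equiv.swap 1 2 by decide, f4, f6, br, mul_assoc, ee']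

theorem fmul (dd : d * d = 1) (ee : e * e = 1) (br : d * e * d = e * d * e)
    (σ τ : Equiv.Perm (Fin 3)) : f d e (σ * τ) = f d e σ * f d e τ := by
  rcases hall σ with rfl | rfl | rfl | rfl | rfl | rfl
  · rw [one_mul, f1, one_mul]
  · rw [fs dd, f2]
  · rw [ft ee br, f3]
  · rw [mul_assoc, fs dd, ft ee br, f4, mul_assoc]
  · rw [mul_assoc, ft ee br, fs dd, f5, mul_assoc]
  · rw [mul_assoc, mul_assoc, fs dd, ft ee br, fs dd, f6, mul_assoc, mul_assoc]
end


/-- Two members of a set of 3-transpositions which do not commute generate a subgroup isomorphic to the symmetric group on three letters. -/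
theorem result {G : Type*} [Group G] {E : Set G} (hE : Cfsg.IsThreeTranspositionSet E) {d e : G} (hd : d ∈ E) (he : e ∈ E) (h : ¬ Commute d e) : Nonempty (Subgroup.closure ({d, e} : Set G) ≃* Equiv.Perm (Fin 3)) := by
  have dd := CL.ThreeTrans.mul_self hE hd
  have ee := CL.ThreeTrans.mul_self hE he
  have br := CL.ThreeTrans.braid_of_not_commute hE hd he h
  let φ : Equiv.Perm (Fin 3) →* G := MonoidHom.mk' (f d e) (fmul dd ee br)
  have hφ : ∀ σ, φ σ = f d e σ := fun _ => rfl
  have hde : d * e ≠ 1 := by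
    intro h1; apply h
    have : d = e := mul_right_cancel (h1.trans ee.symm)
    rw [this]
  have hinj : Function.Injective φ := by
    rw [injective_iff_map_eq_one]
    intro σ hσ
    rw [hφ] at hσ
    rcases hall σ with rfl | rfl | rfl | rfl | rfl | rfl
    · rfl
    · rw [f2] at hσ; exact absurd hσ (CL.ThreeTrans.ne_one hE hd)
    · rw [f3] at hσ; exact absurd hσ (CL.ThreeTrans.ne_one hE he)
    · rw [f4] at hσ; exact absurd hσ hde
    · rw [f5] at hσ; exact absurd (mul_eq_one_comm.1 hσ) hde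
    · rw [f6] at hσ
      exfalso
      apply CL.ThreeTrans.ne_one hE he
      calc e = (d * d) * e * (d * d) := by rw [dd, one_mul, mul_one]
        _ = d * (d * e * d) * d := by simp only [mul_assoc]
        _ = 1 := by rw [hσ, mul_one, dd]
  have hrange : φ.range = Subgroup.closure ({d, e} : Set G) := by
    apply le_antisymm
    · rintro x ⟨σ, rfl⟩
      have md : d ∈ Subgroup.closure ({d, e} : Set G) := Subgroup.subset_closure (by simp)
      have me : e ∈ Subgroup.closure ({d, e} : Set G) := Subgroup.subset_closure (by simp)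
      rw [hφ]
      rcases hall σ with rfl | rfl | rfl | rfl | rfl | rfl
      · rw [f1]; exact one_mem _
      · rw [f2]; exact md
      · rw [f3]; exact me
      · rw [f4]; exact mul_mem md me
      · rw [f5]; exact mul_mem me md
      · rw [f6]; exact mul_mem (mul_mem md me) md
    · rw [Subgroup.closure_le]
      rintro x (rfl | rfl)
      · exact ⟨Equiv.swap 0 1, by rw [hφ, f2]⟩
      · exact ⟨Equiv.swap 1 2, by rw [hφ, f3]⟩
  exact ⟨((MonoidHom.ofInjective hinj).trans (MulEquiv.subgroupCongr hrange)).symm⟩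

end Cfsg.Agent.S0444
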