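import Cfsg.Statements.S0445
import Cfsg.Agent.GLn.Conj
import Cfsg.Agent.Lin.Card

set_option autoImplicit false
open Cfsg Matrix

namespace Cfsg.Agent.S0445

/-- In the special linear group of dimension 5 over the field with two elements, the centraliser of a transvection has order 21504 = 2 ^ 7 · 168 (it is an extension of an extraspecial group of order 2 ^ 7 by the simple group of order 168). -/
theorem result (s : Matrix.SpecialLinearGroup (Fin 5) (ZMod 2)) (hs : (s : Matrix (Fin 5) (Fin 5) (ZMod 2)) = Matrix.transvection 0 1 1) : Nat.card (Subgroup.centralizer ({s} : Set (Matrix.SpecialLinearGroup (Fin 5) (ZMod 2)))) = 21504 := by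
  let P := {p : (Fin 5 → ZMod 2) × (Fin 5 → ZMod 2) // p.1 ≠ 0 ∧ p.2 ≠ 0 ∧ p.2 ⬝ᵥ p.1 = 0}
  have hP : Nat.card P = 465 := by
    rw [Nat.card_eq_fintype_card]
    decide +kernel
  have hs' : s = CL.GLn.tv (Pi.single 0 1) (Pi.single 1 1) (by simp) := by
    rw [← CL.GLn.transvection_eq_tv (by decide)]
    exact Subtype.ext hs
  have hz : ∀ a : ZMod 2, a ≠ 0 → a = 1 := by decide
  have h1 : Nat.card P = Nat.card (MulAction.orbit
      (ConjAct (Matrix.SpecialLinearGroup (Fin 5) (ZMod 2))) s) := by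
    refine Nat.card_congr (Equiv.ofBijective (fun p => ⟨CL.GLn.tv p.1.1 p.1.2 p.2.2.2, ?_⟩)
      ⟨?_, ?_⟩)
    · rw [ConjAct.mem_orbit_conjAct, hs']
      exact CL.GLn.isConj_tv (by simp) p.2.1 p.2.2.1 (by simp) (by simp) _ _
    · rintro ⟨⟨v, w⟩, hv, hw, h⟩ ⟨⟨v', w'⟩, hv', hw', h'⟩ e
      have e1 : Matrix.vecMulVec v w = Matrix.vecMulVec v' w' :=
        add_left_cancel (congrArg (fun x => x.1.1) e)
      obtain ⟨i, hi⟩ := Function.ne_iff.1 hv
      obtain ⟨j, hj⟩ := Function.ne_iff.1 hw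
      replace hi : v i ≠ 0 := hi
      replace hj : w j ≠ 0 := hj
      have e2 : ∀ a b, v a * w b = v' a * w' b := fun a b => congrFun (congrFun e1 a) b
      have e3 := e2 i j
      rw [hz _ hi, hz _ hj, mul_one] at e3
      have e4 : v' i = 1 := hz _ (left_ne_zero_of_mul_eq_one e3.symm)
      have e5 : w' j = 1 := hz _ (right_ne_zero_of_mul_eq_one e3.symm)
      refine Subtype.ext (Prod.ext (funext fun a => ?_) (funext fun b => ?_))
      · simpa [hz _ hj, e5] using e2 a j
      · simpa [hz _ hi, e4] using e2 i b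
    · rintro ⟨_, g, rfl⟩
      subst hs'
      refine ⟨⟨((ConjAct.ofConjAct g).1 *ᵥ Pi.single 0 1,
        Pi.single 1 1 ᵥ* ((ConjAct.ofConjAct g)⁻¹).1), ?_, ?_, ?_⟩, Subtype.ext (CL.GLn.conj_tv (ConjAct.ofConjAct g) _ _ _).symm⟩
      · intro e
        have := congrArg (((ConjAct.ofConjAct g)⁻¹).1 *ᵥ ·) e
        simp only [Matrix.mulVec_mulVec, ← Matrix.SpecialLinearGroup.coe_mul, inv_mul_cancel,
          Matrix.SpecialLinearGroup.coe_one, Matrix.one_mulVec, Matrix.mulVec_zero] at this
        simp at this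
      · intro e
        have := congrArg (· ᵥ* (ConjAct.ofConjAct g).1) e
        simp only [Matrix.vecMul_vecMul, ← Matrix.SpecialLinearGroup.coe_mul, inv_mul_cancel,
          Matrix.SpecialLinearGroup.coe_one, Matrix.vecMul_one, Matrix.zero_vecMul] at this
        simp at this
      · simp only [← Matrix.dotProduct_mulVec, Matrix.mulVec_mulVec,
          ← Matrix.SpecialLinearGroup.coe_mul, inv_mul_cancel, Matrix.SpecialLinearGroup.coe_one,
          Matrix.one_mulVec]
        simp
  have h2 := CL.Lin.card_SL_mul (ι := Fin 5) (F := ZMod 2)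
  rw [Matrix.card_GL_field, ZMod.card, Fin.prod_univ_five] at h2
  have h3 := Nat.card_congr (MulAction.orbitProdStabilizerEquivGroup
    (ConjAct (Matrix.SpecialLinearGroup (Fin 5) (ZMod 2))) s)
  rw [Nat.card_prod, ← h1, hP, ← Subgroup.nat_card_centralizer_nat_card_stabilizer,
    Nat.card_congr ConjAct.ofConjAct.toEquiv] at h3
  norm_num only [Fin.val_zero, Fin.val_one, Fin.val_two, Fin.coe_ofNat_eq_mod] at h2
  omega

end Cfsg.Agent.S0445
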