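import Cfsg.Statements.S0462
import Cfsg.Agent.CGT.HeS.Base
import Cfsg.Agent.S1695

set_option autoImplicit false
open Cfsg

namespace Cfsg.Agent.S0462

/-- The Held group exists as a transitive permutation group of degree 2058: simple of order 4030387200, with point stabiliser containing, with index 2, a copy of the 4-dimensional symplectic group over the field with four elements. -/
theorem result : ∃ H : Subgroup (Equiv.Perm (Fin 2058)), Cfsg.IsHe H ∧ MulAction.IsPretransitive H (Fin 2058) ∧ ∃ (F : Type) (_ : Field F) (_ : Fintype F), Fintype.card F = 4 ∧ ∃ N : Subgroup (MulAction.stabilizer H (0 : Fin 2058)), N.index = 2 ∧ Nonempty (N ≃* Matrix.symplecticGroup (Fin 2) F) := by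
  obtain ⟨N, -, h2, ⟨e₂⟩⟩ := CL.CGT.HeS.exists_normal
  have h := CL.CGT.He.T1.isCoset
  obtain ⟨P, e, ht, hs⟩ := CL.CGT.exists_perm_realization h.index (h.normalCore_eq_bot CL.CGT.He.T1.card.2.2)
  have hm : (CL.CGT.gen CL.CGT.He.T1.ρ.γ CL.CGT.He.T1.subs).map e.toMonoidHom =
      MulAction.stabilizer P (0 : Fin 2058) := by
    ext x
    obtain ⟨g, rfl⟩ := e.surjective x
    rw [hs, Subgroup.mem_map]
    exact ⟨fun ⟨y, hy, e1⟩ => e.injective e1 ▸ hy, fun hg => ⟨g, hg, rfl⟩⟩
  let e₁ := (e.subgroupMap (CL.CGT.gen CL.CGT.He.T1.ρ.γ CL.CGT.He.T1.subs)).trans (MulEquiv.subgroupCongr hm)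
  have hs1 := Cfsg.Agent.S1695.result.1
  refine ⟨P, ⟨e.symm.isSimpleGroup, ?_⟩, ht, CL.CGT.GF4, inferInstance, inferInstance, CL.CGT.card_GF4,
    N.map e₁.toMonoidHom, ?_, ⟨(e₁.subgroupMap N).symm.trans e₂⟩⟩
  · rw [← Nat.card_congr e.toEquiv]; exact Cfsg.Agent.S1695.result.2
  · rw [← h2]; exact Subgroup.index_map_of_bijective e₁.bijective N

end Cfsg.Agent.S0462
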