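import Cfsg.Statements.S0481
import Cfsg.Agent.Base

set_option autoImplicit false
open Cfsg

namespace Cfsg.Agent.S0481


/-- Large extraspecial subgroups: let z be an involution of a finite group G whose centraliser C contains a normal 2-subgroup Q with centre of order 2 and all squares central, such that every element of G centralising Q lies in Q. Then C contains a Sylow 2-subgroup of G, and any involution of G whose centraliser contains a Sylow 2-subgroup of G is conjugate to z. -/
theorem result {G : Type*} [Group G] [Finite G] (z : G) (hz : orderOf z = 2) (Q : Subgroup G) (hQC : Q ≤ Subgroup.centralizer ({z} : Set G)) (hQn : ∀ g ∈ Subgroup.centralizer ({z} : Set G), ∀ q ∈ Q, g * q * g⁻¹ ∈ Q) (hQ2 : IsPGroup 2 Q) (hZ : Nat.card (Subgroup.center Q) = 2) (hsq : ∀ x : Q, x ^ 2 ∈ Subgroup.center Q) (hlarge : Subgroup.centralizer (Q : Set G) ≤ Q) : (∃ P : Sylow 2 G, (P : Subgroup G) ≤ Subgroup.centralizer ({z} : Set G)) ∧ ∀ u : G, orderOf u = 2 → (∃ P : Sylow 2 G, (P : Subgroup G) ≤ Subgroup.centralizer ({u} :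 Set G)) → IsConj z u := by
  have : Fact (Nat.Prime 2) := ⟨Nat.prime_two⟩
  have hz1 : z ≠ 1 := by
    intro h; rw [h, orderOf_one] at hz; exact absurd hz (by norm_num)
  -- elements centralising Q are 1 or z
  have hzc : z ∈ Subgroup.centralizer (Q : Set G) := by
    rw [Subgroup.mem_centralizer_iff]
    intro q hq
    have := hQC hq
    rw [Subgroup.mem_centralizer_iff] at this
    exact (this z rfl).symm
  have hcen : ∀ u ∈ Subgroup.centralizer (Q : Set G), u ≠ 1 → u = z := by
    intro u hu hu1
    have mk : ∀ v (hv : v ∈ Subgroup.centralizer (Q : Set G)),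
        (⟨v, hlarge hv⟩ : Q) ∈ Subgroup.center Q := by
      intro v hv
      rw [Subgroup.mem_center_iff]
      intro q
      apply Subtype.ext
      rw [Subgroup.mem_centralizer_iff] at hv
      exact hv q q.2
    obtain ⟨y, -, hy⟩ := (Nat.card_eq_two_iff' (1 : Subgroup.center Q)).1 hZ
    have h1 := hy ⟨_, mk u hu⟩ (by
      intro h; apply hu1; exact congrArg (fun x : Subgroup.center Q => ((x : Q) : G)) h)
    have h2 := hy ⟨_, mk z hzc⟩ (by
      intro h; apply hz1; exact congrArg (fun x : Subgroup.center Q => ((x : Q) : G)) h)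
    exact congrArg (fun x : Subgroup.center Q => ((x : Q) : G)) (h1.trans h2.symm)
  -- any Sylow containing Q: its centre is ⟨z⟩, so it centralises z
  have key : ∀ P : Sylow 2 G, Q ≤ P → (P : Subgroup G) ≤ Subgroup.centralizer ({z} : Set G) := by
    intro P hQP
    have hnt : Nontrivial P := ⟨⟨⟨z, hQP (hlarge hzc)⟩, 1, fun h => hz1 (congrArg Subtype.val h)⟩⟩
    have hc := P.isPGroup'.center_nontrivial
    obtain ⟨t, ht⟩ := exists_ne (1 : Subgroup.center P)
    have ht1 : ((t : P) : G) ≠ 1 := by
      intro h; apply ht; exact Subtype.ext (Subtype.ext h)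
    have ht2 : ∀ x ∈ (P : Subgroup G), x * ((t : P) : G) = ((t : P) : G) * x := by
      intro x hx
      exact congrArg Subtype.val (Subgroup.mem_center_iff.1 t.2 ⟨x, hx⟩)
    have ht3 : ((t : P) : G) = z := by
      apply hcen _ _ ht1
      rw [Subgroup.mem_centralizer_iff]
      intro q hq
      exact ht2 q (hQP hq)
    intro x hx
    rw [Subgroup.mem_centralizer_iff]
    intro h hh
    rw [Set.mem_singleton_iff] at hh
    rw [hh, ← ht3]
    exact (ht2 x hx).symm
  obtain ⟨P, hP⟩ := hQ2.exists_le_sylow
  refine ⟨⟨P, key P hP⟩, ?_⟩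
  rintro u hu ⟨R, hR⟩
  obtain ⟨g, hg⟩ := MulAction.exists_smul_eq G R P
  have hu1 : u ≠ 1 := by
    intro h; rw [h, orderOf_one] at hu; exact absurd hu (by norm_num)
  have h1 : g * u * g⁻¹ = z := by
    apply hcen
    · rw [Subgroup.mem_centralizer_iff]
      intro q hq
      have hq2 : q ∈ ((g • R : Sylow 2 G) : Subgroup G) := by rw [hg]; exact hP hq
      rw [Sylow.coe_subgroup_smul, Subgroup.mem_pointwise_smul_iff_inv_smul_mem] at hq2
      have h3 := hR hq2
      rw [Subgroup.mem_centralizer_iff] at h3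
      have h4 := h3 u rfl
      simp only [← map_inv, MulAut.smul_def, MulAut.conj_apply, inv_inv] at h4
      calc q * (g * u * g⁻¹) = g * ((g⁻¹ * q * g) * u) * g⁻¹ := by group
        _ = g * (u * (g⁻¹ * q * g)) * g⁻¹ := by rw [h4]
        _ = g * u * g⁻¹ * q := by group
    · intro h
      apply hu1
      calc u = g⁻¹ * (g * u * g⁻¹) * g := by group
        _ = 1 := by rw [h]; group
  exact (isConj_iff.2 ⟨g, h1⟩).symm

end Cfsg.Agent.S0481
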