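import Cfsg.Statements.S0493
import Cfsg.Agent.S0073
import Cfsg.Agent.Char.Burnside
-- import your own Cfsg.Agent.* helpers here

set_option autoImplicit false
open Cfsg

namespace Cfsg.Agent.S0493

/-- A finite simple group of order at most 100 that is not cyclic has order 60. -/
theorem result {G : Type*} [Group G] [Finite G] [IsSimpleGroup G]
    (hG : ¬ IsCyclic G) (h : Nat.card G ≤ 100) : Nat.card G = 60 := by
  have hc : ∃ x y : G, x * y ≠ y * x := by
    by_contra hc
    push Not at hc
    have : IsMulCommutative G := ⟨⟨hc⟩⟩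
    let _ : CommGroup G := { (inferInstance : Group G) with mul_comm := hc }
    exact hG inferInstance
  have hns : ¬ Group.IsSolvable G := fun hs => by
    obtain ⟨x, y, hxy⟩ := hc
    exact hxy (IsSimpleGroup.comm_iff_isSolvable.mpr hs x y)
  have hB : ∀ p q : ℕ, p.Prime → q.Prime → ¬ Nat.card G ∣ p ^ 6 * q ^ 6 := fun p q hp hq hd =>
    hns (CL.Char.isSolvable_of_card_dvd hp hq hd)
  have h84 : Nat.card G ≠ 84 := by
    intro h84
    have : Fact (Nat.Prime 7) := ⟨by norm_num⟩
    obtain ⟨P⟩ : Nonempty (Sylow 7 G) := inferInstance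
    have h1 := card_sylow_modEq_one 7 G
    have h2 := P.card_dvd_index
    have h3 := P.card_eq_multiplicity
    have h4 := (P : Subgroup G).card_mul_index
    have h5 : (84 : ℕ).factorization 7 = 1 := by
      rw [show (84 : ℕ) = 7 ^ 1 * 12 by norm_num, Nat.factorization_mul (by norm_num) (by norm_num),
        Nat.Prime.factorization_pow (by norm_num)]
      simp [Nat.factorization_eq_zero_of_not_dvd]
    rw [h84, h5] at h3
    rw [h3, h84] at h4
    have h6 : (P : Subgroup G).index = 12 := by omega
    rw [h6] at h2
    have h7 : Nat.card (Sylow 7 G) = 1 := by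
      have := Nat.le_of_dvd (by norm_num) h2
      unfold Nat.ModEq at h1
      interval_cases hh : Nat.card (Sylow 7 G) <;> omega
    have : Subsingleton (Sylow 7 G) := (Nat.card_eq_one_iff_unique.mp h7).1
    rcases (Sylow.normal_of_subsingleton P).eq_bot_or_eq_top with h | h
    · rw [h] at h3; simp at h3
    · rw [h] at h6; simp at h6
  have h73 := Cfsg.Agent.S0073.result hc
  have hpos : 0 < Nat.card G := Nat.card_pos
  have b1 := hB 2 3 (by norm_num) (by norm_num)
  have b2 := hB 2 5 (by norm_num) (by norm_num)
  have b3 := hB 2 7 (by norm_num) (by norm_num)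
  have b4 := hB 2 11 (by norm_num) (by norm_num)
  generalize Nat.card G = n at *
  clear hB
  interval_cases n <;> first | rfl | omega | (exfalso; revert h73; norm_num)

end Cfsg.Agent.S0493
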