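import Cfsg.Statements.S0910
import Cfsg.Agent.Base
import Cfsg.Agent.Blocks.Center
import Cfsg.Agent.Blocks.LocalRingP
import Cfsg.Agent.Char.Burnside

set_option autoImplicit false
open Cfsg

namespace Cfsg.Agent.S0910

open CL.Blocks CL.Char

/-- Let G be a non-abelian finite simple group and p a prime. If an irreducible character χ lies in the principal block (relative to a maximal ideal of the algebraic integers containing p) and χ 1 is a power of p, then χ is the principal character. -/
theorem result {G : Type*} [Group G] [Finite G] (p : ℕ) [Fact p.Prime] (M : Ideal Cfsg.AlgInt) (hM : Cfsg.IsPModular p M) [IsSimpleGroup G] (hna : ∃ a b : G, a * b ≠ b * a) (χ : Cfsg.IrrCharacter G) (hχ : χ ∈ Cfsg.principalBlock M G) (k : ℕ) (hdeg : (χ : G → ℂ) 1 = (p : ℂ) ^ k) : (χ : G → ℂ) = fun _ => 1 := by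
  have := hM.2.1
  by_contra hne
  have hker := irr_charKer_eq_bot_of_simple χ.2 hne
  have hcen := irr_charCenter_eq_center χ.2 hker
  have hZ : Subgroup.center G = ⊥ := by
    rcases (inferInstance : (Subgroup.center G).Normal).eq_bot_or_eq_top with h | h
    · exact h
    · obtain ⟨a, b, hab⟩ := hna
      exact absurd (Subgroup.mem_center_iff.1 (h ▸ Subgroup.mem_top b) a) hab
  -- an element `x ≠ 1` whose class has size prime to `p`, or `k = 0`
  rcases Nat.eq_zero_or_pos k with rfl | hk
  · obtain ⟨f, hf⟩ := char_exists_unitsHom (irr_isCharacter χ.2) (by simpa using hdeg)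
    obtain ⟨a, b, hab⟩ := hna
    have : a ∈ charCenter (χ : G → ℂ) := by
      rw [char_mem_charCenter_iff (irr_isCharacter χ.2), hf]
      simp only [unitsHom_norm]
    rw [hcen] at this
    exact hab (Subgroup.mem_center_iff.1 this b).symm
  · have hd : (χ : G → ℂ) 1 = ((p ^ k : ℕ) : ℂ) := by simpa using hdeg
    have hdvd : p ∣ Nat.card G := by
      have h1 := charDegree_dvd_card χ
      have h2 : charDegree (χ : G → ℂ) = p ^ k := by
        have := cast_charDegree χ
        rw [hd] at this
        exact_mod_cast this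
      exact (dvd_pow_self p hk.ne').trans (h2 ▸ h1)
    obtain ⟨P⟩ : Nonempty (Sylow p G) := inferInstance
    have hP : Nontrivial (P : Subgroup G) :=
      (Subgroup.nontrivial_iff_ne_bot _).2 (P.ne_bot_of_dvd_card hdvd)
    have hc := P.2.center_nontrivial
    obtain ⟨⟨x, hx⟩, hx1⟩ := exists_ne (1 : Subgroup.center (P : Subgroup G))
    have hx1' : (x : G) ≠ 1 := fun h => hx1 (Subtype.ext (Subtype.ext h))
    have hle : (P : Subgroup G) ≤ Subgroup.centralizer ({(x : G)} : Set G) := fun u hu =>
      Subgroup.mem_centralizer_singleton_iff.2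
        (congrArg Subtype.val (Subgroup.mem_center_iff.1 hx ⟨u, hu⟩))
    have hidx : ¬ p ∣ (Subgroup.centralizer ({(x : G)} : Set G)).index := fun h =>
      P.not_dvd_index (h.trans (Subgroup.index_dvd_of_le hle))
    rcases irr_eq_zero_or_mem_charCenter χ.2 hd x
      (Nat.Coprime.pow_left k ((Nat.Prime.coprime_iff_not_dvd hM.1).2 hidx)) with h | h
    · have h1 := hχ (x : G)
      simp only [centralChar, h, mul_zero, zero_div, sub_zero, mul_one, div_one] at h1
      exact hidx ((memLocalIdeal_natCast hM).1 h1)
    · rw [hcen, hZ] at h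
      exact hx1' h

end Cfsg.Agent.S0910
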