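import Cfsg.Statements.S0496
import Cfsg.Agent.Base
import Cfsg.Agent.Small.Sieve

set_option autoImplicit false
open Cfsg

namespace Cfsg.Agent.S0496

/-- A non-abelian finite simple group of order at most 1092 has order 60, 168, 360, 504, 660 or 1092. -/
theorem result {G : Type*} [Group G] [Finite G] [IsSimpleGroup G]
    (hG : ¬ IsMulCommutative G) (h : Nat.card G ≤ 1092) :
    Nat.card G = 60 ∨ Nat.card G = 168 ∨ Nat.card G = 360 ∨ Nat.card G = 504 ∨ Nat.card G = 660 ∨
      Nat.card G = 1092 := by
  have h1 : ((List.range 1093).all fun n =>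
      CL.Sieve.kill 80 n || n ∈ [0, 60, 168, 360, 504, 660, 1092]) = true := by decide +kernel
  have h2 := List.all_eq_true.mp h1 (Nat.card G) (List.mem_range.mpr (by omega))
  have h3 := CL.Sieve.not_kill hG 80
  have h4 : 0 < Nat.card G := Nat.card_pos
  simp only [Bool.or_eq_true, h3, false_or, decide_eq_true_eq, List.mem_cons, List.not_mem_nil,
    or_false, Bool.false_eq_true] at h2
  omega

end Cfsg.Agent.S0496
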