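import Cfsg.Agent.Base
import Cfsg.Statements.S0497
import Cfsg.Agent.Small.PSL2Rec4
import Cfsg.Agent.Small.Count
import Cfsg.Agent.Solv.Core

set_option autoImplicit false
open Cfsg

namespace Cfsg.Agent.S0497

open Subgroup MulAction CL.SG in
theorem key {G : Type*} [Group G] [Finite G] [IsSimpleGroup G] (h : Nat.card G = 360) :
    ∃ (F : Type) (_ : Field F) (_ : Fintype F), Fintype.card F = 9 ∧
      Nonempty (G ≃* Matrix.ProjectiveSpecialLinearGroup (Fin 2) F) := by
  classical
  have : Fact (Nat.Prime 3) := ⟨by norm_num⟩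
  have hperf := CL.PSL2Rec.isPerfect_of_simple (G := G)
    (CL.PSL2Rec.not_comm_of_simple (by rw [h]; norm_num))
  have hS : ∀ P : Sylow 3 G, Nat.card (P : Subgroup G) = 9 := fun P =>
    card_sylow_of_eq P (k := 2) (m := 40) (by rw [h]; norm_num) (by norm_num)
  have hSc : ∀ P : Sylow 3 G, ∀ x ∈ (P : Subgroup G), ∀ y ∈ (P : Subgroup G), x * y = y * x := by
    intro P x hx y hy
    have := IsPGroup.isMulCommutative_of_card_eq_prime_sq (p := 3) (G := (P : Subgroup G))
      (by rw [hS]; norm_num)
    exact congrArg Subtype.val (mul_comm' (⟨x, hx⟩ : (P : Subgroup G)) ⟨y, hy⟩)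
  have hidx : ∀ H : Subgroup G, H ≠ ⊤ → 6 ≤ H.index := by
    intro H hH
    have h1 := card_dvd_factorial_index hH
    rw [h] at h1
    by_contra hcon
    push Not at hcon
    generalize H.index = n at h1 hcon
    interval_cases n <;> simp [Nat.factorial] at h1
  have hci : ∀ P : Sylow 3 G, (normalizer ((P : Subgroup G) : Set G)).index =
      Nat.card (Sylow 3 G) := fun P => P.card_eq_index_normalizer.symm
  obtain ⟨P⟩ : Nonempty (Sylow 3 G) := inferInstance
  have hb : ∀ P : Sylow 3 G, (P : Subgroup G) ≠ ⊥ := fun P => ne_bot_of_card (by rw [hS]; norm_num)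
  have ht : ∀ P : Sylow 3 G, (P : Subgroup G) ≠ ⊤ := fun P =>
    ne_top_of_card (by rw [hS, h]; norm_num)
  have hn : Nat.card (Sylow 3 G) = 10 := by
    have h1 := P.card_dvd_index
    have h2 := card_sylow_modEq_one 3 G
    have h3 := hidx _ (normalizer_ne_top (hb P) (ht P))
    have h4 := card_mul_index (P : Subgroup G)
    have h5 := card_sylow_mul_card_normalizer P
    rw [hci] at h3
    rw [hS, h] at h4
    rw [show (P : Subgroup G).index = 40 by omega] at h1
    have h6 : Nat.card (Sylow 3 G) ≠ 40 := by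
      intro e
      rw [e, h] at h5
      apply not_normalizer_le_centralizer P (hb P) (ht P)
      rw [← eq_of_le_of_card_le le_normalizer (by rw [hS]; omega)]
      intro x hx y hy
      exact hSc P y hy x hx
    have h7 := Nat.le_of_dvd (by norm_num) h1
    generalize Nat.card (Sylow 3 G) = n at *
    unfold Nat.ModEq at h2
    interval_cases n <;> omega
  have hN : ∀ P : Sylow 3 G, Nat.card (normalizer ((P : Subgroup G) : Set G)) = 36 := by
    intro P
    have h5 := card_sylow_mul_card_normalizer P
    rw [hn, h] at h5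
    omega
  have hTI : ∀ Q : Sylow 3 G, Q ≠ P → (P : Subgroup G) ⊓ Q = ⊥ := by
    intro Q hQ
    by_contra hD
    set D := (P : Subgroup G) ⊓ Q with hDdef
    have hDlt : Nat.card D ≤ 3 := by
      have h1 : Nat.card D ∣ 3 ^ 2 := (card_dvd_of_le inf_le_left).trans (hS P).dvd
      obtain ⟨k, hk, hk'⟩ := (Nat.dvd_prime_pow (by norm_num)).1 h1
      interval_cases k
      · omega
      · omega
      · exfalso
        have a1 : D = P := eq_of_le_of_card_le inf_le_left (by rw [hk', hS]; norm_num)
        have a2 : D = Q := eq_of_le_of_card_le inf_le_right (by rw [hk', hS]; norm_num)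
        exact hQ (Sylow.ext (a2.symm.trans a1))
    set M := normalizer (D : Set G) with hM
    have hMt : M ≠ ⊤ := normalizer_ne_top hD (ne_top_of_card (by omega))
    have hle : ∀ R : Sylow 3 G, D ≤ R → (R : Subgroup G) ≤ M := by
      intro R hR x hx
      apply centralizer_le_normalizer
      intro y hy
      exact hSc R y (hR hy) x hx
    have hPM := hle P inf_le_left
    have hQM := hle Q inf_le_right
    have h1 := hidx M hMt
    have h2 := card_mul_index M
    have h3 := card_sylow_mul_card_normalizer (P.subtype hPM)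
    have h4 := card_sylow_modEq_one 3 M
    have h5 : 1 < Nat.card (Sylow 3 M) := by
      rw [Finite.one_lt_card_iff_nontrivial]
      exact ⟨P.subtype hPM, Q.subtype hQM, fun e => hQ (Sylow.subtype_injective e).symm⟩
    have h6 : Nat.card ((P.subtype hPM : Sylow 3 M) : Subgroup M) = 9 := by
      rw [Sylow.coe_subtype, card_subgroupOf hPM, hS]
    obtain ⟨j, hj⟩ := card_dvd_of_le
      (le_normalizer (H := ((P.subtype hPM : Sylow 3 M) : Subgroup M)))
    rw [h6] at hj
    have h7 : j = 1 := by
      rw [hj] at h3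
      rw [← h3, h] at h2
      unfold Nat.ModEq at h4
      generalize Nat.card (Sylow 3 M) = n at *
      generalize M.index = i at *
      have h8 : n * j * i = 40 := by nlinarith
      have hj0 : 0 < j := by
        rcases Nat.eq_zero_or_pos j with rfl | h
        · simp at h8
        · exact h
      have : 4 ≤ n := by omega
      by_contra hne
      have : 2 ≤ j := by omega
      have : 4 * 2 * 6 ≤ n * j * i := by gcongr
      omega
    have h8 : normalizer (((P.subtype hPM : Sylow 3 M) : Subgroup M) : Set M) =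
        ((P.subtype hPM : Sylow 3 M) : Subgroup M) :=
      (eq_of_le_of_card_le le_normalizer (by rw [hj, h6, h7])).symm
    have h9 : normalizer ((Q : Subgroup G) : Set G) ⊓ normalizer ((P : Subgroup G) : Set G) ≤ D := by
      rintro g ⟨hg1, hg2⟩
      have hgM : g ∈ M := by
        rw [hM, mem_normalizer_iff]
        intro y
        exact and_congr (mem_normalizer_iff.1 hg2 y) (mem_normalizer_iff.1 hg1 y)
      have : (⟨g, hgM⟩ : M) ∈ ((P.subtype hPM : Sylow 3 M) : Subgroup M) := by
        rw [← h8, mem_normalizer_iff]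
        intro y
        exact mem_normalizer_iff.1 hg2 y
      have hgP : g ∈ (P : Subgroup G) := this
      rw [hDdef, ← P.isPGroup'.inf_normalizer_sylow Q]
      exact ⟨hgP, hg1⟩
    have h10 := CL.card_mul_relIndex_of_le (inf_le_right : normalizer ((Q : Subgroup G) : Set G) ⊓
      normalizer ((P : Subgroup G) : Set G) ≤ _)
    have h11 := relIndex_le_of_le_right (H := normalizer ((Q : Subgroup G) : Set G))
      (le_top : normalizer ((P : Subgroup G) : Set G) ≤ ⊤)
      (by rw [relIndex_top_right]; exact index_ne_zero_of_finite)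
    rw [relIndex_top_right, hci, hn] at h11
    rw [inf_relIndex_right, hN] at h10
    have h12 := card_le_of_le h9
    nlinarith
  have hnt : Nontrivial (Sylow 3 G) := Finite.one_lt_card_iff_nontrivial.1 (by omega)
  obtain ⟨Q, hQ⟩ := exists_ne P
  have hfaith : FaithfulSMul G (Sylow 3 G) := by
    rw [faithfulSMul_iff]
    intro g hg
    refine eq_one_of_forall_conj_mem (normalizer_ne_top (hb P) (ht P)) (fun x => ?_)
    exact Sylow.smul_eq_iff_mem_normalizer.1 (by rw [mul_smul, mul_smul, hg, smul_inv_smul])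
  have hPα : ∀ x ∈ (P : Subgroup G), x • P = P := fun x hx =>
    Sylow.smul_eq_iff_mem_normalizer.2 (le_normalizer hx)
  have hreg : ∀ x ∈ (P : Subgroup G), x • Q = Q → x = 1 := by
    intro x hx hxQ
    rw [← mem_bot, ← hTI Q hQ, ← P.isPGroup'.inf_normalizer_sylow Q]
    exact ⟨hx, Sylow.smul_eq_iff_mem_normalizer.1 hxQ⟩
  have hne : ∀ x ∈ (P : Subgroup G), x • Q ≠ P := by
    intro x hx e
    exact hQ (MulAction.injective x (e.trans (hPα x hx).symm))
  have hinj : ∀ x ∈ (P : Subgroup G), ∀ y ∈ (P : Subgroup G), x • Q = y • Q → x = y := by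
    intro x hx y hy e
    have := hreg _ (mul_mem (inv_mem hy) hx) (by rw [mul_smul, e, inv_smul_smul])
    exact (inv_mul_eq_one.1 this).symm
  have hsurj : ∀ ω, ω ≠ P → ∃ x ∈ (P : Subgroup G), x • Q = ω := by
    intro ω hω
    let f : ↥(P : Subgroup G) → {ω : Sylow 3 G // ω ≠ P} := fun x => ⟨(x : G) • Q, hne x x.2⟩
    have hf : Function.Injective f := fun x y e =>
      Subtype.ext (hinj _ x.2 _ y.2 (congrArg Subtype.val e))
    have : Fintype (Sylow 3 G) := Fintype.ofFinite _
    have hb : Function.Bijective f := by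
      rw [Nat.bijective_iff_injective_and_card]
      refine ⟨hf, ?_⟩
      rw [hS, Nat.card_eq_fintype_card, Fintype.card_subtype_compl, Fintype.card_subtype_eq,
        ← Nat.card_eq_fintype_card, hn]
    obtain ⟨x, hx⟩ := hb.2 ⟨ω, hω⟩
    exact ⟨x, x.2, congrArg Subtype.val hx⟩
  have hPn : ∀ g : G, g • P = P → ∀ x ∈ (P : Subgroup G), g * x * g⁻¹ ∈ (P : Subgroup G) :=
    fun g hg x hx => (mem_normalizer_iff.1 (Sylow.smul_eq_iff_mem_normalizer.1 hg) x).1 hx
  let K : Subgroup G := normalizer ((P : Subgroup G) : Set G) ⊓ normalizer ((Q : Subgroup G) : Set G)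
  have hK : ∀ k : G, k • P = P → k • Q = Q → k ∈ K := fun k h1 h2 =>
    ⟨Sylow.smul_eq_iff_mem_normalizer.1 h1, Sylow.smul_eq_iff_mem_normalizer.1 h2⟩
  have hK4 : Nat.card K ∣ 2 ^ 2 := by
    have h1 : Nat.card K ∣ 4 * 3 ^ 2 := (card_dvd_of_le inf_le_left).trans (hN P).dvd
    refine Nat.Coprime.dvd_of_dvd_mul_right ?_ h1
    apply Nat.Coprime.pow_right
    rw [Nat.coprime_comm, Nat.Prime.coprime_iff_not_dvd (by norm_num)]
    intro h3
    obtain ⟨x, hx, hx3⟩ := exists_orderOf_eq_mem K 3 h3
    have h4 := hreg x (mem_sylow_of_mem_normalizer P (k := 1) (by simp [hx3]) hx.1)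
      (Sylow.smul_eq_iff_mem_normalizer.2 hx.2)
    rw [h4, orderOf_one] at hx3
    omega
  have hKc : IsMulCommutative K := by
    have : Fact (Nat.Prime 2) := ⟨by norm_num⟩
    obtain ⟨k, hk, hk'⟩ := (Nat.dvd_prime_pow (by norm_num)).1 hK4
    interval_cases k
    · have : Subsingleton K := (Nat.card_eq_one_iff_unique.1 hk').1
      infer_instance
    · have := isCyclic_of_prime_card (p := 2) hk'
      infer_instance
    · exact IsPGroup.isMulCommutative_of_card_eq_prime_sq hk'
  have hinv : ∀ s : G, s • P = P → s • Q = Q → s ^ 2 = 1 → ∀ x ∈ (P : Subgroup G), s * x = x * s →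
      s = 1 ∨ x = 1 := by
    intro s hs1 hs2 hss x hx hsx
    by_contra hcon
    push Not at hcon
    let C : Subgroup G := (P : Subgroup G) ⊓ centralizer {s}
    have hC : Nat.card C = 3 := by
      have h1 : Nat.card C ∣ 3 ^ 2 := (card_dvd_of_le inf_le_left).trans (hS P).dvd
      obtain ⟨k, hk, hk'⟩ := (Nat.dvd_prime_pow (by norm_num)).1 h1
      interval_cases k
      · exfalso
        have : x ∈ C := ⟨hx, mem_centralizer_singleton_iff.2 hsx.symm⟩
        rw [card_eq_one.1 hk'] at this
        exact hcon.2 this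
      · exact hk'
      · exfalso
        have a1 : C = P := eq_of_le_of_card_le inf_le_left (by rw [hk', hS]; norm_num)
        apply hcon.1
        apply FaithfulSMul.eq_of_smul_eq_smul (α := Sylow 3 G)
        intro ω
        rw [one_smul]
        by_cases hω : ω = P
        · rw [hω, hs1]
        · obtain ⟨y, hy, rfl⟩ := hsurj ω hω
          rw [← a1] at hy
          rw [← mul_smul, ← mem_centralizer_singleton_iff.1 hy.2, mul_smul, hs2]
    have : Fintype (Sylow 3 G) := Fintype.ofFinite _
    have hfix : Nat.card (Option C) =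
        Nat.card (Function.fixedPoints (toPermHom G (Sylow 3 G) s)) := by
      refine Nat.card_eq_of_bijective (fun o => o.elim ⟨P, hs1⟩ (fun y => ⟨(y : G) • Q, ?_⟩)) ⟨?_, ?_⟩
      · change s • (y : G) • Q = (y : G) • Q
        rw [← mul_smul, ← mem_centralizer_singleton_iff.1 y.2.2, mul_smul, hs2]
      · rintro (_ | y) (_ | z) e
        · rfl
        · exact absurd (congrArg Subtype.val e).symm (hne _ z.2.1)
        · exact absurd (congrArg Subtype.val e) (hne _ y.2.1)
        · rw [Subtype.ext (hinj _ y.2.1 _ z.2.1 (congrArg Subtype.val e))]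
      · rintro ⟨ω, hω⟩
        by_cases hωP : ω = P
        · exact ⟨none, Subtype.ext hωP.symm⟩
        · obtain ⟨y, hy, rfl⟩ := hsurj ω hωP
          have h1 : s • y • Q = y • Q := hω
          have h2 : s * y * s⁻¹ = y := hinj _ (hPn s hs1 y hy) _ hy (by
            rw [mul_smul, mul_smul, inv_smul_eq_iff.2 hs2.symm, h1])
          refine ⟨some ⟨y, hy, mem_centralizer_singleton_iff.2 ?_⟩, rfl⟩
          rw [mul_inv_eq_iff_eq_mul] at h2
          exact h2.symm
    have hsign := Equiv.Perm.sign_of_pow_two_eq_one (σ := toPermHom G (Sylow 3 G) s)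
      (by rw [← map_pow, hss, map_one])
    rw [← Nat.card_eq_fintype_card, ← Nat.card_eq_fintype_card, ← hfix, Finite.card_option, hC,
      hn] at hsign
    have hle : commutator G ≤ (Equiv.Perm.sign.comp (toPermHom G (Sylow 3 G))).ker :=
      Abelianization.commutator_subset_ker _
    have h1 : Equiv.Perm.sign (toPermHom G (Sylow 3 G) s) = 1 :=
      hle (by rw [Group.IsPerfect.commutator_eq_top]; trivial)
    rw [h1] at hsign
    norm_num at hsign
  obtain ⟨F, _, _, hF, e⟩ := CL.PSL2Rec.equiv_of_abelian_regular P Q hQ (P : Subgroup G) (hb P)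
    (by rw [hS]; decide) (hSc P) hPα hPn hreg hsurj
    (fun k l a b c d => congrArg Subtype.val (mul_comm' (⟨k, hK k a b⟩ : K) ⟨l, hK l c d⟩))
    (fun k a b x hx hkx => by
      have h4 : k ^ 4 = 1 := orderOf_dvd_iff_pow_eq_one.1
        ((orderOf_dvd_card_of_mem (hK k a b)).trans hK4)
      by_cases h2 : k ^ 2 = 1
      · exact hinv k a b h2 x hx hkx
      · have hc : Commute k x := hkx
        rcases hinv (k ^ 2) (by rw [pow_two, mul_smul, a, a]) (by rw [pow_two, mul_smul, b, b])
          (by rw [← pow_mul]; exact h4) x hx (hc.pow_left 2) with h5 | h5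
        · exact absurd h5 h2
        · exact Or.inr h5)
    (by rw [Sylow.stabilizer_eq_normalizer, hS]; exact congrArg (2 * ·) (hN P))
    (by obtain ⟨g, hg⟩ := exists_smul_eq G P Q; exact ⟨g, by rw [hg]; exact hQ⟩) (Or.inl hperf)
  exact ⟨F, inferInstance, inferInstance, by rw [hF, hS], e⟩

/-- A simple group of order 360 is isomorphic to the alternating group of degree 6. -/
theorem result {G : Type*} [Group G] [Finite G] [IsSimpleGroup G]
    (h : Nat.card G = 360) : Nonempty (G ≃* alternatingGroup (Fin 6)) := by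
  obtain ⟨F, _, _, hF, ⟨e⟩⟩ := key h
  have : IsSimpleGroup (alternatingGroup (Fin 6)) := alternatingGroup.isSimpleGroup (by simp)
  have hA : Nat.card (alternatingGroup (Fin 6)) = 360 := by
    rw [nat_card_alternatingGroup]; simp [Nat.factorial]
  obtain ⟨F', _, _, hF', ⟨e'⟩⟩ := key hA
  exact ⟨(e.trans (CL.PSL2Rec.pslCongr
    (FiniteField.ringEquivOfCardEq (hF.trans hF'.symm)))).trans e'.symm⟩

end Cfsg.Agent.S0497
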