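import Cfsg.Agent.Base
import Cfsg.Statements.S0499
import Cfsg.Agent.Transfer.Frobenius
import Cfsg.Agent.Transfer.AbSylow
import Cfsg.Agent.PLocal.Cores
import Cfsg.Agent.Solv.Core

set_option autoImplicit false
open Cfsg

namespace Cfsg.Agent.S0499

/-- A non-abelian finite simple group of even order has order divisible by 12, 16 or 56. -/
theorem result {G : Type*} [Group G] [Finite G] [IsSimpleGroup G]
    (hG : ¬ IsMulCommutative G) (h2 : Even (Nat.card G)) :
    12 ∣ Nat.card G ∨ 16 ∣ Nat.card G ∨ 56 ∣ Nat.card G := by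
  by_contra hcon
  push Not at hcon
  obtain ⟨h12, h16, h56⟩ := hcon
  obtain ⟨P⟩ : Nonempty (Sylow 2 G) := inferInstance
  have hn : ¬ Cfsg.HasNormalPComplement 2 G := by
    intro h
    obtain ⟨N, hN, h1, k, hk⟩ := CL.Transfer.hasNormalPComplement_iff_exists_normal.1 h
    rcases hN.eq_bot_or_eq_top with rfl | rfl
    · rw [Subgroup.index_bot] at hk
      have hp : IsPGroup 2 G := IsPGroup.iff_card.2 ⟨k, hk⟩
      have := hp.isNilpotent
      have hs : Group.IsSolvable G := inferInstance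
      exact hG ⟨⟨IsSimpleGroup.comm_iff_isSolvable.2 hs⟩⟩
    · rw [Subgroup.card_top] at h1
      exact h1 h2.two_dvd
  obtain ⟨Q, g, q, k, hQP, hq, hq2, hg, hgN, hgC⟩ :=
    CL.Transfer.exists_of_not_hasNormalPComplement P hn
  obtain ⟨m, hm⟩ := IsPGroup.iff_card.1 (P.isPGroup'.to_le hQP)
  have hmd : 2 ^ m ∣ Nat.card G := hm ▸ Q.card_subgroup_dvd_card
  have hm3 : m ≤ 3 := by
    by_contra h
    exact h16 ((pow_dvd_pow 2 (show 4 ≤ m by omega)).trans hmd)
  obtain ⟨l, hl⟩ := CL.Focal.isPGroup_normalizer_quotient_centralizer Nat.prime_two Q hm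
    (fun r hr hr2 hrG j hj1 hj2 hd => by
      have hj : 2 ^ j ∣ Nat.card G := (pow_dvd_pow 2 hj2).trans hmd
      have hj3 : j ≤ 3 := hj2.trans hm3
      interval_cases j
      · exact hr.one_lt.ne' (Nat.dvd_one.1 hd)
      · obtain rfl : r = 3 := (Nat.prime_dvd_prime_iff_eq hr Nat.prime_three).1 hd
        exact h12 (Nat.Coprime.mul_dvd_of_dvd_of_dvd (show Nat.Coprime 4 3 by norm_num) hj hrG)
      · obtain rfl : r = 7 := (Nat.prime_dvd_prime_iff_eq hr (by norm_num)).1 hd
        exact h56 (Nat.Coprime.mul_dvd_of_dvd_of_dvd (show Nat.Coprime 8 7 by norm_num) hj hrG))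
  apply hgC
  set N := Subgroup.normalizer (Q : Set G)
  have : ((Subgroup.centralizer (Q : Set G)).subgroupOf N).Normal :=
    CL.normal_subgroupOf_of_le_normalizer' (CL.Transfer.normalizer_le_normalizer_centralizer Q)
  have h1 : (⟨g, hgN⟩ : N) ^ 2 ^ l ∈ (Subgroup.centralizer (Q : Set G)).subgroupOf N := by
    rw [← hl]
    exact Subgroup.pow_index_mem _ _
  refine CL.PL.mem_of_pow_mem_of_coprime (m := 2 ^ l) (n := q ^ k)
    (Nat.Coprime.pow _ _ ((Nat.coprime_primes Nat.prime_two hq).2 hq2.symm)) h1 ?_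
  rw [← hg, pow_orderOf_eq_one]
  exact one_mem _

end Cfsg.Agent.S0499
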