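import Cfsg.Agent.Base
import Cfsg.Statements.S0502
import Cfsg.Agent.PGrp.Basic
import Cfsg.Agent.TwoFus.Three
import Cfsg.Agent.Solv.Core

set_option autoImplicit false
open Cfsg

namespace Cfsg.Agent.S0502

open Subgroup in
/-- An involution normalizing an elementary abelian `2`-group of order at least `8` centralizes
an element outside `{1, z}`. -/
theorem exists_fixed {P : Type*} [Group P] [Finite P] (E : Subgroup P) [hN : E.Normal]
    (hE : IsMulCommutative E) (hE2 : ∀ e ∈ E, e ^ 2 = 1) (hE8 : 8 ≤ Nat.card E) {v z : P}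
    (hv : v * v = 1) (hz : z * z = 1) : ∃ e ∈ E, e * v = v * e ∧ e ≠ 1 ∧ e ≠ z := by
  by_contra hcon
  push Not at hcon
  have hc : ∀ a ∈ E, ∀ b ∈ E, a * b = b * a := fun a ha b hb =>
    congrArg Subtype.val (mul_comm' (⟨a, ha⟩ : E) ⟨b, hb⟩)
  have hvi : v⁻¹ = v := inv_eq_of_mul_eq_one_right hv
  let φ : E →* P :=
    { toFun := fun e => (e : P) * (v * e * v⁻¹)
      map_one' := by simp
      map_mul' := fun a b => by
        have h1 := hc _ b.2 _ (hN.conj_mem _ a.2 v)
        simp only [coe_mul]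
        calc (a : P) * b * (v * (a * b) * v⁻¹) = a * (b * (v * a * v⁻¹)) * (v * b * v⁻¹) := by group
          _ = _ := by rw [h1]; group }
  have hz2 : Nat.card (zpowers z) ≤ 2 := by
    rw [Nat.card_zpowers]
    exact Nat.le_of_dvd two_pos (orderOf_dvd_of_pow_eq_one (by rw [pow_two, hz]))
  have key : ∀ e ∈ E, e * v = v * e → e ∈ zpowers z := fun e he h => by
    by_cases h1 : e = 1
    · rw [h1]; exact one_mem _
    · rw [hcon e he h h1]; exact mem_zpowers z
  have h1 : Nat.card φ.ker ≤ 2 := by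
    rw [← CL.card_map_subtype_eq]
    refine le_trans (card_le_of_le ?_) hz2
    rintro _ ⟨e, he, rfl⟩
    refine key _ e.2 ?_
    have h2 : (e : P) * (v * e * v⁻¹) = 1 := he
    have h3 : (e : P) * e = 1 := by rw [← pow_two, hE2 _ e.2]
    have h4 : v * e * v⁻¹ = e := mul_left_cancel (h2.trans h3.symm)
    exact (mul_inv_eq_iff_eq_mul.1 h4).symm
  have h2 : Nat.card φ.range ≤ 2 := by
    refine le_trans (card_le_of_le ?_) hz2
    rintro _ ⟨e, rfl⟩
    have hm := hN.conj_mem _ e.2 v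
    refine key _ (E.mul_mem e.2 hm) ?_
    change (e : P) * (v * e * v⁻¹) * v = v * (e * (v * e * v⁻¹))
    rw [hc _ e.2 _ hm, hvi]
    calc v * e * v * e * v = v * (e * (v * e * v)) := by group
      _ = v * ((v * e * v) * e) := by
        have := hc _ e.2 _ hm
        rw [hvi] at this
        rw [this]
      _ = v * (v * e * v * e) := by group
  have h3 := φ.ker.card_mul_index
  rw [index_ker] at h3
  have := Nat.mul_le_mul h1 h2
  omega

/-- If a finite 2-group has a normal elementary abelian subgroup of order at least 8, then any two of its Klein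
four-subgroups are joined by a chain of Klein four-subgroups with consecutive members commuting elementwise. -/
theorem result {P : Type*} [Group P] [Finite P] (hP : IsPGroup 2 P)
    (E : Subgroup P) [E.Normal] (hE : IsMulCommutative E) (hE2 : ∀ e ∈ E, e ^ 2 = 1) (hE8 : 8 ≤ Nat.card E) :
    Cfsg.IsFourConnected P := by
  have hE1 : E ≠ ⊥ := by
    rintro rfl
    simp at hE8
  obtain ⟨z, hzE, hz1, hzc, hz2⟩ := CL.PGrp.exists_mem_center_of_normal hP E hE1
  rw [pow_two] at hz2
  have hzc' : ∀ g, g * z = z * g := Subgroup.mem_center_iff.1 hzc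
  have hc : ∀ a ∈ E, ∀ b ∈ E, a * b = b * a := fun a ha b hb =>
    congrArg Subtype.val (mul_comm' (⟨a, ha⟩ : E) ⟨b, hb⟩)
  set R := fun A B : Subgroup P => IsKleinFour A ∧ IsKleinFour B ∧ ∀ a ∈ A, ∀ b ∈ B, a * b = b * a
    with hR
  have hsymm : ∀ A B, R A B → R B A := fun A B h =>
    ⟨h.2.1, h.1, fun b hb a ha => (h.2.2 a ha b hb).symm⟩
  have key : ∀ U : Subgroup P, IsKleinFour U → ∃ Y X : Subgroup P, X ≤ E ∧ R U Y ∧ R Y X := by
    intro U hU
    obtain ⟨a, b, hab⟩ := CL.exists_isFourData hU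
    obtain ⟨v, hvU, hv1, hvz⟩ : ∃ v ∈ U, v ≠ 1 ∧ v ≠ z := by
      by_cases h : a = z
      · exact ⟨b, hab.b_mem, hab.b_ne, fun h' => hab.ne (h.trans h'.symm)⟩
      · exact ⟨a, hab.a_mem, hab.a_ne, h⟩
    have hv2 := hab.sq_eq_one hvU
    obtain ⟨e, heE, hev, he1, hez⟩ := exists_fixed E hE hE2 hE8 hv2 hz2
    have hY := CL.isFourData_closure hz2 hv2 (hzc' v).symm hz1 hv1 hvz.symm
    have hX := CL.isFourData_closure hz2 (by rw [← pow_two, hE2 e heE]) (hzc' e).symm hz1 he1
      hez.symm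
    refine ⟨_, _, ?_, ⟨hU, hY.isKleinFour, fun u hu => ?_⟩,
      ⟨hY.isKleinFour, hX.isKleinFour, fun u hu => ?_⟩⟩
    · rw [Subgroup.closure_le]
      rintro _ (rfl | rfl)
      exacts [hzE, heE]
    · refine fun w hw => ((hY.mem_centralizer_iff (g := u)).2 ⟨(hzc' u).symm, ?_⟩ w hw).symm
      have := hU
      have := IsKleinFour.isMulCommutative (G := U)
      exact congrArg Subtype.val (mul_comm' (⟨v, hvU⟩ : U) ⟨u, hu⟩)
    · refine fun w hw => ((hX.mem_centralizer_iff (g := u)).2 ⟨(hzc' u).symm, ?_⟩ w hw).symm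
      exact ((hY.mem_centralizer_iff (g := e)).2 ⟨(hzc' e).symm, hev.symm⟩ u hu).symm
  intro U V hU hV
  obtain ⟨Y, X, hX, h1, h2⟩ := key U hU
  obtain ⟨Y', X', hX', h1', h2'⟩ := key V hV
  have h3 : R X X' := ⟨h2.2.1, h2'.2.1, fun a ha b hb => hc a (hX ha) b (hX' hb)⟩
  exact (((((Relation.ReflTransGen.single h1).tail h2).tail h3).tail (hsymm _ _ h2')).tail
    (hsymm _ _ h1'))

end Cfsg.Agent.S0502
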