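import Cfsg.Agent.Base
import Cfsg.Statements.S0505
import Cfsg.Agent.PLocal.CharPLocal
import Cfsg.Agent.Solv.Fitting
import Cfsg.Agent.PLocal.ElemAb

set_option autoImplicit false
open Cfsg

namespace Cfsg.Agent.S0505

open Subgroup Cfsg in
/-- If all involution centralizers have characteristic 2, so do all 2-local subgroups. -/
theorem charTwo_normalizer {G : Type*} [Group G] [Finite G]
    (h : ∀ t : G, orderOf t = 2 → IsOfCharacteristicTwo (centralizer ({t} : Set G)))
    (T : Subgroup G) (hT : IsPGroup 2 T) (hT1 : T ≠ ⊥) :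
    IsOfCharacteristicTwo (normalizer (T : Set G)) := by
  have : Nontrivial T := (Subgroup.nontrivial_iff_ne_bot T).2 hT1
  have := hT.center_nontrivial
  have hc : 2 ∣ Nat.card (center T) := by
    obtain ⟨k, hk⟩ := IsPGroup.iff_card.mp (hT.to_subgroup (center T))
    rw [hk]
    refine dvd_pow_self 2 ?_
    rintro rfl
    have := Finite.one_lt_card (α := center T)
    omega
  obtain ⟨z, hz⟩ := exists_prime_orderOf_dvd_card' 2 hc
  set t : G := ((z : T) : G) with ht
  have ht2 : orderOf t = 2 := by
    rw [ht, Subgroup.orderOf_coe, Subgroup.orderOf_coe, hz]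
  have htT : t ∈ T := (z : T).2
  set C := centralizer ({t} : Set G) with hC
  have hTC : T ≤ C := by
    intro y hy
    rw [hC, mem_centralizer_singleton_iff]
    exact congrArg Subtype.val (mem_center_iff.1 z.2 ⟨y, hy⟩)
  have hCC : centralizer (T : Set G) ≤ C :=
    centralizer_le (Set.singleton_subset_iff.2 htT)
  refine CL.PL.charP_of_forall_coprime fun x hx hx' => Subtype.ext ?_
  have hxT : (x : G) ∈ centralizer (T : Set G) := fun y hy =>
    congrArg Subtype.val (hx ⟨y, le_normalizer hy⟩ (CL.PL.subgroupOf_le_pCore hT le_rfl hy))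
  have key := CL.PL.eq_one_of_centralizes_of_charP (p := 2) (h t ht2) (P := T.subgroupOf C)
    (CL.IsPGroup_subgroupOf hT C) (x := ⟨x, hCC hxT⟩)
    (by rw [← Subgroup.orderOf_coe]; simpa using hx')
    (fun y hy => Subtype.ext (hxT y hy)) ?_
  · exact congrArg (fun w : C => (w : G)) key
  intro y hy
  apply Subtype.ext
  have hyT : (y : G) ∈ centralizer (T : Set G) := fun w hw =>
    congrArg Subtype.val (hy.2 ⟨w, hTC hw⟩ hw)
  -- `y` lies in `O_2(C_G(T))`, which lies in `O_2(N_G(T))`
  set D := centralizer (T : Set G) with hD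
  have h1 : (y : G) ∈ (pCore 2 D).map D.subtype := by
    have hle : (pCore 2 C).map C.subtype ⊓ D ≤ (pCore 2 D).map D.subtype := by
      refine CL.le_map_subtype_pCore inf_le_right ?_
        ((CL.isPGroup_map_subtype_pCore 2 C).to_inf_left)
      intro g hg
      have hg1 : g ∈ normalizer (((pCore 2 C).map C.subtype : Subgroup G) : Set G) :=
        CL.le_normalizer_map_subtype C _ (hCC hg)
      have hg2 : g ∈ normalizer (D : Set G) := le_normalizer hg
      rw [mem_normalizer_iff] at hg1 hg2 ⊢
      intro w
      simp only [mem_inf] at hg1 hg2 ⊢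
      rw [hg1 w, hg2 w]
    exact hle ⟨⟨y, hy.1, rfl⟩, hyT⟩
  have h2 : (pCore 2 D).map D.subtype ≤
      (pCore 2 (normalizer (T : Set G))).map (normalizer (T : Set G)).subtype := by
    refine CL.le_map_subtype_pCore ((map_subtype_le _).trans (centralizer_le_normalizer _)) ?_
      (CL.isPGroup_map_subtype_pCore 2 D)
    refine le_trans ?_ (CL.normalizer_le_normalizer_pCore 2 D)
    exact CL.EA.le_normalizer_centralizer le_rfl
  obtain ⟨w, hw, hwy⟩ := h2 h1
  have := congrArg Subtype.val (hx w hw)
  simp only [coe_mul] at this ⊢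
  rw [← hwy]
  exact this

/-- Let G be a finite group of even order in which the centralizer of every involution is solvable and has trivial
core (no nontrivial normal subgroup of odd order). Then G is of characteristic 2 type. -/
theorem result {G : Type*} [Group G] [Finite G]
    (h2 : Even (Nat.card G))
    (hs : ∀ t : G, orderOf t = 2 → Group.IsSolvable (Subgroup.centralizer ({t} : Set G)))
    (hc : ∀ t : G, orderOf t = 2 → Cfsg.oddCore (Subgroup.centralizer ({t} : Set G)) = ⊥) :
    Cfsg.IsCharacteristicTwoType G := by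
  refine ⟨h2, fun T hT hT1 => charTwo_normalizer (fun t ht => ?_) T hT hT1⟩
  have := hs t ht
  exact CL.centralizer_pCore_le (hc t ht)

end Cfsg.Agent.S0505
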