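import Cfsg.Statements.S0508
import Cfsg.Agent.Base
import Cfsg.Agent.GW.BSW
import Cfsg.Agent.GW.DihCent

set_option autoImplicit false
open Cfsg

namespace Cfsg.Agent.S0508

/-- Let G be a finite simple group with a dihedral Sylow 2-subgroup S (of order at least 4), t an involution in the
centre of S, C the centralizer of t and O the core of C (its largest normal subgroup of odd order). Suppose that: if O
is nontrivial then the centralizer of O in S is cyclic of index 2 in S; every element of S not centralizing O inverts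
every element of O; and the normalizer of every nontrivial subgroup of O lies in C. Then G is isomorphic to a projective
special linear group of dimension 2 over a field of odd order. -/
theorem result {G : Type*} [Group G] [Finite G] [IsSimpleGroup G] (S : Sylow 2 G) (n : ℕ)
    (hn : 2 ≤ n) (hS : Nonempty ((S : Subgroup G) ≃* DihedralGroup n)) (t : G) (ht : orderOf t = 2)
    (htS : t ∈ (S : Subgroup G))
    (htZ : ∀ s ∈ (S : Subgroup G), s * t = t * s) (O : Subgroup G)
    (hO : O = (Cfsg.oddCore (Subgroup.centralizer ({t} : Set G))).map (Subgroup.centralizer ({t} : Set G)).subtype)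
    (ha : O ≠ ⊥ → IsCyclic ((S : Subgroup G) ⊓ Subgroup.centralizer (O : Set G) : Subgroup G) ∧
      ((S : Subgroup G) ⊓ Subgroup.centralizer (O : Set G)).relIndex (S : Subgroup G) = 2)
    (hb : ∀ s ∈ (S : Subgroup G), s ∉ Subgroup.centralizer (O : Set G) → ∀ y ∈ O, s * y * s⁻¹ = y⁻¹)
    (hc : ∀ Y : Subgroup G, Y ≤ O → Y ≠ ⊥ → Subgroup.normalizer (Y : Set G) ≤ Subgroup.centralizer ({t} : Set G)) :
    ∃ (F : Type) (_ : Field F) (_ : Fintype F), Odd (Fintype.card F) ∧ Nonempty (G ≃* Matrix.ProjectiveSpecialLinearGroup (Fin 2) F) := by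
  obtain ⟨e⟩ := hS
  have hN := hc
  obtain ⟨x, y, h, htx⟩ := CL.GW.exists_dihData_mem hn e ht htS htZ
  have ht2 := CL.Invol.mul_self_of_orderOf_two ht
  have ht1 := CL.Invol.ne_one_of_orderOf_two ht
  have hOC : O ≤ Subgroup.centralizer ({t} : Set G) := hO ▸ Subgroup.map_subtype_le _
  have hOodd : Odd (Nat.card O) := by
    rw [hO, Subgroup.card_map_of_injective (Subgroup.subtype_injective _)]
    exact Nat.coprime_two_right.1 (CL.pPrimeCore_coprime 2 _)
  have hT : O ≠ ⊥ → (S : Subgroup G) ⊓ Subgroup.centralizer (O : Set G) = Subgroup.zpowers x := by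
    intro hO1
    obtain ⟨hcyc, hidx⟩ := ha hO1
    have htT : t ∈ (S : Subgroup G) ⊓ Subgroup.centralizer (O : Set G) :=
      ⟨htS, fun o ho => Subgroup.mem_centralizer_singleton_iff.1 (hOC ho)⟩
    have hle : (S : Subgroup G) ⊓ Subgroup.centralizer (O : Set G) ≤ Subgroup.zpowers x := by
      intro v hv
      by_contra hvx
      obtain ⟨i, rfl⟩ := h.exists_eq_of_notMem hv.1 hvx
      obtain ⟨c, hc⟩ := hcyc.exists_generator
      have := CL.eq_of_mem_zpowers_of_sq (hc ⟨_, hv⟩) (hc ⟨t, htT⟩) (Subtype.ext (h.outer_sq i))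
        (Subtype.ext ht2) (fun e => h.outer_ne_one i (congrArg Subtype.val e))
        (fun e => ht1 (congrArg Subtype.val e))
      exact hvx ((show x ^ i * y = t from congrArg Subtype.val this) ▸ htx)
    have h1 := Subgroup.relIndex_mul_relIndex _ _ _ hle h.zpowers_le
    rw [hidx, h.relIndex_eq] at h1
    exact le_antisymm hle (Subgroup.relIndex_eq_one.1 (by omega))
  have hx : ∀ o ∈ O, ∀ c ∈ Subgroup.zpowers x, o * c = c * o := by
    intro o ho c hc
    by_cases hO1 : O = ⊥
    · rw [hO1, Subgroup.mem_bot] at ho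
      rw [ho, one_mul, mul_one]
    · exact ((hT hO1).ge hc).2 o ho
  have hy : ∀ o ∈ O, y * o * y⁻¹ = o⁻¹ := by
    intro o ho
    by_cases hO1 : O = ⊥
    · rw [hO1, Subgroup.mem_bot] at ho
      simp [ho]
    · exact hb y h.y_mem (fun hc => h.notMem ((hT hO1).le ⟨h.y_mem, hc⟩)) o ho
  have hOc : ∀ a ∈ O, ∀ b ∈ O, a * b = b * a := by
    intro a ha b hb
    have h1 := hy _ (O.mul_mem ha hb)
    rw [← conj_mul, hy a ha, hy b hb, ← mul_inv_rev, inv_inj] at h1
    exact h1.symm
  have hxc : ∀ a ∈ Subgroup.zpowers x, ∀ b ∈ Subgroup.zpowers x, a * b = b * a := by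
    rintro _ ⟨i, rfl⟩ _ ⟨j, rfl⟩
    exact (Commute.zpow_zpow_self x i j).eq
  let K : Subgroup G :=
    { carrier := {g | ∃ o ∈ O, ∃ c ∈ Subgroup.zpowers x, g = o * c}
      one_mem' := ⟨1, O.one_mem, 1, one_mem _, (one_mul 1).symm⟩
      mul_mem' := by
        rintro _ _ ⟨a, ha, c, hc, rfl⟩ ⟨b, hb, d, hd, rfl⟩
        refine ⟨a * b, O.mul_mem ha hb, c * d, mul_mem hc hd, ?_⟩
        rw [mul_assoc, ← mul_assoc c, ← hx b hb c hc]; group
      inv_mem' := by
        rintro _ ⟨a, ha, c, hc, rfl⟩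
        exact ⟨a⁻¹, O.inv_mem ha, c⁻¹, inv_mem hc, by rw [hx a ha c hc, mul_inv_rev]⟩ }
  have hK : ∀ g, g ∈ K ↔ ∃ o ∈ O, ∃ c ∈ Subgroup.zpowers x, g = o * c := fun _ => Iff.rfl
  have hsq : ∀ g ∈ K, g * g = 1 → g ∈ Subgroup.zpowers x := by
    rintro _ ⟨a, ha, c, hc, rfl⟩ hg
    obtain ⟨m, hm⟩ := hOodd
    have h1 : a ^ Nat.card O = 1 := congrArg Subtype.val (pow_card_eq_one' (x := (⟨a, ha⟩ : O)))
    have h2 : (a * c) ^ Nat.card O = a * c := by
      rw [hm, pow_succ, pow_mul, pow_two, hg, one_pow, one_mul]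
    rw [← h2, Commute.mul_pow (hx a ha c hc), h1, one_mul]
    exact pow_mem hc _
  have hinv : ∀ g ∈ K, y * g * y⁻¹ = g⁻¹ := by
    rintro _ ⟨a, ha, c, hc, rfl⟩
    rw [← conj_mul, hy a ha, h.conj_of_mem_zpowers hc, hx a ha c hc, mul_inv_rev]
  obtain ⟨F, _, _, h1, -, h2⟩ := CL.BSW.psl2_of_gendih (K := K) (s := y) ht
    ⟨1, O.one_mem, t, htx, (one_mul t).symm⟩ (by
      rintro _ ⟨a, ha, c, hc, rfl⟩ _ ⟨b, hb, d, hd, rfl⟩
      have c1 : Commute a b := hOc a ha b hb
      have c2 : Commute a d := hx a ha d hd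
      have c3 : Commute c b := (hx b hb c hc).symm
      have c4 : Commute c d := hxc c hc d hd
      exact ((c1.mul_right c2).mul_left (c3.mul_right c4)).eq)
    (fun g hg hg2 => by
      by_cases hg1 : g = 1
      · exact Or.inl hg1
      · exact Or.inr (CL.eq_of_mem_zpowers_of_sq (hsq g hg hg2) htx hg2 ht2 hg1 ht1))
    (fun hyK => h.notMem (hsq y hyK h.sq)) h.sq hinv (fun g hg => by
      obtain ⟨o, ho, σ, hσ, rfl⟩ := CL.GW.exists_core_mul h htx ht2 ht1 hg
      rw [← hO] at ho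
      obtain ⟨i, rfl | rfl⟩ := (h.mem σ).1 hσ
      · exact Or.inl ⟨o, ho, _, ⟨i, rfl⟩, rfl⟩
      · right
        have h1 : o * x ^ i ∈ K := ⟨o, ho, _, ⟨i, rfl⟩, rfl⟩
        have h2 := hinv _ h1
        rw [inv_eq_of_mul_eq_one_right h.sq] at h2
        rw [← mul_assoc o, ← mul_assoc, h2]
        exact K.inv_mem h1) (by
      rintro _ ⟨a, ha, c, hc, rfl⟩ hg1 hodd
      obtain ⟨k, hk⟩ := h.exists_pow
      have h1 : (a * c) ^ n = a ^ n := by
        obtain ⟨i, rfl⟩ := hc
        rw [Commute.mul_pow (hx a ha _ ⟨i, rfl⟩), ← zpow_natCast (x ^ i), ← zpow_mul, mul_comm i,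
          zpow_mul, zpow_natCast, ← h.ord, pow_orderOf_eq_one, one_zpow, mul_one]
      have h2 : (a * c) ^ n ≠ 1 := fun e => hg1 (orderOf_eq_one_iff.1
        (Nat.eq_one_of_dvd_coprimes ((Nat.coprime_two_right.2 hodd).pow_right k) dvd_rfl
          (hk ▸ orderOf_dvd_of_pow_eq_one e)))
      refine le_trans (fun g hg => ?_) (hN _ (Subgroup.zpowers_le.2 (h1 ▸ pow_mem ha n))
        (Subgroup.zpowers_ne_bot.2 h2))
      apply Subgroup.centralizer_le_normalizer
      rintro _ ⟨j, rfl⟩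
      have : Commute g (a * c) := Subgroup.mem_centralizer_singleton_iff.1 hg
      exact ((this.pow_right n).zpow_right j).symm.eq)
    (fun u hu => h.isConj_of_index_ne_two htx ht2 ht1 (fun H hH => by
      rcases (Subgroup.normal_of_index_eq_two hH).eq_bot_or_eq_top with h1 | h1
      · rw [h1, Subgroup.index_bot] at hH
        have h2 := Nat.le_of_dvd Nat.card_pos (Subgroup.card_subgroup_dvd_card (S : Subgroup G))
        rw [h.card_eq, h.ord] at h2
        omega
      · rw [h1, Subgroup.index_top] at hH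
        omega) hu)
  exact ⟨F, inferInstance, inferInstance, h1, h2⟩

end Cfsg.Agent.S0508
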