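import Cfsg.Agent.Base
import Cfsg.Statements.S0514
import Cfsg.Agent.TwoFus.DihFus

set_option autoImplicit false
open Cfsg

namespace Cfsg.Agent.S0514

/-- In a finite group whose Sylow 2-subgroups are dihedral of order at least 4, the centralizer of any involution has a
normal subgroup of odd order whose index in the centralizer is a power of 2. -/
theorem result {X : Type*} [Group X] [Finite X]
    (S : Sylow 2 X) (n : ℕ) (hn : 2 ≤ n) (hS : Nonempty ((S : Subgroup X) ≃* DihedralGroup n)) (t : X)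
    (ht : orderOf t = 2) :
    ∃ N : Subgroup (Subgroup.centralizer ({t} : Set X)), N.Normal ∧ Odd (Nat.card N) ∧ ∃ k : ℕ, N.index = 2 ^ k := by
  suffices h : Cfsg.HasNormalPComplement 2 (Subgroup.centralizer ({t} : Set X)) by
    obtain ⟨N, hN, h1, h2⟩ := CL.Transfer.hasNormalPComplement_iff_exists_normal.1 h
    exact ⟨N, hN, Nat.odd_iff.2 (Nat.two_dvd_ne_zero.1 h1), h2⟩
  set H := Subgroup.centralizer ({t} : Set X) with hH
  have htH : t ∈ H := Subgroup.mem_centralizer_singleton_iff.2 rfl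
  have ht2 : t * t = 1 := by rw [← pow_two, ← ht, pow_orderOf_eq_one]
  have ht1 : t ≠ 1 := by rintro rfl; simp at ht
  have hPt : IsPGroup 2 (Subgroup.zpowers t) :=
    IsPGroup.iff_card.2 ⟨1, by rw [Nat.card_zpowers, ht, pow_one]⟩
  obtain ⟨T, hT, htT⟩ := CL.Transfer.exists_isSylowIn_ge hPt (Subgroup.zpowers_le.2 htH)
  obtain ⟨P, hP⟩ := hT.exists_sylow
  obtain ⟨e⟩ := hS
  obtain ⟨x, y, h⟩ := CL.exists_isDihData_of_equiv ((P.equiv S).trans e)
  obtain ⟨z, hzx, hz2, hz1, -⟩ := h.exists_z hn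
  have htP : t ∈ (P : Subgroup X) := (hP.ge (htT (Subgroup.mem_zpowers t))).1
  rcases h.involution_cases hzx hz2 hz1 htP ht with rfl | ⟨i, hi⟩
  · exact h.hasNormalPComplement_centralizer hzx hz2 hz1
  have h' : CL.IsDihData (P : Subgroup X) n x t := hi ▸ h.of_outer i
  have h4 := h'.isFourData hzx hz2 hz1
  have hTe : T = Subgroup.closure ({z, t} : Set X) := by
    rw [← hP]
    apply le_antisymm
    · intro g hg
      exact h'.mem_four_of_commute hzx h4 hg.1 (Subgroup.mem_centralizer_singleton_iff.1 hg.2).symm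
    · refine le_inf (h'.four_le hzx h4) fun g hg => Subgroup.mem_centralizer_singleton_iff.2 ?_
      rcases (h4.mem g).1 hg with rfl | rfl | rfl | rfl
      · simp
      · exact h4.comm
      · rfl
      · rw [mul_assoc, ← mul_assoc t, ← h4.comm, mul_assoc]
  have hd : CL.IsDihData T 2 t z := hTe ▸ h4.symm.isDihData
  have hd' := hd.subgroupOf hT.le
  rw [← hT.coe_toSylow] at hd'
  refine hd'.hasNormalPComplement (z := ⟨t, htH⟩) (Subgroup.mem_zpowers _) (Subtype.ext ht2)
    (fun h1 => ht1 (congrArg Subtype.val h1)) fun j hj => ?_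
  obtain ⟨c, hc⟩ := isConj_iff.1 hj
  have h1 : (c : X) * t * (c : X)⁻¹ = t ^ j * z := by simpa using congrArg Subtype.val hc
  rw [Subgroup.mem_centralizer_singleton_iff.1 c.2, mul_inv_cancel_right] at h1
  exact hd.zpow_mul_notMem j (h1 ▸ Subgroup.mem_zpowers t)

end Cfsg.Agent.S0514
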