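import Cfsg.Agent.Base
import Cfsg.Statements.S0945

set_option autoImplicit false
open Cfsg

namespace Cfsg.Agent.S0945

/-- In `ZMod (2 ^ m)` the solutions of `a + a = 0` are `0` and `2 ^ (m - 1)`. -/
theorem zmod_two_pow_add_self (m : ℕ) (hm : 1 ≤ m) (a : ZMod (2 ^ m)) (ha : a + a = 0) :
    a = 0 ∨ a = ((2 ^ (m - 1) : ℕ) : ZMod (2 ^ m)) := by
  obtain ⟨k, rfl⟩ : ∃ k, m = k + 1 := ⟨m - 1, by omega⟩
  have : NeZero (2 ^ (k + 1)) := ⟨by positivity⟩
  have h1 : ((a.val + a.val : ℕ) : ZMod (2 ^ (k + 1))) = 0 := by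
    push_cast
    simpa using ha
  rw [ZMod.natCast_eq_zero_iff] at h1
  obtain ⟨c, hc⟩ := h1
  have hlt : a.val < 2 ^ (k + 1) := ZMod.val_lt a
  have hpos : 0 < 2 ^ (k + 1) := by positivity
  have hc2 : c < 2 := by
    by_contra hcon
    have : 2 ^ (k + 1) * 2 ≤ 2 ^ (k + 1) * c := Nat.mul_le_mul_left _ (by omega)
    omega
  have ha' : a = ((a.val : ℕ) : ZMod (2 ^ (k + 1))) := by simp
  interval_cases c
  · left
    have : a.val = 0 := by omega
    rw [ha', this]; simp
  · right
    have : a.val = 2 ^ k := by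
      have h7 : 2 ^ (k + 1) = 2 ^ k * 2 := pow_succ 2 k
      omega
    rw [ha', this]; simp

theorem zmod_two_pow_half_ne_zero (m : ℕ) (hm : 1 ≤ m) :
    ((2 ^ (m - 1) : ℕ) : ZMod (2 ^ m)) ≠ 0 := by
  rw [Ne, ZMod.natCast_eq_zero_iff]
  intro h
  have := Nat.le_of_dvd (by positivity) h
  have h2 : 2 ^ (m - 1) < 2 ^ m := Nat.pow_lt_pow_right (by norm_num) (by omega)
  omega

theorem zmod_two_pow_half_add (m : ℕ) (hm : 1 ≤ m) :
    ((2 ^ (m - 1) : ℕ) : ZMod (2 ^ m)) + ((2 ^ (m - 1) : ℕ) : ZMod (2 ^ m)) = 0 := by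
  rw [← Nat.cast_add, ZMod.natCast_eq_zero_iff]
  obtain ⟨k, rfl⟩ : ∃ k, m = k + 1 := ⟨m - 1, by omega⟩
  simp only [Nat.add_sub_cancel]
  rw [pow_succ]
  exact ⟨1, by ring⟩

/-- The subgroup `P` has exactly three involutions `s`, `t`, `s * t` and is commutative. -/
structure ThreeInv {G : Type*} [Group G] (P : Subgroup G) (s t : G) : Prop where
  comm : ∀ a ∈ P, ∀ b ∈ P, a * b = b * a
  s_mem : s ∈ P
  t_mem : t ∈ P
  s_sq : s * s = 1
  t_sq : t * t = 1
  s_ne : s ≠ 1
  t_ne : t ≠ 1
  st_ne : s ≠ t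
  all : ∀ u ∈ P, u * u = 1 → u = 1 ∨ u = s ∨ u = t ∨ u = s * t

theorem exists_threeInv {G : Type*} [Group G] (P : Subgroup G) (m : ℕ) (hm : 1 ≤ m)
    (e : P ≃* Multiplicative (ZMod (2 ^ m) × ZMod (2 ^ m))) : ∃ s t : G, ThreeInv P s t := by
  set h : ZMod (2 ^ m) := ((2 ^ (m - 1) : ℕ) : ZMod (2 ^ m)) with hh
  have h0 : h ≠ 0 := zmod_two_pow_half_ne_zero m hm
  have h2 : h + h = 0 := zmod_two_pow_half_add m hm
  set s : P := e.symm (Multiplicative.ofAdd (h, 0)) with hs
  set t : P := e.symm (Multiplicative.ofAdd (0, h)) with ht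
  refine ⟨s, t, ?_, s.2, t.2, ?_, ?_, ?_, ?_, ?_, ?_⟩
  · intro a ha b hb
    have : (⟨a, ha⟩ : P) * ⟨b, hb⟩ = ⟨b, hb⟩ * ⟨a, ha⟩ := by
      apply e.injective
      rw [map_mul, map_mul, mul_comm]
    exact congrArg Subtype.val this
  · have : s * s = 1 := by
      apply e.injective
      rw [map_mul, map_one, hs, e.apply_symm_apply, ← ofAdd_add]
      simp [h2]
    exact congrArg Subtype.val this
  · have : t * t = 1 := by
      apply e.injective
      rw [map_mul, map_one, ht, e.apply_symm_apply, ← ofAdd_add]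
      simp [h2]
    exact congrArg Subtype.val this
  · intro hcon
    have : s = 1 := Subtype.ext hcon
    rw [hs, MulEquiv.symm_apply_eq, map_one] at this
    have := congrArg (fun x => (Multiplicative.toAdd x).1) this
    exact h0 (by simpa using this)
  · intro hcon
    have : t = 1 := Subtype.ext hcon
    rw [ht, MulEquiv.symm_apply_eq, map_one] at this
    have := congrArg (fun x => (Multiplicative.toAdd x).2) this
    exact h0 (by simpa using this)
  · intro hcon
    have : s = t := Subtype.ext hcon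
    rw [hs, ht] at this
    have := e.symm.injective this
    have := congrArg (fun x => (Multiplicative.toAdd x).1) this
    exact h0 (by simpa using this)
  · intro u hu hu2
    have hu2' : (⟨u, hu⟩ : P) * ⟨u, hu⟩ = 1 := Subtype.ext hu2
    set x := Multiplicative.toAdd (e ⟨u, hu⟩) with hx
    have hxx : x + x = 0 := by
      rw [hx, ← toAdd_mul, ← map_mul, hu2', map_one]; rfl
    have hx1 := zmod_two_pow_add_self m hm x.1 (by simpa using congrArg Prod.fst hxx)
    have hx2 := zmod_two_pow_add_self m hm x.2 (by simpa using congrArg Prod.snd hxx)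
    have hux : (⟨u, hu⟩ : P) = e.symm (Multiplicative.ofAdd (x.1, x.2)) := by
      simp [hx]
    rw [← hh] at hx1 hx2
    rcases hx1 with h1 | h1 <;> rcases hx2 with h3 | h3 <;> rw [h1, h3] at hux
    · left
      have : (⟨u, hu⟩ : P) = 1 := by
        rw [hux, MulEquiv.symm_apply_eq, map_one]; rfl
      exact congrArg Subtype.val this
    · right; right; left
      exact congrArg Subtype.val hux
    · right; left
      exact congrArg Subtype.val hux
    · right; right; right
      have : (⟨u, hu⟩ : P) = s * t := by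
        rw [hux, hs, ht, ← map_mul, ← ofAdd_add]; simp
      exact congrArg Subtype.val this

/-- If `n` normalises the commutative `2`-group `P`, an odd power of `n` centralises `P` and `n`
centralises all involutions of `P`, then `n` centralises `P`. -/
theorem centralizes_of_involutions {G : Type*} [Group G] (P : Subgroup G) (hP : IsPGroup 2 P)
    (hcomm : ∀ a ∈ P, ∀ b ∈ P, a * b = b * a) (n : G)
    (hn : ∀ x ∈ P, n * x * n⁻¹ ∈ P) (k : ℕ) (hk : Odd k)
    (hnk : ∀ x ∈ P, n ^ k * x * (n ^ k)⁻¹ = x)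
    (hinv : ∀ x ∈ P, x * x = 1 → n * x * n⁻¹ = x) : ∀ x ∈ P, n * x * n⁻¹ = x := by
  have key : ∀ j : ℕ, ∀ x ∈ P, x ^ (2 ^ j) = 1 → n * x * n⁻¹ = x := by
    intro j
    induction j with
    | zero => intro x _ hx; simp at hx; simp [hx]
    | succ j ih =>
      intro x hx hxj
      have h2 : n * (x * x) * n⁻¹ = x * x := by
        apply ih _ (P.mul_mem hx hx)
        rw [← pow_two, ← pow_mul, ← pow_succ']; exact hxj
      set y := n * x * n⁻¹ * x⁻¹ with hy
      have hyP : y ∈ P := P.mul_mem (hn x hx) (P.inv_mem hx)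
      have hyx : n * x * n⁻¹ = y * x := by rw [hy]; group
      have hy2 : y * y = 1 := by
        have h3 : (y * x) * (y * x) = x * x := by
          rw [← hyx, ← h2]; group
        have h4 : (y * x) * (y * x) = (y * y) * (x * x) := by
          have := hcomm x hx y hyP
          calc (y * x) * (y * x) = y * (x * y) * x := by group
            _ = y * (y * x) * x := by rw [this]
            _ = (y * y) * (x * x) := by group
        rw [h4] at h3
        exact mul_eq_right.mp h3
      have hny : n * y * n⁻¹ = y := hinv y hyP hy2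
      have hpow : ∀ i : ℕ, n ^ i * x * (n ^ i)⁻¹ = y ^ i * x := by
        intro i
        induction i with
        | zero => simp
        | succ i ihi =>
          have hnyi : n * y ^ i * n⁻¹ = y ^ i := by
            have : n * y ^ i * n⁻¹ = (n * y * n⁻¹) ^ i := by rw [conj_pow]
            rw [this, hny]
          calc n ^ (i + 1) * x * (n ^ (i + 1))⁻¹ = n * (n ^ i * x * (n ^ i)⁻¹) * n⁻¹ := by
                rw [pow_succ']; group
            _ = n * (y ^ i * x) * n⁻¹ := by rw [ihi]
            _ = (n * y ^ i * n⁻¹) * (n * x * n⁻¹) := by group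
            _ = y ^ (i + 1) * x := by rw [hnyi, hyx, pow_succ]; group
      have h5 := hpow k
      rw [hnk x hx] at h5
      have h6 : y ^ k = 1 := by
        have := h5.symm
        exact mul_eq_right.mp this
      obtain ⟨l, rfl⟩ := hk
      rw [pow_succ, pow_mul, pow_two, hy2, one_pow, one_mul] at h6
      rw [hyx, h6, one_mul]
  intro x hx
  obtain ⟨j, hj⟩ := hP ⟨x, hx⟩
  exact key j x hx (congrArg Subtype.val hj)

theorem ThreeInv.all' {G : Type*} [Group G] {P : Subgroup G} {s t : G} (h : ThreeInv P s t)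
    {a b : G} (ha : a ∈ P) (hb : b ∈ P) (ha2 : a * a = 1) (hb2 : b * b = 1) (ha1 : a ≠ 1)
    (hb1 : b ≠ 1) (hab : a ≠ b) : ThreeInv P a b := by
  have hts : t * s = s * t := h.comm t h.t_mem s h.s_mem
  have e1 : s * (s * t) = t := by rw [← mul_assoc, h.s_sq, one_mul]
  have e2 : t * (s * t) = s := by rw [← mul_assoc, hts, mul_assoc, h.t_sq, mul_one]
  have e3 : (s * t) * s = t := by rw [mul_assoc, hts, e1]
  have e4 : (s * t) * t = s := by rw [mul_assoc, h.t_sq, mul_one]
  refine ⟨h.comm, ha, hb, ha2, hb2, ha1, hb1, hab, ?_⟩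
  intro u hu hu2
  rcases h.all a ha ha2 with h1 | h1 | h1 | h1 <;> rcases h.all b hb hb2 with h2 | h2 | h2 | h2 <;>
    rcases h.all u hu hu2 with h3 | h3 | h3 | h3 <;>
    first
      | exact absurd h1 ha1
      | exact absurd h2 hb1
      | exact absurd (h1.trans h2.symm) hab
      | (subst h1 h2; simp [h3, hts, e1, e2, e3, e4])

/-- An element normalising `P`, with an odd power centralising `P`, that fixes one nontrivial
element of `P` centralises `P`. -/
theorem centralizes_of_fix {G : Type*} [Group G] {P : Subgroup G} (hP : IsPGroup 2 P) {s t : G}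
    (h : ThreeInv P s t) (n : G) (hn : ∀ x ∈ P, n * x * n⁻¹ ∈ P) (k : ℕ) (hk : Odd k)
    (hnk : ∀ x ∈ P, n ^ k * x * (n ^ k)⁻¹ = x) (z : G) (hz : z ∈ P) (hz1 : z ≠ 1)
    (hnz : n * z * n⁻¹ = z) : ∀ x ∈ P, n * x * n⁻¹ = x := by
  -- an involution `a` that is a power of `z`
  obtain ⟨a, haP, ha2, ha1, hna⟩ : ∃ a ∈ P, a * a = 1 ∧ a ≠ 1 ∧ n * a * n⁻¹ = a := by
    obtain ⟨j, hj⟩ := hP ⟨z, hz⟩
    have hj' : z ^ (2 ^ j) = 1 := congrArg Subtype.val hj
    have key : ∀ j : ℕ, ∀ z ∈ P, z ≠ 1 → n * z * n⁻¹ = z → z ^ (2 ^ j) = 1 →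
        ∃ a ∈ P, a * a = 1 ∧ a ≠ 1 ∧ n * a * n⁻¹ = a := by
      intro j
      induction j with
      | zero => intro z _ hz1 _ hz; simp at hz; exact absurd hz hz1
      | succ j ih =>
        intro z hz hz1 hnz hzj
        by_cases h2 : z * z = 1
        · exact ⟨z, hz, h2, hz1, hnz⟩
        · apply ih (z * z) (P.mul_mem hz hz) h2
          · calc n * (z * z) * n⁻¹ = (n * z * n⁻¹) * (n * z * n⁻¹) := by group
              _ = z * z := by rw [hnz]
          · rw [← pow_two, ← pow_mul, ← pow_succ']; exact hzj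
    exact key j z hz hz1 hnz hj'
  apply centralizes_of_involutions P hP h.comm n hn k hk hnk
  intro b hb hb2
  by_cases hb1 : b = 1
  · simp [hb1]
  by_cases hab : b = a
  · rw [hab, hna]
  have h' := h.all' hb haP hb2 ha2 hb1 ha1 hab
  have hc2 : (n * b * n⁻¹) * (n * b * n⁻¹) = 1 := by
    calc (n * b * n⁻¹) * (n * b * n⁻¹) = n * (b * b) * n⁻¹ := by group
      _ = 1 := by rw [hb2]; group
  rcases h'.all _ (hn b hb) hc2 with h1 | h1 | h1 | h1
  · exfalso; apply hb1
    calc b = n⁻¹ * (n * b * n⁻¹) * n := by group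
      _ = 1 := by rw [h1]; group
  · exact h1
  · exfalso; apply hab
    calc b = n⁻¹ * (n * b * n⁻¹) * n := by group
      _ = n⁻¹ * (n * a * n⁻¹) * n := by rw [h1, hna]
      _ = a := by group
  · exfalso
    have hpow : ∀ i : ℕ, n ^ i * b * (n ^ i)⁻¹ = b * a ^ i := by
      intro i
      induction i with
      | zero => simp
      | succ i ihi =>
        have hnai : n * a ^ i * n⁻¹ = a ^ i := by
          have : n * a ^ i * n⁻¹ = (n * a * n⁻¹) ^ i := by rw [conj_pow]
          rw [this, hna]
        calc n ^ (i + 1) * b * (n ^ (i + 1))⁻¹ = n * (n ^ i * b * (n ^ i)⁻¹) * n⁻¹ := by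
              rw [pow_succ']; group
          _ = n * (b * a ^ i) * n⁻¹ := by rw [ihi]
          _ = (n * b * n⁻¹) * (n * a ^ i * n⁻¹) := by group
          _ = b * a ^ (i + 1) := by rw [hnai, h1, pow_succ']; group
    have h5 := hpow k
    rw [hnk b hb] at h5
    have h6 : a ^ k = 1 := mul_eq_left.mp h5.symm
    obtain ⟨l, rfl⟩ := hk
    rw [pow_succ, pow_mul, pow_two, ha2, one_pow, one_mul] at h6
    exact ha1 h6

theorem odd_relIndex {G : Type*} [Group G] [Finite G] (P : Sylow 2 G)
    (hcomm : ∀ a ∈ (P : Subgroup G), ∀ b ∈ (P : Subgroup G), a * b = b * a) :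
    Odd ((Subgroup.centralizer (P : Set G)).relIndex (Subgroup.normalizer (P : Set G))) := by
  have h1 : (P : Subgroup G) ≤ Subgroup.centralizer (P : Set G) := by
    intro a ha
    rw [Subgroup.mem_centralizer_iff]
    intro b hb
    exact hcomm b hb a ha
  have h2 := Subgroup.relIndex_dvd_of_le_left (Subgroup.normalizer (P : Set G)) h1
  have h3 : (P : Subgroup G).relIndex (Subgroup.normalizer (P : Set G)) ∣ (P : Subgroup G).index :=
    Subgroup.relIndex_dvd_index_of_le Subgroup.le_normalizer
  have h4 := P.not_dvd_index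
  rw [← Nat.not_even_iff_odd, even_iff_two_dvd]
  exact fun h => h4 (h.trans (h2.trans h3))

/-- Every element of the normaliser that fixes a nontrivial element of `P` centralises `P`. -/
theorem mem_centralizer_of_fix {G : Type*} [Group G] [Finite G] (P : Sylow 2 G) {s t : G}
    (h : ThreeInv (P : Subgroup G) s t) (n : G) (hn : n ∈ Subgroup.normalizer (P : Set G))
    (z : G) (hz : z ∈ (P : Subgroup G)) (hz1 : z ≠ 1) (hnz : n * z * n⁻¹ = z) :
    n ∈ Subgroup.centralizer (P : Set G) := by
  have hodd := odd_relIndex P h.comm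
  have hn' : ∀ x ∈ (P : Subgroup G), n * x * n⁻¹ ∈ (P : Subgroup G) := fun x hx =>
    (Subgroup.mem_normalizer_iff.mp hn x).mp hx
  have hpow : (⟨n, hn⟩ : Subgroup.normalizer (P : Set G)) ^
      ((Subgroup.centralizer (P : Set G)).relIndex (Subgroup.normalizer (P : Set G))) ∈
      (Subgroup.centralizer (P : Set G)).subgroupOf (Subgroup.normalizer (P : Set G)) :=
    Subgroup.pow_index_mem _ _
  rw [Subgroup.mem_subgroupOf, Subgroup.mem_centralizer_iff] at hpow
  have := centralizes_of_fix P.isPGroup' h n hn' _ hodd (fun x hx => by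
    have := hpow x hx
    simp only [SubmonoidClass.coe_pow] at this
    rw [← this]; group) z hz hz1 hnz
  rw [Subgroup.mem_centralizer_iff]
  intro x hx
  have := this x hx
  calc x * n = (n * x * n⁻¹) * n := by rw [this]
    _ = n * x := by group

/-- Let P be a Sylow 2-subgroup of the finite group G isomorphic to a product of two cyclic groups of order 2 ^ m with m ≥ 1. -/
theorem result {G : Type*} [Group G] [Finite G] (P : Sylow 2 G) (m : ℕ) (hm : 1 ≤ m) (e : (P : Subgroup G) ≃* Multiplicative (ZMod (2 ^ m) × ZMod (2 ^ m))) : ((Subgroup.centralizer (P : Set G)).relIndex (Subgroup.normalizer (P : Set G)) = 1 ∨ (Subgroup.centralizer (P : Set G)).relIndex (Subgroup.normalizer (P : Set G)) = 3) ∧ ((Subgroup.centralizer (P : Set G)).relIndex (Subgroup.normalizer (P : Set G)) ≠ 1 → ∀ z ∈ (P : Subgroup G), z ≠ 1 → Subgroup.centralizer ({z} : Set G) ⊓ Subgroup.normalizer (P : Set G) = Subgroup.centralizer (P : Set G)) := by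
  obtain ⟨s, t, h⟩ := exists_threeInv (P : Subgroup G) m hm e
  constructor
  · have hodd := odd_relIndex P h.comm
    have hle : (Subgroup.centralizer (P : Set G)).relIndex (Subgroup.normalizer (P : Set G)) ≤ 3 := by
      rw [Subgroup.relIndex, Subgroup.index_eq_card]
      have hmem : ∀ n : Subgroup.normalizer (P : Set G),
          (n : G) * t * (n : G)⁻¹ ∈ ({s, t, s * t} : Set G) := by
        intro n
        have h1 : (n : G) * t * (n : G)⁻¹ ∈ (P : Subgroup G) :=
          (Subgroup.mem_normalizer_iff.mp n.2 t).mp h.t_mem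
        have h2 : ((n : G) * t * (n : G)⁻¹) * ((n : G) * t * (n : G)⁻¹) = 1 := by
          calc ((n : G) * t * (n : G)⁻¹) * ((n : G) * t * (n : G)⁻¹)
              = (n : G) * (t * t) * (n : G)⁻¹ := by group
            _ = 1 := by rw [h.t_sq]; group
        rcases h.all _ h1 h2 with h3 | h3 | h3 | h3
        · exfalso; apply h.t_ne
          calc t = (n : G)⁻¹ * ((n : G) * t * (n : G)⁻¹) * n := by group
            _ = 1 := by rw [h3]; group
        · simp [h3]
        · simp [h3]
        · simp [h3]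
      let F : Subgroup.normalizer (P : Set G) ⧸
          (Subgroup.centralizer (P : Set G)).subgroupOf (Subgroup.normalizer (P : Set G)) →
          ({s, t, s * t} : Set G) := fun q => ⟨_, hmem q.out⟩
      have hF : Function.Injective F := by
        intro q1 q2 hq
        have hq' : (q1.out : G) * t * (q1.out : G)⁻¹ = (q2.out : G) * t * (q2.out : G)⁻¹ :=
          congrArg Subtype.val hq
        rw [← QuotientGroup.out_eq' q1, ← QuotientGroup.out_eq' q2, QuotientGroup.eq,
          Subgroup.mem_subgroupOf]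
        apply mem_centralizer_of_fix P h _ (q1.out⁻¹ * q2.out).2 t h.t_mem h.t_ne
        simp only [Subgroup.coe_mul, InvMemClass.coe_inv]
        calc (q1.out : G)⁻¹ * q2.out * t * ((q1.out : G)⁻¹ * q2.out)⁻¹
            = (q1.out : G)⁻¹ * ((q2.out : G) * t * (q2.out : G)⁻¹) * q1.out := by group
          _ = t := by rw [← hq']; group
      calc _ ≤ Nat.card ({s, t, s * t} : Set G) := Nat.card_le_card_of_injective F hF
        _ ≤ 3 := by
          rw [Nat.card_coe_set_eq]
          refine (Set.ncard_insert_le _ _).trans ?_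
          have := Set.ncard_insert_le t ({s * t} : Set G)
          rw [Set.ncard_singleton] at this
          omega
    obtain ⟨l, hl⟩ := hodd
    omega
  · intro _ z hz hz1
    apply le_antisymm
    · intro n hn
      obtain ⟨hn1, hn2⟩ := hn
      apply mem_centralizer_of_fix P h n hn2 z hz hz1
      have : z * n = n * z := (Subgroup.mem_centralizer_iff.mp hn1) z rfl
      rw [← this]; group
    · apply le_inf
      · apply Subgroup.centralizer_le
        intro x hx
        rw [Set.mem_singleton_iff.mp hx]; exact hz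
      · exact Subgroup.centralizer_le_normalizer _

end Cfsg.Agent.S0945
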