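import Cfsg.Statements.S0949
import Cfsg.Agent.Base
import Cfsg.Agent.Blocks.Homocyclic
import Cfsg.Agent.S0945
import Cfsg.Agent.Transfer.Fusion
import Cfsg.Agent.PLocal.Cores

set_option autoImplicit false
open Cfsg

namespace Cfsg.Agent.S0949

open CL.Blocks CL.Char CL.Transfer

/-- Burnside's theorem in a subgroup containing the Sylow subgroup. -/
theorem hasNormalPComplement_of_inf_le {G : Type*} [Group G] [Finite G] {p : ℕ} [Fact p.Prime]
    (P : Sylow p G) {H : Subgroup G} (hP : (P : Subgroup G) ≤ H)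
    (h : H ⊓ Subgroup.normalizer (P : Set G) ≤ Subgroup.centralizer (P : Set G)) :
    HasNormalPComplement p H := by
  refine ⟨P.subtype hP, _, inferInstance,
    MonoidHom.ker_transferSylow_isComplement' (P.subtype hP) fun g hg => ?_⟩
  have h1 : (g : G) ∈ Subgroup.normalizer (P : Set G) := by
    refine Subgroup.mem_normalizer_fintype fun x hx => ?_
    exact (Subgroup.mem_normalizer_iff.1 hg ⟨x, hP hx⟩).1 hx
  have h2 := h ⟨g.2, h1⟩
  rw [Subgroup.mem_centralizer_iff] at h2 ⊢
  exact fun x hx => Subtype.ext (h2 x hx)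

theorem isPGroup_of_hasNormalPComplement {G : Type*} [Group G] [Finite G] {p : ℕ} [Fact p.Prime]
    (hO : pPrimeCore p G = ⊥) (K : Subgroup G) [K.Normal] (h : HasNormalPComplement p K) :
    IsPGroup p K :=
  pResidual_eq_bot_iff.1 ((pResidual_eq_pPrimeCore h).trans (CL.PL.pPrimeCore_eq_bot_of_normal hO))

theorem exists_cubeFusion {G : Type*} [Group G] [Finite G] (P : Sylow 2 G)
    (hcomm : ∀ a b : (P : Subgroup G), a * b = b * a)
    (h3 : (Subgroup.centralizer (P : Set G)).relIndex (Subgroup.normalizer (P : Set G)) = 3)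
    (hfix : ∀ z ∈ (P : Subgroup G), z ≠ 1 → Subgroup.centralizer ({z} : Set G) ⊓
      Subgroup.normalizer (P : Set G) = Subgroup.centralizer (P : Set G)) :
    ∃ σ, CubeFusion P σ := by
  set N := Subgroup.normalizer (P : Set G) with hN
  set C := Subgroup.centralizer (P : Set G) with hC
  have hPC : ∀ x ∈ (P : Subgroup G), (P : Subgroup G) ≤ Subgroup.centralizer ({x} : Set G) :=
    fun x hx y hy => mem_centralizer_singleton_iff_commute.2
      (congrArg Subtype.val (hcomm ⟨y, hy⟩ ⟨x, hx⟩))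
  have hCx : ∀ c ∈ C, ∀ x ∈ (P : Subgroup G), c * x * c⁻¹ = x := fun c hc x hx => by
    rw [← (Subgroup.mem_centralizer_iff.1 hc x hx), mul_inv_cancel_right]
  have hcard : Nat.card (N ⧸ C.subgroupOf N) = 3 := h3
  have : Fact (Nat.Prime 3) := ⟨Nat.prime_three⟩
  have : Nontrivial (N ⧸ C.subgroupOf N) := Finite.one_lt_card_iff_nontrivial.1 (by omega)
  obtain ⟨q, hq⟩ := exists_ne (1 : N ⧸ C.subgroupOf N)
  obtain ⟨n, rfl⟩ := QuotientGroup.mk_surjective q
  have hnC : (n : G) ∉ C := fun h => hq ((QuotientGroup.eq_one_iff n).2 h)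
  have hn3 : (n : G) ^ 3 ∈ C := by
    have := pow_card_eq_one' (x := (n : N ⧸ C.subgroupOf N))
    rw [hcard, ← QuotientGroup.mk_pow, QuotientGroup.eq_one_iff] at this
    exact this
  let σ : (P : Subgroup G) →* (P : Subgroup G) :=
    { toFun := fun x => ⟨n * x * (n : G)⁻¹, (Subgroup.mem_normalizer_iff.1 n.2 x).1 x.2⟩
      map_one' := Subtype.ext (by simp)
      map_mul' := fun x y => Subtype.ext (by simp [mul_assoc]) }
  have hσ : ∀ x, (σ x : G) = n * x * (n : G)⁻¹ := fun _ => rfl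
  refine ⟨σ, hcomm, fun x => isConj_iff.2 ⟨n, rfl⟩, fun x => Subtype.ext ?_, fun x hx => ?_,
    fun x y hxy => ?_, fun x hx => ?_⟩
  · rw [hσ, hσ, hσ]
    conv_rhs => rw [← hCx _ hn3 x x.2]
    simp [pow_succ, mul_assoc]
  · by_contra hx1
    apply hnC
    rw [← hfix x x.2 (fun e => hx1 (Subtype.ext e))]
    refine ⟨mem_centralizer_singleton_iff_commute.2 ?_, n.2⟩
    have : (n : G) * x * (n : G)⁻¹ = x := congrArg Subtype.val hx
    exact mul_inv_eq_iff_eq_mul.1 this
  · obtain ⟨g, hg⟩ := isConj_iff.1 hxy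
    obtain ⟨h, hh, hn⟩ := exists_mul_mem_normalizer_sylow P (hPC y y.2) (g := g) (by
      rintro _ ⟨w, hw, rfl⟩
      refine mem_centralizer_singleton_iff_commute.2 ?_
      rw [← hg]
      exact (mem_centralizer_singleton_iff_commute.1 (hPC x x.2 hw)).map (MulAut.conj g))
    have hk : h * g * x * (h * g)⁻¹ = y := by
      have := (mem_centralizer_singleton_iff_commute.1 hh).eq
      calc h * g * x * (h * g)⁻¹ = h * (g * x * g⁻¹) * h⁻¹ := by group
        _ = y := by rw [hg, this, mul_inv_cancel_right]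
    have hmem : ((⟨h * g, hn⟩ : N) : N ⧸ C.subgroupOf N) ∈ Submonoid.powers (n : N ⧸ _) :=
      mem_powers_of_prime_card hcard hq
    obtain ⟨i, hi⟩ := hmem
    simp only at hi
    rw [← pow_mod_orderOf, orderOf_eq_prime (p := 3) (hcard ▸ pow_card_eq_one') hq,
      ← QuotientGroup.mk_pow, QuotientGroup.eq] at hi
    have hc : ((n : G) ^ (i % 3))⁻¹ * (h * g) ∈ C := hi
    have hy : (y : G) = n ^ (i % 3) * x * ((n : G) ^ (i % 3))⁻¹ := by
      conv_rhs => rw [← hCx _ hc x x.2]
      rw [← hk]; group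
    have : i % 3 = 0 ∨ i % 3 = 1 ∨ i % 3 = 2 := by omega
    rcases this with e | e | e <;> rw [e] at hy
    · exact Or.inl (Subtype.ext (by simpa using hy))
    · exact Or.inr (Or.inl (Subtype.ext (by rw [hσ]; simpa using hy)))
    · exact Or.inr (Or.inr (Subtype.ext (by rw [hσ, hσ, hy]; simp [pow_succ, mul_assoc])))
  · exact hasNormalPComplement_of_inf_le P (hPC x x.2)
      (hfix x x.2 (fun e => hx (Subtype.ext e))).le

theorem comm_of_equiv {A : Type*} [Group A] {m : ℕ}
    (e : A ≃* Multiplicative (ZMod (2 ^ m) × ZMod (2 ^ m))) (a b : A) : a * b = b * a :=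
  e.injective (by rw [map_mul, map_mul, mul_comm])

theorem dvd_card_of_equiv {A : Type*} [Group A] {m : ℕ} (hm : 2 ≤ m)
    (e : A ≃* Multiplicative (ZMod (2 ^ m) × ZMod (2 ^ m))) : 16 ∣ Nat.card A := by
  obtain ⟨k, rfl⟩ := Nat.exists_eq_add_of_le hm
  rw [Nat.card_congr e.toEquiv, Nat.card_congr Multiplicative.toAdd, Nat.card_prod, Nat.card_zmod]
  exact ⟨2 ^ k * 2 ^ k, by ring⟩

theorem exists_sq_ne_one {A : Type*} [Group A] {m : ℕ} (hm : 2 ≤ m)
    (e : A ≃* Multiplicative (ZMod (2 ^ m) × ZMod (2 ^ m))) : ∃ u : A, u * u ≠ 1 := by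
  refine ⟨e.symm (Multiplicative.ofAdd (1, 0)), fun h => ?_⟩
  rw [← map_mul, ← ofAdd_add, MulEquiv.symm_apply_eq, map_one] at h
  have h1 : ((2 : ℕ) : ZMod (2 ^ m)) = 0 := by
    have := congrArg (fun x => (Multiplicative.toAdd x).1) h
    simpa [one_add_one_eq_two] using this
  rw [ZMod.natCast_eq_zero_iff] at h1
  have h2 := Nat.le_of_dvd (by norm_num) h1
  have h3 : 2 ^ 2 ≤ 2 ^ m := Nat.pow_le_pow_right (by norm_num) hm
  omega

universe u

theorem normal_aux (m : ℕ) (hm : 2 ≤ m) (n : ℕ) : ∀ (G : Type u) [Group G] [Finite G],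
    Nat.card G = n → ∀ (P : Sylow 2 G),
    ((P : Subgroup G) ≃* Multiplicative (ZMod (2 ^ m) × ZMod (2 ^ m))) → pPrimeCore 2 G = ⊥ →
    (P : Subgroup G).Normal := by
  induction n using Nat.strong_induction_on with
  | _ n ih =>
  intro G _ _ hn P e hO
  have := Fintype.ofFinite G
  obtain ⟨h1, h2⟩ := Cfsg.Agent.S0945.result P m (by omega) e
  rcases h1 with h1 | h1
  · have h3 : IsPGroup 2 (⊤ : Subgroup G) := isPGroup_of_hasNormalPComplement hO ⊤
      (hasNormalPComplement_of_inf_le P le_top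
        (inf_le_right.trans (Subgroup.relIndex_eq_one.1 h1)))
    rw [← P.is_maximal' h3 le_top]
    infer_instance
  obtain ⟨σ, hσ⟩ := exists_cubeFusion P (comm_of_equiv e) h1 (h2 (by omega))
  obtain ⟨u, hu⟩ := exists_sq_ne_one hm e
  obtain ⟨a, ha, ha1, ha2, ha3⟩ := hσ.exists_irr_trivial (dvd_card_of_equiv hm e) hu
  have hK : (charKer a).Normal := charKer_normal (irr_isClassFunction ha)
  have hPK : (P : Subgroup G) ≤ charKer a := fun z hz =>
    (char_mem_charKer_iff (irr_isCharacter ha)).2 ((ha3 z hz).trans ha2.symm)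
  have hlt : Nat.card (charKer a) < n := by
    rw [← hn]
    refine lt_of_le_of_ne (Subgroup.card_le_card_group _) fun h' => ha1 (funext fun g => ?_)
    have h := Subgroup.eq_top_of_card_eq _ h'
    exact ((char_mem_charKer_iff (irr_isCharacter ha)).1 (h ▸ Subgroup.mem_top g)).trans ha2
  have h4 := ih _ hlt (charKer a) rfl (P.subtype hPK)
    ((Subgroup.subgroupOfEquivOfLe hPK).trans e) (CL.PL.pPrimeCore_eq_bot_of_normal hO)
  have h5 := Sylow.characteristic_of_normal (P.subtype hPK) h4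
  rw [← Subgroup.map_subgroupOf_eq_of_le hPK]
  exact ConjAct.normal_of_characteristic_of_normal (K := (P.subtype hPK : Subgroup (charKer a)))

/-- Let the finite group G have a Sylow 2-subgroup P isomorphic to Z/2^m × Z/2^m with m ≥ 2, and suppose G has no nontrivial normal subgroup of odd order. Then P is normal in G, C_G(P) = P, and the index of P is 1 or 3. -/
theorem result {G : Type*} [Group G] [Finite G] (P : Sylow 2 G) (m : ℕ) (hm : 2 ≤ m) (e : (P : Subgroup G) ≃* Multiplicative (ZMod (2 ^ m) × ZMod (2 ^ m))) (hO : ∀ N : Subgroup G, N.Normal → Odd (Nat.card N) → N = ⊥) : (P : Subgroup G).Normal ∧ Subgroup.centralizer (P : Set G) = (P : Subgroup G) ∧ ((P : Subgroup G).index = 1 ∨ (P : Subgroup G).index = 3) := by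
  have := CL.PL.pPrimeCore_characteristic 2 G
  have hO' : pPrimeCore 2 G = ⊥ := hO _ inferInstance
    (Nat.coprime_two_right.1 (CL.PL.pPrimeCore_coprime 2 G))
  have h1 := normal_aux m hm _ G rfl P e hO'
  have hPC : (P : Subgroup G) ≤ Subgroup.centralizer (P : Set G) := fun x hx =>
    Subgroup.mem_centralizer_iff.2 fun y hy =>
      congrArg Subtype.val (comm_of_equiv e ⟨y, hy⟩ ⟨x, hx⟩)
  have hCn : (Subgroup.centralizer (P : Set G)).Normal :=
    Subgroup.normal_centralizer (H := (P : Subgroup G))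
  have h2 : Subgroup.centralizer (P : Set G) = (P : Subgroup G) :=
    P.is_maximal' (isPGroup_of_hasNormalPComplement hO' _
      (hasNormalPComplement_of_inf_le P hPC inf_le_left)) hPC
  refine ⟨h1, h2, ?_⟩
  have h3 := (Cfsg.Agent.S0945.result P m (by omega) e).1
  have h4 : Subgroup.normalizer (P : Set G) = ⊤ :=
    Subgroup.normalizer_eq_top (P : Subgroup G)
  rwa [h2, h4, Subgroup.relIndex_top_right] at h3

end Cfsg.Agent.S0949
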