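import Cfsg.Statements.S1238
import Cfsg.Agent.Base
import Cfsg.Agent.TwoFus.Rank2Alperin

set_option autoImplicit false
open Cfsg

namespace Cfsg.Agent.S1238

/-- Let G be a finite group of 2-rank 2 (a Klein four-subgroup but no elementary abelian subgroup of order 8) which is fusion simple: G has no subgroup of index 2 and no isolated involution. Let S be a Sylow 2-subgroup. Then S is dihedral, quasi-dihedral, wreathed, isomorphic to Z_{2^n} × Z_{2^n} for some n ≥ 2, or isomorphic to a Sylow 2-subgroup of PSU(3) over the field with 16 elements. -/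
theorem result {G : Type*} [Group G] [Finite G] (h2 : Cfsg.PRankLE 2 2 G) (h1 : ¬ Cfsg.PRankLE 2 1 G) (hidx : ∀ H : Subgroup G, H.index ≠ 2) (hiso : ∀ z : G, ¬ Cfsg.IsIsolatedInvolution z) (S : Sylow 2 G) {F : Type*} [Field F] [Fintype F] (hF : Fintype.card F = 16) (P : Sylow 2 (Cfsg.PSU 3 F 4)) : (∃ m : ℕ, 2 ≤ m ∧ Nonempty ((S : Subgroup G) ≃* DihedralGroup m)) ∨ Cfsg.IsQuasiDihedral (S : Subgroup G) ∨ Cfsg.IsWreathed (S : Subgroup G) ∨ (∃ n : ℕ, 2 ≤ n ∧ Nonempty ((S : Subgroup G) ≃* Multiplicative (ZMod (2 ^ n) × ZMod (2 ^ n)))) ∨ Nonempty ((S : Subgroup G) ≃* (P : Subgroup (Cfsg.PSU 3 F 4))) := by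
  have : Fact (Nat.Prime 2) := ⟨Nat.prime_two⟩
  have hS2 : Cfsg.PRankLE 2 2 (S : Subgroup G) := fun A hA hA2 => by
    rw [← Subgroup.card_map_of_injective (S : Subgroup G).subtype_injective]
    refine h2 _ inferInstance ?_
    rintro _ ⟨a, ha, rfl⟩
    rw [← map_pow, hA2 a ha, map_one]
  have hord : ∀ t : (S : Subgroup G), t ^ 2 = 1 → t ≠ 1 → orderOf t = 2 := fun t ht ht1 =>
    orderOf_eq_prime ht ht1
  have hab : ∃ a b : (S : Subgroup G), orderOf a = 2 ∧ orderOf b = 2 ∧ a ≠ b := by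
    simp only [Cfsg.PRankLE, not_forall, not_le] at h1
    obtain ⟨A, -, hA2, hA⟩ := h1
    have hA' : IsPGroup 2 A := fun a => ⟨1, Subtype.ext (by simpa using hA2 a a.2)⟩
    obtain ⟨c, -, hc⟩ := CL.TF.exists_conj_le_sylow_of_le S le_top hA' le_top
    let f : A → (S : Subgroup G) := fun a => ⟨MulAut.conj c a, hc ⟨a, a.2, rfl⟩⟩
    have hf : Function.Injective f := fun a b e =>
      Subtype.ext ((MulAut.conj c).injective (congrArg Subtype.val e))
    have hf2 : ∀ a, a ≠ 1 → orderOf (f a) = 2 := fun a ha =>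
      hord _ (Subtype.ext (by simp only [f, SubgroupClass.coe_pow]; rw [← map_pow, hA2 a a.2]; simp))
        fun e => ha (hf (e.trans (Subtype.ext (by simp [f]))))
    have := Fintype.ofFinite A
    rw [Nat.card_eq_fintype_card] at hA
    obtain ⟨u, v, w, huv, huw, hvw⟩ := Fintype.two_lt_card_iff.1 hA
    by_cases hu : u = 1
    · exact ⟨f v, f w, hf2 _ (hu ▸ huv.symm), hf2 _ (hu ▸ huw.symm), hf.ne hvw⟩
    · by_cases hv : v = 1
      · exact ⟨f u, f w, hf2 _ hu, hf2 _ (hv ▸ hvw.symm), hf.ne huw⟩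
      · exact ⟨f u, f v, hf2 _ hu, hf2 _ hv, hf.ne huv⟩
  have hle : ∀ z : (S : Subgroup G), (∀ g, z * g = g * z) →
      (S : Subgroup G) ≤ Subgroup.centralizer {(z : G)} := fun z hz g hg =>
    Subgroup.mem_centralizer_singleton_iff.2 (congrArg Subtype.val (hz ⟨g, hg⟩)).symm
  have key := CL.Rank2.alperin_abstract S.isPGroup' hS2 hab (fun a b => IsConj (a : G) b)
    (fun _ _ h => h.symm) (fun _ _ _ h h' => h.trans h')
    (fun a g => isConj_iff.2 ⟨g, rfl⟩) (by
      intro z hz hz1 hzc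
      have ho : orderOf (z : G) = 2 := by
        rw [Subgroup.orderOf_coe]; exact hord z (by rw [pow_two, hz]) hz1
      have h := hiso z
      simp only [Cfsg.IsIsolatedInvolution, not_and, not_forall] at h
      obtain ⟨g, hg, hne⟩ := h ho
      have ho' : orderOf (g * z * g⁻¹) = 2 :=
        ((MulAut.conj g).orderOf_eq (z : G)).trans ho
      obtain ⟨c, hc, hcS⟩ := CL.TF.exists_conj_le_sylow_of_le S (hle z hzc)
        (P := Subgroup.zpowers (g * z * g⁻¹))
        (IsPGroup.of_card (n := 1) (by rw [Nat.card_zpowers, ho', pow_one]))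
        (by rw [Subgroup.zpowers_le, Subgroup.mem_centralizer_singleton_iff]; exact hg.symm.eq)
      have hzz : (z : G) * z = 1 := congrArg Subtype.val hz
      refine ⟨⟨c * (g * z * g⁻¹) * c⁻¹, hcS ⟨_, Subgroup.mem_zpowers _, rfl⟩⟩, Subtype.ext ?_,
        fun e => hz1 (Subtype.ext ?_), fun e => hne ?_, isConj_iff.2 ⟨(c * g)⁻¹, by group⟩⟩
      · calc c * (g * z * g⁻¹) * c⁻¹ * (c * (g * z * g⁻¹) * c⁻¹) =
              c * g * (z * z) * (c * g)⁻¹ := by group
          _ = 1 := by rw [hzz]; group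
      · simpa using congrArg Subtype.val e
      · have e' : c * (g * z * g⁻¹) * c⁻¹ = z := congrArg Subtype.val e
        rw [mul_inv_eq_iff_eq_mul, ← Subgroup.mem_centralizer_singleton_iff.1 hc] at e'
        exact mul_left_cancel e') (by
      intro z hzc t hr
      obtain ⟨g, hg⟩ := isConj_iff.1 hr.symm
      obtain ⟨c, hc, hcS⟩ := CL.TF.exists_conj_le_sylow_of_conj_le S (hle z hzc)
        (P := (Subgroup.centralizer {t}).map (S : Subgroup G).subtype) (g := g)
        (S.isPGroup'.to_subgroup _ |>.map _) (by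
          rintro _ ⟨x, hx, rfl⟩
          have e : (x : G) * t = t * x :=
            congrArg Subtype.val (Subgroup.mem_centralizer_singleton_iff.1 hx)
          rw [Subgroup.mem_centralizer_singleton_iff]
          rw [← hg] at e
          calc g⁻¹ * (x : G) * g * z = g⁻¹ * (x * (g * z * g⁻¹)) * g := by group
            _ = z * (g⁻¹ * x * g) := by rw [e]; group)
      let θ : Subgroup.centralizer {t} →* (S : Subgroup G) :=
        ((MulAut.conj (c * g⁻¹)).toMonoidHom.comp ((S : Subgroup G).subtype.comp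
          (Subgroup.subtype _))).codRestrict _ fun x => hcS ⟨x, ⟨x, x.2, rfl⟩, rfl⟩
      have hθ : ∀ x, (θ x : G) = c * g⁻¹ * x * (c * g⁻¹)⁻¹ := fun x => rfl
      refine ⟨θ, fun a b e => Subtype.ext (Subtype.ext ((MulAut.conj (c * g⁻¹)).injective
        (congrArg Subtype.val e))), Subtype.ext ?_, fun x => isConj_iff.2 ⟨_, (hθ x).symm⟩⟩
      rw [hθ]
      calc c * g⁻¹ * (t : G) * (c * g⁻¹)⁻¹ = c * z * c⁻¹ := by rw [← hg]; group
        _ = z := by rw [Subgroup.mem_centralizer_singleton_iff.1 hc, mul_inv_cancel_right])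
  rcases key with h | h | h | h | ⟨σ, z, hS, h3, h64, h4⟩
  · exact Or.inl h
  · exact Or.inr (Or.inl h)
  · exact Or.inr (Or.inr (Or.inl h))
  · exact Or.inr (Or.inr (Or.inr (Or.inl h)))
  · obtain ⟨σ', z', hS', h3', h64', h4'⟩ := CL.Rank2.exists_setup_psu hF P
    exact Or.inr (Or.inr (Or.inr (Or.inr (CL.Rank2.nonempty_equiv_of_setup hS S.isPGroup' h3 h64 h4
      hS' P.isPGroup' h3' h64' h4'))))

end Cfsg.Agent.S1238
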