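import Cfsg.Statements.S0516
import Cfsg.Agent.Base
import Cfsg.Agent.S1238
import Cfsg.Agent.S0204
import Cfsg.Agent.S0949
import Cfsg.Agent.TwoFus.ZStar

set_option autoImplicit false
open Cfsg

namespace Cfsg.Agent.S0516

/-- In a non-abelian finite simple group of 2-rank at most 2, a Sylow 2-subgroup is dihedral (of order at least 4),
quasi-dihedral, wreathed, or isomorphic to a Sylow 2-subgroup of the projective special unitary group of dimension 3
over the field with 16 elements. -/
theorem result {G : Type*} [Group G] [Finite G] [IsSimpleGroup G]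
    (hG : ¬ IsMulCommutative G) (h2 : Cfsg.PRankLE 2 2 G) (S : Sylow 2 G) {F : Type*} [Field F] [Fintype F]
    (hF : Fintype.card F = 16) (P : Sylow 2 (Cfsg.PSU 3 F 4)) :
    (∃ n : ℕ, 2 ≤ n ∧ Nonempty ((S : Subgroup G) ≃* DihedralGroup n)) ∨ Cfsg.IsQuasiDihedral (S : Subgroup G) ∨
      Cfsg.IsWreathed (S : Subgroup G) ∨ Nonempty ((S : Subgroup G) ≃* (P : Subgroup (Cfsg.PSU 3 F 4))) := by
  have hnc : ¬ IsCyclic G := fun h => hG inferInstance
  obtain ⟨E, hE⟩ := Cfsg.Agent.S0204.result hnc
  have hO : ∀ N : Subgroup G, N.Normal → Odd (Nat.card N) → N = ⊥ := by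
    intro N hN ho
    refine hN.eq_bot_or_eq_top.resolve_right fun e => ?_
    rw [e, Subgroup.card_top] at ho
    have h := Subgroup.card_subgroup_dvd_card E
    rw [hE.card_four] at h
    exact absurd (ho.of_dvd_nat h) (by decide)
  have hcomm : ∀ z : G, (∀ g, g * z = z * g) → z = 1 := by
    intro z hz
    rcases (inferInstance : (Subgroup.center G).Normal).eq_bot_or_eq_top with e | e
    · rw [← Subgroup.mem_bot, ← e]; exact Subgroup.mem_center_iff.2 hz
    · exact absurd ⟨⟨fun a b => Subgroup.mem_center_iff.1 (e ▸ Subgroup.mem_top b) a⟩⟩ hG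
  rcases Cfsg.Agent.S1238.result h2 (fun h => by
      have := h E hE.isMulCommutative fun a ha => by
        rw [pow_two]; exact congrArg Subtype.val (IsKleinFour.mul_self (⟨a, ha⟩ : E))
      rw [hE.card_four] at this
      omega) (fun H hH => by
      rcases (Subgroup.normal_of_index_eq_two hH).eq_bot_or_eq_top with e | e <;> rw [e] at hH
      · have : Fact (Nat.Prime 2) := ⟨Nat.prime_two⟩
        exact hnc (isCyclic_of_prime_card (p := 2) (by rwa [Subgroup.index_bot] at hH))
      · simp at hH) (fun z hz => by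
      obtain ⟨N, hN, ho, h⟩ := CL.Isol.zstar hz
      have h1 := hcomm z fun g => by
        have := h g
        rw [hO N hN ho, Subgroup.mem_bot, mul_inv_eq_one, mul_inv_eq_iff_eq_mul] at this
        exact this.symm
      have := hz.1
      rw [h1, orderOf_one] at this
      omega) S hF P with h | h | h | ⟨n, hn, ⟨e⟩⟩ | h
  · exact Or.inl h
  · exact Or.inr (Or.inl h)
  · exact Or.inr (Or.inr (Or.inl h))
  · exfalso
    rcases (Cfsg.Agent.S0949.result S n hn e hO).1.eq_bot_or_eq_top with h | h
    · have h1 := Nat.card_congr e.toEquiv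
      rw [h, Subgroup.card_bot] at h1
      simp only [Nat.card_eq_fintype_card, Fintype.card_multiplicative, Fintype.card_prod,
        ZMod.card] at h1
      have := Nat.eq_one_of_mul_eq_one_right h1.symm
      rw [Nat.pow_eq_one] at this
      omega
    · refine hG ⟨⟨fun a b => ?_⟩⟩
      have ha : a ∈ (S : Subgroup G) := h ▸ Subgroup.mem_top a
      have hb : b ∈ (S : Subgroup G) := h ▸ Subgroup.mem_top b
      exact congrArg Subtype.val (e.injective (by rw [map_mul, map_mul, mul_comm]) :
        (⟨a, ha⟩ * ⟨b, hb⟩ : (S : Subgroup G)) = ⟨b, hb⟩ * ⟨a, ha⟩)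
  · exact Or.inr (Or.inr (Or.inr h))

end Cfsg.Agent.S0516
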