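import Cfsg.Statements.S0519
import Cfsg.Agent.Base
import Cfsg.Agent.TwoFus.NoNormalFour
import Cfsg.Agent.S0126

set_option autoImplicit false
open Cfsg

namespace Cfsg.Agent.S0519

/-- Let P be a finite p-group in which every abelian normal subgroup is cyclic, but which has a non-cyclic abelian
subgroup. Then p = 2 and P is generalized quaternion, dihedral of order at least 16, or quasi-dihedral. -/
theorem result {P : Type*} [Group P] [Finite P] (p : ℕ) [Fact p.Prime]
    (hP : IsPGroup p P) (hn : ∀ A : Subgroup P, A.Normal → IsMulCommutative A → IsCyclic A)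
    (hm : ∃ B : Subgroup P, IsMulCommutative B ∧ ¬ IsCyclic B) :
    p = 2 ∧ ((∃ n : ℕ, Nonempty (P ≃* QuaternionGroup n)) ∨ (∃ n : ℕ, 8 ≤ n ∧ Nonempty (P ≃* DihedralGroup n)) ∨
      Cfsg.IsQuasiDihedral P) := by
  have hnc : ¬ IsCyclic P := by
    intro h
    obtain ⟨B, -, hB⟩ := hm
    exact hB inferInstance
  have hp2 : p = 2 := by
    by_contra hp
    obtain ⟨A, hAn, ⟨hAc, hAe⟩, hA⟩ := Cfsg.Agent.S0126.result hp hP hnc
    have hcyc := hn A hAn hAc
    have h1 : Monoid.exponent A ∣ p :=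
      Monoid.exponent_dvd_iff_forall_pow_eq_one.2 fun a => Subtype.ext (hAe a a.2)
    rw [IsCyclic.exponent_eq_card, hA] at h1
    have hp' : p.Prime := Fact.out
    have := Nat.le_of_dvd hp'.pos h1
    nlinarith [hp'.two_le]
  subst hp2
  refine ⟨rfl, ?_⟩
  rcases CL.Rank2.classify_no_normal_four hP (fun V hV h4 =>
    h4.not_isCyclic (hn V hV h4.isMulCommutative)) with h | ⟨m, -, h⟩ | ⟨m, hm, h⟩ | h
  · exact absurd h hnc
  · exact Or.inl ⟨_, h⟩
  · exact Or.inr (Or.inl ⟨_, Nat.pow_le_pow_right (n := 2) (by norm_num) hm, h⟩)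
  · exact Or.inr (Or.inr h)

end Cfsg.Agent.S0519
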