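import Cfsg.Agent.Base
import Cfsg.Statements.S0520
import Cfsg.Agent.Transfer.Alperin
import Cfsg.Agent.SigMisc.Rank
import Cfsg.Agent.TwoFus.SylTools
import Cfsg.Agent.TwoFus.Three
import Cfsg.Agent.Solv.Core

set_option autoImplicit false
open Cfsg

namespace Cfsg.Agent.S0520

open Subgroup Cfsg in
theorem not_rank_iff {G : Type*} [Group G] [Finite G] {Q : Subgroup G} :
    ¬ PRankLE 2 1 Q ↔ ∃ U ≤ Q, IsKleinFour U := by
  rw [CL.SigMisc.not_pRankLE_iff]
  constructor
  · rintro ⟨E, hEQ, hE, hc⟩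
    have hne : E ≠ ⊥ := by
      rintro rfl
      simp at hc
    obtain ⟨⟨a, ha⟩, ha1⟩ := (ne_bot_iff_exists_ne_one).1 hne
    have ha1' : a ≠ 1 := fun h => ha1 (Subtype.ext h)
    have ha2 : a * a = 1 := by rw [← pow_two, hE.2 a ha]
    have hnle : ¬ E ≤ zpowers a := fun h => by
      have h1 := card_le_of_le h
      rw [Nat.card_zpowers] at h1
      have := Nat.le_of_dvd two_pos (orderOf_dvd_of_pow_eq_one (hE.2 a ha))
      omega
    obtain ⟨b, hb, hba⟩ := SetLike.not_le_iff_exists.1 hnle
    have h4 := CL.isFourData_closure ha2 (by rw [← pow_two, hE.2 b hb])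
      (CL.SigMisc.elemAb_comm hE ha hb) ha1' (fun h => hba (h ▸ one_mem _))
      (fun h => hba (h ▸ mem_zpowers a))
    refine ⟨_, ?_, h4.isKleinFour⟩
    rw [closure_le]
    rintro _ (rfl | rfl)
    exacts [hEQ ha, hEQ hb]
  · rintro ⟨U, hUQ, hU⟩
    obtain ⟨a, b, h⟩ := CL.exists_isFourData hU
    refine ⟨U, hUQ, CL.SigMisc.elemAb_mk (fun c hc d hd => ?_)
      (fun c hc => by rw [pow_two, h.sq_eq_one hc]), by rw [h.card_eq]; norm_num⟩
    have := IsKleinFour.isMulCommutative (G := U)
    exact congrArg Subtype.val (mul_comm' (⟨c, hc⟩ : U) ⟨d, hd⟩)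

theorem isKleinFour_map {G H : Type*} [Group G] [Group H] {U : Subgroup G} (hU : IsKleinFour U)
    (f : G →* H) (hf : Function.Injective f) : IsKleinFour (U.map f) := by
  obtain ⟨a, b, h⟩ := CL.exists_isFourData hU
  exact (h.map f hf).isKleinFour

/-- The adjacency relation of the commuting graph on four-subgroups. -/
def Adj {G : Type*} [Group G] (A B : Subgroup G) : Prop :=
  IsKleinFour A ∧ IsKleinFour B ∧ ∀ a ∈ A, ∀ b ∈ B, a * b = b * a

theorem Adj.map {G H : Type*} [Group G] [Group H] {A B : Subgroup G} (h : Adj A B)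
    (f : G →* H) (hf : Function.Injective f) : Adj (A.map f) (B.map f) := by
  refine ⟨isKleinFour_map h.1 f hf, isKleinFour_map h.2.1 f hf, ?_⟩
  rintro _ ⟨a, ha, rfl⟩ _ ⟨b, hb, rfl⟩
  rw [← map_mul, h.2.2 a ha b hb, map_mul]

theorem conn_map {G H : Type*} [Group G] [Group H] {A B : Subgroup G}
    (h : Relation.ReflTransGen Adj A B) (f : G →* H) (hf : Function.Injective f) :
    Relation.ReflTransGen Adj (A.map f) (B.map f) := by
  induction h with
  | refl => exact Relation.ReflTransGen.refl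
  | tail _ h2 ih => exact ih.tail (h2.map f hf)

theorem conn_symm {G : Type*} [Group G] {A B : Subgroup G}
    (h : Relation.ReflTransGen Adj A B) : Relation.ReflTransGen Adj B A := by
  induction h with
  | refl => exact Relation.ReflTransGen.refl
  | tail _ h ih => exact ih.head ⟨h.2.1, h.1, fun b hb a ha => (h.2.2 a ha b hb).symm⟩

/-- Let G be a finite group of 2-rank at least 2 and S a Sylow 2-subgroup whose commuting graph of Klein four-subgroups is
connected. Then the commuting graph of Klein four-subgroups of G is disconnected if and only if the 2-generated core — the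
subgroup generated by the normalizers N_G(Q) of the subgroups Q of S that contain a Klein four-group — is a proper
subgroup of G. -/
theorem result {G : Type*} [Group G] [Finite G] (h2 : ¬ Cfsg.PRankLE 2 1 G)
    (S : Sylow 2 G) (hS : Cfsg.IsFourConnected (S : Subgroup G)) :
    ¬ Cfsg.IsFourConnected G ↔
      (⨆ Q : {Q : Subgroup G // Q ≤ (S : Subgroup G) ∧ ¬ Cfsg.PRankLE 2 1 Q},
          Subgroup.normalizer ((Q : Subgroup G) : Set G)) ≠ ⊤ := by
  open Subgroup CL.Transfer Pointwise in
  set Γ : Subgroup G := ⨆ Q : {Q : Subgroup G // Q ≤ (S : Subgroup G) ∧ ¬ Cfsg.PRankLE 2 1 Q},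
    normalizer ((Q : Subgroup G) : Set G) with hΓ
  have hmem : ∀ Q : Subgroup G, Q ≤ S → (∃ U ≤ Q, IsKleinFour U) → normalizer (Q : Set G) ≤ Γ :=
    fun Q h1 h2 => le_iSup (fun Q : {Q : Subgroup G // Q ≤ (S : Subgroup G) ∧
      ¬ Cfsg.PRankLE 2 1 Q} => normalizer ((Q : Subgroup G) : Set G)) ⟨Q, h1, not_rank_iff.2 h2⟩
  have hK : ∀ (g : G) {U : Subgroup G}, IsKleinFour U → IsKleinFour (MulAut.conj g • U :) :=
    fun g U hU => CL.TF.isKleinFour_map_conj hU g
  have hS' : ∀ U V : Subgroup G, U ≤ S → V ≤ S → IsKleinFour U → IsKleinFour V →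
      Relation.ReflTransGen Adj U V := by
    intro U V hUS hVS hU hV
    have h1 : ∀ W : Subgroup G, W ≤ S → IsKleinFour W → IsKleinFour (W.subgroupOf S) := by
      intro W hW h
      exact { card_four := by rw [CL.card_subgroupOf_eq_of_le hW]; exact h.card_four
              exponent_two := by
                rw [Monoid.exponent_eq_of_mulEquiv (subgroupOfEquivOfLe hW)]
                exact h.exponent_two }
    have := conn_map (hS _ _ (h1 U hUS hU) (h1 V hVS hV)) (S : Subgroup G).subtype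
      (subtype_injective _)
    rwa [map_subgroupOf_eq_of_le hUS, map_subgroupOf_eq_of_le hVS] at this
  obtain ⟨U₀, hU₀S, hU₀⟩ : ∃ U ≤ (S : Subgroup G), IsKleinFour U := by
    have h3 : ¬ Cfsg.PRankLE 2 1 (⊤ : Subgroup G) := by
      rw [CL.SigMisc.not_pRankLE_iff]
      obtain ⟨E, hE⟩ := CL.SigMisc.not_pRankLE_iff'.1 h2
      exact ⟨E, le_top, hE⟩
    obtain ⟨U, -, hU⟩ := not_rank_iff.1 h3
    obtain ⟨g, hg⟩ := exists_conj_le_sylow S (CL.TF.isPGroup_of_isKleinFour hU)
    exact ⟨_, hg, hK g hU⟩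
  rw [not_iff_not]
  constructor
  · intro hG
    have ha : ∀ (A : Subgroup G) (g : G), A ≤ S → MulAut.conj g • A ≤ S →
        (∃ U ≤ A, IsKleinFour U) → g ∈ Γ := by
      refine alperin_induction_extremal S (fun A g => (∃ U ≤ A, IsKleinFour U) → g ∈ Γ) ?_ ?_ ?_
      · rintro A B g hAB - - h ⟨U, hUA, hU⟩
        exact h ⟨U, hUA.trans hAB, hU⟩
      · rintro A g h - - - h1 h2 ⟨U, hUA, hU⟩
        exact Γ.mul_mem (h2 ⟨_, conj_smul_mono g hUA, hK g hU⟩) (h1 ⟨U, hUA, hU⟩)
      · intro D x hD hx h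
        exact hmem D hD.1 h hx
    have ha' : ∀ (U : Subgroup G) (g h : G), IsKleinFour U → MulAut.conj g • U ≤ S →
        MulAut.conj h • U ≤ S → h * g⁻¹ ∈ Γ := by
      intro U g h hU h1 h2
      refine ha _ _ h1 ?_ ⟨_, le_rfl, hK g hU⟩
      rwa [conj_smul_conj_smul, inv_mul_cancel_right]
    have hb : ∀ V : Subgroup G, Relation.ReflTransGen Adj U₀ V →
        ∀ h : G, MulAut.conj h • V ≤ S → h ∈ Γ := by
      intro V hV
      induction hV with
      | refl => exact fun h hh => ha _ _ hU₀S hh ⟨_, le_rfl, hU₀⟩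
      | @tail B C _ hBC ih =>
        intro h hh
        have hp : IsPGroup 2 (B ⊔ C : Subgroup G) :=
          IsPGroup.to_sup_of_normal_right' (CL.TF.isPGroup_of_isKleinFour hBC.1)
            (CL.TF.isPGroup_of_isKleinFour hBC.2.1)
            (fun b hb => centralizer_le_normalizer _ fun c hc => (hBC.2.2 b hb c hc).symm)
        obtain ⟨k, hk⟩ := exists_conj_le_sylow S hp
        have h1 := ih k ((conj_smul_mono k le_sup_left).trans hk)
        have h2 := ha' C k h hBC.2.1 ((conj_smul_mono k le_sup_right).trans hk) hh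
        simpa using Γ.mul_mem h2 h1
    rw [eq_top_iff]
    intro g _
    refine hb _ (hG _ _ hU₀ (hK g⁻¹ hU₀)) g ?_
    rwa [conj_smul_conj_inv_smul]
  · intro hT
    have hall : ∀ g ∈ Γ, Relation.ReflTransGen Adj U₀ (MulAut.conj g • U₀) := by
      intro g hg
      rw [hΓ] at hg
      induction hg using iSup_induction' with
      | hp Q x hx =>
        obtain ⟨U, hUQ, hU⟩ := not_rank_iff.1 Q.2.2
        have h1 : MulAut.conj x • U ≤ S := by
          refine le_trans ?_ Q.2.1
          rw [← conj_smul_eq_iff_mem_normalizer.2 hx]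
          exact conj_smul_mono x hUQ
        exact (hS' _ _ hU₀S h1 hU₀ (hK x hU)).trans
          (conn_map (hS' _ _ (hUQ.trans Q.2.1) hU₀S hU hU₀) (MulAut.conj x).toMonoidHom
            (MulAut.conj x).injective)
      | h1 => rw [conj_one_smul]
      | hmul x y _ _ hx hy =>
        rw [← conj_smul_conj_smul]
        exact hx.trans (conn_map hy (MulAut.conj x).toMonoidHom (MulAut.conj x).injective)
    have hc : ∀ U : Subgroup G, IsKleinFour U → Relation.ReflTransGen Adj U₀ U := by
      intro U hU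
      obtain ⟨g, hg⟩ := exists_conj_le_sylow S (CL.TF.isPGroup_of_isKleinFour hU)
      have h1 := conn_map (hS' _ _ hU₀S hg hU₀ (hK g hU)) (MulAut.conj g⁻¹).toMonoidHom
        (MulAut.conj g⁻¹).injective
      rw [← conj_smul_eq_map, ← conj_smul_eq_map, conj_inv_smul_conj_smul] at h1
      exact (hall g⁻¹ (hT ▸ mem_top _)).trans h1
    intro U V hU hV
    exact (conn_symm (hc U hU)).trans (hc V hV)

end Cfsg.Agent.S0520
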