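import Cfsg.Agent.Base
import Cfsg.Statements.S0521
import Cfsg.Agent.BG.PStable
import Cfsg.Agent.BG.Nil
import Cfsg.Agent.Solv.FrattiniP

set_option autoImplicit false
open Cfsg

namespace Cfsg.Agent.S0521

open Subgroup

theorem aux {Z : Type*} [Group Z] [Finite Z] (hodd : Odd (Nat.card Z)) {p : ℕ} [hp : Fact p.Prime]
    (hC : centralizer (pCore p Z : Set Z) ≤ pCore p Z) (hexp : ∀ x ∈ pCore p Z, x ^ p = 1)
    {S : Subgroup Z} (hS : IsPGroup p S) (hPS : pCore p Z ≤ S)
    (hcyc : IsCyclic (⁅S, S⁆ : Subgroup Z)) : S ≤ pCore p Z := by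
  set P := pCore p Z with hP
  have hPn : P.Normal := inferInstance
  have hPp : IsPGroup p P := CL.pCore_isPGroup p Z
  set W : Subgroup Z := ⁅P, S⁆ with hW
  have hWP : W ≤ P := commutator_le_left _ _
  have hWS : W ≤ ⁅S, S⁆ := commutator_mono hPS le_rfl
  have hWc : IsCyclic W := Subgroup.isCyclic_of_le hWS
  have hWcard : Nat.card W ∣ p := by
    rw [← hWc.exponent_eq_card]
    exact Monoid.exponent_dvd_of_forall_pow_eq_one fun x => Subtype.ext (hexp x (hWP x.2))
  have hq : ⁅W, S⁆ = ⊥ := by
    by_cases hW0 : W = ⊥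
    · rw [hW0, commutator_bot_left]
    have hlt := CL.BG.pgroup_commutator_lt (hPp.to_le hWP) hS
      (CL.le_normalizer_commutator (by rw [normalizer_eq_top]; exact le_top) le_normalizer) hW0
    have h1 := (card_dvd_of_le hlt.le).trans hWcard
    rcases (Nat.dvd_prime hp.out).1 h1 with h | h
    · exact card_eq_one.1 h
    · have h2 := CL.card_lt_of_lt hlt
      have h3 := Nat.le_of_dvd hp.out.pos hWcard
      omega
  have := CL.BG.odd_map_le_pCore_of_quadratic hodd hPp P hC hq
  rw [CL.pCore_quotient_pCore, le_bot_iff, Subgroup.map_eq_bot_iff, QuotientGroup.ker_mk'] at this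
  exact this

theorem aux2 {Y : Type*} [Group Y] [Finite Y] [Group.IsSolvable Y] (hodd : Odd (Nat.card Y))
    {p : ℕ} [hp : Fact p.Prime] (h : pPrimeCore p Y = ⊥)
    {S : Subgroup Y} (hS : IsPGroup p S) (hPS : pCore p Y ≤ S)
    (hcyc : IsCyclic (⁅S, S⁆ : Subgroup Y)) : S ≤ pCore p Y := by
  set f := QuotientGroup.mk' (frattini Y) with hf
  have hsurj : Function.Surjective f := QuotientGroup.mk'_surjective _
  have hker : f.ker ≤ frattini Y := (QuotientGroup.ker_mk' _).le
  have h1 := CL.map_pCore_eq_of_ker_le_frattini (p := p) hsurj hker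
  have h2 := CL.map_fitting_eq_of_ker_le_frattini hsurj hker
  have hF := CL.fitting_eq_pCore h
  rw [hF, h1] at h2
  have hle : S.map f ≤ pCore p (Y ⧸ frattini Y) := by
    refine aux (hodd.of_dvd_nat (card_quotient_dvd_card _)) ?_ ?_ (hS.map f)
      (h1 ▸ map_mono hPS) ?_
    · rw [h2]; exact CL.centralizer_fitting_le _
    · rw [← h1]
      rintro _ ⟨x, hx, rfl⟩
      rw [← map_pow, ← MonoidHom.mem_ker, QuotientGroup.ker_mk']
      exact CL.map_subtype_frattini_le _ (CL.pow_mem_map_frattini (CL.pCore_isPGroup p Y) hx)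
    · rw [← map_commutator]
      exact isCyclic_of_surjective _ (f.subgroupMap_surjective _)
  rw [← h1, map_le_iff_le_comap, comap_map_eq] at hle
  exact hle.trans (sup_le le_rfl (hker.trans (hF ▸ CL.frattini_le_fitting)))

/-- Let X be a finite solvable group of odd order, p a prime and S a Sylow p-subgroup of X whose commutator subgroup is
cyclic. Then the product of the largest normal subgroup of X of order prime to p with S is a normal subgroup of X. -/
theorem result {X : Type*} [Group X] [Finite X] [Group.IsSolvable X]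
    (hX : Odd (Nat.card X)) (p : ℕ) [Fact p.Prime] (S : Sylow p X) (hS : IsCyclic (commutator (S : Subgroup X))) :
    (Cfsg.pPrimeCore p X ⊔ (S : Subgroup X)).Normal := by
  set f := QuotientGroup.mk' (pPrimeCore p X) with hf
  have hsurj : Function.Surjective f := QuotientGroup.mk'_surjective _
  have hcyc : IsCyclic (⁅(S : Subgroup X), (S : Subgroup X)⁆ : Subgroup X) := by
    rw [← map_subtype_commutator]
    exact isCyclic_of_surjective _ ((S : Subgroup X).subtype.subgroupMap_surjective _)
  have h1 : pCore p (X ⧸ pPrimeCore p X) ≤ (S : Subgroup X).map f :=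
    CL.pCore_le_sylow (S.mapSurjective hsurj)
  have h2 := aux2 (hX.of_dvd_nat (card_quotient_dvd_card _))
    (CL.pPrimeCore_quotient_pPrimeCore p X) (S.isPGroup'.map f) h1 (by
      rw [← map_commutator]
      exact isCyclic_of_surjective _ (f.subgroupMap_surjective _))
  have h3 : pPrimeCore p X ⊔ (S : Subgroup X) = (pCore p (X ⧸ pPrimeCore p X)).comap f := by
    rw [← le_antisymm h2 h1, comap_map_eq, QuotientGroup.ker_mk', sup_comm]
  rw [h3]
  infer_instance

end Cfsg.Agent.S0521
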