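import Cfsg.Statements.S0522
import Cfsg.Agent.Base
import Cfsg.Agent.BG.A9_Trans

set_option autoImplicit false
open Cfsg

namespace Cfsg.Agent.S0522

/-- Transitivity Theorem (odd-order setting). Let X be a finite group of odd order in which the normalizer of every
nontrivial p-subgroup is solvable, P a Sylow p-subgroup, and B an abelian subgroup of P, normalized by P, with
C_P(B) = B and containing an elementary abelian subgroup of order p^3. Then for every prime q ≠ p, any two q-subgroups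
that are maximal among the q-subgroups normalized by B are conjugate by an element of the centralizer of B. -/
theorem result {X : Type*} [Group X] [Finite X] (hX : Odd (Nat.card X)) (p : ℕ)
    [Fact p.Prime] (hloc : ∀ T : Subgroup X, IsPGroup p T → T ≠ ⊥ → Group.IsSolvable (Subgroup.normalizer (T : Set X)))
    (P : Sylow p X) (B : Subgroup X) (hBP : B ≤ (P : Subgroup X))
    (hBn : ∀ x ∈ (P : Subgroup X), ∀ b ∈ B, x * b * x⁻¹ ∈ B) (hBa : IsMulCommutative B)
    (hBc : (P : Subgroup X) ⊓ Subgroup.centralizer (B : Set X) = B)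
    (hB3 : ∃ E : Subgroup X, E ≤ B ∧ (∀ e ∈ E, e ^ p = 1) ∧ p ^ 3 ≤ Nat.card E)
    (q : ℕ) [Fact q.Prime] (hqp : q ≠ p) (Q₁ Q₂ : Subgroup X)
    (h₁ : IsPGroup q Q₁ ∧ B ≤ Subgroup.normalizer (Q₁ : Set X) ∧
      ∀ R : Subgroup X, IsPGroup q R → B ≤ Subgroup.normalizer (R : Set X) → Q₁ ≤ R → R = Q₁)
    (h₂ : IsPGroup q Q₂ ∧ B ≤ Subgroup.normalizer (Q₂ : Set X) ∧
      ∀ R : Subgroup X, IsPGroup q R → B ≤ Subgroup.normalizer (R : Set X) → Q₂ ≤ R → R = Q₂) :
    ∃ c ∈ Subgroup.centralizer (B : Set X), Q₂ = Q₁.map (MulAut.conj c).toMonoidHom := by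
  have hp : p.Prime := Fact.out
  have hBp : IsPGroup p B := P.isPGroup'.to_le hBP
  obtain ⟨E, hEB, hE, hE3⟩ := hB3
  have hEe : Cfsg.IsElementaryAbelian p E := ⟨CL.BG.comm_of_le hBa hEB, hE⟩
  rw [CL.BG.card_eq_pow_pRank hp hEe] at hE3
  have h3 : 3 ≤ CL.BG.pRank p B :=
    ((Nat.pow_le_pow_iff_right hp.one_lt).1 hE3).trans (CL.BG.pRank_mono hp hEB)
  have hp2 : p ≠ 2 := by
    rintro rfl
    have := ((CL.BG.pRank_pos_iff hp).1 (by omega : 0 < CL.BG.pRank 2 B)).trans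
      (Subgroup.card_subgroup_dvd_card B)
    exact (Nat.not_even_iff_odd.2 hX) (even_iff_two_dvd.2 this)
  have hscn : Cfsg.IsSCN (P : Subgroup X) B := ⟨hBP, fun x hx =>
    CL.BG.mem_norm_of_cj_le (CL.BG.cj_le_iff.2 (hBn x hx)), hBc⟩
  obtain ⟨k, hk, e⟩ := CL.BG.thompson_transitivity (fun T hT h1 => by
      haveI := hloc T hT h1
      exact CL.PL.isPConstrained_of_isPSolvable CL.PL.isPSolvable_of_isSolvable)
    (Or.inl hp2) hBp hBa (h3.trans (CL.BG.pRank_le_rank hp B))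
    (fun x hx ho => CL.BG.scn_le_of_isPGroup (CL.BG.sylowOf_top P) hscn
      ((CL.BG.piGrp_zpowers.2 ho).isPGroup hp) le_top (Subgroup.zpowers_le.2 hx)
      (Subgroup.mem_zpowers x)) hqp Q₁ (CL.BG.maxInv_intro h₁.1 h₁.2.1 h₁.2.2)
    Q₂ (CL.BG.maxInv_intro h₂.1 h₂.2.1 h₂.2.2)
  exact ⟨k, CL.BG.pco_le _ _ hk, e⟩

end Cfsg.Agent.S0522
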