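import Cfsg.Statements.S0529
import Cfsg.Agent.Solv.SupersolvHPI

set_option autoImplicit false
open Cfsg

namespace Cfsg.Agent.S0529

open Subgroup CL.SS in
theorem aux {G : Type*} [Group G] [Finite G] (hG : Cfsg.IsSupersolvable G) (N : Subgroup G)
    (hN : N.Normal) : ∃ (n : ℕ) (H : Fin (n + 1) → Subgroup G), H 0 = N ∧ H (Fin.last n) = ⊤ ∧
      (∀ i, (H i).Normal) ∧
      (∀ i : Fin n, H i.castSucc ≤ H i.succ ∧ ((H i.castSucc).relIndex (H i.succ)).Prime ∧
        (H i.castSucc).relIndex (H i.succ) ∣ N.index) ∧
      ∀ i j : Fin n, i ≤ j →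
        (H j.castSucc).relIndex (H j.succ) ≤ (H i.castSucc).relIndex (H i.succ) := by
  induction N using (wellFounded_gt (α := Subgroup G)).induction with
  | _ N ih =>
    by_cases h : N = ⊤
    · exact ⟨0, fun _ => ⊤, h.symm, rfl, fun _ => inferInstance, fun i => i.elim0,
        fun i => i.elim0⟩
    · obtain ⟨p, hp, hpG, hmax⟩ := exists_max_prime_dvd (one_lt_index_of_ne_top h)
      obtain ⟨K, hKn, hK⟩ := exists_normal_card_eq_max (quotient hG N) p hp hpG hmax
      set M := K.comap (QuotientGroup.mk' N) with hM
      have hle : N ≤ M := by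
        intro x hx
        rw [hM, mem_comap, QuotientGroup.mk'_apply, (QuotientGroup.eq_one_iff x).2 hx]
        exact K.one_mem
      have hrel : N.relIndex M = p := by
        have h4 := card_mul_relIndex hle
        rw [hM, card_comap_mk, mul_comm (Nat.card K), hK] at h4
        exact Nat.eq_of_mul_eq_mul_left Nat.card_pos h4
      have hlt : N < M := by
        refine lt_of_le_of_ne hle (fun h1 => ?_)
        rw [← h1, relIndex_self] at hrel
        exact hp.one_lt.ne hrel
      obtain ⟨n, H, h0, hl, hn, hs, hmono⟩ := ih M hlt inferInstance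
      have hdvd : M.index ∣ N.index := index_dvd_of_le hle
      refine ⟨n + 1, Fin.cons N H, rfl, ?_, ?_, ?_, ?_⟩
      · rw [← Fin.succ_last, Fin.cons_succ, hl]
      · intro i
        refine Fin.cases ?_ (fun j => ?_) i
        · exact hN
        · simpa using hn j
      · intro i
        refine Fin.cases ?_ (fun j => ?_) i
        · rw [Fin.castSucc_zero, Fin.cons_zero, Fin.cons_succ, h0, hrel]
          exact ⟨hle, hp, hpG⟩
        · rw [← Fin.succ_castSucc, Fin.cons_succ, Fin.cons_succ]
          exact ⟨(hs j).1, (hs j).2.1, (hs j).2.2.trans hdvd⟩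
      · intro i j
        refine Fin.cases ?_ (fun i' => ?_) i
        · refine Fin.cases ?_ (fun j' => ?_) j
          · intro _
            exact le_rfl
          · intro _
            rw [Fin.castSucc_zero, Fin.cons_zero, Fin.cons_succ (n := n + 1) _ _ 0, h0, hrel,
              ← Fin.succ_castSucc, Fin.cons_succ, Fin.cons_succ]
            exact hmax _ (hs j').2.1 ((hs j').2.2.trans hdvd)
        · refine Fin.cases ?_ (fun j' => ?_) j
          · intro hij
            exact absurd hij (not_le.2 (Fin.succ_pos i'))
          · intro hij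
            rw [← Fin.succ_castSucc, ← Fin.succ_castSucc, Fin.cons_succ, Fin.cons_succ,
              Fin.cons_succ, Fin.cons_succ]
            exact hmono i' j' (Fin.succ_le_succ_iff.1 hij)

/-- A finite supersolvable group has a chain of normal subgroups, from the trivial subgroup to the whole group, in which every step has prime index and the primes occurring are non-increasing as one goes up the chain. -/
theorem result {G : Type*} [Group G] [Finite G] (hG : Cfsg.IsSupersolvable G) : ∃ (n : ℕ) (H : Fin (n + 1) → Subgroup G), H 0 = ⊥ ∧ H (Fin.last n) = ⊤ ∧ (∀ i, (H i).Normal) ∧ (∀ i : Fin n, H i.castSucc ≤ H i.succ ∧ ((H i.castSucc).relIndex (H i.succ)).Prime) ∧ ∀ i j : Fin n, i ≤ j → (H j.castSucc).relIndex (H j.succ) ≤ (H i.castSucc).relIndex (H i.succ) := by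
  obtain ⟨n, H, h0, hl, hn, hs, hmono⟩ := aux hG ⊥ inferInstance
  exact ⟨n, H, h0, hl, hn, fun i => ⟨(hs i).1, (hs i).2.1⟩, hmono⟩

end Cfsg.Agent.S0529
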