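import Cfsg.Statements.S0530
import Cfsg.Agent.Solv.SupersolvHPI

set_option autoImplicit false
open Cfsg

namespace Cfsg.Agent.S0530

open Subgroup CL.SS in
theorem aux (p : ℕ) (hp : p.Prime) (G : Type*) [Group G] [Finite G]
    (hG : Subsingleton G ∨ ∃ n, Nat.card G = 2 * p ^ n) : Cfsg.IsSupersolvable G := by
  have := Fact.mk hp
  refine of_class (P := fun G _ _ => Subsingleton G ∨ ∃ n, Nat.card G = 2 * p ^ n) ?_ G hG
  intro G _ _ _ hG
  rcases hG with hG | ⟨n, hG⟩
  · exact absurd hG (not_subsingleton G)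
  obtain ⟨P, hP⟩ := Sylow.exists_subgroup_card_pow_prime (G := G) p (n := n)
    (hG ▸ Dvd.intro_left 2 rfl)
  have hidx : P.index = 2 := by
    have h1 := P.card_mul_index
    rw [hP, hG, mul_comm 2] at h1
    exact Nat.eq_of_mul_eq_mul_left (pow_pos hp.pos n) h1
  have hPn : P.Normal := normal_of_index_eq_two hidx
  have hPp : IsPGroup p P := IsPGroup.of_card hP
  by_cases hb : P = ⊥
  · have h2 : Nat.card G = 2 := by rw [← index_bot, ← hb, hidx]
    have : Fact (Nat.Prime 2) := ⟨Nat.prime_two⟩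
    have : IsCyclic G := isCyclic_of_prime_card h2
    exact ⟨⊤, inferInstance, top_ne_bot, inferInstance, Or.inl QuotientGroup.subsingleton_quotient_top⟩
  -- a nontrivial cyclic normal subgroup inside `P`
  have key : ∃ x : G, x ∈ P ∧ x ≠ 1 ∧ (zpowers x).Normal := by
    obtain ⟨⟨x, hx⟩, hx1⟩ := ne_bot_iff_exists_ne_one.1 (center_sylow_ne_bot hPp hb)
    have hx1' : x ≠ 1 := fun h => hx1 (Subtype.ext h)
    obtain ⟨t, ht, hcov⟩ := index_eq_two_iff_exists_notMem_and.1 hidx
    have hZn : (P ⊓ centralizer (P : Set G)).Normal := inferInstance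
    have norm : ∀ y : G, y ∈ P ⊓ centralizer (P : Set G) → t * y * t⁻¹ ∈ zpowers y →
        (zpowers y).Normal := by
      intro y hy hty
      have hc : ∀ g ∈ P, g * y * g⁻¹ = y := by
        intro g hg
        rw [mem_centralizer_iff.1 (mem_inf.1 hy).2 g hg, mul_inv_cancel_right]
      have hall : ∀ g : G, g * y * g⁻¹ ∈ zpowers y := by
        intro g
        rcases hcov g⁻¹ with h | h
        · have h' : t⁻¹ * g ∈ P := by simpa using P.inv_mem h
          have : g * y * g⁻¹ = t * ((t⁻¹ * g) * y * (t⁻¹ * g)⁻¹) * t⁻¹ := by group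
          rw [this, hc _ h']
          exact hty
        · rw [hc g (by simpa using h)]
          exact mem_zpowers y
      constructor
      rintro _ ⟨k, rfl⟩ g
      simp only
      rw [← conj_zpow]
      exact zpow_mem (hall g) k
    have htx : t * x * t⁻¹ ∈ P ⊓ centralizer (P : Set G) := hZn.conj_mem x hx t
    by_cases h : x * (t * x * t⁻¹) = 1
    · refine ⟨x, (mem_inf.1 hx).1, hx1', norm x hx ?_⟩
      rw [eq_inv_of_mul_eq_one_right h]
      exact inv_mem (mem_zpowers x)
    · refine ⟨x * (t * x * t⁻¹), (mem_inf.1 (mul_mem hx htx)).1, h, norm _ (mul_mem hx htx) ?_⟩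
      have ht2 : t * t ∈ P := mul_self_mem_of_index_two hidx t
      have e1 : t * t * x * (t * t)⁻¹ = x := by
        rw [mem_centralizer_iff.1 (mem_inf.1 hx).2 _ ht2, mul_inv_cancel_right]
      have e2 : t * (x * (t * x * t⁻¹)) * t⁻¹ = (t * x * t⁻¹) * (t * t * x * (t * t)⁻¹) := by group
      rw [e2, e1, mem_centralizer_iff.1 (mem_inf.1 hx).2 _ (mem_inf.1 htx).1]
      exact mem_zpowers _
  obtain ⟨x, hxP, hx1, hxn⟩ := key
  refine ⟨zpowers x, hxn, by rwa [Ne, zpowers_eq_bot], inferInstance, Or.inr ?_⟩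
  have hle : zpowers x ≤ P := zpowers_le.2 hxP
  have h1 := relIndex_mul_index hle
  obtain ⟨k, hk⟩ := hPp.index ((zpowers x).subgroupOf P)
  refine ⟨k, ?_⟩
  rw [← index_eq_card, ← h1, hidx, relIndex, hk, mul_comm]

/-- A finite group whose order is twice a prime power is supersolvable. -/
theorem result {G : Type*} [Group G] [Finite G] (p n : ℕ) (hp : p.Prime) (hG : Nat.card G = 2 * p ^ n) : Cfsg.IsSupersolvable G := by
  exact aux p hp G (Or.inr ⟨n, hG⟩)

end Cfsg.Agent.S0530
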