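import Cfsg.Statements.S0534
import Cfsg.Agent.Solv.SupersolvHPI
import Cfsg.Agent.S0003

set_option autoImplicit false
open Cfsg

namespace Cfsg.Agent.S0534

/-- Let G be a finite solvable group and A a finite abelian group such that every prime dividing the order of A divides the order of G and, for each prime p dividing the order of G, the exponent of p in the order of A is one less than its exponent in the order of G. Then G × A has a subgroup of every order dividing its order. -/
theorem result {G A : Type*} [Group G] [CommGroup A] [Finite G] [Finite A] [Group.IsSolvable G] (hA : ∀ p : ℕ, p.Prime → p ∣ Nat.card A → p ∣ Nat.card G) (hexp : ∀ p : ℕ, p.Prime → p ∣ Nat.card G → (Nat.card A).factorization p + 1 = (Nat.card G).factorization p) : Cfsg.HasSubgroupOfEveryOrder (G × A) := by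
  classical
  intro d hd
  rw [Nat.card_prod] at hd
  set n := Nat.card G with hn
  set a := Nat.card A with ha
  have hn0 : n ≠ 0 := Nat.card_pos.ne'
  have ha0 : a ≠ 0 := Nat.card_pos.ne'
  have hd0 : d ≠ 0 := by
    rintro rfl
    exact (mul_ne_zero hn0 ha0) (Nat.eq_zero_of_zero_dvd hd)
  set s : Finset ℕ := n.primeFactors.filter (fun p => n.factorization p ≤ d.factorization p) with hs
  set t : Finset ℕ := n.primeFactors.filter (fun p => ¬ n.factorization p ≤ d.factorization p)
    with ht
  set m := ∏ p ∈ s, p ^ n.factorization p with hm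
  set m' := ∏ p ∈ t, p ^ n.factorization p with hm'
  have hmm : n = m * m' := by
    rw [hm, hm', hs, ht, Finset.prod_filter_mul_prod_filter_not]
    exact (Nat.factorization_prod_pow_eq_self hn0).symm
  have hcop : m.Coprime m' := by
    rw [hm, hm']
    refine Nat.Coprime.prod_left (fun p hp => Nat.Coprime.prod_right (fun q hq => ?_))
    rw [hs, Finset.mem_filter] at hp
    rw [ht, Finset.mem_filter] at hq
    refine Nat.Coprime.pow _ _ ((Nat.coprime_primes (Nat.prime_of_mem_primeFactors hp.1)
      (Nat.prime_of_mem_primeFactors hq.1)).2 ?_)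
    rintro rfl
    exact hq.2 hp.2
  have hm0 : m ≠ 0 := fun h => hn0 (by rw [hmm, h, zero_mul])
  have hmf : ∀ p : ℕ, m.factorization p = if p ∈ s then n.factorization p else 0 := by
    intro p
    rw [hm, Nat.factorization_prod (fun q hq => pow_ne_zero _
      (Nat.prime_of_mem_primeFactors (Finset.mem_filter.1 hq).1).ne_zero), Finsupp.finset_sum_apply]
    rw [← Finset.sum_ite_eq s p (fun q => n.factorization q)]
    refine Finset.sum_congr rfl (fun q hq => ?_)
    rw [(Nat.prime_of_mem_primeFactors (Finset.mem_filter.1 hq).1).factorization_pow,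
      Finsupp.single_apply]
    simp only [eq_comm]
  have hmd : m ∣ d := by
    rw [← Nat.factorization_le_iff_dvd hm0 hd0]
    intro p
    rw [hmf]
    split_ifs with h
    · exact (Finset.mem_filter.1 h).2
    · exact Nat.zero_le _
  obtain ⟨e, he⟩ := hmd
  have he0 : e ≠ 0 := fun h => hd0 (by rw [he, h, mul_zero])
  have hea : e ∣ a := by
    rw [← Nat.factorization_le_iff_dvd he0 ha0]
    intro p
    by_cases hp : p.Prime
    · have h1 : d.factorization p = m.factorization p + e.factorization p := by
        rw [he, Nat.factorization_mul hm0 he0, Finsupp.add_apply]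
      have h2 : d.factorization p ≤ n.factorization p + a.factorization p := by
        have := (Nat.factorization_le_iff_dvd hd0 (mul_ne_zero hn0 ha0)).2 hd p
        rwa [Nat.factorization_mul hn0 ha0, Finsupp.add_apply] at this
      rw [hmf] at h1
      split_ifs at h1 with h
      · omega
      · by_cases hpn : p ∣ n
        · have h3 := hexp p hp hpn
          have h4 : ¬ n.factorization p ≤ d.factorization p := fun h4 =>
            h (Finset.mem_filter.2 ⟨Nat.mem_primeFactors.2 ⟨hp, hpn, hn0⟩, h4⟩)
          omega
        · have h3 : n.factorization p = 0 := Nat.factorization_eq_zero_of_not_dvd hpn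
          omega
    · rw [Nat.factorization_eq_zero_of_not_prime _ hp]
      exact Nat.zero_le _
  obtain ⟨H, hH⟩ := Cfsg.Agent.S0003.result (G := G) m m' hmm hcop
  obtain ⟨K, hK⟩ := CL.SS.hasSubgroupOfEveryOrder A (CL.SS.of_isNilpotent A) e hea
  refine ⟨H.prod K, ?_⟩
  rw [Nat.card_congr (Subgroup.prodEquiv H K).toEquiv, Nat.card_prod, hH, hK, he]

end Cfsg.Agent.S0534
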