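import Cfsg.Statements.S0535
import Cfsg.Agent.Solv.SupersolvHPI
import Cfsg.Agent.S0006

set_option autoImplicit false
open Cfsg

namespace Cfsg.Agent.S0535

/-- Suppose that for every nontrivial subgroup H of a finite group and every prime p dividing the order of H there is a proper subgroup of H whose index in H is a power of p. Then the group is solvable. -/
theorem result {G : Type*} [Group G] [Finite G] (h : ∀ H : Subgroup G, H ≠ ⊥ → ∀ p : ℕ, p.Prime → p ∣ Nat.card H → ∃ K : Subgroup H, K ≠ ⊤ ∧ ∃ k : ℕ, K.index = p ^ k) : Group.IsSolvable G := by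
  refine Cfsg.Agent.S0006.result (fun p hp => ?_)
  have key : ∀ H : Subgroup G, ∃ K : Subgroup G, K ≤ H ∧ ¬ p ∣ Nat.card K ∧
      ∃ k : ℕ, K.relIndex H = p ^ k := by
    intro H
    induction H using (wellFounded_lt (α := Subgroup G)).induction with
    | _ H ih =>
      by_cases hpH : p ∣ Nat.card H
      · have hb : H ≠ ⊥ := by
          rintro rfl
          rw [Subgroup.card_bot, Nat.dvd_one] at hpH
          exact hp.one_lt.ne' hpH
        obtain ⟨K, hK, k, hk⟩ := h H hb p hp hpH
        have hlt : K.map H.subtype < H := by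
          refine lt_of_le_of_ne (Subgroup.map_subtype_le K) (fun h1 => hK ?_)
          apply Subgroup.eq_top_of_card_eq
          rw [← Subgroup.card_subtype, h1]
        obtain ⟨L, hL, hpL, l, hl⟩ := ih _ hlt
        refine ⟨L, hL.trans hlt.le, hpL, l + k, ?_⟩
        rw [← Subgroup.relIndex_mul_relIndex L _ H hL hlt.le, hl, pow_add, ← hk,
          Subgroup.relIndex, ← Subgroup.comap_subtype,
          Subgroup.comap_map_eq_self_of_injective H.subtype_injective]
      · exact ⟨H, le_rfl, hpH, 0, by rw [Subgroup.relIndex_self, pow_zero]⟩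
  obtain ⟨K, -, hK, k, hk⟩ := key ⊤
  rw [Subgroup.relIndex_top_right] at hk
  refine ⟨K, ?_⟩
  rw [← K.card_mul_index, hk, Nat.factorization_mul Nat.card_pos.ne' (pow_ne_zero _ hp.ne_zero),
    Finsupp.add_apply, Nat.factorization_eq_zero_of_not_dvd hK, hp.factorization_pow,
    Finsupp.single_eq_same, zero_add]

end Cfsg.Agent.S0535
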