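import Cfsg.Agent.Base
import Cfsg.Statements.S0537
import Cfsg.Agent.Solv.SchmidtStruct

set_option autoImplicit false
open Cfsg

namespace Cfsg.Agent.S0537

/-- A finite non-abelian group in which every proper subgroup is abelian is either of prime-power order, or is generated by a cyclic Sylow p-subgroup and a normal Sylow q-subgroup that is elementary abelian, for distinct primes p and q. -/
theorem result {G : Type*} [Group G] [Finite G] (hna : ¬ IsMulCommutative G) (h : ∀ H : Subgroup G, H ≠ ⊤ → IsMulCommutative H) : (∃ p : ℕ, p.Prime ∧ IsPGroup p G) ∨ ∃ p q : ℕ, p.Prime ∧ q.Prime ∧ p ≠ q ∧ ∃ (P : Sylow p G) (Q : Sylow q G), IsCyclic P ∧ (Q : Subgroup G).Normal ∧ Cfsg.IsElementaryAbelian q (Q : Subgroup G) ∧ (P : Subgroup G) ⊔ Q = ⊤ := by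
  classical
  by_cases hnil : Group.IsNilpotent G
  · left
    by_contra hcon
    push Not at hcon
    refine hna (CL.isMulCommutative_of_isNilpotent_of_forall_isPGroup fun p P hp hP => h P ?_)
    rintro rfl
    exact hcon p hp (hP.of_equiv Subgroup.topEquiv)
  right
  have hG : IsMinimalNonNilpotent G := ⟨hnil, fun H hH => by
    have := h H hH
    exact CL.isNilpotent_of_isMulCommutative _⟩
  obtain ⟨p, q, k, Q, g, hp, hq, hpq, hQ, hQn, hg, hsup, hgC⟩ := CL.schmidt_structure hG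
  have := Fact.mk hp
  have := Fact.mk hq
  have hP := CL.isPGroup_zpowers_of_orderOf_eq hg
  obtain ⟨P', Q', hP', hQ'⟩ := CL.exists_sylow_of_sup_eq_top hpq hP hQ hsup
  have hQtop : Q ≠ ⊤ := by
    rintro rfl
    exact hnil (hQ.of_equiv Subgroup.topEquiv).isNilpotent
  have hQc := h Q hQtop
  have hdisj : Disjoint (Subgroup.zpowers g) Q := IsPGroup.disjoint_of_ne p q hpq _ _ hP hQ
  have hcop : (Nat.card (Subgroup.zpowers g)).Coprime (Nat.card Q) :=
    IsPGroup.coprime_card_of_ne p q hpq _ _ hP hQ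
  have hchar := CL.powKerSubgroup_characteristic Q q
  set Ω : Subgroup G := (CL.powKerSubgroup Q q).map Q.subtype with hΩ
  have hΩn : Ω.Normal := inferInstance
  have hΩQ : Ω ≤ Q := Subgroup.map_subtype_le _
  have hΩtop : Ω ⊔ Subgroup.zpowers g = ⊤ := by
    by_contra hne
    have hc := h _ hne
    apply hgC
    refine CL.coprime_le_centralizer_of_prime_order (A := Subgroup.zpowers g) (V := Q)
      (by rw [Subgroup.normalizer_eq_top]; exact le_top) hcop ?_ (Subgroup.mem_zpowers g)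
    intro v hv hvp a ha
    have hvq : orderOf v = q := by
      obtain ⟨n, hn⟩ := hQ ⟨v, hv⟩
      have h1 : orderOf v ∣ q ^ n := orderOf_dvd_of_pow_eq_one (congrArg Subtype.val hn)
      exact (Nat.prime_dvd_prime_iff_eq hvp hq).1 (hvp.dvd_of_dvd_pow h1)
    have hvΩ : v ∈ Ω := ⟨⟨v, hv⟩, by
      rw [SetLike.mem_coe, CL.mem_powKerSubgroup]
      ext
      simp [← hvq], rfl⟩
    exact congrArg Subtype.val (hc.is_comm.comm
      (⟨a, Subgroup.mem_sup_right ha⟩ : ↥(Ω ⊔ Subgroup.zpowers g)) ⟨v, Subgroup.mem_sup_left hvΩ⟩)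
  have hQΩ : Q = Ω := by
    have := CL.inf_sup_eq_of_normal (K := Subgroup.zpowers g) hΩQ (by rw [sup_comm, hΩtop]; exact le_top)
    rw [← this, hdisj.eq_bot, bot_sup_eq]
  refine ⟨p, q, hp, hq, hpq, P', Q', ?_, hQ' ▸ hQn, ?_, ?_⟩
  · change IsCyclic (P' : Subgroup G)
    rw [hP']; infer_instance
  · rw [hQ']
    refine ⟨hQc, fun a ha => ?_⟩
    rw [hQΩ] at ha
    obtain ⟨b, hb, rfl⟩ := ha
    exact congrArg Subtype.val (CL.mem_powKerSubgroup.1 hb)
  · rw [hP', hQ', sup_comm, hsup]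

end Cfsg.Agent.S0537
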