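import Cfsg.Statements.S0546
import Cfsg.Agent.Solv.SysNorm

set_option autoImplicit false
open Cfsg

namespace Cfsg.Agent.S0546

open Subgroup

/-- The normal closure of a system normalizer of a finite solvable group is the whole group. -/
theorem result {G : Type*} [Group G] [Finite G] [Group.IsSolvable G] (K : Nat.Primes → Subgroup G) (hK : Cfsg.IsComplementSystem K) : Subgroup.normalClosure ((Cfsg.systemNormalizer K : Subgroup G) : Set G) = ⊤ := by
  set N := normalClosure ((Cfsg.systemNormalizer K : Subgroup G) : Set G) with hN
  by_contra hne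
  have : Nontrivial (G ⧸ N) := QuotientGroup.nontrivial_iff.2 hne
  have h1 := Group.IsSolvable.commutator_lt_top_of_nontrivial (G ⧸ N)
  have hc : IsMulCommutative (G ⧸ (commutator G ⊔ N)) :=
    Normal.quotient_commutative_iff_commutator_le.2 le_sup_left
  have hnil : Group.IsNilpotent (G ⧸ (commutator G ⊔ N)) := by
    let _ : CommGroup (G ⧸ (commutator G ⊔ N)) :=
      { (inferInstance : Group (G ⧸ (commutator G ⊔ N))) with mul_comm := mul_comm' }
    exact CommGroup.isNilpotent
  have h2 := CL.SN.systemNormalizer_sup_eq_top hK (commutator G ⊔ N)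
  rw [sup_eq_right.2 ((le_normalClosure (H := Cfsg.systemNormalizer K)).trans le_sup_right)] at h2
  have h3 := congrArg (Subgroup.map (QuotientGroup.mk' N)) h2
  rw [Subgroup.map_sup, QuotientGroup.map_mk'_self, sup_bot_eq,
    map_top_of_surjective _ (QuotientGroup.mk'_surjective N), _root_.map_commutator_eq,
    MonoidHom.range_eq_top.2 (QuotientGroup.mk'_surjective N)] at h3
  exact h1.ne h3

end Cfsg.Agent.S0546
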