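import Cfsg.Statements.S0547
import Cfsg.Agent.Solv.CoreFree

set_option autoImplicit false
open Cfsg

namespace Cfsg.Agent.S0547

open Subgroup CL.CF MulAction

theorem trans_and_free {G : Type*} [Group G] {Ω : Type*} [MulAction G Ω] [FaithfulSMul G Ω]
    (hprim : IsPreprimitive G Ω) (M : Subgroup G) [M.Normal] (hM : M ≠ ⊥) [IsMulCommutative M] :
    IsPretransitive M Ω ∧ ∀ (ω : Ω) (m : M), m • ω = ω → m = 1 := by
  have ht : IsPretransitive M Ω := by
    apply IsQuasiPreprimitive.isPretransitive_of_normal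
    intro h
    apply hM
    rw [eq_bot_iff_forall]
    intro x hx
    refine FaithfulSMul.eq_of_smul_eq_smul (α := Ω) fun ω => ?_
    have : ω ∈ fixedPoints M Ω := h ▸ Set.mem_univ ω
    rw [one_smul]
    exact this ⟨x, hx⟩
  refine ⟨ht, fun ω m hm => Subtype.ext ?_⟩
  refine FaithfulSMul.eq_of_smul_eq_smul (α := Ω) fun ν => ?_
  obtain ⟨n, rfl⟩ := ht.exists_smul_eq ω ν
  have : m • n • ω = n • ω := by rw [smul_smul, mul_comm' m n, ← smul_smul, hm]
  rw [OneMemClass.coe_one, one_smul]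
  exact this

/-- Let a finite solvable group G act faithfully and primitively on a set, and let M be a minimal normal subgroup of G. Then M is transitive with trivial point stabilizers, and the number of points equals the order of M, which is a prime power p ^ d with d ≥ 1. -/
theorem result {G : Type*} [Group G] [Finite G] [Group.IsSolvable G] {Ω : Type*} [Nonempty Ω] [MulAction G Ω] [FaithfulSMul G Ω] (hprim : MulAction.IsPreprimitive G Ω) (M : Subgroup G) [M.Normal] (hM : M ≠ ⊥) (hmin : ∀ K : Subgroup G, K.Normal → K ≤ M → K = ⊥ ∨ K = M) : MulAction.IsPretransitive M Ω ∧ (∀ ω : Ω, MulAction.stabilizer M ω = ⊥) ∧ ∃ p d : ℕ, p.Prime ∧ 0 < d ∧ Nat.card Ω = p ^ d ∧ Nat.card M = p ^ d := by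
  have := minNormal_comm M hM hmin
  obtain ⟨ht, hf⟩ := trans_and_free hprim M hM
  obtain ⟨p, hp, hd, hP, -⟩ := minNormal_exists_prime M hM hmin
  have := Fact.mk hp
  obtain ⟨d, hd'⟩ := IsPGroup.iff_card.1 hP
  obtain ⟨ω⟩ := ‹Nonempty Ω›
  have hst : ∀ ω : Ω, stabilizer M ω = ⊥ := fun ω => eq_bot_iff_forall _ |>.2 fun m hm => hf ω m hm
  refine ⟨ht, hst, p, d, hp, Nat.pos_of_ne_zero ?_, ?_, hd'⟩
  · rintro rfl
    rw [hd', pow_zero] at hd
    exact hp.one_lt.ne' (Nat.dvd_one.1 hd)
  · rw [← hd', ← index_stabilizer_of_transitive M ω, hst, index_bot]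

end Cfsg.Agent.S0547
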