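import Cfsg.Statements.S0548
import Cfsg.Agent.S0547

set_option autoImplicit false
open Cfsg

namespace Cfsg.Agent.S0548

open Subgroup CL.CF MulAction

/-- Let a finite solvable group G act faithfully and primitively on a set, let M be a minimal normal subgroup and H the stabilizer of a point. Then H is a complement to M, no non-identity element of H centralizes M, and the only subgroups of M normalized by H are the trivial subgroup and M. -/
theorem result {G : Type*} [Group G] [Finite G] [Group.IsSolvable G] {Ω : Type*} [MulAction G Ω] [FaithfulSMul G Ω] (hprim : MulAction.IsPreprimitive G Ω) (M : Subgroup G) [M.Normal] (hM : M ≠ ⊥) (hmin : ∀ K : Subgroup G, K.Normal → K ≤ M → K = ⊥ ∨ K = M) (ω : Ω) : Subgroup.IsComplement' M (MulAction.stabilizer G ω) ∧ MulAction.stabilizer G ω ⊓ Subgroup.centralizer (M : Set G) = ⊥ ∧ ∀ K : Subgroup G, K ≤ M → MulAction.stabilizer G ω ≤ Subgroup.normalizer (K : Set G) → K = ⊥ ∨ K = M := by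
  have := minNormal_comm M hM hmin
  obtain ⟨ht, hf⟩ := Cfsg.Agent.S0547.trans_and_free hprim M hM
  have hc : IsComplement' M (stabilizer G ω) :=
    isComplement'_stabilizer ω (hf ω) fun g => ht.exists_smul_eq _ _
  refine ⟨hc, ?_, fun K hK hn => hmin K ?_ hK⟩
  · rw [eq_bot_iff_forall]
    rintro x ⟨hx, hx'⟩
    refine FaithfulSMul.eq_of_smul_eq_smul (α := Ω) fun ν => ?_
    obtain ⟨n, rfl⟩ := ht.exists_smul_eq ω ν
    have h1 : x • ω = ω := hx
    rw [one_smul, Subgroup.smul_def, smul_smul, ← hx' n n.2, ← smul_smul, h1]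
  · exact normal_of_sup_eq_top hc.sup_eq_top
      (le_normalizer_of_le_centralizer (hK.trans (le_centralizer M))) hn

end Cfsg.Agent.S0548
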