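import Cfsg.Statements.S0550
import Cfsg.Agent.Solv.CoreFree

set_option autoImplicit false
open Cfsg

namespace Cfsg.Agent.S0550

open Subgroup CL.CF

/-- Let U be a maximal subgroup with trivial normal core in a finite group G, and A ≠ B two minimal normal subgroups. Then A is the centralizer of B and B that of A, U complements each of them, A and B are non-abelian, and A, B and (A ⊔ B) ∩ U are pairwise isomorphic. -/
theorem result {G : Type*} [Group G] [Finite G] (U : Subgroup G) (hU : IsCoatom U) (hcore : U.normalCore = ⊥) (A B : Subgroup G) [A.Normal] [B.Normal] (hA : A ≠ ⊥) (hB : B ≠ ⊥) (hAmin : ∀ K : Subgroup G, K.Normal → K ≤ A → K = ⊥ ∨ K = A) (hBmin : ∀ K : Subgroup G, K.Normal → K ≤ B → K = ⊥ ∨ K = B) (hAB : A ≠ B) : Subgroup.centralizer (B : Set G) = A ∧ Subgroup.centralizer (A : Set G) = B ∧ Subgroup.IsComplement' A U ∧ Subgroup.IsComplement' B U ∧ ¬ IsMulCommutative A ∧ Nonempty (A ≃* B) ∧ Nonempty (A ≃* ↥((A ⊔ B) ⊓ U)) := by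
  have hinf : A ⊓ B = ⊥ := by
    rcases hAmin (A ⊓ B) inferInstance inf_le_left with h | h
    · exact h
    · rcases hBmin A inferInstance (h ▸ inf_le_right) with h' | h'
      · exact absurd h' hA
      · exact absurd h' hAB
  have hc : A ≤ centralizer (B : Set G) :=
    commutator_eq_bot_iff_le_centralizer.1 (le_bot_iff.1 (hinf ▸ commutator_le_inf A B))
  have hc' : B ≤ centralizer (A : Set G) := le_centralizer_iff.1 hc
  have hCB := centralizer_inf hU hcore B hB
  have hCA := centralizer_inf hU hcore A hA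
  have e1 : A = centralizer (B : Set G) :=
    (minimal_of_inf_eq_bot hU hcore _ hCB A inferInstance hc).resolve_left hA
  have e2 : B = centralizer (A : Set G) :=
    (minimal_of_inf_eq_bot hU hcore _ hCA B inferInstance hc').resolve_left hB
  have hAU : A ⊓ U = ⊥ := by rw [e1]; exact hCB
  have hBU : B ⊓ U = ⊥ := by rw [e2]; exact hCA
  have hAs := sup_eq_top hU hcore A hA
  have hBs := sup_eq_top hU hcore B hB
  set D := (A ⊔ B) ⊓ U with hD
  have hDA : D ⊓ A = ⊥ := le_bot_iff.1 (hAU ▸ le_inf inf_le_right (inf_le_left.trans inf_le_right))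
  have hDB : D ⊓ B = ⊥ := le_bot_iff.1 (hBU ▸ le_inf inf_le_right (inf_le_left.trans inf_le_right))
  have hAD : A ⊔ D = A ⊔ B := by
    have := sup_inf_of_normal_le A U (A ⊔ B) le_sup_left
    rw [hAs, top_inf_eq, inf_comm] at this
    exact this.symm
  have hBD : B ⊔ D = B ⊔ A := by
    have := sup_inf_of_normal_le B U (A ⊔ B) le_sup_right
    rw [hBs, top_inf_eq, inf_comm] at this
    rw [sup_comm B A]
    exact this.symm
  obtain ⟨f1⟩ := nonempty_mulEquiv_of_sup_eq B A D hinf hDB hBD.symm
  obtain ⟨f2⟩ := nonempty_mulEquiv_of_sup_eq A B D (by rw [inf_comm, hinf]) hDA hAD.symm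
  refine ⟨e1.symm, e2.symm, isComplement'_of_normal hAU hAs, isComplement'_of_normal hBU hBs,
    fun hcomm => ?_, ⟨f1.trans f2.symm⟩, ⟨f1⟩⟩
  have : A ≤ B := e2 ▸ le_centralizer A
  exact hA (by rw [← hinf, inf_eq_left.2 this])

end Cfsg.Agent.S0550
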