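import Cfsg.Statements.S0587
import Cfsg.Agent.Solv.CoreFree

set_option autoImplicit false
open Cfsg

namespace Cfsg.Agent.S0587

open Subgroup CL.CF

/-- Let G be a finite group whose largest normal p-subgroup L is nontrivial, and M a maximal subgroup of G with trivial normal core. Then L is elementary abelian, M is a complement to L, L is a minimal normal subgroup of G, the centralizer of L is L, and for every prime q such that the largest normal q-subgroup of M is nontrivial, the order of L is congruent to 1 modulo q and q ≠ p. -/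
theorem result {G : Type*} [Group G] [Finite G] (p : ℕ) [Fact p.Prime] (hL : Cfsg.pCore p G ≠ ⊥) (M : Subgroup G) (hM : IsCoatom M) (hcore : M.normalCore = ⊥) : Cfsg.IsElementaryAbelian p (Cfsg.pCore p G) ∧ Subgroup.IsComplement' (Cfsg.pCore p G) M ∧ (∀ K : Subgroup G, K.Normal → K ≤ Cfsg.pCore p G → K = ⊥ ∨ K = Cfsg.pCore p G) ∧ Subgroup.centralizer ((Cfsg.pCore p G : Subgroup G) : Set G) = Cfsg.pCore p G ∧ ∀ (q : ℕ) [Fact q.Prime], Cfsg.pCore q ↥M ≠ ⊥ → Nat.card (Cfsg.pCore p G) % q = 1 % q ∧ q ≠ p := by
  have hp : p.Prime := Fact.out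
  set L := Cfsg.pCore p G with hLdef
  have hLp : IsPGroup p L := isPGroup_pCore p G
  have hcomm : IsMulCommutative L := comm_of_isPGroup hM hcore L hL hLp
  have hC : centralizer (L : Set G) = L := centralizer_eq_of_comm hM hcore L hL
  have hLM : L ⊓ M = ⊥ := by have := centralizer_inf hM hcore L hL; rwa [hC] at this
  have hmin : ∀ K : Subgroup G, K.Normal → K ≤ L → K = ⊥ ∨ K = L :=
    minimal_of_inf_eq_bot hM hcore L hLM
  have hd : p ∣ Nat.card L := hLp.card_eq_or_dvd.resolve_left fun h => hL (card_eq_one.1 h)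
  have hs := sup_eq_top hM hcore L hL
  refine ⟨⟨hcomm, minNormal_pow_eq_one L hmin hp hd⟩, isComplement'_of_normal hLM hs, hmin, hC,
    fun q _ hq => ?_⟩
  set Q := (Cfsg.pCore q M).map M.subtype with hQ
  have hQq : IsPGroup q Q := (isPGroup_pCore q M).map _
  have hQM : Q ≤ M := map_subtype_le _
  have hQb : Q ≠ ⊥ := fun h => hq ((map_eq_bot_iff_of_injective _ M.subtype_injective).1 h)
  have hn : (L ⊓ centralizer (Q : Set G)).Normal := by
    refine normal_of_sup_eq_top hs (le_normalizer_of_le_centralizer ?_) ?_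
    · rw [hC]; exact inf_le_left
    · exact le_trans (le_inf (le_normalizer_of_normal (H := L))
        ((le_normalizer_map_subtype _).trans (normalizer_le_normalizer_centralizer Q)))
        inf_normalizer_le_normalizer_inf
  have hb : L ⊓ centralizer (Q : Set G) = ⊥ := by
    refine (hmin _ hn inf_le_left).resolve_right fun h => hQb ?_
    have h1 : Q ≤ centralizer (L : Set G) := le_centralizer_iff.1 (h ▸ inf_le_right)
    rw [hC] at h1
    exact le_bot_iff.1 (hLM ▸ le_inf h1 hQM)
  have h1 := card_modEq_card_inf_centralizer L Q hQq le_normalizer_of_normal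
  rw [hb, card_bot] at h1
  refine ⟨h1, ?_⟩
  rintro rfl
  have := (Nat.modEq_zero_iff_dvd.2 hd).symm.trans h1
  exact hp.one_lt.ne' (Nat.dvd_one.1 (Nat.modEq_zero_iff_dvd.1 this.symm))

end Cfsg.Agent.S0587
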