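import Cfsg.Statements.S0551
import Cfsg.Agent.S0587

set_option autoImplicit false
open Pointwise
open Cfsg

namespace Cfsg.Agent.S0551

open Subgroup CL.CF

/-- In a finite solvable group all core-free maximal subgroups are conjugate. -/
theorem result {G : Type*} [Group G] [Finite G] [Group.IsSolvable G] (U V : Subgroup G) (hU : IsCoatom U) (hV : IsCoatom V) (hUc : U.normalCore = ⊥) (hVc : V.normalCore = ⊥) : ∃ g : G, MulAut.conj g • U = V := by
  have hnt : (⊤ : Subgroup G) ≠ ⊥ := fun h => hU.1 (eq_top_iff.2 (h.le.trans bot_le))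
  obtain ⟨N, hNn, hN, -, hmin⟩ := exists_minNormal_le (⊤ : Subgroup G) hnt
  obtain ⟨p, hp, hd, hP, -⟩ := minNormal_exists_prime N hN hmin
  have := Fact.mk hp
  have hL : Cfsg.pCore p G ≠ ⊥ := fun h => hN (le_bot_iff.1 (h ▸ le_pCore N hP))
  obtain ⟨-, hcU, -, -, hq⟩ := Cfsg.Agent.S0587.result p hL U hU hUc
  obtain ⟨-, hcV, -, -, -⟩ := Cfsg.Agent.S0587.result p hL V hV hVc
  set L := Cfsg.pCore p G with hLdef
  have hLp : IsPGroup p L := isPGroup_pCore p G
  by_cases hUb : U = ⊥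
  · refine ⟨1, ?_⟩
    have hLt : L = ⊤ := by have := hcU.sup_eq_top; rwa [hUb, sup_bot_eq] at this
    have hVb : V = ⊥ := by have := hcV.disjoint; rwa [hLt, top_disjoint] at this
    rw [hUb, hVb, smul_bot]
  -- a minimal normal subgroup of `U`
  have : Nontrivial U := (nontrivial_iff_ne_bot U).2 hUb
  obtain ⟨K, hKn, hK, -, hKmin⟩ := exists_minNormal_le (⊤ : Subgroup U) top_ne_bot
  obtain ⟨q, hqp, -, hKq, -⟩ := minNormal_exists_prime K hK hKmin
  have := Fact.mk hqp
  have hQ0 : Cfsg.pCore q U ≠ ⊥ := fun h => hK (le_bot_iff.1 (h ▸ le_pCore K hKq))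
  have hne : q ≠ p := (hq q hQ0).2
  set Q := (Cfsg.pCore q U).map U.subtype with hQ
  have hQq : IsPGroup q Q := (isPGroup_pCore q U).map _
  have hQU : Q ≤ U := map_subtype_le _
  have hQb : Q ≠ ⊥ := fun h => hQ0 ((map_eq_bot_iff_of_injective _ U.subtype_injective).1 h)
  have hUN : U ≤ normalizer (Q : Set G) := le_normalizer_map_subtype _
  have hNt : normalizer (Q : Set G) ≠ ⊤ := fun h => by
    have := normalizer_eq_top_iff.1 h
    exact hQb (eq_bot_of_le hUc Q hQU)
  have hLQ : (L ⊔ Q).Normal :=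
    normal_of_sup_eq_top hcU.sup_eq_top (le_sup_left.trans le_normalizer)
      (le_trans (le_inf (le_normalizer_of_normal (H := L)) hUN)
        (normalizer_inf_normalizer_le_normalizer_sup _ _))
  have hind : ¬ q ∣ V.index := by
    obtain ⟨n, hn⟩ := IsPGroup.iff_card.1 hLp
    rw [hcV.index_eq_card, hn]
    intro h
    exact hne ((Nat.prime_dvd_prime_iff_eq hqp hp).1 (hqp.dvd_of_dvd_pow h))
  obtain ⟨g, hg⟩ := exists_le_conj_of_not_dvd_index Q V hQq hind
  set W := MulAut.conj g • V with hW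
  have hWc : IsCoatom W := (OrderIso.isCoatom_iff (MulAut.conj g).mapSubgroup V).2 hV
  have hLW : L ⊓ W = ⊥ := by
    rw [← Normal.conj_smul_eq_self g L, hW, ← smul_inf, disjoint_iff.1 hcV.disjoint, smul_bot]
  have h1 : (L ⊔ Q) ⊓ W = Q := by rw [sup_inf_of_le L Q W hg, hLW, bot_sup_eq]
  have hWN : W ≤ normalizer (Q : Set G) := by
    have := le_normalizer_inf_of_normal (L ⊔ Q) W
    rwa [h1] at this
  have e1 : normalizer (Q : Set G) = U := (hU.le_iff.1 hUN).resolve_left hNt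
  have e2 : normalizer (Q : Set G) = W := (hWc.le_iff.1 hWN).resolve_left hNt
  refine ⟨g⁻¹, ?_⟩
  rw [← e1, e2, hW, map_inv, inv_smul_smul]

end Cfsg.Agent.S0551
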