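import Cfsg.Statements.S0552
import Cfsg.Agent.Solv.CoreFree
import Cfsg.Agent.S0044

set_option autoImplicit false
open Cfsg

namespace Cfsg.Agent.S0552

open Subgroup CL.CF

/-- Let σ be an automorphism of a finite solvable group G fixing every element of the Fitting subgroup. If σ is not the identity then the order of σ and the order of G have a common prime factor. -/
theorem result {G : Type*} [Group G] [Finite G] [Group.IsSolvable G] (σ : G ≃* G) (hσ : ∀ x ∈ Cfsg.fittingSubgroup G, σ x = x) (hne : σ ≠ MulEquiv.refl G) : ¬ (orderOf σ).Coprime (Nat.card G) := by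
  intro hcop
  apply hne
  have hFn : (Cfsg.fittingSubgroup G).Normal := sSup_normal _ fun _ h => h.1
  ext g
  set f := g⁻¹ * σ g with hf
  have hfF : f ∈ Cfsg.fittingSubgroup G := by
    apply Cfsg.Agent.S0044.result
    intro x hx
    have h1 := hσ _ (hFn.conj_mem x hx g)
    rw [map_mul, map_mul, map_inv, hσ x hx] at h1
    calc x * (g⁻¹ * σ g) = g⁻¹ * (g * x * g⁻¹) * σ g := by group
      _ = g⁻¹ * (σ g * x * (σ g)⁻¹) * σ g := by rw [h1]
      _ = g⁻¹ * σ g * x := by group
  have hg : σ g = g * f := by rw [hf]; group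
  have key : ∀ n : ℕ, (σ ^ n) g = g * f ^ n := by
    intro n
    induction n with
    | zero => simp
    | succ n ih =>
      rw [pow_succ', MulAut.mul_apply, ih, map_mul, hg, hσ _ (pow_mem hfF n), pow_succ', mul_assoc]
  have h1 := key (orderOf σ)
  rw [pow_orderOf_eq_one, MulAut.one_apply, left_eq_mul] at h1
  have h2 : orderOf f = 1 :=
    Nat.eq_one_of_dvd_coprimes hcop (orderOf_dvd_of_pow_eq_one h1) (orderOf_dvd_natCard f)
  rw [hg, orderOf_eq_one_iff.1 h2, mul_one]
  rfl

end Cfsg.Agent.S0552
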