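import Cfsg.Statements.S0553
import Cfsg.Agent.Solv.FratMisc

set_option autoImplicit false
open Cfsg

namespace Cfsg.Agent.S0553

open Subgroup CL.CF

/-- Let G be a nontrivial finite solvable group in which every maximal subgroup has order coprime to its index. Then for some prime p dividing the order of G the Sylow p-subgroups of G are normal. -/
theorem result {G : Type*} [Group G] [Finite G] [Group.IsSolvable G] [Nontrivial G] (h : ∀ M : Subgroup G, IsCoatom M → (Nat.card M).Coprime M.index) : ∃ p : ℕ, p.Prime ∧ p ∣ Nat.card G ∧ ∀ P : Sylow p G, (P : Subgroup G).Normal := by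
  have htop : ¬ (⊤ : Subgroup G) ≤ frattini G := fun h' => by
    have : (⊥ : Subgroup G) = ⊤ := frattini_nongenerating (by rw [bot_sup_eq, eq_top_iff]; exact h')
    exact bot_ne_top this
  obtain ⟨L, -, ⟨hLn, hL⟩, hmin⟩ := exists_minimal_le_of_wellFoundedLT
    (fun L : Subgroup G => L.Normal ∧ ¬ L ≤ frattini G) ⊤ ⟨inferInstance, htop⟩
  have hLb : L ≠ ⊥ := fun h' => hL (h' ▸ bot_le)
  have hlt := Group.IsSolvable.commutator_lt_of_ne_bot hLb
  have hc : ⁅L, L⁆ ≤ frattini G := by
    by_contra hc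
    exact hlt.not_ge (hmin ⟨inferInstance, hc⟩ hlt.le)
  obtain ⟨M, hM, hLM⟩ : ∃ M : Subgroup G, IsCoatom M ∧ ¬ L ≤ M := by
    by_contra hn
    push Not at hn
    exact hL (le_frattini_iff.2 hn)
  obtain ⟨p, hp, hpM⟩ := Nat.exists_prime_and_dvd (fun h' => hM.1 (index_eq_one.1 h'))
  have := Fact.mk hp
  have hpG : p ∣ Nat.card G := hpM.trans M.index_dvd_card
  have hnM : ¬ p ∣ Nat.card M := fun h' =>
    hp.one_lt.ne' (Nat.eq_one_of_dvd_coprimes (h M hM) h' hpM)
  have hpL : p ∣ Nat.card L := by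
    rw [← L.card_mul_index] at hpG
    refine (hp.dvd_mul.1 hpG).resolve_right fun h' => hnM (h'.trans ?_)
    rw [← relIndex_top_right, ← sup_eq_top_of_coatom hM hLM, relIndex_sup_left]
    exact relIndex_dvd_card _ _
  obtain ⟨P0⟩ : Nonempty (Sylow p L) := inferInstance
  have hab : IsMulCommutative (L ⧸ ⁅L, L⁆.subgroupOf L) := by
    rw [Normal.quotient_commutative_iff_commutator_le, ← map_subtype_commutator L,
      subgroupOf, comap_map_eq_self_of_injective L.subtype_injective]
  have hPn : ((P0 : Subgroup L).map L.subtype).Normal :=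
    sylow_normal_of_sup_frattini L ⁅L, L⁆ hc P0 inferInstance
  set P1 := (P0 : Subgroup L).map L.subtype with hP1
  have hP1p : IsPGroup p P1 := P0.isPGroup'.map _
  have hP1b : P1 ≠ ⊥ := fun h' =>
    P0.ne_bot_of_dvd_card hpL ((map_eq_bot_iff_of_injective _ L.subtype_injective).1 h')
  have hdis : P1 ⊓ M = ⊥ := by
    obtain ⟨n, hn⟩ := IsPGroup.iff_card.1 hP1p
    apply disjoint_iff.1
    apply disjoint_of_coprime_natCard
    rw [hn]
    exact Nat.Coprime.pow_left n ((Nat.Prime.coprime_iff_not_dvd hp).2 hnM)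
  have hcomp : IsComplement' P1 M := isComplement'_of_normal hdis
    (sup_eq_top_of_coatom hM fun h' => hP1b (by rw [← hdis, inf_eq_left.2 h']))
  have hi : ¬ p ∣ P1.index := by rwa [hcomp.symm.index_eq_card]
  refine ⟨p, hp, hpG, fun P => ?_⟩
  have hu := Sylow.unique_of_normal (hP1p.toSylow hi) hPn
  rw [Subsingleton.elim P (hP1p.toSylow hi)]
  exact hPn

end Cfsg.Agent.S0553
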