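import Cfsg.Statements.S0554
import Cfsg.Agent.Solv.MinNormal

set_option autoImplicit false
open Cfsg

namespace Cfsg.Agent.S0554

theorem absorb {G : Type*} [Group G] (N : Subgroup G) [hN : N.Normal] :
    ∀ (t : ℕ) (S : Fin t → Subgroup G) (j : Fin t) (_ : N ≤ S j) (s : Fin t → G)
      (_ : ∀ i, s i ∈ S i) (n : G) (_ : n ∈ N),
      ∃ s' : Fin t → G, (∀ i, s' i ∈ S i) ∧ n * (List.ofFn s).prod = (List.ofFn s').prod := by
  intro t
  induction t with
  | zero => intro S j; exact j.elim0
  | succ t ih =>
    intro S j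
    refine Fin.cases ?_ (fun j' => ?_) j
    · intro hj s hs n hn
      refine ⟨Fin.cons (n * s 0) (fun i => s i.succ), ?_, ?_⟩
      · intro i
        refine Fin.cases ?_ (fun i' => ?_) i
        · exact mul_mem (hj hn) (hs 0)
        · exact hs _
      · simp [List.ofFn_succ, mul_assoc]
    · intro hj s hs n hn
      obtain ⟨s', hs', h⟩ := ih (fun i => S i.succ) j' hj (fun i => s i.succ) (fun i => hs _)
        ((s 0)⁻¹ * n * s 0) (hN.conj_mem' n hn _)
      refine ⟨Fin.cons (s 0) s', ?_, ?_⟩
      · intro i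
        refine Fin.cases ?_ (fun i' => ?_) i
        · exact hs 0
        · exact hs' _
      · simp only [List.ofFn_succ, List.prod_cons, Fin.cons_zero, Fin.cons_succ]
        rw [← h]
        group

universe u in
theorem aux (t : ℕ) (p : Fin t → ℕ) (hp : ∀ i, (p i).Prime) (G : Type u) [Group G] [Finite G]
    [Group.IsSolvable G] (hall : ∀ q : ℕ, q.Prime → q ∣ Nat.card G → ∃ i, p i = q)
    (S : (i : Fin t) → Sylow (p i) G) :
    ∀ g : G, ∃ s : (i : Fin t) → G, (∀ i, s i ∈ (S i : Subgroup G)) ∧ g = (List.ofFn s).prod := by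
  induction hn : Nat.card G using Nat.strong_induction_on generalizing G with
  | _ n ih =>
    intro g
    rcases subsingleton_or_nontrivial G with hs | hs
    · exact ⟨fun _ => 1, fun i => Subgroup.one_mem _, Subsingleton.elim _ _⟩
    obtain ⟨q, N, hq, hN, hE⟩ := CL.exists_normal_elementary G
    have := hN.normal
    have hNq := CL.isPGroup_of_isElementaryAbelian hE
    have := Fact.mk hq
    have hqN : q ∣ Nat.card N := hNq.card_eq_or_dvd.resolve_left
      (fun h => hN.ne_bot (Subgroup.eq_bot_of_card_eq N h))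
    obtain ⟨j, rfl⟩ := hall q hq (hqN.trans (Subgroup.card_subgroup_dvd_card N))
    have hle : N ≤ S j := hNq.le_sylow_of_normal (S j)
    obtain ⟨s, hs, hg⟩ := ih _ (hn ▸ CL.card_quotient_lt N hN.ne_bot) (G ⧸ N)
      (fun r hr hrd => hall r hr (hrd.trans (Subgroup.card_quotient_dvd_card N)))
      (fun i => have := Fact.mk (hp i); (S i).mapSurjective (QuotientGroup.mk'_surjective N)) rfl
      (g : G ⧸ N)
    choose s' hs' hss using hs
    have h1 : (g : G ⧸ N) = ((List.ofFn s').prod : G) := by
      rw [hg, ← QuotientGroup.mk'_apply, map_list_prod, List.map_ofFn]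
      congr 2
      exact (funext hss).symm
    have h2 : g * ((List.ofFn s').prod)⁻¹ ∈ N := by
      rw [← QuotientGroup.eq_one_iff, QuotientGroup.mk_mul, QuotientGroup.mk_inv, h1,
        mul_inv_cancel]
    obtain ⟨s'', h3, h4⟩ := absorb N t (fun i => (S i : Subgroup G)) j hle s' hs' _ h2
    exact ⟨s'', h3, by rw [← h4]; group⟩

/-- Let G be a finite solvable group and let S assign to each of t distinct primes, including every prime divisor of the order of G, a Sylow subgroup of G. Then every element of G is a product s_0 s_1 ⋯ s_(t-1) with s_i in S i, the factors taken in the given order. -/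
theorem result {G : Type*} [Group G] [Finite G] [Group.IsSolvable G] (t : ℕ) (p : Fin t → ℕ) (hp : ∀ i, (p i).Prime) (hinj : Function.Injective p) (hall : ∀ q : ℕ, q.Prime → q ∣ Nat.card G → ∃ i, p i = q) (S : (i : Fin t) → Sylow (p i) G) : ∀ g : G, ∃ s : (i : Fin t) → G, (∀ i, s i ∈ (S i : Subgroup G)) ∧ g = (List.ofFn s).prod := by
  exact aux t p hp G hall S

end Cfsg.Agent.S0554
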