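import Cfsg.Statements.S0555
import Cfsg.Agent.Solv.SupersolvFin

set_option autoImplicit false
open Cfsg

namespace Cfsg.Agent.S0555

open Subgroup in
theorem aux {G : Type*} [Group G] (A B : Subgroup G) [B.Normal] [IsCyclic B]
    (hA : A ≤ commutator G) (hBA : B ≤ A) (h : IsCyclic (A ⧸ B.subgroupOf A)) : ⁅A, A⁆ = ⊥ := by
  have h1 : A ≤ centralizer (B : Set G) := hA.trans (CL.SS.commutator_le_centralizer_of_cyclic B)
  have h2 : (QuotientGroup.mk' (B.subgroupOf A)).ker ≤ center A := by
    rw [QuotientGroup.ker_mk']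
    intro x hx
    rw [mem_center_iff]
    intro y
    exact Subtype.ext (mem_centralizer_iff.1 (h1 y.2) x hx).symm
  have h3 := MonoidHom.isMulCommutative_of_isCyclic_of_ker_le_center _ h2
  rw [commutator_eq_bot_iff_le_centralizer]
  intro x hx
  rw [mem_centralizer_iff]
  intro y hy
  exact congrArg Subtype.val (h3.is_comm.comm ⟨y, hy⟩ ⟨x, hx⟩)

open Subgroup in
theorem cyc_map {G H : Type*} [Group G] [Group H] (f : G →* H) (A B : Subgroup G) [B.Normal]
    [(B.map f).Normal] (h : IsCyclic (A ⧸ B.subgroupOf A)) :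
    IsCyclic (A.map f ⧸ (B.map f).subgroupOf (A.map f)) := by
  refine isCyclic_of_surjective
    (QuotientGroup.map (B.subgroupOf A) ((B.map f).subgroupOf (A.map f)) (f.subgroupMap A) ?_) ?_
  · intro x hx
    exact mem_map_of_mem f hx
  · intro x
    obtain ⟨y, rfl⟩ := QuotientGroup.mk_surjective x
    obtain ⟨z, rfl⟩ := f.subgroupMap_surjective A y
    exact ⟨z, rfl⟩

/-- Let i ≥ 1. If in the derived series of a group the quotient of the i-th term by the (i+1)-st and the quotient of the (i+1)-st by the (i+2)-nd are both cyclic, then the (i+1)-st and (i+2)-nd terms coincide. -/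
theorem result {G : Type*} [Group G] (i : ℕ) (hi : 1 ≤ i) (h₁ : IsCyclic (↥(derivedSeries G i) ⧸ (derivedSeries G (i + 1)).subgroupOf (derivedSeries G i))) (h₂ : IsCyclic (↥(derivedSeries G (i + 1)) ⧸ (derivedSeries G (i + 2)).subgroupOf (derivedSeries G (i + 1)))) : derivedSeries G (i + 1) = derivedSeries G (i + 2) := by
  set D := derivedSeries G (i + 2) with hD
  set f := QuotientGroup.mk' D with hf
  have hs : Function.Surjective f := QuotientGroup.mk'_surjective D
  have hn : ((derivedSeries G (i + 1)).map f).Normal := Subgroup.Normal.map inferInstance f hs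
  have hc : IsCyclic ((derivedSeries G (i + 1)).map f) := by
    have hker : D.subgroupOf (derivedSeries G (i + 1)) ≤
        (f.subgroupMap (derivedSeries G (i + 1))).ker := by
      intro x hx
      rw [MonoidHom.mem_ker]
      exact Subtype.ext ((QuotientGroup.eq_one_iff _).2 hx)
    refine isCyclic_of_surjective (QuotientGroup.lift _ _ hker) ?_
    intro x
    obtain ⟨z, rfl⟩ := f.subgroupMap_surjective _ x
    exact ⟨z, rfl⟩
  have h3 := aux ((derivedSeries G i).map f) ((derivedSeries G (i + 1)).map f) (by
      rw [map_derivedSeries_eq hs, ← derivedSeries_one]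
      exact derivedSeries_antitone _ hi)
    (Subgroup.map_mono (derivedSeries_antitone _ (Nat.le_succ i))) (cyc_map f _ _ h₁)
  rw [← Subgroup.map_commutator, ← derivedSeries_succ, Subgroup.map_eq_bot_iff,
    QuotientGroup.ker_mk'] at h3
  exact le_antisymm h3 (derivedSeries_antitone _ (Nat.le_succ _))

end Cfsg.Agent.S0555
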