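import Cfsg.Agent.Base
import Cfsg.Statements.S0556
import Cfsg.Agent.Solv.SchmidtStruct
import Cfsg.Agent.Solv.FrobeniusThm

set_option autoImplicit false
open Cfsg

namespace Cfsg.Agent.S0556

open Subgroup

theorem aux {G : Type*} [Group G] [Finite G] (A : Subgroup G) (hA : IsCoatom A)
    [hc : IsMulCommutative A] (hM : CL.Frob.IsMalnormal A) : derivedSeries G 2 = ⊥ := by
  obtain ⟨K, -, hKn, hK⟩ := hM.exists_normal_complement
  have hcop : (Nat.card A).Coprime (Nat.card K) := by
    rw [← hK.index_eq_card]; exact hM.coprime_card_index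
  have hdisj : A ⊓ K = ⊥ := hK.symm.disjoint.eq_bot
  have key : ∀ N : Subgroup G, N ≤ K → N ≠ ⊥ → A ≤ normalizer (N : Set G) → N = K := by
    intro N hNK hN hAN
    have hsup : A ⊔ N = ⊤ := by
      refine hA.2 _ (lt_of_le_of_ne le_sup_left fun he => hN ?_)
      exact le_bot_iff.1 (hdisj ▸ le_inf (he ▸ le_sup_right) hNK)
    have hNn : N.Normal := by
      rw [← normalizer_eq_top_iff, eq_top_iff, ← hsup]
      exact sup_le hAN le_normalizer
    have := CL.inf_sup_eq_of_normal (K := A) hNK (hsup ▸ le_top)
    rwa [hdisj, bot_sup_eq] at this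
  have hAK : A ≤ normalizer (K : Set G) := by rw [normalizer_eq_top]; exact le_top
  have hK0 : K ≠ ⊥ := by
    rintro rfl
    exact hA.1 (by simpa using hK.sup_eq_top)
  obtain ⟨p, hp, hpd⟩ := Nat.exists_prime_and_dvd (mt card_eq_one.1 hK0)
  have := Fact.mk hp
  obtain ⟨P, hPK, hPc, hAP⟩ := CL.coprime_exists_invariant_sylow hAK hcop
    (Or.inl (CL.isSolvable_of_isMulCommutative A)) p
  have hP0 : P ≠ ⊥ := by
    intro h
    rw [h, card_bot] at hPc
    have := hp.factorization_pos_of_dvd Nat.card_pos.ne' hpd
    exact (Nat.one_lt_pow this.ne' hp.one_lt).ne hPc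
  have hKp : IsPGroup p K := key P hPK hP0 hAP ▸ IsPGroup.of_card hPc
  have hKs : Group.IsSolvable K := by
    have := hKp.isNilpotent
    infer_instance
  have hKK : ⁅K, K⁆ = ⊥ := by
    by_contra h
    exact (CL.commutator_lt_of_isSolvable hKs hK0).ne
      (key _ (commutator_le_left _ _) h (CL.le_normalizer_commutator hAK hAK))
  have hG : commutator G ≤ K := hKn.commutator_le_of_self_sup_commutative_eq_top hK.sup_eq_top hc
  exact le_bot_iff.1 (hKK ▸ commutator_mono hG hG)

/-- If a finite group has a maximal subgroup that is abelian, then the third term of its derived series is trivial (so the group is solvable of derived length at most three). -/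
theorem result {G : Type*} [Group G] [Finite G] (A : Subgroup G) (hA : IsCoatom A) [IsMulCommutative A] : derivedSeries G 3 = ⊥ := by
  by_cases hn : A.Normal
  · have h1 := CL.commutator_le_of_isCoatom_of_normal hA
    have h2 : derivedSeries G 2 = ⊥ := by
      refine le_bot_iff.1 ((commutator_mono h1 h1).trans ?_)
      rw [le_bot_iff, commutator_eq_bot_iff_le_centralizer]
      exact le_centralizer A
    rw [derivedSeries_succ, h2, commutator_bot_left]
  have hZ := CL.center_le_of_isCoatom_of_not_normal hA hn
  set f := QuotientGroup.mk' (center G) with hf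
  have hsurj : Function.Surjective f := QuotientGroup.mk'_surjective _
  have hker : f.ker ≤ A := (QuotientGroup.ker_mk' _).le.trans hZ
  have hNA : normalizer (A : Set G) = A := by
    by_contra h
    exact hn (normalizer_eq_top_iff.1 (hA.2 _ (lt_of_le_of_ne le_normalizer (Ne.symm h))))
  have hM : CL.Frob.IsMalnormal (A.map f) := by
    rintro g _ ⟨x, hx, rfl⟩ hgx hx1
    obtain ⟨g, rfl⟩ := hsurj g
    rw [← map_inv, ← map_mul, ← map_mul, ← mem_comap, comap_map_eq, sup_eq_left.2 hker] at hgx
    refine mem_map_of_mem f ?_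
    by_contra hg
    apply hx1
    rw [← MonoidHom.mem_ker, QuotientGroup.ker_mk']
    -- `C(x)` contains `A` and `g⁻¹ A g`
    have h1 : A ≤ centralizer {x} := fun a ha =>
      mem_centralizer_singleton_iff.2 (setLike_mul_comm ha hx)
    have h2 : centralizer {x} = ⊤ := by
      refine hA.2 _ (lt_of_le_of_ne h1 fun he => hg ?_)
      rw [← hNA, ← inv_mem_iff]
      refine mem_normalizer_fintype fun a ha => ?_
      rw [inv_inv]
      change _ ∈ A
      rw [he, mem_centralizer_singleton_iff]
      have := setLike_mul_comm (s := A) ha hgx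
      calc g⁻¹ * a * g * x = g⁻¹ * (a * (g * x * g⁻¹)) * g := by group
        _ = x * (g⁻¹ * a * g) := by rw [this]; group
    rw [mem_center_iff]
    intro y
    exact mem_centralizer_singleton_iff.1 (h2 ▸ mem_top y)
  have h2 := aux (A.map f) (CL.isCoatom_map_of_ker_le hsurj hA hker) hM
  rw [← map_derivedSeries_eq hsurj, Subgroup.map_eq_bot_iff, QuotientGroup.ker_mk'] at h2
  rw [derivedSeries_succ, commutator_eq_bot_iff_le_centralizer]
  exact h2.trans (center_le_centralizer _)

end Cfsg.Agent.S0556
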