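import Cfsg.Agent.Base
import Cfsg.Statements.S0557
import Cfsg.Agent.Transfer.Focal

set_option autoImplicit false
open Cfsg

namespace Cfsg.Agent.S0557

open Subgroup

theorem focal_mono {G : Type*} [Group G] {H K : Subgroup G} (h : H ≤ K) :
    H.focalSubgroup ≤ K.focalSubgroup := by
  refine closure_mono ?_
  rintro g ⟨hg, x, hx, u, rfl⟩
  exact ⟨h hg, x, h hx, u, rfl⟩

theorem map_focal_le {G : Type*} [Group G] (H N : Subgroup G) :
    (H.subgroupOf N).focalSubgroup.map N.subtype ≤ (H ⊓ N).focalSubgroup := by
  rw [focalSubgroup_def, MonoidHom.map_closure, closure_le]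
  rintro _ ⟨g, ⟨hg, x, hx, u, hgx⟩, rfl⟩
  exact Subgroup.subset_closure ⟨⟨hg, g.2⟩, x, ⟨hx, x.2⟩, u,
    by simp [hgx, commutatorElement_def]⟩

/-- Let H be a subgroup of a finite group G with order coprime to its index. If iterating the focal-subgroup construction starting from H reaches the trivial subgroup after finitely many steps, then H has a normal complement in G. -/
theorem result {G : Type*} [Group G] [Finite G] (H : Subgroup G) (hHall : (Nat.card H).Coprime H.index) (n : ℕ) (hfoc : (fun K : Subgroup G => Subgroup.focalSubgroup K)^[n] H = ⊥) : ∃ N : Subgroup G, N.Normal ∧ Subgroup.IsComplement' N H := by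
  classical
  let N : Subgroup G := closure {g | (orderOf g).Coprime (Nat.card H)}
  have hN : N.Normal := by
    refine ⟨fun a ha g => ?_⟩
    induction ha using closure_induction with
    | mem a ha => exact subset_closure (by
        have : orderOf (g * a * g⁻¹) = orderOf a := (MulAut.conj g).orderOf_eq a
        simpa [this] using ha)
    | one => simp
    | mul a b _ _ ha hb => simpa using N.mul_mem ha hb
    | inv a _ ha => simpa [mul_assoc] using N.inv_mem ha
  have hpow : ∀ g : G, g ^ Nat.card H ∈ N := fun g => subset_closure (by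
    refine Nat.Coprime.coprime_dvd_left (orderOf_dvd_of_pow_eq_one ?_) hHall.symm
    rw [← pow_mul, card_mul_index, pow_card_eq_one'])
  have hsup : H ⊔ N = ⊤ := by
    rw [← index_eq_one]
    by_contra hne
    obtain ⟨q, hq, hqd⟩ := Nat.exists_prime_and_dvd hne
    have h1 : q ∣ H.index := hqd.trans (index_dvd_of_le le_sup_left)
    have h2 : q ∣ Nat.card (G ⧸ N) := hqd.trans (index_dvd_of_le le_sup_right)
    have := Fact.mk hq
    obtain ⟨x, hx⟩ := exists_prime_orderOf_dvd_card' q h2
    obtain ⟨g, rfl⟩ := QuotientGroup.mk_surjective x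
    have h3 : q ∣ Nat.card H := by
      rw [← hx, orderOf_dvd_iff_pow_eq_one, ← QuotientGroup.mk_pow, QuotientGroup.eq_one_iff]
      exact hpow g
    exact hq.one_lt.ne' (Nat.eq_one_of_dvd_coprimes hHall h3 h1)
  have hidx : H.relIndex N = H.index := by
    have h1 : N.relIndex H = N.index := by
      rw [← relIndex_sup_right, hsup, relIndex_top_right]
    have h2 := relIndex_mul_index (inf_le_right : H ⊓ N ≤ N)
    have h3 := relIndex_mul_index (inf_le_left : H ⊓ N ≤ H)
    rw [inf_relIndex_right] at h2
    rw [inf_relIndex_left, h1, ← h2, mul_comm] at h3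
    exact (Nat.eq_of_mul_eq_mul_right (Nat.pos_of_ne_zero index_ne_zero_of_finite) h3).symm
  let K := H.subgroupOf N
  have hKc : Nat.card K ∣ Nat.card H := by
    rw [← card_map_of_injective N.subtype_injective, subgroupOf_map_subtype]
    exact card_dvd_of_le inf_le_left
  have hK : (Nat.card K).Coprime K.index := by
    rw [show K.index = H.index from hidx]
    exact Nat.Coprime.coprime_dvd_left hKc hHall
  have hker : K.transferFocal.ker = ⊤ := by
    rw [eq_top_iff]
    rintro ⟨a, ha⟩ -
    induction ha using closure_induction with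
    | mem a ha =>
      rw [MonoidHom.mem_ker, ← orderOf_eq_one_iff]
      refine Nat.eq_one_of_dvd_coprimes ha ?_ ?_
      · exact (orderOf_map_dvd _ _).trans (by rw [← orderOf_coe])
      · exact (_root_.orderOf_dvd_natCard _).trans ((card_quotient_dvd_card _).trans hKc)
    | one => exact K.transferFocal.ker.one_mem
    | mul a b h1 h2 ha hb => exact K.transferFocal.ker.mul_mem (x := ⟨a, h1⟩) (y := ⟨b, h2⟩) ha hb
    | inv a h1 ha => exact K.transferFocal.ker.inv_mem (x := ⟨a, h1⟩) ha
  have hfK : K = K.focalSubgroup := by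
    rw [← CL.Focal.ker_transferFocal_inf K (CL.Focal.coprime_focal_of_hall K hK), hker, top_inf_eq]
  have hle : H ⊓ N ≤ (H ⊓ N).focalSubgroup := by
    refine le_trans ?_ (map_focal_le H N)
    rw [← show K = (H.subgroupOf N).focalSubgroup from hfK, subgroupOf_map_subtype]
  have hit : ∀ k : ℕ, H ⊓ N ≤ (fun K : Subgroup G => Subgroup.focalSubgroup K)^[k] H := by
    intro k
    induction k with
    | zero => exact inf_le_left
    | succ k ih =>
      rw [Function.iterate_succ_apply']
      exact hle.trans (focal_mono ih)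
  have hbot : H ⊓ N = ⊥ := le_bot_iff.1 (hfoc ▸ hit n)
  refine ⟨N, hN, isComplement'_of_disjoint_and_mul_eq_univ ?_ ?_⟩
  · rw [disjoint_iff, inf_comm, hbot]
  · rw [← normal_mul, sup_comm, hsup, coe_top]

end Cfsg.Agent.S0557
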