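import Cfsg.Agent.Base
import Cfsg.Statements.S0558
import Cfsg.Agent.Solv.SchmidtStruct

set_option autoImplicit false
open Cfsg

namespace Cfsg.Agent.S0558

/-- Let H be a subgroup of a finite group G that is not a Sylow subgroup of G for any prime, and suppose that for every prime p dividing the order of H and every Sylow p-subgroup P of H the normalizer of P in G is exactly H. Then some normal subgroup of G is a complement to H. -/
theorem result {G : Type*} [Group G] [Finite G] (H : Subgroup G) (hnot : ∀ p : ℕ, p.Prime → ∀ P : Sylow p G, (P : Subgroup G) ≠ H) (hnorm : ∀ p : ℕ, p.Prime → p ∣ Nat.card H → ∀ P : Sylow p H, Subgroup.normalizer (((P : Subgroup H).map H.subtype : Subgroup G) : Set G) = H) : ∃ N : Subgroup G, N.Normal ∧ Subgroup.IsComplement' N H := by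
  classical
  have key : ∀ (p : ℕ) [Fact p.Prime], p ∣ Nat.card H → ∃ P : Sylow p G, (P : Subgroup G) ≤ H ∧
      Subgroup.normalizer ((P : Subgroup G) : Set G) = H := by
    intro p hp hd
    obtain ⟨S⟩ : Nonempty (Sylow p H) := inferInstance
    have h1 := CL.Transfer.isSylowIn_map_subtype S
    have h2 := hnorm p hp.out hd S
    obtain ⟨P, hP⟩ := (h1.top_of_normalizer_le h2.le).exists_sylow_of_top
    exact ⟨P, hP ▸ h1.le, hP ▸ h2⟩
  have hHall : (Nat.card H).Coprime H.index := by
    refine Nat.coprime_of_dvd fun p hp h1 h2 => ?_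
    have := Fact.mk hp
    obtain ⟨P, hP, -⟩ := key p h1
    exact P.not_dvd_index (h2.trans (Subgroup.index_dvd_of_le hP))
  have hnil : Group.IsNilpotent H := by
    refine CL.isNilpotent_of_exists_sylow_normal fun p hp hd => ?_
    obtain ⟨S⟩ : Nonempty (Sylow p H) := inferInstance
    refine ⟨S, ?_⟩
    have h2 := hnorm p hp.out hd S
    have h3 := CL.normal_subgroupOf_of_le_normalizer' h2.ge
    rwa [Subgroup.subgroupOf, Subgroup.comap_map_eq_self_of_injective H.subtype_injective] at h3
  refine CL.Transfer.exists_normal_isComplement'_of_forall_prime hHall fun p hp hd => ?_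
  have := Fact.mk hp
  obtain ⟨P, hPH, hP⟩ := key p hd
  obtain ⟨q, hq, hqd, hqp⟩ : ∃ q : ℕ, q.Prime ∧ q ∣ Nat.card H ∧ q ≠ p := by
    by_contra hc
    push Not at hc
    have hH : IsPGroup p H := CL.isPiNumber_singleton_iff_isPGroup.1 fun q hq h => hc q hq h
    exact hnot p hp P (P.is_maximal' hH hPH).symm
  have := Fact.mk hq
  obtain ⟨Q, hQH, hQ⟩ := key q hqd
  have hPQ : (Q : Subgroup G) ≤ Subgroup.centralizer ((P : Subgroup G) : Set G) :=
    CL.le_centralizer_of_le_isNilpotent_of_coprime hQH hPH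
      (IsPGroup.coprime_card_of_ne q p hqp _ _ Q.isPGroup' P.isPGroup')
  refine CL.Transfer.hasNormalPComplement_of_control_fusion P hPH (fun x hx g hg => ?_)
    CL.Transfer.hasNormalPComplement_of_isNilpotent
  have h1 : (Q : Subgroup G) ≤ Subgroup.centralizer {x} := fun y hy =>
    Subgroup.mem_centralizer_singleton_iff.2 (Subgroup.mem_centralizer_iff.1 (hPQ hy) x hx).symm
  have h2 : ((g⁻¹ • Q : Sylow q G) : Subgroup G) ≤ Subgroup.centralizer {x} := by
    intro y hy
    rw [Sylow.coe_subgroup_smul, CL.Cj.mem_conj_iff, inv_inv] at hy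
    have := Subgroup.mem_centralizer_iff.1 (hPQ hy) _ hg
    rw [Subgroup.mem_centralizer_singleton_iff]
    calc y * x = g⁻¹ * (g * y * g⁻¹ * (g * x * g⁻¹)) * g := by group
      _ = x * y := by rw [← this]; group
  obtain ⟨c, hc, hcQ⟩ := (CL.Transfer.isSylowIn_of_le Q h1).exists_conj
    (CL.Transfer.isSylowIn_of_le (g⁻¹ • Q) h2)
  refine ⟨g * c, ?_, ?_⟩
  · rw [← hQ, CL.Cj.mem_normalizer_iff_conj_eq, ← CL.Cj.conj_conj, hcQ, Sylow.coe_subgroup_smul,
      CL.Cj.conj_conj_inv]
  · have := Subgroup.mem_centralizer_singleton_iff.1 hc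
    calc g * c * x * (g * c)⁻¹ = g * (c * x) * c⁻¹ * g⁻¹ := by group
      _ = g * x * g⁻¹ := by rw [this]; group

end Cfsg.Agent.S0558
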