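import Cfsg.Agent.Base
import Cfsg.Statements.S0563
import Cfsg.Agent.Solv.FactorNil

set_option autoImplicit false
open Pointwise
open Cfsg

namespace Cfsg.Agent.S0563

/-- If a finite group G is the product AB of two nilpotent subgroups of coprime orders, then G is solvable, and for every Sylow p-subgroup P of A and Sylow q-subgroup Q of B the product set PQ is a subgroup. -/
theorem result {G : Type*} [Group G] [Finite G] (A B : Subgroup G) (hA : Group.IsNilpotent A) (hB : Group.IsNilpotent B) (hcop : (Nat.card A).Coprime (Nat.card B)) (hAB : ∀ g : G, ∃ a ∈ A, ∃ b ∈ B, g = a * b) : Group.IsSolvable G ∧ ∀ (p q : ℕ) [Fact p.Prime] [Fact q.Prime] (P : Sylow p A) (Q : Sylow q B), ∃ S : Subgroup G, (S : Set G) = (((P : Subgroup A).map A.subtype : Subgroup G) : Set G) * (((Q : Subgroup B).map B.subtype : Subgroup G) : Set G) := by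
  have h := CL.isProd_top_iff.2 hAB
  have hs := h.isSolvable_of_isNilpotent_top hA hB
  refine ⟨hs, fun p q _ _ P Q => ?_⟩
  rw [CL.map_sylow_eq_pPart hA, CL.map_sylow_eq_pPart hB]
  have h1 := h.permConj_of_hall (CL.le_normalizer_pPart p A) (CL.le_normalizer_pPart q B)
    (CL.coprime_card_pPart_index hA (hcop.coprime_dvd_right h.symm.index_dvd_card) p)
    (CL.coprime_card_pPart_index hB (hcop.symm.coprime_dvd_right h.index_dvd_card) q)
  exact ⟨_, CL.isProd_iff_coe.1 h1.isProd⟩

end Cfsg.Agent.S0563
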