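import Cfsg.Agent.Base
import Cfsg.Statements.S0567
import Cfsg.Agent.Solv.Subnormal

set_option autoImplicit false
open Cfsg
open scoped commutatorElement

namespace Cfsg.Agent.S0567

/-- A subgroup H of a group G is subnormal exactly when, for some m, the subgroup obtained from G by taking the commutator with H m times in succession is contained in H. -/
theorem result {G : Type*} [Group G] (H : Subgroup G) : H.IsSubnormal ↔ ∃ m : ℕ, (fun K : Subgroup G => ⁅K, H⁆)^[m] ⊤ ≤ H := by
  constructor
  · intro h
    have key : ∀ K : Subgroup G, CL.SubnIn K ⊤ → H ≤ K →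
        ∃ m : ℕ, (fun K : Subgroup G => ⁅K, H⁆)^[m] ⊤ ≤ K := by
      intro K hK
      refine hK.head_induction (P := fun K => H ≤ K →
        ∃ m : ℕ, (fun K : Subgroup G => ⁅K, H⁆)^[m] ⊤ ≤ K) (fun _ => ⟨0, le_rfl⟩) ?_
      intro A B h1 _ ih hA
      obtain ⟨m, hm⟩ := ih (hA.trans h1.1)
      refine ⟨m + 1, ?_⟩
      rw [Function.iterate_succ_apply']
      exact (Subgroup.commutator_mono hm hA).trans
        (Subgroup.le_normalizer_iff_commutator_le_right.1 h1.2)
    exact key H (CL.SubnIn.top_iff.2 h) le_rfl
  · rintro ⟨m, hm⟩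
    have key : ∀ n : ℕ, CL.SubnIn ((fun K : Subgroup G => ⁅K, H⁆)^[n] ⊤ ⊔ H) ⊤ := by
      intro n
      induction n with
      | zero =>
        rw [Function.iterate_zero, id, top_sup_eq]
        exact CL.SubnIn.refl _
      | succ n ih =>
        refine CL.SubnIn.head ?_ ih
        rw [Function.iterate_succ_apply']
        set K := (fun K : Subgroup G => ⁅K, H⁆)^[n] ⊤
        refine ⟨sup_le (Subgroup.commutator_le.2 fun x hx y hy => ?_) le_sup_right,
          sup_le ?_ (le_sup_right.trans Subgroup.le_normalizer)⟩
        · rw [commutatorElement_def]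
          have h1 : x ∈ K ⊔ H := Subgroup.mem_sup_left hx
          have h2 : y ∈ K ⊔ H := Subgroup.mem_sup_right hy
          exact mul_mem (mul_mem (mul_mem h1 h2) (inv_mem h1)) (inv_mem h2)
        · rw [CL.Cj.le_normalizer_iff_conj_le]
          intro k hk
          rw [CL.Cj.conj_sup]
          refine sup_le ((CL.Cj.conj_eq_of_mem_normalizer
            (Subgroup.normalizer_commutator_ge_left K H hk)).le.trans le_sup_left) fun x hx => ?_
          obtain ⟨y, hy, rfl⟩ := CL.Cj.exists_of_mem_conj hx
          have : k * y * k⁻¹ = ⁅k, y⁆ * y := by rw [commutatorElement_def]; group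
          rw [this]
          exact mul_mem (Subgroup.mem_sup_left (Subgroup.commutator_mem_commutator hk hy))
            (Subgroup.mem_sup_right hy)
    have := key m
    rw [sup_eq_right.2 hm] at this
    exact CL.SubnIn.top_iff.1 this

end Cfsg.Agent.S0567
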