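import Cfsg.Statements.S0568
import Cfsg.Agent.Solv.SysNorm

set_option autoImplicit false
open Cfsg

namespace Cfsg.Agent.S0568

open Subgroup CL.SN

/-- Let D be the system normalizer of a Hall complement system of a finite solvable group G, and let A < B be normal subgroups with no normal subgroup of G strictly between them (a chief factor). If G centralizes B modulo A then B ≤ A ⊔ D (D covers the factor); otherwise B ∩ D ≤ A (D avoids it). -/
theorem result {G : Type*} [Group G] [Finite G] [Group.IsSolvable G] (K : Nat.Primes → Subgroup G) (hK : Cfsg.IsComplementSystem K) (A B : Subgroup G) [A.Normal] [B.Normal] (hAB : A < B) (hchief : ∀ N : Subgroup G, N.Normal → A ≤ N → N ≤ B → N = A ∨ N = B) : (⁅B, (⊤ : Subgroup G)⁆ ≤ A → B ≤ A ⊔ Cfsg.systemNormalizer K) ∧ (¬ ⁅B, (⊤ : Subgroup G)⁆ ≤ A → B ⊓ Cfsg.systemNormalizer K ≤ A) := by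
  set f := QuotientGroup.mk' A with hf
  have hs : Function.Surjective f := QuotientGroup.mk'_surjective A
  have hker : f.ker = A := QuotientGroup.ker_mk' A
  have hK' := complementSystem_map hK hs
  have hD := systemNormalizer_map hK hs
  have hBn : (B.map f).Normal := Normal.map inferInstance f hs
  have hcomm : ⁅B, (⊤ : Subgroup G)⁆ ≤ A ↔ centralizer (B.map f : Set (G ⧸ A)) = ⊤ := by
    rw [centralizer_eq_top_iff_subset, SetLike.coe_subset_coe,
      ← commutator_top_right_eq_bot_iff_le_center, ← map_top_of_surjective f hs,
      ← Subgroup.map_commutator, Subgroup.map_eq_bot_iff, hker]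
  constructor
  · intro h
    have h1 : B.map f ≤ (Cfsg.systemNormalizer K).map f := by
      rw [← hD]
      refine le_iInf fun p => le_trans ?_ (centralizer_le_normalizer _)
      exact (centralizer_eq_top_iff_subset.1 (hcomm.1 h) :
        B.map f ≤ center _).trans (center_le_centralizer _)
    rw [map_le_iff_le_comap, comap_map_eq, hker, sup_comm] at h1
    exact h1
  · intro h
    have hb : B.map f ≠ ⊥ := by
      rw [Ne, Subgroup.map_eq_bot_iff, hker]
      exact hAB.not_ge
    have hmin : ∀ N : Subgroup (G ⧸ A), N.Normal → N ≤ B.map f → N = ⊥ ∨ N = B.map f := by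
      intro N hN hle
      have h1 : N.comap f ≤ B := by
        have := comap_mono (f := f) hle
        rwa [comap_map_eq, hker, sup_eq_left.2 hAB.le] at this
      rcases hchief (N.comap f) inferInstance (hker.ge.trans (ker_le_comap f N)) h1 with h2 | h2
      · left
        rw [← map_comap_eq_self_of_surjective hs N, h2, Subgroup.map_eq_bot_iff, hker]
      · right
        rw [← map_comap_eq_self_of_surjective hs N, h2]
    have h1 := inf_systemNormalizer_eq_bot hK' (B.map f) hb hmin fun h' => h (hcomm.2 h')
    rw [hD] at h1
    rw [← hker, ← Subgroup.map_eq_bot_iff, eq_bot_iff, ← h1]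
    exact map_inf_le _ _ _

end Cfsg.Agent.S0568
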