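import Cfsg.Statements.S0571
import Cfsg.Agent.Base
import Cfsg.Agent.S0573
import Cfsg.Agent.S0528

set_option autoImplicit false
open Cfsg

namespace Cfsg.Agent.S0571

universe u

theorem aux (n : ℕ) : ∀ (G : Type u) [Group G] [Finite G], Nat.card G = n →
    ∀ (A B : Subgroup G) [IsCyclic A] [IsCyclic B],
      (∀ g : G, ∃ a ∈ A, ∃ b ∈ B, g = a * b) → Cfsg.IsSupersolvable G := by
  induction n using Nat.strong_induction_on with
  | _ n ih =>
  intro G _ _ hn A B _ _ hAB
  rcases subsingleton_or_nontrivial G with hs | hs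
  · exact ⟨0, fun _ => ⊥, rfl, Subsingleton.elim _ _, fun _ => inferInstance, fun i => i.elim0⟩
  obtain ⟨N, hN, hne, hle⟩ := Cfsg.Agent.S0573.result A B hAB
  have hc : IsCyclic N := by
    rcases hle with h | h <;> exact Subgroup.isCyclic_of_le h
  have hlt : Nat.card (G ⧸ N) < n := by
    have h1 := N.index_mul_card
    have h2 : 1 < Nat.card N := (Subgroup.one_lt_card_iff_ne_bot N).2 hne
    have h3 : 0 < N.index := Nat.pos_of_ne_zero Subgroup.index_ne_zero_of_finite
    change N.index < n
    nlinarith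
  have hmap : ∀ (C : Subgroup G) [IsCyclic C], IsCyclic (C.map (QuotientGroup.mk' N)) :=
    fun C _ => isCyclic_of_surjective _ ((QuotientGroup.mk' N).subgroupMap_surjective C)
  have := hmap A
  have := hmap B
  refine Cfsg.Agent.S0528.result N (ih _ hlt _ rfl (A.map (QuotientGroup.mk' N))
    (B.map (QuotientGroup.mk' N)) fun g => ?_)
  obtain ⟨g, rfl⟩ := QuotientGroup.mk'_surjective N g
  obtain ⟨a, ha, b, hb, rfl⟩ := hAB g
  exact ⟨_, Subgroup.mem_map_of_mem _ ha, _, Subgroup.mem_map_of_mem _ hb, map_mul _ _ _⟩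

/-- If a finite group G is the product AB of two cyclic subgroups (every element is a product ab), then G is supersolvable. -/
theorem result {G : Type*} [Group G] [Finite G] (A B : Subgroup G) [IsCyclic A] [IsCyclic B] (hAB : ∀ g : G, ∃ a ∈ A, ∃ b ∈ B, g = a * b) : Cfsg.IsSupersolvable G := by
  exact aux _ G rfl A B hAB

end Cfsg.Agent.S0571
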