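import Cfsg.Agent.Base
import Cfsg.Statements.S0577
import Cfsg.Agent.Solv.SchmidtStruct

set_option autoImplicit false
open Cfsg

namespace Cfsg.Agent.S0577

/-- Let G be a finite minimal non-nilpotent group and Q a normal Sylow q-subgroup of G, and let D be the commutator subgroup of Q regarded in G (a normal subgroup). Then G modulo D is non-abelian and all its proper subgroups are abelian. -/
theorem result {G : Type*} [Group G] [Finite G] (hG : Cfsg.IsMinimalNonNilpotent G) (q : ℕ) [Fact q.Prime] (hq : q ∣ Nat.card G) (Q : Sylow q G) (hQ : (Q : Subgroup G).Normal) (D : Subgroup G) [D.Normal] (hD : D = (commutator ↥(Q : Subgroup G)).map (Q : Subgroup G).subtype) : ¬ IsMulCommutative (G ⧸ D) ∧ ∀ K : Subgroup (G ⧸ D), K ≠ ⊤ → IsMulCommutative K := by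
  classical
  obtain ⟨p, q₀, k, Q₀, g, hp, hq₀, hpq, hQ₀, hQ₀n, hg, hsup, hgC⟩ := CL.schmidt_structure hG
  have := Fact.mk hp
  have := Fact.mk hq₀
  have hP := CL.isPGroup_zpowers_of_orderOf_eq hg
  obtain ⟨P', Q', hP', hQ'⟩ := CL.exists_sylow_of_sup_eq_top hpq hP hQ₀ hsup
  have hqp : q.Prime := Fact.out
  have hqq : q = q₀ := by
    have h1 : Nat.card G ∣ Nat.card (Subgroup.zpowers g) * Nat.card Q₀ := by
      have := CL.card_sup_dvd_mul (Subgroup.zpowers g) Q₀
      rwa [sup_comm, hsup, Subgroup.card_top] at this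
    rcases (Nat.Prime.dvd_mul hqp).1 (hq.trans h1) with h2 | h2
    · exfalso
      obtain ⟨n, hn⟩ := IsPGroup.iff_card.1 hP
      rw [hn] at h2
      obtain rfl : q = p := (Nat.prime_dvd_prime_iff_eq hqp hp).1 (hqp.dvd_of_dvd_pow h2)
      have hu := Sylow.unique_of_normal Q hQ
      have hPQ : P' = Q := Subsingleton.elim _ _
      have hn : (Subgroup.zpowers g).Normal := by rw [← hP', hPQ]; exact hQ
      exact hgC (CL.le_centralizer_of_normal_of_inf_eq_bot
        (IsPGroup.disjoint_of_ne q q₀ hpq _ _ hP hQ₀).eq_bot (Subgroup.mem_zpowers g))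
    · obtain ⟨n, hn⟩ := IsPGroup.iff_card.1 hQ₀
      rw [hn] at h2
      exact (Nat.prime_dvd_prime_iff_eq hqp hq₀).1 (hqp.dvd_of_dvd_pow h2)
  subst hqq
  have hu := Sylow.unique_of_normal Q hQ
  have hQQ : (Q : Subgroup G) = Q₀ := by rw [← hQ', Subsingleton.elim Q Q']
  rw [Subgroup.map_subtype_commutator, hQQ] at hD
  have hnil : Group.IsNilpotent Q₀ := hQ₀.isNilpotent
  refine ⟨fun hc => hG.1 ?_, fun K hK => ?_⟩
  · have := CL.isNilpotent_of_isMulCommutative (G ⧸ D)
    exact CL.isNilpotent_of_quotient_of_le_frattini D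
      (hD ▸ CL.commutator_le_frattini_of_normal Q₀)
  have hsurj := QuotientGroup.mk'_surjective D
  have hKn : Group.IsNilpotent K := by
    have h1 : K.comap (QuotientGroup.mk' D) ≠ ⊤ := by
      intro h
      apply hK
      rw [← Subgroup.map_comap_eq_self_of_surjective hsurj K, h, Subgroup.map_top_of_surjective _ hsurj]
    have := hG.2 _ h1
    rw [← Subgroup.map_comap_eq_self_of_surjective hsurj K]
    exact CL.isNilpotent_map _
  set Qb : Subgroup (G ⧸ D) := Q₀.map (QuotientGroup.mk' D) with hQb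
  have hQbn : Qb.Normal := hQ₀n.map _ hsurj
  have hQbp : IsPGroup q Qb := hQ₀.map _
  have hQbc : IsMulCommutative Qb := by
    rw [← Subgroup.le_centralizer_iff_isMulCommutative,
      ← Subgroup.commutator_eq_bot_iff_le_centralizer, hQb, ← Subgroup.map_commutator, ← hD,
      Subgroup.map_eq_bot_iff, QuotientGroup.ker_mk']
  have hsupb : Qb ⊔ Subgroup.zpowers (QuotientGroup.mk' D g) = ⊤ := by
    rw [hQb, ← MonoidHom.map_zpowers, ← Subgroup.map_sup, hsup,
      Subgroup.map_top_of_surjective _ hsurj]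
  have hcomm := CL.commutator_le_of_sup_zpowers_eq_top hsupb
  refine CL.isMulCommutative_of_isNilpotent_of_forall_isPGroup fun r R hr hR => ?_
  have := Fact.mk hr
  have hR' : IsPGroup r (R.map K.subtype) := hR.map _
  suffices IsMulCommutative (R.map K.subtype) by
    refine IsMulCommutative.of_setLike_mul_comm fun a ha b hb => Subtype.ext ?_
    exact setLike_mul_comm (s := R.map K.subtype) (Subgroup.mem_map_of_mem K.subtype ha)
      (Subgroup.mem_map_of_mem K.subtype hb)
  by_cases hrq : r = q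
  · subst hrq
    have hle : R.map K.subtype ≤ Qb := by
      have h1 : Qb = (Q.mapSurjective hsurj : Subgroup (G ⧸ D)) := by
        rw [Sylow.coe_mapSurjective, hQQ]
      rw [h1]
      obtain ⟨T, hT⟩ := hR'.exists_le_sylow
      have hu' := Sylow.unique_of_normal (Q.mapSurjective hsurj) (h1 ▸ hQbn)
      rwa [Subsingleton.elim T (Q.mapSurjective hsurj)] at hT
    exact IsMulCommutative.of_setLike_mul_comm fun a ha b hb => setLike_mul_comm (hle ha) (hle hb)
  · refine CL.isMulCommutative_of_inf_commutator_eq_bot ?_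
    exact le_bot_iff.1 ((inf_le_inf_left _ hcomm).trans
      (IsPGroup.disjoint_of_ne r q hrq _ _ hR' hQbp).eq_bot.le)

end Cfsg.Agent.S0577
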