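import Cfsg.Agent.Base
import Cfsg.Statements.S0578
import Cfsg.Agent.Solv.SchmidtStruct

set_option autoImplicit false
open Cfsg

namespace Cfsg.Agent.S0578

universe u in
theorem aux (n : ℕ) : ∀ (G : Type u) [Group G] [Finite G], Nat.card G = n →
    (∀ A : Subgroup G, IsMulCommutative A →
      Subgroup.normalizer (A : Set G) ≤ Subgroup.centralizer (A : Set G)) →
    IsMulCommutative G := by
  induction n using Nat.strong_induction_on with
  | _ n ih =>
  intro G _ _ hn h
  have hsub : ∀ H : Subgroup G, H ≠ ⊤ → IsMulCommutative H := by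
    intro H hH
    refine ih _ (hn ▸ CL.card_lt_of_ne_top H hH) H rfl fun A hA x hx => ?_
    have h1 := h (A.map H.subtype) inferInstance (Subgroup.le_normalizer_map H.subtype
      (Subgroup.mem_map_of_mem H.subtype hx))
    rw [Subgroup.mem_centralizer_iff] at h1 ⊢
    intro a ha
    exact Subtype.ext (h1 _ (Subgroup.mem_map_of_mem H.subtype ha))
  have hsolv : Group.IsSolvable G := CL.isSolvable_of_forall_ne_top_isNilpotent fun H hH => by
    have := hsub H hH
    exact CL.isNilpotent_of_isMulCommutative _
  rcases subsingleton_or_nontrivial G with hG | hG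
  · exact ⟨⟨fun a b => Subsingleton.elim _ _⟩⟩
  have hlt : commutator G ≠ ⊤ := (Group.IsSolvable.commutator_lt_top_of_nontrivial G).ne
  obtain ⟨M, hM, hle⟩ := (eq_top_or_exists_le_coatom (commutator G)).resolve_left hlt
  have hMn := CL.normal_of_commutator_le hle
  have hZ : M ≤ Subgroup.center G := by
    intro x hx
    rw [Subgroup.mem_center_iff]
    intro g
    have := h M (hsub M hM.1) (by rw [Subgroup.normalizer_eq_top]; exact Subgroup.mem_top g)
    exact (Subgroup.mem_centralizer_iff.1 this x hx).symm
  obtain ⟨g, hg⟩ : ∃ g, g ∉ M := by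
    by_contra hc
    push Not at hc
    exact hM.1 (eq_top_iff.2 fun x _ => hc x)
  refine CL.isMulCommutative_of_sup_zpowers_eq_top hZ (g := g) (hM.2 _ ?_)
  exact lt_of_le_of_ne le_sup_left fun he => hg (he ▸ Subgroup.mem_sup_right (Subgroup.mem_zpowers g))

/-- If in a finite group the normalizer of each abelian subgroup coincides with its centralizer, then the group is abelian. -/
theorem result {G : Type*} [Group G] [Finite G] (h : ∀ A : Subgroup G, IsMulCommutative A → Subgroup.normalizer (A : Set G) = Subgroup.centralizer (A : Set G)) : IsMulCommutative G := by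
  exact aux _ G rfl fun A hA => (h A hA).le

end Cfsg.Agent.S0578
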