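import Cfsg.Statements.S0582
import Cfsg.Agent.Solv.SupersolvHPI

set_option autoImplicit false
open Pointwise
open Cfsg

namespace Cfsg.Agent.S0582

open Subgroup CL.SS

theorem bar {G : Type*} [Group G] [Finite G] (Q L : Subgroup G) (hQL : Q ≤ L)
    (hL : L ≤ normalizer (Q : Set G)) (hss : Cfsg.IsSupersolvable L) :
    let N := normalizer (Q : Set G)
    let φ := QuotientGroup.mk' (Q.subgroupOf N)
    Cfsg.IsSupersolvable ((L.subgroupOf N).map φ) ∧
      Nat.card Q * Nat.card ((L.subgroupOf N).map φ) = Nat.card L ∧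
      ((L.subgroupOf N).map φ).index ∣ L.index ∧
      ∀ y : N, φ y ∈ (L.subgroupOf N).map φ ↔ (y : G) ∈ L := by
  intro N φ
  have hker : φ.ker ≤ L.subgroupOf N := by
    rw [QuotientGroup.ker_mk']
    exact comap_mono hQL
  refine ⟨CL.SS.map (of_mulEquiv hss (subgroupOfEquivOfLe hL).symm) φ, ?_, ?_, ?_⟩
  · rw [← relIndex_ker, QuotientGroup.ker_mk', relIndex_subgroupOf hL, card_mul_relIndex hQL]
  · rw [index_map_eq _ (QuotientGroup.mk'_surjective _) hker]
    exact relIndex_dvd_index_of_le hL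
  · intro y
    rw [← mem_comap, comap_map_eq_self hker, mem_subgroupOf]

universe u in
theorem aux (n : ℕ) : ∀ (G : Type u) [Group G] [Finite G] (H K : Subgroup G),
    Cfsg.IsSupersolvable H → Cfsg.IsSupersolvable K → Nat.card H = n → Nat.card K = n →
    n.Coprime H.index → ∃ x : G, ∀ h ∈ H, x * h * x⁻¹ ∈ K := by
  induction n using Nat.strong_induction_on with
  | _ n ih =>
    intro G _ _ H K hH hK hHn hKn hcop
    by_cases hb : H = ⊥
    · refine ⟨1, fun h hh => ?_⟩
      rw [hb, Subgroup.mem_bot] at hh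
      simp [hh]
    have hn : 1 < n := hHn ▸ (one_lt_card_iff_ne_bot H).2 hb
    obtain ⟨p, hp, hpn, hmax⟩ := exists_max_prime_dvd hn
    have := Fact.mk hp
    have hidx : K.index = H.index := by
      have h1 := H.card_mul_index
      rw [← K.card_mul_index, hHn, hKn] at h1
      exact (Nat.eq_of_mul_eq_mul_left (by omega) h1).symm
    have hpi : ¬ p ∣ H.index := fun h =>
      hp.one_lt.ne' (Nat.eq_one_of_dvd_coprimes hcop hpn h)
    have syl : ∀ L : Subgroup G, Cfsg.IsSupersolvable L → Nat.card L = n → ¬ p ∣ L.index →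
        ∃ P : Sylow p G, (P : Subgroup G) ≤ L ∧ L ≤ normalizer ((P : Subgroup G) : Set G) := by
      intro L hL hLn hLi
      obtain ⟨P⟩ : Nonempty (Sylow p L) := inferInstance
      have hPn := sylow_normal_of_max hL p (hLn ▸ hmax) P
      have h1 : ¬ p ∣ ((P : Subgroup L).map L.subtype).index := by
        rw [index_map_subtype]
        exact hp.not_dvd_mul P.not_dvd_index hLi
      refine ⟨(P.isPGroup'.map L.subtype).toSylow h1, map_subtype_le _, ?_⟩
      rw [IsPGroup.toSylow_coe]
      refine le_trans ?_ (le_normalizer_map L.subtype)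
      rw [normalizer_eq_top, ← MonoidHom.range_eq_map, range_subtype]
    obtain ⟨P, hPH, hHP⟩ := syl H hH hHn hpi
    obtain ⟨Q, hQK, hKQ⟩ := syl K hK hKn (hidx ▸ hpi)
    obtain ⟨g, hg⟩ := MulAction.exists_smul_eq G P Q
    set c := (MulAut.conj g).toMonoidHom with hc
    have hQ : (Q : Subgroup G) = (P : Subgroup G).map c := by rw [← hg]; rfl
    have hQH : (Q : Subgroup G) ≤ H.map c := hQ ▸ map_mono hPH
    have hHQ : H.map c ≤ normalizer ((Q : Subgroup G) : Set G) := by
      rw [hQ]
      exact (map_mono hHP).trans (le_normalizer_map c)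
    obtain ⟨a1, a2, a3, a4⟩ := bar _ _ hQH hHQ (CL.SS.map hH c)
    obtain ⟨b1, b2, -, b4⟩ := bar _ _ hQK hKQ hK
    have hcinj : Function.Injective c := (MulAut.conj g).injective
    rw [card_map_of_injective hcinj, hHn] at a2
    rw [index_map_of_bijective (f := c) (MulAut.conj g).bijective H] at a3
    rw [hKn] at b2
    have hQ1 : 1 < Nat.card (Q : Subgroup G) :=
      (one_lt_card_iff_ne_bot _).2 (Q.ne_bot_of_dvd_card (hpn.trans (hHn ▸ card_subgroup_dvd_card H)))
    obtain ⟨x, hx⟩ := ih _ (by rw [← a2]; exact lt_mul_of_one_lt_left Nat.card_pos hQ1) _ _ _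
      a1 b1 rfl (Nat.eq_of_mul_eq_mul_left Nat.card_pos (b2.trans a2.symm))
      (Nat.Coprime.coprime_dvd_left (Dvd.intro_left _ a2) (Nat.Coprime.coprime_dvd_right a3 hcop))
    obtain ⟨y, rfl⟩ := QuotientGroup.mk'_surjective _ x
    refine ⟨y * g, fun h hh => ?_⟩
    have h1 : g * h * g⁻¹ ∈ H.map c := mem_map_of_mem c hh
    have h2 := hx _ ((a4 ⟨_, hHQ h1⟩).2 h1)
    rw [← map_mul, ← map_inv, ← map_mul, b4] at h2
    have : y * g * h * (y * g)⁻¹ = y * (g * h * g⁻¹) * (y : G)⁻¹ := by group
    rw [this]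
    exact h2

/-- Let H and K be supersolvable subgroups of a finite group G of the same order, that order being coprime to their index. Then H and K are conjugate in G. -/
theorem result {G : Type*} [Group G] [Finite G] (H K : Subgroup G) (hH : Cfsg.IsSupersolvable H) (hK : Cfsg.IsSupersolvable K) (hcard : Nat.card H = Nat.card K) (hHall : (Nat.card H).Coprime H.index) : ∃ x : G, MulAut.conj x • H = K := by
  obtain ⟨x, hx⟩ := aux (Nat.card H) G H K hH hK rfl hcard.symm hHall
  refine ⟨x, eq_of_le_of_card_ge ?_ ?_⟩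
  · rintro _ ⟨h, hh, rfl⟩
    exact hx h hh
  · rw [← hcard]
    exact (card_map_of_injective (f := (MulAut.conj x).toMonoidHom) (MulAut.conj x).injective).ge

end Cfsg.Agent.S0582
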