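import Cfsg.Statements.S0586
import Cfsg.Agent.Solv.FratMisc

set_option autoImplicit false
open Cfsg

namespace Cfsg.Agent.S0586

open Subgroup CL.CF

/-- If the Frattini subgroup of a finite group G is trivial, then the Fitting subgroup of G equals the join of all abelian minimal normal subgroups of G. -/
theorem result {G : Type*} [Group G] [Finite G] (hΦ : frattini G = ⊥) : Cfsg.fittingSubgroup G = sSup {N : Subgroup G | N.Normal ∧ N ≠ ⊥ ∧ IsMulCommutative N ∧ ∀ K : Subgroup G, K.Normal → K ≤ N → K = ⊥ ∨ K = N} := by
  set S := sSup {N : Subgroup G | N.Normal ∧ N ≠ ⊥ ∧ IsMulCommutative N ∧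
    ∀ K : Subgroup G, K.Normal → K ≤ N → K = ⊥ ∨ K = N} with hS
  have hSn : S.Normal := sSup_normal _ fun _ h => h.1
  apply le_antisymm
  · refine sSup_le ?_
    rintro N ⟨hN, hnil⟩
    have hcomm : IsMulCommutative N := by
      have h1 : commutator N ≤ frattini N := commutator_le_frattini
      have h2 := (map_mono (f := N.subtype) h1).trans (map_frattini_le_of_normal N)
      rw [map_subtype_commutator, hΦ, le_bot_iff] at h2
      exact commutator_self_eq_bot_iff.1 h2
    have hD : IsMulCommutative (N ⊓ S : Subgroup G) :=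
      le_centralizer_iff_isMulCommutative.1
        ((inf_le_left.trans (le_centralizer N)).trans (centralizer_le (fun x hx => hx.1)))
    obtain ⟨H, hH⟩ := exists_complement_of_inf_frattini (N ⊓ S) (by rw [hΦ, inf_bot_eq])
    have hs : N ⊔ H = ⊤ := eq_top_iff.2 (hH.sup_eq_top ▸ sup_le_sup_right inf_le_left _)
    have hn : (N ⊓ H).Normal := normal_of_sup_eq_top hs
      (le_normalizer_of_le_centralizer (inf_le_left.trans (le_centralizer N)))
      (le_normalizer_inf_of_normal N H)
    have hb : N ⊓ H = ⊥ := by
      by_contra hb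
      obtain ⟨K, hKn, hK, hKle, hKmin⟩ := exists_minNormal_le (N ⊓ H) hb
      have hKc : IsMulCommutative K := le_centralizer_iff_isMulCommutative.1
        (((hKle.trans inf_le_left).trans (le_centralizer N)).trans
          (centralizer_le (fun x hx => (hKle hx).1)))
      have hKS : K ≤ S := le_sSup ⟨hKn, hK, hKc, hKmin⟩
      apply hK
      rw [eq_bot_iff, ← disjoint_iff.1 hH.disjoint]
      exact le_inf (le_inf (hKle.trans inf_le_left) hKS) (hKle.trans inf_le_right)
    have h1 := sup_inf_of_normal_le (N ⊓ S) H N inf_le_left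
    rw [hH.sup_eq_top, top_inf_eq, inf_comm H N, hb, sup_bot_eq] at h1
    exact h1.le.trans inf_le_right
  · refine sSup_le ?_
    rintro N ⟨hN, -, hc, -⟩
    refine le_sSup ⟨hN, ?_⟩
    let _ : CommGroup N := { (inferInstance : Group N) with mul_comm := mul_comm' }
    exact CommGroup.isNilpotent

end Cfsg.Agent.S0586
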