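import Cfsg.Statements.S0588
import Cfsg.Agent.Solv.CoreFree

set_option autoImplicit false
open Cfsg

namespace Cfsg.Agent.S0588

open Subgroup CL.CF

/-- If a subgroup H of a finite group G contains the centralizer of every non-identity element of H, then the order of H is coprime to its index. -/
theorem result {G : Type*} [Group G] [Finite G] (H : Subgroup G) (h : ∀ x ∈ H, x ≠ 1 → Subgroup.centralizer ({x} : Set G) ≤ H) : (Nat.card H).Coprime H.index := by
  apply Nat.coprime_of_dvd
  intro p hp hH hi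
  have := Fact.mk hp
  obtain ⟨x, hx⟩ := exists_prime_orderOf_dvd_card' p hH
  have hx1 : (x : G) ≠ 1 := fun h => by
    rw [show x = 1 from Subtype.ext h, orderOf_one] at hx
    exact hp.one_lt.ne hx
  have hP : IsPGroup p (zpowers (x : G)) := by
    apply IsPGroup.of_card (n := 1)
    rw [Nat.card_zpowers, orderOf_coe, hx, pow_one]
  obtain ⟨Q, hQ⟩ := hP.exists_le_sylow
  have hxQ : (x : G) ∈ (Q : Subgroup G) := hQ (mem_zpowers _)
  have : Nontrivial (Q : Subgroup G) := ⟨⟨⟨x, hxQ⟩, 1, fun h => hx1 (congrArg Subtype.val h)⟩⟩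
  have := Q.isPGroup'.center_nontrivial
  obtain ⟨⟨z, hz⟩, hz1⟩ := exists_ne (1 : center (Q : Subgroup G))
  have hz2 : (z : G) ≠ 1 := fun h => hz1 (Subtype.ext (Subtype.ext h))
  have hc : ∀ y ∈ (Q : Subgroup G), y * z = z * y := fun y hy =>
    congrArg Subtype.val (mem_center_iff.1 hz ⟨y, hy⟩)
  have hzH : (z : G) ∈ H := h x x.2 hx1 (mem_centralizer_singleton_iff.2 (hc x hxQ).symm)
  have hQH : (Q : Subgroup G) ≤ H := fun y hy =>
    h z hzH hz2 (mem_centralizer_singleton_iff.2 (hc y hy))
  exact Q.not_dvd_index (hi.trans (index_dvd_of_le hQH))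

end Cfsg.Agent.S0588
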