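import Cfsg.Statements.S0589
import Cfsg.Agent.Solv.CoreFree

set_option autoImplicit false
open Pointwise
open Cfsg

namespace Cfsg.Agent.S0589

open Subgroup MulAction

/-- the number of points is congruent to the number of points with nontrivial stabilizer -/
theorem card_modEq {L Ω : Type*} [Group L] [Finite Ω] [MulAction L Ω] :
    Nat.card Ω ≡ Nat.card {ω : Ω | stabilizer L ω ≠ ⊥} [MOD Nat.card L] := by
  let T : SubMulAction L Ω :=
    { carrier := {ω : Ω | stabilizer L ω = ⊥}
      smul_mem' := fun g ω h => by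
        have h' : stabilizer L ω = ⊥ := h
        show stabilizer L (g • ω) = ⊥
        rw [stabilizer_smul_eq_stabilizer_map_conj, h', Subgroup.map_bot] }
  have h1 : Nat.card L ∣ Nat.card T := by
    have e := selfEquivOrbitsQuotientProd (G := L) (X := T) fun b => by
      rw [SubMulAction.stabilizer_of_subMul]; exact b.2
    rw [Nat.card_congr e, Nat.card_prod]
    exact dvd_mul_left _ _
  have h2 : Nat.card Ω = Nat.card {ω : Ω | stabilizer L ω ≠ ⊥} + Nat.card T := by
    rw [← Set.ncard_add_ncard_compl {ω : Ω | stabilizer L ω ≠ ⊥}]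
    congr 1
    have : {ω : Ω | stabilizer L ω ≠ ⊥}ᶜ = (T : Set Ω) := by
      ext ω
      simp only [Set.mem_compl_iff, Set.mem_ofPred_eq, not_not]
      rfl
    rw [this]
    rfl
  rw [h2]
  exact ((Nat.modEq_iff_dvd' (Nat.le_add_right _ _)).2 (by simpa using h1)).symm

theorem eq_of_fix {G : Type*} [Group G] (H : Subgroup G) (hH : Cfsg.IsFrobeniusComplement H)
    (x : G) (hx : x ≠ 1) (a b : G ⧸ H) (ha : x • a = a) (hb : x • b = b) : a = b := by
  obtain ⟨a, rfl⟩ := QuotientGroup.mk_surjective a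
  obtain ⟨b, rfl⟩ := QuotientGroup.mk_surjective b
  have ha' : a⁻¹ * (x * a) ∈ H := QuotientGroup.eq.1 ha.symm
  have hb' : b⁻¹ * (x * b) ∈ H := QuotientGroup.eq.1 hb.symm
  rw [QuotientGroup.eq]
  by_contra hn
  have h1 : a⁻¹ * (x * a) ∈ H ⊓ (MulAut.conj (a⁻¹ * b) • H) := by
    refine mem_inf.2 ⟨ha', ?_⟩
    rw [mem_pointwise_smul_iff_inv_smul_mem]
    simpa [mul_assoc] using hb'
  rw [hH.2.2 _ hn, mem_bot] at h1
  apply hx
  calc x = a * (a⁻¹ * (x * a)) * a⁻¹ := by group
    _ = 1 := by rw [h1]; group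

/-- Let H be a Frobenius complement in a finite group G and L a subgroup of G whose order divides the order of H. Then L is contained in some conjugate of H. -/
theorem result {G : Type*} [Group G] [Finite G] (H : Subgroup G) (hH : Cfsg.IsFrobeniusComplement H) (L : Subgroup G) (hL : Nat.card L ∣ Nat.card H) : ∃ x : G, L ≤ MulAut.conj x • H := by
  by_cases hLb : L = ⊥
  · exact ⟨1, hLb ▸ bot_le⟩
  have h1 : Nat.card (G ⧸ H) ≡ 1 [MOD Nat.card H] := by
    have h := card_modEq (L := H) (Ω := G ⧸ H)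
    have : {ω : G ⧸ H | stabilizer H ω ≠ ⊥} = {((1 : G) : G ⧸ H)} := by
      have key : ∀ y : H, y • ((1 : G) : G ⧸ H) = ((1 : G) : G ⧸ H) := fun y =>
        QuotientGroup.eq.2 (by simp)
      ext ω
      simp only [Set.mem_ofPred_eq, Set.mem_singleton_iff]
      constructor
      · intro hω
        obtain ⟨⟨y, hy⟩, hy1⟩ := (ne_bot_iff_exists_ne_one).1 hω
        exact eq_of_fix H hH y (fun h => hy1 (Subtype.ext (Subtype.ext h))) _ _ hy (key y)
      · rintro rfl hb
        apply hH.1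
        rw [eq_bot_iff_forall]
        intro y hy
        have : (⟨y, hy⟩ : H) ∈ stabilizer H ((1 : G) : G ⧸ H) := key _
        rw [hb, mem_bot] at this
        exact congrArg Subtype.val this
    rw [this] at h
    simpa using h
  set S := {ω : G ⧸ H | stabilizer L ω ≠ ⊥} with hS
  have h2 : Nat.card S ≡ 1 [MOD Nat.card L] :=
    (card_modEq (L := L) (Ω := G ⧸ H)).symm.trans (h1.of_dvd hL)
  have h3 : Nat.card S < Nat.card L := by
    have hc : ∀ ω : S, ∃ y : L, y ≠ 1 ∧ y • (ω : G ⧸ H) = ω := fun ω => by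
      obtain ⟨⟨y, hy⟩, hy1⟩ := (ne_bot_iff_exists_ne_one).1 ω.2
      exact ⟨y, fun h => hy1 (Subtype.ext h), hy⟩
    choose f hf1 hf2 using hc
    have hinj : Function.Injective f := fun a b hab => Subtype.ext
      (eq_of_fix H hH (f a) (fun h => hf1 a (Subtype.ext h)) _ _ (hf2 a) (hab ▸ hf2 b))
    have := Fintype.ofFinite S
    have := Fintype.ofFinite L
    rw [Nat.card_eq_fintype_card, Nat.card_eq_fintype_card]
    exact Fintype.card_lt_of_injective_of_notMem f hinj (b := 1) (by rintro ⟨a, ha⟩; exact hf1 a ha)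
  have h4 : 1 < Nat.card L := one_lt_card_iff_ne_bot L |>.2 hLb
  have h5 : Nat.card S = 1 := Nat.ModEq.eq_of_lt_of_lt h2 h3 h4
  obtain ⟨⟨ω, hω⟩, hu⟩ := Nat.card_eq_one_iff_exists.1 h5
  obtain ⟨g, rfl⟩ := QuotientGroup.mk_surjective ω
  refine ⟨g, fun y hy => ?_⟩
  have h6 : (⟨y, hy⟩ : L) • (g : G ⧸ H) ∈ S := by
    show stabilizer L _ ≠ ⊥
    rw [stabilizer_smul_eq_stabilizer_map_conj]
    intro h
    exact hω ((map_eq_bot_iff_of_injective _ (MulAut.conj _).injective).1 h)
  have h7 : ((y * g : G) : G ⧸ H) = g := congrArg Subtype.val (hu ⟨_, h6⟩)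
  rw [mem_pointwise_smul_iff_inv_smul_mem]
  have h2 := QuotientGroup.eq.1 h7.symm
  simpa [mul_assoc] using h2

end Cfsg.Agent.S0589
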