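import Cfsg.Agent.Base
import Cfsg.Statements.S0591
import Cfsg.Agent.PLocal.QuadBasic

set_option autoImplicit false
open Cfsg

namespace Cfsg.Agent.S0591

/-- For a quadratically acting element a on an elementary abelian p-group V, the fixed points C_V(a) have order at least the square root of the order of V. -/
theorem result {G : Type*} [Group G] [Finite G] {p : ℕ} [Fact p.Prime] (V : Subgroup G) (hV : Cfsg.IsElementaryAbelian p V) (a : G) (ha : a ∈ Subgroup.normalizer (V : Set G)) (hq : ⁅⁅V, Subgroup.zpowers a⁆, Subgroup.zpowers a⁆ = ⊥) : Nat.card V ≤ Nat.card ↥(V ⊓ Subgroup.centralizer (Subgroup.zpowers a : Set G)) ^ 2 := by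
  classical
  have := hV.1
  set C : Subgroup G := V ⊓ Subgroup.centralizer (Subgroup.zpowers a : Set G) with hC
  have hcomm : ∀ x ∈ V, ∀ y ∈ V, x * y = y * x := fun x hx y hy =>
    congrArg Subtype.val (mul_comm' (⟨x, hx⟩ : V) ⟨y, hy⟩)
  have hconj : ∀ v ∈ V, a * v * a⁻¹ ∈ V := fun v hv => (Subgroup.mem_normalizer_iff.mp ha v).mp hv
  have hmemC : ∀ x ∈ V, Commute a x → x ∈ C := by
    intro x hx hax
    refine Subgroup.mem_inf.mpr ⟨hx, ?_⟩
    rw [Subgroup.mem_centralizer_iff]
    intro y hy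
    obtain ⟨k, rfl⟩ := Subgroup.mem_zpowers_iff.mp hy
    exact (hax.zpow_left k).eq
  let f : V →* C :=
    { toFun := fun v => ⟨a * v * a⁻¹ * (v : G)⁻¹, hmemC _ (V.mul_mem (hconj _ v.2) (V.inv_mem v.2))
        (CL.Quad.commute_of_quadratic hq v.2)⟩
      map_one' := by ext; simp
      map_mul' := by
        intro x y
        ext
        simp only [Subgroup.coe_mul]
        have h1 := hcomm _ (V.inv_mem x.2) _ (V.mul_mem (hconj _ y.2) (V.inv_mem y.2))
        calc a * (x * y) * a⁻¹ * ((x : G) * y)⁻¹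
            = a * x * a⁻¹ * ((a * y * a⁻¹ * (y : G)⁻¹) * (x : G)⁻¹) := by group
          _ = a * x * a⁻¹ * ((x : G)⁻¹ * (a * y * a⁻¹ * (y : G)⁻¹)) := by rw [h1]
          _ = _ := by group }
  have hker : Nat.card f.ker ≤ Nat.card C := by
    refine Nat.card_le_card_of_injective
      (fun x : f.ker => (⟨((x : V) : G), hmemC _ (x : V).2 ?_⟩ : C)) ?_
    · have h := congrArg Subtype.val (MonoidHom.mem_ker.mp x.2)
      change a * ((x : V) : G) * a⁻¹ * ((x : V) : G)⁻¹ = 1 at h
      rw [mul_inv_eq_one, mul_inv_eq_iff_eq_mul] at h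
      exact h
    · intro x y hxy
      have h := congrArg (fun z : C => (z : G)) hxy
      exact Subtype.ext (Subtype.ext h)
  have hrange : Nat.card f.range ≤ Nat.card C := Subgroup.card_le_card_group _
  have h := Subgroup.card_eq_card_quotient_mul_card_subgroup f.ker
  rw [Nat.card_congr (QuotientGroup.quotientKerEquivRange f).toEquiv] at h
  rw [h, sq]
  exact Nat.mul_le_mul hrange hker

end Cfsg.Agent.S0591
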