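import Cfsg.Agent.Base
import Cfsg.Statements.S0592
import Cfsg.Agent.PLocal.QuadModel

set_option autoImplicit false
open Cfsg

namespace Cfsg.Agent.S0592

/-- Two quadratically acting generators of a linear group that is not a p-group, with the p'-part of the order of their product dividing q - 1, give a homomorphism onto a subgroup of SL(2, q) that is not a p-group. -/
theorem result {K : Type*} [Field K] [Fintype K] {p : ℕ} [Fact p.Prime] [CharP K p] {W : Type*} [AddCommGroup W] [Module K W] [FiniteDimensional K W] [Finite W] [Nontrivial W] (H : Subgroup (W ≃ₗ[K] W)) (a b : W ≃ₗ[K] W) (hH : H = Subgroup.closure {a, b}) (ha : ∀ w : W, a (a w - w) = a w - w) (hb : ∀ w : W, b (b w - w) = b w - w) (hnp : ¬ IsPGroup p H) (hk : ∃ e k : ℕ, orderOf (a * b) = p ^ e * k ∧ k ∣ Fintype.card K - 1) : ∃ φ : H →* Matrix.SpecialLinearGroup (Fin 2) K, ¬ IsPGroup p φ.range := by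
  classical
  have hp : p.Prime := Fact.out
  have haH : a ∈ H := hH ▸ Subgroup.subset_closure (by simp)
  have hbH : b ∈ H := hH ▸ Subgroup.subset_closure (by simp)
  let ρ : H →* Module.End K W := (LinearEquiv.automorphismGroup.toLinearMapMonoidHom).comp H.subtype
  have hρ : ∀ (g : H) (w : W), ρ g w = (g : W ≃ₗ[K] W) w := fun _ _ => rfl
  let a' : H := ⟨a, haH⟩
  let b' : H := ⟨b, hbH⟩
  have hgen : Subgroup.closure ({a', b'} : Set H) = ⊤ := by
    apply Subgroup.map_injective H.subtype_injective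
    rw [MonoidHom.map_closure, ← MonoidHom.range_eq_map, Subgroup.range_subtype, Set.image_pair]
    exact hH.symm
  set A := ρ a' - 1 with hA
  set B := ρ b' - 1 with hB
  have hA2 : A * A = 0 := by
    ext w; exact sub_eq_zero.mpr (ha w)
  have hB2 : B * B = 0 := by
    ext w; exact sub_eq_zero.mpr (hb w)
  have h0 : (p : Module.End K W) = 0 := by
    rw [← map_natCast (algebraMap K (Module.End K W)), CharP.cast_eq_zero, map_zero]
  set c := A * B + B * A with hcdef
  have hc : ¬ IsNilpotent c := by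
    intro hc
    apply hnp
    intro h
    obtain ⟨n, hn⟩ := CL.Quad.exists_pow_prime_pow_eq_one hp h0
      (CL.Quad.isNilpotent_sub_one_of_anticomm ρ a' b' hgen hA2 hB2 hc h)
    refine ⟨n, Subtype.ext (LinearEquiv.ext fun w => ?_)⟩
    rw [← hρ, map_pow, hn]; rfl
  obtain ⟨f, hf, hfX, v, hv0, hv⟩ := CL.Quad.exists_irreducible_ker_ne_bot c hc
  -- the element `g = ab`
  set g := ρ (a' * b') with hg
  set g' := ρ (a' * b')⁻¹ with hg'
  have hgg' : g' * g = 1 := by rw [hg, hg', ← map_mul, inv_mul_cancel, map_one]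
  have hg1 : g = (1 + A) * (1 + B) := by rw [hg, map_mul, hA, hB]; simp
  have hg2 : g' = (1 - B) * (1 - A) := by
    have h1 : g * ((1 - B) * (1 - A)) = 1 := by
      have e : (1 + A) * (1 + B) * ((1 - B) * (1 - A)) =
          1 - A * A - (1 + A) * (B * B) * (1 - A) := by noncomm_ring
      rw [hg1, e, hA2, hB2]; simp
    calc g' = g' * (g * ((1 - B) * (1 - A))) := by rw [h1, mul_one]
      _ = _ := by rw [← mul_assoc, hgg', one_mul]
  have hcg : c = g + g' - 2 := by
    rw [hg1, hg2, hcdef, ← one_add_one_eq_two]; noncomm_ring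
  have hAc : Commute A c := CL.Quad.commute_anticomm_left hA2
  have hBc : Commute B c := CL.Quad.commute_anticomm_right hB2
  have hgc : Commute g c := by
    rw [hg1]
    exact ((Commute.one_left c).add_left hAc).mul_left ((Commute.one_left c).add_left hBc)
  -- an eigenvector of `g` killed by `f(c)`
  let E : Submodule K W := LinearMap.ker (Polynomial.aeval c f)
  have hgE : ∀ x ∈ E, g x ∈ E := by
    intro x hx
    rw [LinearMap.mem_ker] at hx ⊢
    rw [← Module.End.mul_apply, ← (CL.Quad.commute_aeval hgc f).eq, Module.End.mul_apply, hx,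
      map_zero]
  have : Nontrivial E := Submodule.nontrivial_iff_ne_bot.mpr
    (Submodule.ne_bot_iff _ |>.mpr ⟨v, hv, hv0⟩)
  let gE : Module.End K E := g.restrict hgE
  obtain ⟨e, k, hek, d, hd⟩ := hk
  have hgpow : g ^ ((Fintype.card K - 1) * p ^ e) = 1 := by
    have h1 : (a' * b') ^ ((Fintype.card K - 1) * p ^ e) = 1 := by
      apply Subtype.ext
      change (a * b) ^ _ = 1
      apply orderOf_dvd_iff_pow_eq_one.mp
      rw [hek, hd]
      exact ⟨d, by ring⟩
    rw [hg, ← map_pow, h1, map_one]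
  have hgEpow : gE ^ ((Fintype.card K - 1) * p ^ e) = 1 := by
    ext x
    rw [Module.End.pow_restrict]
    simp [hgpow]
  let P : Polynomial K := (Polynomial.X ^ Fintype.card K - Polynomial.X) ^ p ^ e
  have hP : Polynomial.aeval gE P = 0 := by
    have hq : Fintype.card K = (Fintype.card K - 1) + 1 :=
      (Nat.sub_add_cancel Fintype.card_pos).symm
    have h0' : (p : Module.End K E) = 0 := by
      rw [← map_natCast (algebraMap K (Module.End K E)), CharP.cast_eq_zero, map_zero]
    have h2 : (gE ^ (Fintype.card K - 1) - 1) ^ p ^ e = 0 := by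
      have h := (Commute.one_right (gE ^ (Fintype.card K - 1) - 1)).add_pow_prime_pow_eq hp e
      rw [sub_add_cancel, h0', zero_mul, zero_mul, zero_mul, add_zero, one_pow, ← pow_mul,
        hgEpow] at h
      simpa using h
    have h3 : gE ^ Fintype.card K - gE = (gE ^ (Fintype.card K - 1) - 1) * gE := by
      rw [sub_mul, one_mul, ← pow_succ, ← hq]
    have h4 : Commute (gE ^ (Fintype.card K - 1) - 1) gE :=
      ((Commute.refl gE).pow_left _).sub_left (Commute.one_left _)
    simp only [P, map_pow, map_sub, Polynomial.aeval_X]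
    rw [h3, h4.mul_pow, h2, zero_mul]
  have hsplit : P.Splits := by
    apply Polynomial.Splits.pow
    simpa using (FiniteField.isSplittingField_sub K K).splits
  have hP0 : P ≠ 0 := pow_ne_zero _ (FiniteField.X_pow_card_sub_X_ne_zero K Fintype.one_lt_card)
  have hint : IsIntegral K gE := Algebra.IsIntegral.isIntegral gE
  obtain ⟨μ, hμ⟩ := (hsplit.of_dvd hP0 (minpoly.dvd K gE hP)).exists_eval_eq_zero
    (minpoly.degree_pos hint).ne'
  obtain ⟨w, hw⟩ := (Module.End.hasEigenvalue_of_isRoot hμ).exists_hasEigenvector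
  have hw0 : (w : W) ≠ 0 := fun h => hw.2 (Subtype.ext h)
  have hgw : g w = μ • (w : W) := congrArg Subtype.val hw.apply_eq_smul
  have hμ0 : μ ≠ 0 := by
    rintro rfl
    apply hw0
    rw [← Module.End.one_apply (R := K) (w : W), ← hgg', Module.End.mul_apply, hgw, zero_smul,
      map_zero]
  have hg'w : g' w = μ⁻¹ • (w : W) := by
    have h1 : g' (g w) = w := by rw [← Module.End.mul_apply, hgg']; rfl
    rw [hgw, map_smul] at h1
    rw [eq_inv_smul_iff₀ hμ0, h1]
  set l : K := μ + μ⁻¹ - 2 with hl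
  have hcw : c w = l • (w : W) := by
    rw [hcg, hl, LinearMap.sub_apply, LinearMap.add_apply, hgw, hg'w, sub_smul, add_smul,
      ← one_add_one_eq_two, ← one_add_one_eq_two, add_smul, one_smul]
    rfl
  have hl0 : l ≠ 0 := by
    intro h
    have h1 : Polynomial.aeval c f (w : W) = 0 := w.2
    rw [Module.End.aeval_apply_of_mem_apply_eq_smul hcw, h, smul_eq_zero] at h1
    have h2 : Polynomial.X ∣ f := by
      rw [Polynomial.X_dvd_iff, Polynomial.coeff_zero_eq_eval_zero]
      exact h1.resolve_right hw0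
    exact hfX (Polynomial.irreducible_X.dvd_symm hf h2)
  -- the eigenspace of `c`
  let F : Submodule K W := c.eigenspace l
  have hF : ∀ Y : Module.End K W, Commute Y c → ∀ x ∈ F, Y x ∈ F := by
    intro Y hY x hx
    rw [Module.End.mem_eigenspace_iff] at hx ⊢
    rw [← Module.End.mul_apply, ← hY.eq, Module.End.mul_apply, hx, map_smul]
  have : Nontrivial F := Submodule.nontrivial_iff_ne_bot.mpr
    (Submodule.ne_bot_iff _ |>.mpr ⟨w, Module.End.mem_eigenspace_iff.mpr hcw, hw0⟩)
  obtain ⟨ι, hι, h1, h2⟩ := CL.Quad.exists_plane_of_scalar (A.restrict (hF A hAc))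
    (B.restrict (hF B hBc))
    (fun x => Subtype.ext (by change (A * A) x = 0; rw [hA2]; rfl))
    (fun x => Subtype.ext (by change (B * B) x = 0; rw [hB2]; rfl)) l hl0
    (fun x => Subtype.ext (Module.End.mem_eigenspace_iff.mp x.2))
  have hι' : Function.Injective fun x => (ι x : W) := Subtype.val_injective.comp hι
  have h1' : ∀ x, (ι (CL.Quad.upT l • x) : W) = ρ a' (ι x) := fun x => by
    rw [h1]; change (ι x : W) + A (ι x) = _; rw [hA]; simp
  have h2' : ∀ x, (ι (CL.Quad.loT (1 : K) • x) : W) = ρ b' (ι x) := fun x => by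
    rw [h2]; change (ι x : W) + B (ι x) = _; rw [hB]; simp
  obtain ⟨φ, hφ⟩ := CL.Quad.exists_hom_of_generators (M := Matrix.SpecialLinearGroup (Fin 2) K)
    (fun m m' => CL.Quad.sl_eq_of_smul_eq)
    (fun g v => ρ g v) (fun v => by simp) (fun g h v => by simp) _ hι' {a', b'} hgen (by
      rintro s (rfl | rfl)
      · exact ⟨_, h1'⟩
      · exact ⟨_, h2'⟩)
  have hφa : φ a' = CL.Quad.upT l :=
    CL.Quad.sl_eq_of_smul_eq fun x => hι' (by simp only; rw [hφ, h1'])
  have hφb : φ b' = CL.Quad.loT 1 :=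
    CL.Quad.sl_eq_of_smul_eq fun x => hι' (by simp only; rw [hφ, h2'])
  refine ⟨φ, fun hpg => ?_⟩
  obtain ⟨n, hn⟩ := hpg ⟨φ (a' * b'), ⟨_, rfl⟩⟩
  apply CL.Quad.upT_mul_loT_pow_ne_one (p := p) hl0 one_ne_zero n
  rw [← hφa, ← hφb, ← map_mul]
  exact congrArg Subtype.val hn

end Cfsg.Agent.S0592
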