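import Cfsg.Agent.Base
import Cfsg.Statements.S0594
import Cfsg.Agent.PLocal.QuadStable

set_option autoImplicit false
open Cfsg

namespace Cfsg.Agent.S0594

/-- For odd p, two quadratic generators of a faithful group that is not a p-group, one of which acts nontrivially on a normal subgroup of order prime to p, force p = 3 and a section isomorphic to SL(2,3). -/
theorem result {G : Type*} [Group G] [Finite G] {p : ℕ} [Fact p.Prime] (hp : p ≠ 2) (V H : Subgroup G) (hV : Cfsg.IsElementaryAbelian p V) (hHV : H ≤ Subgroup.normalizer (V : Set G)) (hf : H ⊓ Subgroup.centralizer (V : Set G) = ⊥) (a b : G) (hab : H = Subgroup.closure {a, b}) (ha : ⁅⁅V, Subgroup.zpowers a⁆, Subgroup.zpowers a⁆ = ⊥) (hb : ⁅⁅V, Subgroup.zpowers b⁆, Subgroup.zpowers b⁆ = ⊥) (hnp : ¬ IsPGroup p H) (Q : Subgroup G) (hQH : Q ≤ H) (hQn : H ≤ Subgroup.normalizer (Q : Set G)) (hQ : (Nat.card Q).Coprime p) (hQa : ⁅Q, Subgroup.zpowers a⁆ ≠ ⊥) : p = 3 ∧ ∃ (K L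 : Subgroup G) (hL : (L.subgroupOf K).Normal), K ≤ H ∧ Nonempty ((K ⧸ L.subgroupOf K) ≃* Matrix.SpecialLinearGroup (Fin 2) (ZMod 3)) := by
  have hVp := CL.isPGroup_of_isElementaryAbelian hV
  have haH : a ∈ H := hab ▸ Subgroup.subset_closure (by simp)
  obtain ⟨x, hxQ, hxa⟩ : ∃ x ∈ Q, x * a * x⁻¹ * a⁻¹ ≠ 1 := by
    by_contra hc
    push Not at hc
    apply hQa
    rw [Subgroup.commutator_comm, Subgroup.commutator_eq_bot_iff_le_centralizer,
      Subgroup.zpowers_le, Subgroup.mem_centralizer_iff]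
    intro y hy
    have := hc y hy
    rwa [mul_inv_eq_one, mul_inv_eq_iff_eq_mul] at this
  have hcQ : x * a * x⁻¹ * a⁻¹ ∈ Q := by
    have := (Subgroup.mem_normalizer_iff.mp (hQn haH) x⁻¹).mp (Q.inv_mem hxQ)
    simpa only [mul_assoc] using Q.mul_mem hxQ this
  have hbH : x * a * x⁻¹ ∈ H := H.mul_mem (H.mul_mem (hQH hxQ) haH) (H.inv_mem (hQH hxQ))
  set L : Subgroup G := Subgroup.closure {a, x * a * x⁻¹} with hL
  have hLH : L ≤ H := by
    rw [hL, Subgroup.closure_le]; rintro s (rfl | rfl); exacts [haH, hbH]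
  have hcL : x * a * x⁻¹ * a⁻¹ ∈ L :=
    L.mul_mem (Subgroup.subset_closure (by simp)) (L.inv_mem (Subgroup.subset_closure (by simp)))
  have hinv : CL.Involves L (Matrix.SpecialLinearGroup (Fin 2) (ZMod p)) := by
    refine CL.Quad.involves_sl2_of_faithful_pair hp hVp (hLH.trans hHV)
      (le_bot_iff.mp (hf ▸ inf_le_inf_right _ hLH)) ha
      (CL.Quad.quadratic_conj (hHV (hQH hxQ)) ha) fun hpL => hxa ?_
    obtain ⟨n, hn⟩ := hpL ⟨_, hcL⟩
    have h1 : orderOf (x * a * x⁻¹ * a⁻¹) ∣ p ^ n :=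
      orderOf_dvd_of_pow_eq_one (congrArg Subtype.val hn)
    have h2 : orderOf (x * a * x⁻¹ * a⁻¹) ∣ Nat.card Q := Q.orderOf_dvd_natCard hcQ
    exact orderOf_eq_one_iff.mp (Nat.eq_one_of_dvd_coprimes (hQ.pow_right n) h2 h1)
  have hcomm : ⁅L, L⁆ ≤ Q := by
    have : (Q.subgroupOf H).Normal := Subgroup.normal_subgroupOf_of_le_normalizer hQn
    let π := QuotientGroup.mk' (Q.subgroupOf H)
    have h1 : L ≤ ((Subgroup.zpowers (π ⟨a, haH⟩)).comap π).map H.subtype := by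
      rw [hL, Subgroup.closure_le]
      rintro s (rfl | rfl)
      · exact ⟨⟨s, haH⟩, Subgroup.mem_zpowers _, rfl⟩
      · refine ⟨⟨_, hbH⟩, ?_, rfl⟩
        have : π ⟨_, hbH⟩ = π ⟨a, haH⟩ := by
          rw [← mul_inv_eq_one, ← map_inv, ← map_mul]
          exact (QuotientGroup.eq_one_iff _).mpr hcQ
        change π _ ∈ Subgroup.zpowers _
        rw [this]; exact Subgroup.mem_zpowers _
    rw [Subgroup.commutator_le]
    intro y hy z hz
    obtain ⟨y, ⟨i, hi⟩, rfl⟩ := h1 hy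
    obtain ⟨z, ⟨j, hj⟩, rfl⟩ := h1 hz
    have h2 : π (y * z * y⁻¹ * z⁻¹) = 1 := by
      rw [map_mul, map_mul, map_mul, map_inv, map_inv, ← hi, ← hj]; group
    have h3 : y * z * y⁻¹ * z⁻¹ ∈ Q.subgroupOf H := (QuotientGroup.eq_one_iff _).mp h2
    exact h3
  have hp3 : p = 3 := by
    refine (CL.Quad.prime_eq_three_or_five_le Fact.out hp).resolve_right fun hp5 => ?_
    refine CL.Quad.not_involves_sl2_of_commutator hp5 ?_ hinv
    rw [← CL.card_map_subtype_eq, Subgroup.map_subtype_commutator]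
    exact Nat.Coprime.coprime_dvd_left (Subgroup.card_dvd_of_le hcomm) hQ
  subst hp3
  exact ⟨rfl, (CL.Involves.iff_section_le H).mp (hinv.of_le hLH)⟩

end Cfsg.Agent.S0594
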