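import Cfsg.Agent.Base
import Cfsg.Statements.S0597
import Cfsg.Agent.PLocal.QuadBasic
import Cfsg.Agent.Solv.Core
import Cfsg.Agent.S0538

set_option autoImplicit false
open Cfsg

namespace Cfsg.Agent.S0597

/-- If two subnormal subgroups of a faithful group on an elementary abelian p-group satisfy [V, E₁, E₂] = 1, then their commutator lies in the largest normal p-subgroup. -/
theorem result {G : Type*} [Group G] [Finite G] {p : ℕ} [Fact p.Prime] (V H : Subgroup G) (hV : Cfsg.IsElementaryAbelian p V) (hHV : H ≤ Subgroup.normalizer (V : Set G)) (hf : H ⊓ Subgroup.centralizer (V : Set G) = ⊥) (E₁ E₂ : Subgroup G) (h₁ : E₁ ≤ H) (h₂ : E₂ ≤ H) (hs₁ : (E₁.subgroupOf H).IsSubnormal) (hs₂ : (E₂.subgroupOf H).IsSubnormal) (hc : ⁅⁅V, E₁⁆, E₂⁆ = ⊥) : ⁅E₁, E₂⁆ ≤ (Cfsg.pCore p H).map H.subtype := by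
  set D : Subgroup G := ⁅E₁, E₂⁆ with hD
  have hE : E₁ ⊔ E₂ ≤ H := sup_le h₁ h₂
  have hDE : D ≤ E₁ ⊔ E₂ := Subgroup.commutator_le_sup E₁ E₂
  have hDH : D ≤ H := hDE.trans hE
  -- `D` centralizes `[V, E₁]`
  have h1 : D ≤ Subgroup.centralizer ((⁅V, E₁⁆ : Subgroup G) : Set G) := by
    rw [← Subgroup.commutator_eq_bot_iff_le_centralizer]
    refine Subgroup.commutator_commutator_eq_bot_of_rotate ?_ ?_
    · rw [Subgroup.commutator_comm E₂, hc, Subgroup.commutator_bot_left]
    · rw [eq_bot_iff, ← hc]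
      refine Subgroup.commutator_mono ?_ le_rfl
      exact Subgroup.le_normalizer_iff_commutator_le_left.mp
        (Subgroup.normalizer_commutator_ge_right V E₁)
  -- `[V, D] ≤ [V, E₁]`
  have h2 : ⁅V, D⁆ ≤ ⁅V, E₁⁆ := by
    let W : Subgroup G := ⁅V, E₁⁆
    have hWV : W ≤ V := Subgroup.le_normalizer_iff_commutator_le_left.mp (h₁.trans hHV)
    have hE₂W : ∀ e ∈ E₂, ∀ w ∈ W, e * w * e⁻¹ = w := by
      intro e he w hw
      have := Subgroup.commutator_eq_bot_iff_le_centralizer.mp hc hw e he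
      rw [this, mul_inv_cancel_right]
    let K : Subgroup G :=
      { carrier := {g | g ∈ H ∧ ∀ v ∈ V, g * v * g⁻¹ * v⁻¹ ∈ W}
        one_mem' := ⟨H.one_mem, fun v _ => by simp⟩
        mul_mem' := by
          rintro g h ⟨hg, hg'⟩ ⟨hh, hh'⟩
          refine ⟨H.mul_mem hg hh, fun v hv => ?_⟩
          have hv' := (Subgroup.mem_normalizer_iff.mp (hHV hh) v).mp hv
          have := W.mul_mem (hg' _ hv') (hh' v hv)
          convert this using 1
          group
        inv_mem' := by
          rintro g ⟨hg, hg'⟩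
          refine ⟨H.inv_mem hg, fun v hv => ?_⟩
          have hv' := (Subgroup.mem_normalizer_iff''.mp (hHV hg) v).mp hv
          have := W.inv_mem (hg' _ hv')
          convert this using 1
          group }
    have hE₁K : E₁ ≤ K := fun e he => ⟨h₁ he, fun v hv => by
      change _ ∈ ⁅V, E₁⁆
      rw [Subgroup.commutator_comm]
      exact Subgroup.commutator_mem_commutator he hv⟩
    have hDK : D ≤ K := by
      rw [hD, Subgroup.commutator_le]
      intro e he f hf'
      have h3 : f * e⁻¹ * f⁻¹ ∈ K := by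
        refine ⟨H.mul_mem (H.mul_mem (h₂ hf') (h₁ (E₁.inv_mem he))) (H.inv_mem (h₂ hf')),
          fun v hv => ?_⟩
        have hv' := (Subgroup.mem_normalizer_iff''.mp (hHV (h₂ hf')) v).mp hv
        have h4 := (hE₁K (E₁.inv_mem he)).2 _ hv'
        have h5 := hE₂W f hf' _ h4
        rw [← h5] at h4
        convert h4 using 1
        group
      have := K.mul_mem (hE₁K he) h3
      simpa only [commutatorElement_def, mul_assoc] using this
    rw [Subgroup.commutator_comm, Subgroup.commutator_le]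
    intro d hd v hv
    exact (hDK hd).2 v hv
  have hq : ⁅⁅V, D⁆, D⁆ = ⊥ := by
    rw [Subgroup.commutator_comm, Subgroup.commutator_eq_bot_iff_le_centralizer]
    exact h1.trans (Subgroup.centralizer_le h2)
  have hDp : IsPGroup p D := CL.isPGroup_of_forall_pow_eq_one fun d hd => by
    have : d ^ p ∈ H ⊓ Subgroup.centralizer (V : Set G) := ⟨H.pow_mem (hDH hd) p,
      CL.Quad.pow_mem_centralizer_of_quadratic hV.2 (hHV (hDH hd))
        (CL.Quad.quadratic_zpowers_of_quadratic hq hd)⟩
    rwa [hf, Subgroup.mem_bot] at this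
  have hsub : (D.subgroupOf H).IsSubnormal := by
    have h3 := Cfsg.Agent.S0538.result _ _ hs₁ hs₂
    rw [← Subgroup.subgroupOf_sup h₁ h₂] at h3
    refine Subgroup.IsSubnormal.trans (Subgroup.subgroupOf_mono H hDE) ?_ h3
    refine Subgroup.Normal.isSubnormal (Subgroup.normal_subgroupOf_of_le_normalizer ?_)
    refine le_trans (Subgroup.subgroupOf_mono H (sup_le
      (Subgroup.normalizer_commutator_ge_left E₁ E₂)
      (Subgroup.normalizer_commutator_ge_right E₁ E₂))) ?_
    exact (Subgroup.subgroupOf_normalizer_eq hDH).le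
  rw [← Subgroup.map_subgroupOf_eq_of_le hDH]
  exact Subgroup.map_mono (CL.le_pCore_of_isSubnormal hsub hDp.comap_subtype)

end Cfsg.Agent.S0597
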