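import Cfsg.Agent.Base
import Cfsg.Statements.S0612
import Cfsg.Agent.PLocal.FFBasic

set_option autoImplicit false
open Cfsg

namespace Cfsg.Agent.S0612

/-- In such a faithful group every nontrivial best offender decomposes as a direct product of minimal nontrivially-acting best offenders. -/
theorem result {G : Type*} [Group G] [Finite G] {p : ℕ} [Fact p.Prime] (V H : Subgroup G) (hV : Cfsg.IsElementaryAbelian p V) (hHV : H ≤ Subgroup.normalizer (V : Set G)) (hf : H ⊓ Subgroup.centralizer (V : Set G) = ⊥) (hS1 : Subgroup.centralizer (Cfsg.pPrimeCore p ↥H : Set ↥H) ≤ Cfsg.pPrimeCore p ↥H) (hS3 : H = ⨆ A : {A : Subgroup G // A ≤ H ∧ Cfsg.IsBestOffenderOn p V A}, (A : Subgroup G)) (hH1 : H ≠ ⊥) (A : Subgroup G) (hAH : A ≤ H) (hA : Cfsg.IsBestOffenderOn p V A) (hA1 : A ≠ ⊥) : ∃ (k : ℕ) (B : Fin k → Subgroup G), (∀ i, B i ≤ A ∧ Cfsg.IsBestOffenderOn p V (B i) ∧ ⁅V, B i⁆ ≠ ⊥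 ∧ ∀ C : Subgroup G, C ≤ B i → Cfsg.IsBestOffenderOn p V C → ⁅V, C⁆ ≠ ⊥ → C = B i) ∧ iSupIndep B ∧ ⨆ i, B i = A := by
  have h := CL.FF.hyp_of_pPrimeCore hV hHV hf hS1
  obtain ⟨k, B, hB, h1, h2⟩ := CL.FF.exists_iSupIndep_of_card_prime (p := p)
    (fun B => B ≤ A ∧ CL.FF.TV p V B) (fun B hB => hB.2.card) (A := A)
    (le_antisymm (h.le_of_forall_tv hAH hA fun B hB hB' =>
      le_iSup_of_le (f := fun B : {B // B ≤ A ∧ CL.FF.TV p V B} => B.1) ⟨B, hB, hB'⟩ le_rfl)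
      (iSup_le fun B => B.2.1))
  exact ⟨k, B, fun i => ⟨(hB i).1, (h.min_iff_tv ((hB i).1.trans hAH)).2 (hB i).2⟩, h1, h2⟩

end Cfsg.Agent.S0612
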