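import Cfsg.Agent.Base
import Cfsg.Statements.S0615
import Cfsg.Agent.PLocal.FFSubnormal

set_option autoImplicit false
open Cfsg

namespace Cfsg.Agent.S0615

/-- Two subnormal subgroups acting irreducibly on their incomparable commutator modules, in a faithful group with trivial largest normal p-subgroup, generate their direct product, and the commutator module splits accordingly. -/
theorem result {G : Type*} [Group G] [Finite G] {p : ℕ} [Fact p.Prime] (V E E₁ E₂ : Subgroup G) (hV : Cfsg.IsElementaryAbelian p V) (hEV : E ≤ Subgroup.normalizer (V : Set G)) (hf : E ⊓ Subgroup.centralizer (V : Set G) = ⊥) (hgen : E = E₁ ⊔ E₂) (hs₁ : (E₁.subgroupOf E).IsSubnormal) (hs₂ : (E₂.subgroupOf E).IsSubnormal) (hOp : Cfsg.pCore p ↥E = ⊥) (hirr₁ : (∀ U : Subgroup G, U ≤ ⁅V, E₁⁆ → E₁ ≤ Subgroup.normalizer (U : Set G) → U = ⊥ ∨ U = ⁅V, E₁⁆))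 (hirr₂ : (∀ U : Subgroup G, U ≤ ⁅V, E₂⁆ → E₂ ≤ Subgroup.normalizer (U : Set G) → U = ⊥ ∨ U = ⁅V, E₂⁆)) (h12 : ¬ ⁅V, E₁⁆ ≤ ⁅V, E₂⁆) (h21 : ¬ ⁅V, E₂⁆ ≤ ⁅V, E₁⁆) (hc₁ : 2 < Nat.card E₁) (hc₂ : 2 < Nat.card E₂) : ⁅E₁, E₂⁆ = ⊥ ∧ E₁ ⊓ E₂ = ⊥ ∧ ⁅V, E₁⁆ ⊓ ⁅V, E₂⁆ = ⊥ ∧ ⁅V, E⁆ = ⁅V, E₁⁆ ⊔ ⁅V, E₂⁆ := by
  have h₁ : E₁ ≤ E := hgen ▸ le_sup_left
  have h₂ : E₂ ≤ E := hgen ▸ le_sup_right
  have f₁ : E₁ ⊓ Subgroup.centralizer (V : Set G) = ⊥ :=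
    le_bot_iff.1 (hf ▸ inf_le_inf_right _ h₁)
  have f₂ : E₂ ⊓ Subgroup.centralizer (V : Set G) = ⊥ :=
    le_bot_iff.1 (hf ▸ inf_le_inf_right _ h₂)
  have d₁ : CL.FF.IrrData p V E₁ :=
    ⟨h₁.trans hEV, f₁, CL.FF.noP_of_isSubnormal hOp h₁ hs₁, hirr₁, hc₁⟩
  have d₂ : CL.FF.IrrData p V E₂ :=
    ⟨h₂.trans hEV, f₂, CL.FF.noP_of_isSubnormal hOp h₂ hs₂, hirr₂, hc₂⟩
  obtain ⟨k0, k1, k2⟩ := CL.FF.irr_pair hV E hEV h₁ h₂ hs₁ hs₂ d₁ d₂ h12 h21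
  refine ⟨?_, ?_, k0, ?_⟩
  · rw [eq_bot_iff, ← hf]
    exact le_inf ((Subgroup.commutator_mono h₁ h₂).trans (Subgroup.commutator_le_self E))
      (CL.FF.commutator_le_centralizer_of_cross k1 k2)
  · rw [eq_bot_iff, ← hf]
    refine le_inf (inf_le_left.trans h₁) ?_
    rw [← Subgroup.le_centralizer_iff, ← Subgroup.commutator_eq_bot_iff_le_centralizer,
      eq_bot_iff, ← k0]
    exact le_inf (Subgroup.commutator_mono le_rfl inf_le_left)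
      (Subgroup.commutator_mono le_rfl inf_le_right)
  · rw [hgen]
    exact CL.Offender.commutator_sup_right d₁.norm d₂.norm

end Cfsg.Agent.S0615
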