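import Cfsg.Agent.Base
import Cfsg.Statements.S0617
import Cfsg.Agent.PLocal.FFMain

set_option autoImplicit false
open Cfsg

namespace Cfsg.Agent.S0617

/-- Structure Theorem for failure of factorization: a faithful group generated by best offenders, with self-centralizing p'-core, is a direct product of copies of SL(2, p) (p = 2 or 3), each acting on its own plane in V, which is the direct product of these planes and C_V(H). -/
theorem result {G : Type*} [Group G] [Finite G] {p : ℕ} [Fact p.Prime] (V H : Subgroup G) (hV : Cfsg.IsElementaryAbelian p V) (hHV : H ≤ Subgroup.normalizer (V : Set G)) (hf : H ⊓ Subgroup.centralizer (V : Set G) = ⊥) (hS1 : Subgroup.centralizer (Cfsg.pPrimeCore p ↥H : Set ↥H) ≤ Cfsg.pPrimeCore p ↥H) (hS3 : H = ⨆ A : {A : Subgroup G // A ≤ H ∧ Cfsg.IsBestOffenderOn p V A}, (A : Subgroup G)) (hH1 : H ≠ ⊥) : (p = 2 ∨ p = 3) ∧ (∀ E : {E :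 Subgroup G // ∃ A : Subgroup G, A ≤ H ∧ Cfsg.IsBestOffenderOn p V A ∧ ⁅V, A⁆ ≠ ⊥ ∧ (∀ B : Subgroup G, B ≤ A → Cfsg.IsBestOffenderOn p V B → ⁅V, B⁆ ≠ ⊥ → B = A) ∧ E = ⁅((Cfsg.pPrimeCore p ↥H).map H.subtype), A⁆ ⊔ A}, H ≤ Subgroup.normalizer ((E : Subgroup G) : Set G) ∧ Nonempty (↥(E : Subgroup G) ≃* Matrix.SpecialLinearGroup (Fin 2) (ZMod p)) ∧ Nat.card ↥(⁅V, (E : Subgroup G)⁆) = p ^ 2) ∧ iSupIndep (fun E : {E : Subgroup G // ∃ A : Subgroup G, A ≤ H ∧ Cfsg.IsBestOffenderOn p V A ∧ ⁅V, A⁆ ≠ ⊥ ∧ (∀ B : Subgroup G, B ≤ A → Cfsg.IsBestOffenderOn p V B → ⁅V, B⁆ ≠ ⊥ → B = A) ∧ E = ⁅((Cfsg.pPrimeCore p ↥H).map H.subtype), A⁆ ⊔ A} => (E : Subgroup G)) ∧ (⨆ E : {E : Subgroup G // ∃ A : Subgroup G, A ≤ H ∧ Cfsg.IsBestOffenderOn p V A ∧ ⁅V, A⁆ ≠ ⊥ ∧ (∀ B : Subgroup G, B ≤ A → Cfsg.IsBestOffenderOn p V B → ⁅V, B⁆ ≠ ⊥ → B = A) ∧ E = ⁅((Cfsg.pPrimeCore p ↥H).map H.subtype),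 A⁆ ⊔ A}, (E : Subgroup G)) = H ∧ iSupIndep (fun o : Option {E : Subgroup G // ∃ A : Subgroup G, A ≤ H ∧ Cfsg.IsBestOffenderOn p V A ∧ ⁅V, A⁆ ≠ ⊥ ∧ (∀ B : Subgroup G, B ≤ A → Cfsg.IsBestOffenderOn p V B → ⁅V, B⁆ ≠ ⊥ → B = A) ∧ E = ⁅((Cfsg.pPrimeCore p ↥H).map H.subtype), A⁆ ⊔ A} => o.elim (V ⊓ Subgroup.centralizer (H : Set G)) (fun E => ⁅V, (E : Subgroup G)⁆)) ∧ (V ⊓ Subgroup.centralizer (H : Set G)) ⊔ (⨆ E : {E : Subgroup G // ∃ A : Subgroup G, A ≤ H ∧ Cfsg.IsBestOffenderOn p V A ∧ ⁅V, A⁆ ≠ ⊥ ∧ (∀ B : Subgroup G, B ≤ A → Cfsg.IsBestOffenderOn p V B → ⁅V, B⁆ ≠ ⊥ → B = A) ∧ E = ⁅((Cfsg.pPrimeCore p ↥H).map H.subtype), A⁆ ⊔ A}, ⁅V, (E : Subgroup G)⁆) = V := by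
  have h := CL.FF.ghyp_of_pPrimeCore hV hHV hf hS1 hS3
  have k := h.toHyp
  obtain ⟨E₀, d₀⟩ := h.exists_factor hH1
  have hdec := h.decomposition (W := ⨆ E : {E : Subgroup G // ∃ A : Subgroup G, A ≤ H ∧
      Cfsg.IsBestOffenderOn p V A ∧ ⁅V, A⁆ ≠ ⊥ ∧ (∀ B : Subgroup G, B ≤ A →
        Cfsg.IsBestOffenderOn p V B → ⁅V, B⁆ ≠ ⊥ → B = A) ∧
        E = ⁅((Cfsg.pPrimeCore p ↥H).map H.subtype), A⁆ ⊔ A}, ⁅V, (E : Subgroup G)⁆) fun K =>
    ⟨fun hK E hE => le_trans (le_iSup_of_le ⟨E, k.factor_iff.2 hE⟩ le_rfl) hK,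
      fun hK => iSup_le fun E => hK _ (k.factor_iff.1 E.2)⟩
  refine ⟨k.factor_two_or_three d₀, fun E => ?_, fun E => ?_, ?_, fun o => ?_, hdec.2⟩
  · have d := k.factor_iff.1 E.2
    exact ⟨h.le_normalizer_factor d, (k.factor_data d).iso, (k.factor_data d).card_comm⟩
  · have d := k.factor_iff.1 E.2
    rw [disjoint_iff]
    refine (k.factor_data d).eq_bot inf_le_left (inf_le_right.trans (iSup₂_le fun E' hne => ?_))
    exact Subgroup.le_centralizer_iff.1 (k.factor_commutator_le d (k.factor_iff.1 E'.2)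
      fun e => hne (Subtype.ext e.symm))
  · exact le_antisymm (iSup_le fun E => k.factor_le (k.factor_iff.1 E.2))
      (h.le_of_forall_factor fun E hE => le_iSup_of_le ⟨E, k.factor_iff.2 hE⟩ le_rfl)
  · rw [disjoint_iff, eq_bot_iff]
    rcases o with _ | E
    · refine le_trans (inf_le_inf le_rfl (iSup₂_le fun o ho => ?_)) hdec.1.le
      rcases o with _ | E'
      · exact absurd rfl ho
      · exact le_iSup_of_le E' le_rfl
    · have d := k.factor_iff.1 E.2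
      refine le_trans (inf_le_inf le_rfl (iSup₂_le fun o ho => ?_)) (k.factor_data d).inf_eq.le
      rcases o with _ | E'
      · exact inf_le_right.trans (CL.EA.centralizer_anti (k.factor_le d))
      · exact k.factor_commutator_le (k.factor_iff.1 E'.2) d
          fun e => ho (congrArg some (Subtype.ext e))

end Cfsg.Agent.S0617
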