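import Cfsg.Agent.Base
import Cfsg.Statements.S0620
import Cfsg.Agent.PLocal.FFAction

set_option autoImplicit false
open Cfsg

namespace Cfsg.Agent.S0620

/-- Under coprime action of an elementary abelian q-group X on a p-separable group K with trivial p'-core, K is generated by the normalizer of J(S), the centralizer of Ω₁(Z(S)) and the fixed points of X. -/
theorem result {G : Type*} [Group G] [Finite G] {p : ℕ} [Fact p.Prime] {q : ℕ} [Fact q.Prime] (K X : Subgroup G) (hXK : X ≤ Subgroup.normalizer (K : Set G)) (hX : Cfsg.IsElementaryAbelian q X) (hq : ¬ q ∣ Nat.card K) (hsep : Cfsg.IsPSolvable p ↥K) (hO : Cfsg.pPrimeCore p ↥K = ⊥) (S : Sylow p ↥K) : (Subgroup.normalizer (Cfsg.thompsonSubgroupOf p (S : Subgroup ↥K) : Set ↥K) ⊔ Subgroup.centralizer (Cfsg.omegaOne p ((S : Subgroup ↥K) ⊓ Subgroup.centralizer ((S : Subgroup ↥K) : Set ↥K)) : Set ↥K) ⊔ (Subgroup.centralizer (X : Set G)).subgroupOf K) = ⊤ := by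
  have hi := Subgroup.inclusion_injective (Subgroup.le_normalizer (H := K))
  have : (Subgroup.inclusion (Subgroup.le_normalizer (H := K))).range.Normal := by
    rw [Subgroup.inclusion_range]
    exact Subgroup.normal_in_normalizer
  have hX' := CL.EA.subgroupOf hX (Subgroup.normalizer (K : Set G))
  have h := CL.FF.sup_fixed_eq_top (X := X.subgroupOf (Subgroup.normalizer (K : Set G))) hi hsep hO
    (CL.FF.coprime_card_of_isPGroup (CL.EA.isPGroup hX')
      ((Nat.Prime.coprime_iff_not_dvd Fact.out).2 hq).symm)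
    (CL.FF.isSolvable_of_isPGroup (CL.EA.isPGroup hX')) S
  rw [eq_top_iff, ← h]
  refine sup_le_sup_left (fun k hk => ?_) _
  rw [Subgroup.mem_subgroupOf, Subgroup.mem_centralizer_iff]
  intro x hx
  exact congrArg Subtype.val (Subgroup.mem_centralizer_iff.1 hk ⟨x, hXK hx⟩ hx)

end Cfsg.Agent.S0620
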