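import Cfsg.Agent.Base
import Cfsg.Statements.S0621
import Cfsg.Agent.PLocal.FFAction

set_option autoImplicit false
open Cfsg

namespace Cfsg.Agent.S0621

/-- Let K be p-separable with O_p'(K) = 1, normalized by an elementary abelian q-group X for a prime q not dividing the order of K. If the Thompson factorization fails in K, then p is 2 or 3 and the fixed points of X contain a plane W of order p² and a subgroup inducing SL(2, p) on it. -/
theorem result {G : Type*} [Group G] [Finite G] {p : ℕ} [Fact p.Prime] {q : ℕ} [Fact q.Prime] (K X : Subgroup G) (hXK : X ≤ Subgroup.normalizer (K : Set G)) (hX : Cfsg.IsElementaryAbelian q X) (hq : ¬ q ∣ Nat.card K) (hsep : Cfsg.IsPSolvable p ↥K) (hO : Cfsg.pPrimeCore p ↥K = ⊥) (hnf : ¬ Cfsg.IsThompsonFactorizable p ↥K) : (p = 2 ∨ p = 3) ∧ ∃ W D : Subgroup G, W ≤ K ⊓ Subgroup.centralizer (X : Set G) ∧ D ≤ K ⊓ Subgroup.centralizer (X : Set G) ∧ Cfsg.IsElementaryAbelian p W ∧ Nat.card W = p ^ 2 ∧ D ≤ Subgroup.normalizer (W : Set G) ∧ ∃ hn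 : ((Subgroup.centralizer (W : Set G)).subgroupOf D).Normal, Nonempty ((↥D ⧸ (Subgroup.centralizer (W : Set G)).subgroupOf D) ≃* Matrix.SpecialLinearGroup (Fin 2) (ZMod p)) := by
  set N := Subgroup.normalizer (K : Set G) with hN
  have hi := Subgroup.inclusion_injective (Subgroup.le_normalizer (H := K))
  have : (Subgroup.inclusion (Subgroup.le_normalizer (H := K))).range.Normal := by
    rw [Subgroup.inclusion_range]
    exact Subgroup.normal_in_normalizer
  have hX' := CL.EA.subgroupOf hX N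
  obtain ⟨h1, W, D, h2, h3, h4, h5, h6, φ, hφ, hker⟩ :=
    CL.FF.exists_fixed_plane (X := X.subgroupOf N) hi hsep hO
    (CL.FF.coprime_card_of_isPGroup (CL.EA.isPGroup hX')
      ((Nat.Prime.coprime_iff_not_dvd Fact.out).2 hq).symm)
    (CL.FF.isSolvable_of_isPGroup (CL.EA.isPGroup hX')) hnf
  have key : ∀ U : Subgroup N, U ≤ (Subgroup.inclusion (Subgroup.le_normalizer (H := K))).range ⊓
      Subgroup.centralizer (X.subgroupOf N : Set N) →
      U.map N.subtype ≤ K ⊓ Subgroup.centralizer (X : Set G) := by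
    rintro U hU _ ⟨u, hu, rfl⟩
    obtain ⟨⟨k, rfl⟩, hc⟩ := hU hu
    refine ⟨k.2, Subgroup.mem_centralizer_iff.2 fun x hx => ?_⟩
    exact congrArg Subtype.val (Subgroup.mem_centralizer_iff.1 hc ⟨x, hXK hx⟩ hx)
  let e := D.equivMapOfInjective N.subtype N.subtype_injective
  refine ⟨h1, W.map N.subtype, D.map N.subtype, key W h2, key D h3, CL.EA.map h4 _,
    by rw [CL.card_map_subtype, h5],
    (Subgroup.map_mono h6).trans (Subgroup.le_normalizer_map _),
    CL.FF.exists_quotient_equiv (φ.comp e.symm.toMonoidHom) (hφ.comp e.symm.surjective) fun d => ?_⟩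
  obtain ⟨d, rfl⟩ := e.surjective d
  change φ (e.symm (e d)) = 1 ↔ ((d : N) : G) ∈ _
  rw [e.symm_apply_apply, hker, Subgroup.mem_centralizer_iff, Subgroup.mem_centralizer_iff]
  constructor
  · rintro h _ ⟨w, hw, rfl⟩
    exact congrArg Subtype.val (h w hw)
  · exact fun h w hw => Subtype.ext (h _ ⟨w, hw, rfl⟩)

end Cfsg.Agent.S0621
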