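import Cfsg.Statements.S0627
import Cfsg.Agent.Base
import Cfsg.Agent.PLocal.WSNormal
import Cfsg.Agent.S0625

set_option autoImplicit false
open Cfsg

namespace Cfsg.Agent.S0627

/-- In a p-separable group with p at least 5, the normalizer of W(S) supplements the largest normal subgroup of order prime to p. -/
theorem result {G : Type*} [Group G] [Finite G] {p : ℕ} [Fact p.Prime] (hp : 5 ≤ p) (hsep : Cfsg.IsPSolvable p G) (S : Sylow p G) : Cfsg.pPrimeCore p G ⊔ Subgroup.normalizer (((Cfsg.stableNormalClosure p ↥(S : Subgroup G)).map (S : Subgroup G).subtype) : Set G) = ⊤ := by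
  let π := QuotientGroup.mk' (pPrimeCore p G)
  have hπ : Function.Surjective π := QuotientGroup.mk'_surjective _
  have hk : (Nat.card π.ker).Coprime p := by
    rw [QuotientGroup.ker_mk']; exact CL.PL.pPrimeCore_coprime p G
  have hn := CL.PL.ws_normal_of_actionPStable
    (Cfsg.Agent.S0625.result hp (CL.PL.isPSolvable_quotient hsep (pPrimeCore p G)))
    (CL.PL.isPConstrained_iff.1 (CL.PL.isPConstrained_of_isPSolvable hsep)) (S.mapSurjective hπ)
  have hb : Function.Bijective (π.subgroupMap (S : Subgroup G)) := by
    refine ⟨?_, π.subgroupMap_surjective _⟩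
    rw [← MonoidHom.ker_eq_bot_iff, CL.PL.ker_subgroupMap, Subgroup.subgroupOf_eq_bot,
      disjoint_iff, inf_comm]
    exact CL.PL.inf_ker_eq_bot π hk S.isPGroup'
  have he := CL.PL.map_ws_equiv (p := p) (MulEquiv.ofBijective _ hb)
  have h := CL.PL.ker_sup_normalizer_eq_top π hk
    (P := (stableNormalClosure p (S : Subgroup G)).map (S : Subgroup G).subtype)
    (S.isPGroup'.to_le (Subgroup.map_subtype_le _)) (by
      convert hn using 1
      erw [← he]
      rw [Subgroup.map_map]
      exact (Subgroup.map_map _ ((S : Subgroup G).map π).subtype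
        (π.subgroupMap (S : Subgroup G))).symm)
  rwa [QuotientGroup.ker_mk'] at h

end Cfsg.Agent.S0627
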