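import Cfsg.Statements.S0628
import Cfsg.Agent.Base
import Cfsg.Agent.PLocal.WSNormal
import Cfsg.Agent.PLocal.QuadStable
import Cfsg.Agent.Transfer.FunctorPCompl

set_option autoImplicit false
open Cfsg

namespace Cfsg.Agent.S0628

/-- The normal p-complement Theorem of Thompson in the form with W(S): for odd p, G has a normal p-complement as soon as the normalizer of the characteristic subgroup W(S) of a Sylow p-subgroup S has one. -/
theorem result {G : Type*} [Group G] [Finite G] {p : ℕ} [Fact p.Prime] (hp : p ≠ 2) (S : Sylow p G) (hN : Cfsg.HasNormalPComplement p ↥(Subgroup.normalizer (((Cfsg.stableNormalClosure p ↥(S : Subgroup G)).map (S : Subgroup G).subtype) : Set G))) : Cfsg.HasNormalPComplement p G := by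
  have hW := CL.Transfer.isCharFunctor_of_natural p (fun P _ => Cfsg.stableNormalClosure p P)
    (fun P Q _ _ _ _ _ e => CL.PL.map_ws_equiv e) (fun P _ _ _ hP => CL.PL.ws_ne_bot hP)
  refine CL.Transfer.hasNormalPComplement_of_charFunctor hW (fun H _ _ T hT => ?_) G S hN
  exact CL.PL.ws_normal_of_actionPStable
    (CL.Quad.isActionPStable_of_not_involves_qd hp (CL.Quad.not_involves_qd_of_sl2
      (CL.Quad.not_involves_sl2_of_sylow_two hp (hT.sylow_two_comm hp)))) hT.centralizer_le T

end Cfsg.Agent.S0628
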