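import Cfsg.Statements.S0633
import Cfsg.Agent.Base
import Cfsg.Agent.PLocal.HHMain

set_option autoImplicit false
open Cfsg

namespace Cfsg.Agent.S0633

/-- Theorem B of Hall and Higman on the minimal polynomial of a p-element of order p^n in a p-solvable linear group on a nonzero vector space in characteristic p with no nontrivial normal p-subgroup: its degree is p^n, except when some p^n₀ - 1 (n₀ ≤ n) is a power of a prime q for which the Sylow q-subgroups are non-abelian, in which case the degree is at least p^(n-n₀)(p^n₀ - 1). -/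
theorem result {F : Type*} [Field F] {p : ℕ} [Fact p.Prime] [CharP F p] {V : Type*} [AddCommGroup V] [Module F V] [FiniteDimensional F V] [Nontrivial V] (H : Subgroup (V ≃ₗ[F] V)) [Finite H] (hsol : Cfsg.IsPSolvable p H) (hOp : Cfsg.pCore p H = ⊥) (x : V ≃ₗ[F] V) (hx : x ∈ H) (n : ℕ) (hn : orderOf x = p ^ n) (r : ℕ) (hr : minpoly F (x : Module.End F V) = (Polynomial.X - 1) ^ r) : r = p ^ n ∨ ∃ n₀ q m : ℕ, 1 ≤ n₀ ∧ n₀ ≤ n ∧ q.Prime ∧ 1 ≤ m ∧ p ^ n₀ - 1 = q ^ m ∧ (∀ Q : Sylow q H, ¬ IsMulCommutative Q) ∧ p ^ (n - n₀) * (p ^ n₀ - 1) ≤ r := by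
  classical
  have hp : p.Prime := Fact.out
  let τ : (V ≃ₗ[F] V) →* Module.End F V := LinearEquiv.automorphismGroup.toLinearMapMonoidHom
  have hτ : ∀ y : V ≃ₗ[F] V, τ y = (y : Module.End F V) := fun _ => rfl
  have hmon : (Polynomial.X - 1 : Polynomial F).Monic := by
    simpa using Polynomial.monic_X_sub_C (1 : F)
  have hdeg : ((Polynomial.X - 1 : Polynomial F)).natDegree = 1 := by
    simpa using Polynomial.natDegree_X_sub_C (1 : F)
  have hxr : ((x : Module.End F V) - 1) ^ r = 0 := by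
    have := minpoly.aeval F (x : Module.End F V)
    rw [hr] at this
    simpa using this
  have hrle : r ≤ p ^ n := by
    have h1 : Polynomial.aeval (x : Module.End F V) ((Polynomial.X - 1 : Polynomial F) ^ p ^ n) = 0 := by
      rw [map_pow, map_sub, Polynomial.aeval_X, map_one, CL.PL.sub_one_pow_char_pow F, ← hτ,
        ← map_pow, ← hn, pow_orderOf_eq_one, map_one, sub_self]
    have h2 := Polynomial.natDegree_le_of_dvd (minpoly.dvd F _ h1) (hmon.pow _).ne_zero
    rwa [hr, hmon.natDegree_pow, hmon.natDegree_pow, hdeg, mul_one, mul_one] at h2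
  have hr0 : r ≠ 0 := by
    rintro rfl
    rw [pow_zero] at hxr
    exact one_ne_zero hxr
  rcases n with _ | n
  · left; rw [pow_zero] at hrle ⊢; omega
  let x' : H := ⟨x, hx⟩
  have hx' : orderOf x' = p ^ (n + 1) := by rw [← hn]; exact (Subgroup.orderOf_coe x').symm
  obtain ⟨q, Q, hq, hQq, hQ1, hQp, hxQ, hcl, hgen, hC⟩ :=
    CL.PL.exists_hallHigman_subgroup hsol hOp hx'
  let K := AlgebraicClosure F
  let β := Module.End.baseChangeHom F K V
  have hβ : Function.Injective β := LinearMap.baseChangeHom_injective F V K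
  let ρ : H →* Module.End K (TensorProduct F K V) := (β.toMonoidHom.comp τ).comp H.subtype
  have hρ : ∀ k : ℕ, (ρ x' - 1) ^ k ≠ 0 → k < r := fun k hk => by
    by_contra hc
    obtain ⟨j, rfl⟩ := Nat.exists_eq_add_of_le (not_lt.1 hc)
    apply hk
    have : ρ x' = β (x : Module.End F V) := rfl
    rw [this, ← map_one β, ← map_sub β, ← map_pow β, pow_add, hxr, zero_mul, map_zero]
  obtain ⟨⟨k₀, hk₀⟩, hk1⟩ := Subgroup.ne_bot_iff_exists_ne_one.1 hQ1
  have hne : ρ k₀ ≠ 1 := fun e => hk1 (by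
    have h1 : β (τ k₀) = β 1 := by rw [map_one]; exact e
    have h2 := hβ h1
    exact Subtype.ext (Subtype.ext (LinearEquiv.ext fun v => LinearMap.congr_fun h2 v)))
  rcases CL.PL.hallHigman_class_two (ρ := ρ) hx' hQp hxQ hcl hgen hC hk₀ hne with
    h | ⟨m, hm1, hmn, hdvd, hne1, hna, h⟩
  · left
    have := hρ _ h
    omega
  · right
    have := Fact.mk hq
    obtain ⟨k, hk⟩ := hQq.exists_card_eq
    obtain ⟨j, -, hj⟩ := (Nat.dvd_prime_pow hq).1 ((Dvd.intro _ (pow_two _).symm).trans (hk ▸ hdvd))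
    refine ⟨m, q, j, hm1, hmn, hq, ?_, hj, fun S hS => hna ?_, ?_⟩
    · rcases j with _ | j
      · exact absurd (hj.trans (pow_zero q)) hne1
      · omega
    · obtain ⟨S', hS'⟩ := hQq.exists_le_sylow
      have e := Sylow.equiv S' S
      have : IsMulCommutative S' := ⟨⟨fun a b => e.injective (by
        rw [map_mul, map_mul]; exact hS.is_comm.comm _ _)⟩⟩
      exact ⟨⟨fun a b => Subtype.ext (congrArg (fun y : S' => (y : H))
        (this.is_comm.comm (⟨a, hS' a.2⟩ : S') ⟨b, hS' b.2⟩))⟩⟩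
    · have := hρ _ h
      omega

end Cfsg.Agent.S0633
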