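import Cfsg.Statements.S0635
import Cfsg.Agent.Base
import Cfsg.Agent.PLocal.UpperP

set_option autoImplicit false
open Cfsg

namespace Cfsg.Agent.S0635

/-- The p-length of a p-soluble group is at most the nilpotency class of its Sylow p-subgroups. -/
theorem result {G : Type*} [Group G] [Finite G] {p : ℕ} [Fact p.Prime] (hsol : Cfsg.IsPSolvable p G) (S : Sylow p G) : Cfsg.PLengthLE p (Group.nilpotencyClass ↥(S : Subgroup G)) G := by
  have hn : Group.IsNilpotent (S : Subgroup G) := S.isPGroup'.isNilpotent
  have key : ∀ k : ℕ, ∀ x ∈ Subgroup.upperCentralSeries (S : Subgroup G) k,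
      (x : G) ∈ (upperPSeries p G (2 * k)).1 := by
    intro k
    induction k with
    | zero =>
      intro x hx
      rw [Subgroup.upperCentralSeries_zero, Subgroup.mem_bot] at hx
      rw [hx]
      exact one_mem _
    | succ k ih =>
      intro x hx
      refine CL.PL.mem_upperPSeries_of_commutator_mem hsol S k fun s hs => ?_
      have h1 := ih _ (Subgroup.mem_upperCentralSeries_succ_iff.1 hx ⟨s, hs⟩)
      rw [← commutatorElement_inv]
      exact inv_mem (CL.PL.upperPSeries_le_succ _ h1)
  refine CL.PL.pLengthLE_of_sylow_le S fun x hx => key _ ⟨x, hx⟩ ?_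
  rw [Subgroup.upperCentralSeries_nilpotencyClass]
  trivial

end Cfsg.Agent.S0635
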