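import Cfsg.Statements.S0647
import Cfsg.Agent.PLocal.ZJComm

set_option autoImplicit false
open Cfsg

namespace Cfsg.Agent.S0647

/-- For a nonempty family of maximal abelian subgroups of a finite group, the intersection of the family is the centre of the subgroup it generates, which is also the full centralizer of that subgroup. -/
theorem result {S : Type*} [Group S] [Finite S] (𝒜 : Set (Subgroup S)) (hne : 𝒜.Nonempty) (hab : ∀ A ∈ 𝒜, IsMulCommutative A) (hmax : ∀ A ∈ 𝒜, ∀ B : Subgroup S, IsMulCommutative B → A ≤ B → B = A) : sInf 𝒜 = sSup 𝒜 ⊓ Subgroup.centralizer ((sSup 𝒜 : Subgroup S) : Set S) ∧ sInf 𝒜 = Subgroup.centralizer ((sSup 𝒜 : Subgroup S) : Set S) := by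
  have hC : ∀ A ∈ 𝒜, Subgroup.centralizer (A : Set S) = A := by
    intro A hA
    refine le_antisymm (fun x hx => ?_) (Subgroup.le_centralizer_iff_isMulCommutative.mpr (hab A hA))
    have h1 : IsMulCommutative ↥(A ⊔ Subgroup.zpowers x) :=
      CL.ZJ.isMulCommutative_sup (hab A hA) inferInstance
        (Subgroup.le_centralizer_iff.mp (Subgroup.zpowers_le.mpr hx))
    rw [← hmax A hA _ h1 le_sup_left]
    exact Subgroup.mem_sup_right (Subgroup.mem_zpowers x)
  have h2 : sInf 𝒜 = Subgroup.centralizer ((sSup 𝒜 : Subgroup S) : Set S) := by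
    rw [CL.ZJ.centralizer_sSup, sInf_eq_iInf]
    exact iInf_congr fun A => iInf_congr fun hA => (hC A hA).symm
  refine ⟨?_, h2⟩
  rw [← h2]
  obtain ⟨A, hA⟩ := hne
  exact (inf_eq_right.mpr ((sInf_le hA).trans (le_sSup hA))).symm

end Cfsg.Agent.S0647
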