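import Cfsg.Statements.S0653
import Cfsg.Agent.PLocal.ZJTheorem

set_option autoImplicit false
open Cfsg

namespace Cfsg.Agent.S0653

/-- Glauberman's ZJ-Theorem: for odd p, if the largest normal p-subgroup of G contains its centralizer and G acts p-stably on every normal p-subgroup, then the centre of the abelian-version Thompson subgroup of a Sylow p-subgroup is a characteristic subgroup of G. -/
theorem result {G : Type*} [Group G] [Finite G] {p : ℕ} [Fact p.Prime] (hp : p ≠ 2) (hc : Subgroup.centralizer (Cfsg.pCore p G : Set G) ≤ Cfsg.pCore p G) (hst : ∀ (P : Subgroup G) [P.Normal], IsPGroup p P → Cfsg.IsPStableOn p P) (S : Sylow p G) : (Cfsg.centerThompsonAOf ((S : Subgroup G))).Characteristic := by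
  rw [← CL.ZJ.ZJ_zero_eq_centerThompsonAOf]
  exact CL.ZJ.Z_characteristic_of_normal S
    (CL.ZJ.Z_normal hp (Or.inl rfl) (CL.ZJ.stab_of_isPStableOn hst) hc S)

end Cfsg.Agent.S0653
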