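import Cfsg.Statements.S0659
import Cfsg.Agent.PLocal.ZJConstrained
import Cfsg.Agent.PLocal.QuadStable
import Cfsg.Agent.Transfer.FunctorPCompl

set_option autoImplicit false
open Cfsg

namespace Cfsg.Agent.S0659

/-- Glauberman's normal p-complement Theorem with the abelian-version Thompson subgroup: for odd p, G has a normal p-complement whenever the normalizer of Z(J(P)) does. -/
theorem result {G : Type*} [Group G] [Finite G] {p : ℕ} [Fact p.Prime] (hp : p ≠ 2) (P : Sylow p G) (hN : Cfsg.HasNormalPComplement p ↥(Subgroup.normalizer (Cfsg.centerThompsonAOf ((P : Subgroup G)) : Set G))) : Cfsg.HasNormalPComplement p G := by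
  rw [← CL.ZJ.ZJ_zero_eq_centerThompsonAOf] at hN
  refine CL.Transfer.hasNormalPComplement_of_charFunctor (p := p)
    (W := fun {G} [Group G] (T : Subgroup G) => CL.ZJ.Z 0 T) ⟨fun T _ => CL.ZJ.ZJ_le,
      fun f T _ hk => (CL.ZJ.Z_map_of_disjoint (by rwa [inf_comm])).symm,
      fun T hT hne => CL.ZJ.Z_ne_bot (Or.inl rfl) hT hne⟩ (fun G _ _ S hS => ?_) G P hN
  exact CL.ZJ.Z_normal hp (Or.inl rfl) (CL.Quad.stab_of_sylow_two hp (hS.sylow_two_comm hp))
    hS.centralizer_le S

end Cfsg.Agent.S0659
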