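import Cfsg.Statements.S0662
import Cfsg.Agent.PGrp.ClassBound

set_option autoImplicit false
open Cfsg

namespace Cfsg.Agent.S0662

open CL.PGrp.Chain

/-- In a p-group of maximal class of order at least p³ the normal subgroups of index at least p² are exactly the terms of the lower central series, and there are exactly p + 1 normal subgroups of index p. -/
theorem result {G : Type*} [Group G] [Finite G] {p : ℕ} [Fact p.Prime] (n : ℕ) (hG : Nat.card G = p ^ n) (hcl : Group.nilpotencyClass G = n - 1) (hn : 3 ≤ n) : (∀ (N : Subgroup G) [N.Normal] (r : ℕ), 2 ≤ r → N.index = p ^ r → N = (⊤ : Subgroup G).lowerCentralSeries (r - 1)) ∧ Nat.card {N : Subgroup G // N.Normal ∧ N.index = p} = p + 1 := by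
  have hp : p.Prime := Fact.out
  have hP : IsPGroup p G := IsPGroup.of_card hG
  have hnil := hP.isNilpotent
  obtain ⟨n, rfl⟩ : ∃ k, n = k + 3 := ⟨n - 3, by omega⟩
  have hne : (⊤ : Subgroup G).lowerCentralSeries (n + 1) ≠ ⊥ := by
    rw [Ne, Subgroup.lowerCentralSeries_eq_bot_iff_nilpotencyClass_le, hcl]
    omega
  have hlow : ∀ i d : ℕ, i + d = n + 2 →
      p ^ d ≤ Nat.card ((⊤ : Subgroup G).lowerCentralSeries i) := by
    intro i d hid
    rcases Nat.eq_zero_or_pos d with rfl | hd
    · exact Nat.card_pos
    obtain ⟨d, rfl⟩ : ∃ j, d = j + 1 := ⟨d - 1, by omega⟩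
    rw [lowerCentralSeries_eq_iterCommutator] at hne ⊢
    have h2 := pow_mul_card_iterCommutator_le (hP.to_subgroup ⊤) (hP.to_subgroup ⊤)
      Subgroup.le_normalizer i d (by rwa [show i + d = n + 1 by omega])
    exact (Nat.le_mul_of_pos_right _ Nat.card_pos).trans h2
  constructor
  · intro N _ r hr hN
    obtain ⟨r, rfl⟩ : ∃ k, r = k + 2 := ⟨r - 2, by omega⟩
    have h1 := lowerCentralSeries_le_of_index_le hP hN.le
    have h2 := N.index_mul_card
    have h3 : r + 2 ≤ n + 3 := by
      rw [← Nat.pow_dvd_pow_iff_le_right hp.one_lt, ← hG, ← hN]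
      exact N.index_dvd_card
    obtain ⟨d, hd⟩ := Nat.exists_eq_add_of_le h3
    rw [hN, hG, hd, pow_add _ (r + 2)] at h2
    symm
    apply Subgroup.eq_of_le_of_card_ge h1
    rw [Nat.eq_of_mul_eq_mul_left (pow_pos hp.pos _) h2]
    exact hlow _ _ (by omega)
  · have hnc : ¬ IsCyclic G := fun hc => hne (le_bot_iff.1 (by
      have h1 : (⊤ : Subgroup G).lowerCentralSeries 1 = ⊥ := by
        rw [Subgroup.top_lowerCentralSeries_one]; exact commutator_eq_bot G
      exact h1 ▸ Subgroup.lowerCentralSeries_antitone _ (by omega)))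
    have h1 := sq_mul_card_commutator_le hP hnc
    have h2 := hlow 1 (n + 1) (by omega)
    rw [Subgroup.top_lowerCentralSeries_one] at h2
    have h3 : Nat.card (commutator G) = p ^ (n + 1) := by
      apply le_antisymm _ h2
      rw [hG, show n + 3 = 2 + (n + 1) by omega, pow_add _ 2] at h1
      exact Nat.le_of_mul_le_mul_left h1 (pow_pos hp.pos _)
    have h4 : Nat.card (G ⧸ commutator G) = p ^ 2 := by
      have := (commutator G).index_mul_card
      rw [h3, hG, show n + 3 = 2 + (n + 1) by omega, pow_add _ 2] at this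
      exact Nat.eq_of_mul_eq_mul_right (pow_pos hp.pos _) this
    have h5 : ¬ IsCyclic (G ⧸ commutator G) := fun h => hnc (isCyclic_of_quotient hP le_rfl h)
    rw [← card_subgroups_of_card_sq h4 h5]
    have hsurj := QuotientGroup.mk'_surjective (commutator G)
    have hidx : ∀ H : Subgroup (G ⧸ commutator G), Nat.card H = p ↔ H.index = p := by
      intro H
      have := H.index_mul_card
      rw [h4, sq] at this
      constructor
      · intro h
        rw [h] at this
        exact Nat.eq_of_mul_eq_mul_right hp.pos this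
      · intro h
        rw [h] at this
        exact Nat.eq_of_mul_eq_mul_left hp.pos this
    symm
    refine Nat.card_congr (Equiv.ofBijective (fun H => ⟨H.1.comap (QuotientGroup.mk' _),
      Subgroup.Normal.of_commutator_le G ?_, ?_⟩) ⟨?_, ?_⟩)
    · intro x hx
      rw [Subgroup.mem_comap, QuotientGroup.mk'_apply, (QuotientGroup.eq_one_iff x).2 hx]
      exact H.1.one_mem
    · rw [Subgroup.index_comap_of_surjective _ hsurj, ← hidx, H.2]
    · intro H K hHK
      exact Subtype.ext (Subgroup.comap_injective hsurj (congrArg Subtype.val hHK))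
    · rintro ⟨N, hN, hNi⟩
      have h6 : commutator G ≤ N := commutator_le_of_index_le_sq hP (by
        rw [hNi, sq]; exact Nat.le_mul_self p)
      have h7 : (N.map (QuotientGroup.mk' (commutator G))).comap (QuotientGroup.mk' _) = N :=
        Subgroup.comap_map_eq_self (by rwa [QuotientGroup.ker_mk'])
      refine ⟨⟨N.map (QuotientGroup.mk' _), ?_⟩, Subtype.ext h7⟩
      rw [hidx, ← Subgroup.index_comap_of_surjective _ hsurj, h7, hNi]

end Cfsg.Agent.S0662
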