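import Cfsg.Statements.S0663
import Cfsg.Agent.PGrp.Uniserial

set_option autoImplicit false
open Cfsg

namespace Cfsg.Agent.S0663

open Subgroup CL.PGrp.Chain

section
variable {L : Type*} [Group L] [Finite L] {p : ℕ} [hp : Fact p.Prime] {N G : Subgroup L}

omit [Finite L] in
theorem card_mul_relIndex {K H : Subgroup L} (h : K ≤ H) :
    Nat.card K * K.relIndex H = Nat.card H := by
  rw [← Nat.card_congr (subgroupOfEquivOfLe h).toEquiv]
  exact (K.subgroupOf H).card_mul_index

theorem card_of_ne_bot (hN : IsPGroup p N) (hG : IsPGroup p G)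
    (hGN : G ≤ normalizer (N : Set L)) {n : ℕ} (hn : Nat.card N = p ^ n)
    (h : Cfsg.iterCommutator N G (n - 1) ≠ ⊥ ∨ n = 0) (i : ℕ) (hi : i ≤ n) :
    Nat.card (Cfsg.iterCommutator N G i) = p ^ (n - i) := by
  rcases Nat.eq_zero_or_pos i with rfl | hi0
  · exact hn
  have h' : Cfsg.iterCommutator N G (n - 1) ≠ ⊥ := h.resolve_right (by omega)
  obtain ⟨d, rfl⟩ := Nat.exists_eq_add_of_le hi
  obtain ⟨i, rfl⟩ : ∃ j, i = j + 1 := ⟨i - 1, by omega⟩
  rw [Nat.add_sub_cancel_left]
  apply le_antisymm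
  · have h1 : Cfsg.iterCommutator N G (0 + i) ≠ ⊥ := fun e => h' (le_bot_iff.1
      (e ▸ iterCommutator_antitone hGN (by omega)))
    have h2 := pow_mul_card_iterCommutator_le hN hG hGN 0 i h1
    rw [zero_add, show Cfsg.iterCommutator N G 0 = N from rfl, hn, pow_add _ (i + 1)] at h2
    exact Nat.le_of_mul_le_mul_left h2 (pow_pos hp.out.pos _)
  · rcases Nat.eq_zero_or_pos d with rfl | hd
    · exact Nat.card_pos
    obtain ⟨d, rfl⟩ : ∃ j, d = j + 1 := ⟨d - 1, by omega⟩
    have h2 := pow_mul_card_iterCommutator_le hN hG hGN (i + 1) d h'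
    exact (Nat.le_mul_of_pos_right _ Nat.card_pos).trans h2

theorem eq_iter_of_card (hN : IsPGroup p N) (hG : IsPGroup p G)
    (hGN : G ≤ normalizer (N : Set L)) {n : ℕ}
    (h : ∀ i ≤ n, Nat.card (Cfsg.iterCommutator N G i) = p ^ (n - i))
    (H : Subgroup L) (hH : H ≤ N) (hGH : G ≤ normalizer (H : Set L)) :
    ∃ i ≤ n, H = Cfsg.iterCommutator N G i := by
  by_contra! hne
  have key : ∀ i ≤ n, H < Cfsg.iterCommutator N G i := by
    intro i hi
    induction i with
    | zero => exact lt_of_le_of_ne hH (hne 0 hi)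
    | succ i ih =>
      refine lt_of_le_of_ne ?_ (hne _ hi)
      have hNi := hN.to_le (iterCommutator_le hGN i)
      have h1 := sup_commutator_lt hNi hG (le_normalizer_iterCommutator hGN i) (ih (by omega)) hGH
      have h2 := mul_card_le_of_lt hNi h1
      have h3 : Cfsg.iterCommutator N G (i + 1) = H ⊔ ⁅Cfsg.iterCommutator N G i, G⁆ := by
        apply eq_of_le_of_card_ge le_sup_right
        rw [h i (by omega), show n - i = (n - (i + 1)) + 1 by omega, pow_succ'] at h2
        rw [h _ hi]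
        exact Nat.le_of_mul_le_mul_left h2 hp.out.pos
      rw [h3]; exact le_sup_left
  have h1 := key n le_rfl
  have h2 := h n le_rfl
  rw [Nat.sub_self, pow_zero, card_eq_one] at h2
  rw [h2] at h1
  exact not_lt_bot h1

theorem normal_of_card (hN : IsPGroup p N) (hG : IsPGroup p G)
    (hGN : G ≤ normalizer (N : Set L)) {n : ℕ}
    (h : ∀ i ≤ n, Nat.card (Cfsg.iterCommutator N G i) = p ^ (n - i)) (i : ℕ) (hi : i ≤ n) :
    N ≤ normalizer (Cfsg.iterCommutator N G i : Set L) := by
  have hP := IsPGroup.to_sup_of_normal_left' hN hG hGN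
  have hPN : N ⊔ G ≤ normalizer (N : Set L) := sup_le le_normalizer hGN
  have hle := iterCommutator_mono (le_refl N) (le_sup_right : G ≤ N ⊔ G)
  have : Cfsg.iterCommutator N G i = Cfsg.iterCommutator N (N ⊔ G) i := by
    apply eq_of_le_of_card_ge (hle i)
    rcases Nat.eq_zero_or_pos i with rfl | hi0
    · exact le_rfl
    obtain ⟨i, rfl⟩ : ∃ j, i = j + 1 := ⟨i - 1, by omega⟩
    have h1 : Cfsg.iterCommutator N (N ⊔ G) (0 + i) ≠ ⊥ := by
      intro e
      rw [zero_add] at e
      have h2 := h i (by omega)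
      have e' : Cfsg.iterCommutator N G i = ⊥ := le_bot_iff.1 (e ▸ hle i)
      rw [e', card_bot, eq_comm, Nat.pow_eq_one] at h2
      have := hp.out.one_lt
      omega
    have h2 := pow_mul_card_iterCommutator_le hN hP hPN 0 i h1
    have h0 := h 0 (Nat.zero_le _)
    rw [zero_add, show Cfsg.iterCommutator N (N ⊔ G) 0 = Cfsg.iterCommutator N G 0 from rfl, h0,
      show n - 0 = (i + 1) + (n - (i + 1)) by omega, pow_add _ (i + 1)] at h2
    rw [h _ hi]
    exact Nat.le_of_mul_le_mul_left h2 (pow_pos hp.out.pos _)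
  rw [this]
  exact le_sup_left.trans (le_normalizer_iterCommutator hPN i)

omit [Finite L] in
theorem card_of_uniserial (hGN : G ≤ normalizer (N : Set L)) {n : ℕ} (hn : Nat.card N = p ^ n)
    (h : ∀ H : Subgroup L, H ≤ N → G ≤ normalizer (H : Set L) → H ≠ ⊥ → (⁅H, G⁆).relIndex H = p)
    (i : ℕ) (hi : i ≤ n) : Nat.card (Cfsg.iterCommutator N G i) = p ^ (n - i) := by
  induction i with
  | zero => exact hn
  | succ i ih =>
    have h1 := ih (by omega)
    have h2 : Cfsg.iterCommutator N G i ≠ ⊥ := by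
      intro e
      rw [e, card_bot, eq_comm, Nat.pow_eq_one] at h1
      have := hp.out.one_lt
      omega
    have h3 := h _ (iterCommutator_le hGN i) (le_normalizer_iterCommutator hGN i) h2
    have h4 := card_mul_relIndex (iterCommutator_succ_le hGN i)
    rw [show Cfsg.iterCommutator N G (i + 1) = ⁅Cfsg.iterCommutator N G i, G⁆ from rfl, h3, h1,
      show n - i = (n - (i + 1)) + 1 by omega, pow_succ] at h4
    exact Nat.eq_of_mul_eq_mul_right hp.out.pos h4

end

/-- A p-group acts uniserially on a p-group N of order p^n exactly when the iterated commutator chain from N has length n; in that case the chain terms are all the invariant subgroups of N and they are normal in N. -/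
theorem result {L : Type*} [Group L] [Finite L] {p : ℕ} [Fact p.Prime] (N G : Subgroup L) (hN : IsPGroup p N) (hG : IsPGroup p G) (hGN : G ≤ Subgroup.normalizer (N : Set L)) (n : ℕ) (hn : Nat.card N = p ^ n) : ((∀ H : Subgroup L, H ≤ N → G ≤ Subgroup.normalizer (H : Set L) → H ≠ ⊥ → (⁅H, G⁆).relIndex H = p) ↔ Cfsg.iterCommutator N G (n - 1) ≠ ⊥ ∨ n = 0) ∧ ((∀ H : Subgroup L, H ≤ N → G ≤ Subgroup.normalizer (H : Set L) → H ≠ ⊥ → (⁅H, G⁆).relIndex H = p) → ∀ H : Subgroup L, H ≤ N → G ≤ Subgroup.normalizer (H : Set L) → (∃ i ≤ n, H = Cfsg.iterCommutator N G i) ∧ N ≤ Subgroup.normalizer (H : Set L)) := by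
  have hp : p.Prime := Fact.out
  refine ⟨⟨fun h => ?_, fun h H hH hGH hne => ?_⟩, fun h H hH hGH => ?_⟩
  · rcases Nat.eq_zero_or_pos n with rfl | hn0
    · exact Or.inr rfl
    left
    intro e
    have h1 := card_of_uniserial hGN hn h (n - 1) (Nat.sub_le _ _)
    rw [e, card_bot, eq_comm, Nat.pow_eq_one] at h1
    have := hp.one_lt
    omega
  · have hc := card_of_ne_bot hN hG hGN hn h
    obtain ⟨i, hi, rfl⟩ := eq_iter_of_card hN hG hGN hc H hH hGH
    have hi' : i + 1 ≤ n := by
      rcases hi.eq_or_lt with rfl | h'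
      · exfalso
        have h2 := hc i le_rfl
        rw [Nat.sub_self, pow_zero, card_eq_one] at h2
        exact hne h2
      · exact h'
    have h4 := card_mul_relIndex (iterCommutator_succ_le hGN i)
    rw [hc _ hi', hc _ hi, show n - i = (n - (i + 1)) + 1 by omega, pow_succ] at h4
    exact Nat.eq_of_mul_eq_mul_left (pow_pos hp.pos _) h4
  · have hc := card_of_uniserial hGN hn h
    obtain ⟨i, hi, rfl⟩ := eq_iter_of_card hN hG hGN hc H hH hGH
    exact ⟨⟨i, hi, rfl⟩, normal_of_card hN hG hGN hc i hi⟩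

end Cfsg.Agent.S0663
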