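import Cfsg.Statements.S0666
import Cfsg.Agent.Base
import Cfsg.Agent.Solv.FrobeniusThm
import Cfsg.Agent.Solv.FpfAction

set_option autoImplicit false
open Cfsg

namespace Cfsg.Agent.S0666

/-- A Frobenius group acting on a nontrivial abelian group of order prime to that of its kernel, with the kernel acting without nontrivial fixed points, has a complement with a nontrivial fixed point. -/
theorem result {G : Type*} [Group G] [Finite G] (V F : Subgroup G) (hVab : IsMulCommutative V) (hV1 : V ≠ ⊥) (hFV : F ≤ Subgroup.normalizer (V : Set G)) (H : Subgroup ↥F) (hH : Cfsg.IsFrobeniusComplement H) (hcop : (Nat.card V).Coprime (Nat.card (Cfsg.frobeniusKernel H))) (hCK : V ⊓ Subgroup.centralizer (Subtype.val '' Cfsg.frobeniusKernel H : Set G) = ⊥) : V ⊓ Subgroup.centralizer ((H.map F.subtype : Subgroup G) : Set G) ≠ ⊥ := by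
  intro hCH
  obtain ⟨N, hN, hNn, hc, hN1, hf⟩ := CL.Frob.exists_kernel_of_isFrobeniusComplement hH
  have hNV : N.map F.subtype ≤ Subgroup.centralizer (V : Set G) := by
    refine CL.Frob.le_centralizer_of_frobenius (H := H.map F.subtype) ?_ ?_
      ((Subgroup.map_subtype_le N).trans hFV) ((Subgroup.map_subtype_le H).trans hFV) ?_ hCH
    · refine (Subgroup.map_mono ?_).trans (Subgroup.le_normalizer_map F.subtype)
      rw [Subgroup.normalizer_eq_top]; exact le_top
    · rw [CL.Frob.fpf_iff] at hf ⊢
      rintro _ ⟨a, ha, rfl⟩ _ ⟨k, hk, rfl⟩ e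
      exact (hf a ha k hk (Subtype.ext e)).imp (congrArg Subtype.val) (congrArg Subtype.val)
    · rw [Subgroup.card_map_of_injective F.subtype_injective]
      rw [← hN] at hcop
      exact hcop
  apply hV1
  rw [eq_bot_iff, ← hCK]
  refine le_inf le_rfl ?_
  rw [← hN]
  exact Subgroup.le_centralizer_iff.mp hNV

end Cfsg.Agent.S0666
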