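import Cfsg.Agent.Base
import Cfsg.Statements.S0668
import Cfsg.Agent.Perm.Module

set_option autoImplicit false
open Cfsg

namespace Cfsg.Agent.S0668

open MulAction CL.Perm

/-- The equivariant linear maps between the permutation modules of two finite `G`-sets form a space whose dimension is the number of `G`-orbits on the product of the two sets. -/
theorem result {G : Type*} [Group G] {K : Type*} [Field K] {Ω₁ Ω₂ : Type*} [Fintype Ω₁] [Fintype Ω₂] [MulAction G Ω₁] [MulAction G Ω₂] : Module.finrank K ((Cfsg.permRep K G Ω₁).linHom (Cfsg.permRep K G Ω₂)).invariants = Nat.card (MulAction.orbitRel.Quotient G (Ω₁ × Ω₂)) := by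
  classical
  let e : ((Cfsg.permRep K G Ω₁).linHom (Cfsg.permRep K G Ω₂)).invariants ≃ₗ[K]
      (MulAction.orbitRel.Quotient G (Ω₁ × Ω₂) → K) :=
    { toFun := fun T => Quotient.lift (fun z : Ω₁ × Ω₂ => LinearMap.toMatrix' T.1 z.2 z.1) (by
        rintro z w ⟨g, rfl⟩
        exact (mem_linHom_invariants_iff_toMatrix T.1).1 T.2 g w.2 w.1)
      map_add' := fun S T => by
        funext q
        induction q using Quotient.inductionOn
        rfl
      map_smul' := fun c T => by
        funext q
        induction q using Quotient.inductionOn
        rfl
      invFun := fun F => ⟨Matrix.toLin' (Matrix.of fun y x => F (Quotient.mk _ (x, y))), by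
        rw [mem_linHom_invariants_iff_toMatrix]
        intro g y x
        simp only [LinearMap.toMatrix'_toLin', Matrix.of_apply]
        congr 1
        exact Quotient.sound ⟨g, rfl⟩⟩
      left_inv := fun T => by
        apply Subtype.ext
        apply LinearMap.toMatrix'.injective
        ext y x
        simp
      right_inv := fun F => by
        funext q
        induction q using Quotient.inductionOn
        simp }
  rw [e.finrank_eq]
  have : Fintype (MulAction.orbitRel.Quotient G (Ω₁ × Ω₂)) := Fintype.ofFinite _
  rw [Module.finrank_fintype_fun_eq_card, Nat.card_eq_fintype_card]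

end Cfsg.Agent.S0668
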