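import Cfsg.Agent.Base
import Cfsg.Statements.S0672
import Cfsg.Agent.Perm.Module
import Cfsg.Agent.Perm.Tuples

set_option autoImplicit false
open Cfsg

namespace Cfsg.Agent.S0672

open MulAction CL.Perm
open scoped Pointwise

/-- Let a finite group act faithfully and doubly transitively with point stabilisers of even order, and let `K` have characteristic `p` dividing the degree. If the heart of the permutation module admits no non-zero equivariant map to the permutation module on unordered pairs (phrased: every intertwining map from the sum-zero functions vanishing on the constants is zero), the action is triply transitive. -/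
theorem result {G : Type*} [Group G] [Finite G] {K : Type*} [Field K] {p : ℕ} [Fact p.Prime] [CharP K p] {Ω : Type*} [Fintype Ω] [DecidableEq Ω] [MulAction G Ω] [FaithfulSMul G Ω] (h2 : MulAction.IsMultiplyPretransitive G Ω 2) (hp : p ∣ Fintype.card Ω) (heven : ∀ a : Ω, Even (Nat.card (MulAction.stabilizer G a))) (h : ∀ f : Representation.IntertwiningMap (Cfsg.permSumZero K G Ω).toRepresentation (Cfsg.permRep K G (Set.powersetCard Ω 2)), (∀ v : (Cfsg.permSumZero K G Ω).toSubmodule, (v : Ω → K) ∈ (Cfsg.permConstants K G Ω).toSubmodule → f v = 0) → f = 0) : MulAction.IsMultiplyPretransitive G Ω 3 := by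
  classical
  have htr : IsPretransitive G (Set.powersetCard Ω 2) :=
    Set.powersetCard.isPretransitive_of_isMultiplyPretransitive G h2
  -- an invariant matrix with zero row sums has constant rows
  have key : ∀ M : Matrix (Set.powersetCard Ω 2) Ω K,
      (∀ (g : G) s x, M (g • s) (g • x) = M s x) → (∀ s, ∑ x, M s x = 0) →
      ∀ s x x', M s x = M s x' := by
    intro M hM hrow s x x'
    let f : Representation.IntertwiningMap (Cfsg.permSumZero K G Ω).toRepresentation
        (Cfsg.permRep K G (Set.powersetCard Ω 2)) :=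
      (M.mulVecLin ∘ₗ (Cfsg.permSumZero K G Ω).toSubmodule.subtype).intertwiningMap_of_isIntertwiningMap
        _ _ (fun g v => mulVec_permRep M hM g v)
    have hf : f = 0 := by
      apply h
      intro v hv
      obtain ⟨c, hc⟩ := mem_permConstants.1 hv
      funext t
      change ∑ y, M t y * (v : Ω → K) y = 0
      simp only [hc, ← Finset.sum_mul, hrow, zero_mul]
    have h1 : M.mulVec (Pi.single x 1 - Pi.single x' 1) = 0 := by
      have : f ⟨_, single_sub_single_mem_permSumZero x x' 1⟩ = 0 := by rw [hf]; rfl
      exact this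
    have h3 := congrFun h1 s
    simp only [Matrix.mulVec_sub, Matrix.mulVec_single_one, Pi.sub_apply, Matrix.col_apply,
      Pi.zero_apply] at h3
    exact sub_eq_zero.1 h3
  have hom : ∀ (s : Set.powersetCard Ω 2) (x x' : Ω), x ∉ (s : Finset Ω) → x' ∉ (s : Finset Ω) →
      ∃ g : G, g • s = s ∧ g • x = x' := by
    intro s x x' hx hx'
    by_contra hne
    set A : Matrix (Set.powersetCard Ω 2) Ω K := orbMat G K s x with hA
    set B : Matrix (Set.powersetCard Ω 2) Ω K :=
      Matrix.of fun t y => if y ∈ (t : Finset Ω) then 1 else 0 with hB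
    have hBinv : ∀ (g : G) t y, B (g • t) (g • y) = B t y := by
      intro g t y
      simp only [hB, Matrix.of_apply, Set.powersetCard.coe_smul, Finset.smul_mem_smul_finset_iff]
    have hBrow : ∀ t, ∑ y, B t y = 2 := by
      intro t
      simp only [hB, Matrix.of_apply, Finset.sum_boole, Finset.filter_mem_eq_inter,
        Finset.univ_inter, Set.powersetCard.card_eq, Nat.cast_ofNat]
    by_cases h2K : (2 : K) = 0
    · obtain ⟨y, hy⟩ : (s : Finset Ω).Nonempty := by
        rw [← Finset.card_pos, Set.powersetCard.card_eq]; norm_num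
      have := key B hBinv (fun t => by rw [hBrow, h2K]) s x y
      simp [hB, hx, hy] at this
    · have := key ((2 : K) • A - (∑ y, A s y) • B) (fun g t y => by
        simp only [Matrix.sub_apply, Matrix.smul_apply, hBinv, hA, orbMat_invariant])
        (fun t => by
          simp only [Matrix.sub_apply, Matrix.smul_apply, smul_eq_mul, Finset.sum_sub_distrib,
            ← Finset.mul_sum, hBrow]
          rw [row_sum_eq (G := G) A (orbMat_invariant K s x) t s]
          ring) s x x'
      simp only [Matrix.sub_apply, Matrix.smul_apply, smul_eq_mul, hA, orbMat_self,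
        orbMat_of_not_exists K hne, hB, Matrix.of_apply, if_neg hx, if_neg hx'] at this
      simp [h2K] at this
  rcases isEmpty_or_nonempty Ω with hΩ | ⟨⟨a⟩⟩
  · exact ⟨fun x => (hΩ.false (x 0)).elim⟩
  obtain ⟨t, ht⟩ := exists_prime_orderOf_dvd_card' (G := stabilizer G a) 2 (heven a).two_dvd
  have ht1 : (t : G) ≠ 1 := by
    intro h1
    have : t = 1 := Subtype.ext h1
    rw [this, orderOf_one] at ht
    norm_num at ht
  have ht2 : (t : G) * t = 1 := by
    have := pow_orderOf_eq_one t
    rw [ht, pow_two] at this
    exact congrArg Subtype.val this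
  obtain ⟨b, hb⟩ : ∃ b : Ω, (t : G) • b ≠ b := by
    by_contra hcon
    push Not at hcon
    exact ht1 (eq_of_smul_eq_smul (α := Ω) fun b => by rw [hcon, one_smul])
  have hta : (t : G) • a = a := t.2
  have htc : (t : G) • (t : G) • b = b := by rw [← mul_smul, ht2, one_smul]
  have hab : a ≠ b := fun h => hb (h ▸ hta)
  have hac : a ≠ (t : G) • b := fun h => hab (by rw [← htc, ← h, hta])
  apply three_pretransitive_of_base a b ((t : G) • b)
  intro x y z hxy hxz hyz
  let s₀ : Set.powersetCard Ω 2 := ⟨{b, (t : G) • b}, Finset.card_pair hb.symm⟩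
  let s : Set.powersetCard Ω 2 := ⟨{y, z}, Finset.card_pair hyz⟩
  obtain ⟨g₁, hg₁⟩ := exists_smul_eq G s₀ s
  have hg₁' : g₁ • ({b, (t : G) • b} : Finset Ω) = {y, z} := by
    rw [← Set.powersetCard.coe_smul (s := s₀), hg₁]
  obtain ⟨g₂, hg₂, hg₂'⟩ := hom s (g₁ • a) x (by
    change g₁ • a ∉ ({y, z} : Finset Ω)
    rw [← hg₁', Finset.smul_mem_smul_finset_iff]
    simp [hab, hac]) (by
    change x ∉ ({y, z} : Finset Ω)
    simp [hxy, hxz])
  have hg : (g₂ * g₁) • ({b, (t : G) • b} : Finset Ω) = {y, z} := by
    rw [mul_smul, hg₁', ← Set.powersetCard.coe_smul (s := s), hg₂]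
  have hga : (g₂ * g₁) • a = x := by rw [mul_smul, hg₂']
  generalize g₂ * g₁ = g at hg hga
  rw [Finset.smul_finset_insert, Finset.smul_finset_singleton, ← Finset.coe_inj, Finset.coe_pair,
    Finset.coe_pair, Set.pair_eq_pair_iff] at hg
  rcases hg with ⟨h1, h3⟩ | ⟨h1, h3⟩
  · exact ⟨g, hga, h1, h3⟩
  · exact ⟨g * t, by rw [mul_smul, hta, hga], by rw [mul_smul, h3], by rw [mul_smul, htc, h1]⟩

end Cfsg.Agent.S0672
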