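import Cfsg.Agent.Base
import Cfsg.Statements.S0676
import Cfsg.Agent.Perm.PrimeBurnside
import Cfsg.Agent.S0672

set_option autoImplicit false
open Cfsg

namespace Cfsg.Agent.S0676

open MulAction CL.Perm
open scoped Pointwise

/-- Version for an abstract group acting faithfully. -/
theorem general {G α : Type*} [Group G] [MulAction G α] [FaithfulSMul G α] [Fintype α]
    [DecidableEq α] {p : ℕ} [Fact p.Prime] (hα : Fintype.card α = p)
    [MulAction.IsPretransitive G α] (hG : ¬ Group.IsSolvable G) (P : Sylow p G)
    (heven : Even (Nat.card (Subgroup.normalizer ((P : Subgroup G) : Set G)))) :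
    MulAction.IsMultiplyPretransitive G α 3 := by
  have := finite_of_faithfulSMul G α
  have hα' : Nat.card α = p := by rw [Nat.card_eq_fintype_card, hα]
  obtain ⟨c, e, hc, he⟩ := exists_coord_sylow hα' P
  have hna : ¬ ∀ g : G, IsAff e g := fun h => hG (isSolvable_of_forall_isAff he h)
  have h2 : IsMultiplyPretransitive G α 2 := (forall_isAff_or_two_pretransitive he).resolve_left hna
  have hp2 : p ≠ 2 := fun h => hna (forall_isAff_of_le_three (by omega) e)
  obtain ⟨t', ht'⟩ := exists_prime_orderOf_dvd_card' 2 heven.two_dvd
  have ht : orderOf (t' : G) = 2 := by rw [Subgroup.orderOf_coe, ht']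
  have htN : (t' : G) ∈ Subgroup.normalizer ((P : Subgroup G) : Set G) := t'.2
  generalize (t' : G) = t at ht htN
  rw [hc, mem_normalizer_iff_isAff he] at htN
  obtain ⟨b, hb⟩ := reflection_of_isAff hp2 ht htN
  have h2K : (2 : ZMod p) ≠ 0 := by
    intro h2
    have : (p : ℕ) ∣ 2 := (ZMod.natCast_eq_zero_iff 2 p).1 (by exact_mod_cast h2)
    exact hp2 ((Nat.prime_dvd_prime_iff_eq Fact.out Nat.prime_two).1 this)
  have htinv : t⁻¹ = t := by
    rw [inv_eq_iff_mul_eq_one, ← pow_two, ← ht, pow_orderOf_eq_one]
  refine Cfsg.Agent.S0672.result (K := ZMod p) (p := p) h2 (by rw [hα]) ?_ ?_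
  · intro a
    obtain ⟨g, hg⟩ := exists_smul_eq G (e.symm (b / 2)) a
    have h1 : g * t * g⁻¹ ∈ stabilizer G a := by
      rw [mem_stabilizer_iff, ← hg, mul_smul, inv_smul_smul, mul_smul]
      congr 1
      apply e.injective
      rw [hb, Equiv.apply_symm_apply]
      field_simp
      ring
    have h3 : orderOf (⟨_, h1⟩ : stabilizer G a) = 2 := by
      rw [← Subgroup.orderOf_coe, ← ht]
      exact (MulAut.conj g).orderOf_eq t
    rw [even_iff_two_dvd, ← h3]
    exact orderOf_dvd_natCard _
  · intro f hf
    -- the coordinate function
    have hsum : ∑ x : α, e x = 0 := by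
      have h1 : ∑ x : α, e (t • x) = ∑ x : α, e x := sum_smul_eq t e
      simp only [hb, Finset.sum_sub_distrib, Finset.sum_const, Finset.card_univ, hα, nsmul_eq_mul,
        ZMod.natCast_self, zero_mul] at h1
      have : 2 * ∑ x : α, e x = 0 := by linear_combination -h1
      exact (mul_eq_zero.1 this).resolve_left h2K
    let u : (permSumZero (ZMod p) G α).toSubmodule := ⟨e, hsum⟩
    have hcu : permRep (ZMod p) G (Set.powersetCard α 2) c (f u) = f u := by
      rw [← f.isIntertwining, ← sub_eq_zero, ← map_sub]
      apply hf
      refine mem_permConstants.2 ⟨-1, fun x => ?_⟩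
      change e (c⁻¹ • x) - e x = -1
      rw [coord_inv he]; ring
    have htu : permRep (ZMod p) G (Set.powersetCard α 2) t (f u) = - f u := by
      rw [← f.isIntertwining, ← sub_eq_zero, sub_neg_eq_add, ← map_add]
      apply hf
      refine mem_permConstants.2 ⟨b, fun x => ?_⟩
      change e (t⁻¹ • x) + e x = b
      rw [htinv, hb]; ring
    have hcn : ∀ (n : ℕ) (s : Set.powersetCard α 2), f u (c ^ n • s) = f u s := by
      intro n s
      induction n with
      | zero => simp
      | succ n ih =>
        have := congrFun hcu (c ^ (n + 1) • s)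
        rw [permRep_apply, pow_succ', mul_smul, inv_smul_smul] at this
        rw [pow_succ', mul_smul, ← this, ih]
    have hfu : f u = 0 := by
      funext s
      obtain ⟨x, y, -, hxy⟩ := Finset.card_eq_two.1 (Set.powersetCard.card_eq s)
      have h1 : t • s = c ^ (b - e x - e y).val • s := by
        apply Subtype.ext
        rw [Set.powersetCard.coe_smul, Set.powersetCard.coe_smul, hxy, Finset.smul_finset_insert,
          Finset.smul_finset_singleton, Finset.smul_finset_insert, Finset.smul_finset_singleton,
          Finset.pair_comm]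
        congr 1
        · exact e.injective (by rw [hb, coord_pow_val he]; ring)
        · congr 1
          exact e.injective (by rw [hb, coord_pow_val he]; ring)
      have h3 := congrFun htu s
      rw [permRep_apply, htinv, h1, hcn, Pi.neg_apply] at h3
      have : 2 * f u s = 0 := by linear_combination h3
      exact (mul_eq_zero.1 this).resolve_left h2K
    -- the kernel of `f` is an invariant subspace strictly above the constants
    let W : Submodule (ZMod p) (α → ZMod p) :=
      f.ker.toSubmodule.map (permSumZero (ZMod p) G α).toSubmodule.subtype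
    have hWinv : ∀ g : G, ∀ v ∈ W, permRep (ZMod p) G α g v ∈ W := by
      rintro g _ ⟨v, hv, rfl⟩
      exact ⟨_, f.ker.apply_mem_toSubmodule g hv, rfl⟩
    have hCW : (permConstants (ZMod p) G α).toSubmodule < W := by
      refine lt_of_le_of_ne ?_ fun h => ?_
      · rw [permConstants_le_iff]
        refine ⟨⟨fun _ => 1, ?_⟩, hf _ (const_mem_permConstants 1), rfl⟩
        rw [mem_permSumZero]
        simp [hα]
      · have : (e : α → ZMod p) ∈ W := ⟨u, hfu, rfl⟩
        rw [← h, mem_permConstants] at this
        obtain ⟨d, hd⟩ := this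
        have h0 := hd (e.symm 0)
        have h1 := hd (e.symm 1)
        rw [Equiv.apply_symm_apply] at h0 h1
        exact zero_ne_one (h0.trans h1.symm)
    have hWS : W = (permSumZero (ZMod p) G α).toSubmodule := by
      by_contra hne
      exact hna (forall_isAff_of_submodule he W hWinv hCW
        (lt_of_le_of_ne (Submodule.map_subtype_le _ _) hne))
    apply Representation.IntertwiningMap.ext
    ext1 v
    have : (v : α → ZMod p) ∈ W := by rw [hWS]; exact v.2
    obtain ⟨w, hw, hwv⟩ := this
    rw [← Subtype.ext hwv]
    exact hw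

/-- A non-solvable transitive permutation group of prime degree `p` whose Sylow `p`-normaliser has even order is triply transitive. -/
theorem result {α : Type*} [Fintype α] [DecidableEq α] {p : ℕ} [Fact p.Prime] (hα : Fintype.card α = p) (G : Subgroup (Equiv.Perm α)) [MulAction.IsPretransitive G α] (hG : ¬ Group.IsSolvable G) (P : Sylow p G) (heven : Even (Nat.card (Subgroup.normalizer ((P : Subgroup G) : Set G)))) : MulAction.IsMultiplyPretransitive G α 3 := by
  exact general hα hG P heven

end Cfsg.Agent.S0676
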