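import Cfsg.Agent.Base
import Cfsg.Statements.S0677
import Cfsg.Agent.Perm.PrimeBurnside

set_option autoImplicit false
open Cfsg

namespace Cfsg.Agent.S0677

open MulAction CL.Perm

/-- Version for an abstract group acting faithfully. -/
theorem general {G α : Type*} [Group G] [MulAction G α] [FaithfulSMul G α] [Finite α]
    {p : ℕ} [hp : Fact p.Prime] (hα : Nat.card α = p)
    [MulAction.IsPretransitive G α] (P : Sylow p G)
    (heven : Even (Nat.card (Subgroup.normalizer ((P : Subgroup G) : Set G))))
    (H : Subgroup G) (hH : H.index = p) : ∃ a : α, H = MulAction.stabilizer G a := by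
  classical
  have := finite_of_faithfulSMul G α
  obtain ⟨c, e, hc, he⟩ := exists_coord_sylow hα P
  have hoc := orderOf_eq_of_coord he
  suffices hfix : ∃ a : α, H ≤ stabilizer G a by
    obtain ⟨a, ha⟩ := hfix
    refine ⟨a, Subgroup.eq_of_le_of_card_ge ha ?_⟩
    have h1 := H.card_mul_index
    have h2 := (stabilizer G a).card_mul_index
    rw [index_stabilizer_of_transitive, hα, ← h1, hH] at h2
    exact (Nat.eq_of_mul_eq_mul_right hp.out.pos h2).le
  have hpH : ¬ p ∣ Nat.card H := by
    intro h
    apply not_sq_dvd_card (G := G) hα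
    rw [← H.card_mul_index, hH, pow_two]
    exact Nat.mul_dvd_mul_right h p
  have htrans : ∀ h ∈ H, h ∈ Subgroup.zpowers c → h = 1 := by
    intro h h1 h2
    have h3 := Subgroup.orderOf_dvd_natCard _ h1
    have h4 := Subgroup.orderOf_dvd_natCard _ h2
    rw [Nat.card_zpowers, hoc] at h4
    rcases (Nat.dvd_prime hp.out).1 h4 with h5 | h5
    · exact orderOf_eq_one_iff.1 h5
    · exact absurd (h5 ▸ h3) hpH
  by_cases hA : ∀ g : G, IsAff e g
  · by_cases hbot : H = ⊥
    · exact ⟨e.symm 0, hbot ▸ bot_le⟩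
    obtain ⟨⟨h, hh⟩, hh1⟩ := Subgroup.ne_bot_iff_exists_ne_one.1 hbot
    obtain ⟨a, b, hab⟩ := hA h
    have ha : 1 - a ≠ 0 := by
      intro h0
      apply hh1
      refine Subtype.ext (htrans h hh ((mem_zpowers_iff_translation he).2 ⟨b, fun x => ?_⟩))
      rw [hab, show a = 1 by linear_combination -h0, one_mul]
    have hfix : ∀ x, h • x = x ↔ x = e.symm (b / (1 - a)) := by
      intro x
      rw [← e.injective.eq_iff, hab, Equiv.eq_symm_apply, eq_div_iff ha]
      constructor <;> intro h1 <;> linear_combination -h1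
    refine ⟨e.symm (b / (1 - a)), fun k hk => ?_⟩
    have h1 : h * k * h⁻¹ * k⁻¹ = 1 :=
      htrans _ (H.mul_mem (H.mul_mem (H.mul_mem hh hk) (H.inv_mem hh)) (H.inv_mem hk))
        ((mem_zpowers_iff_translation he).2 (commutator_translation_of_aff (hA h) (hA k)))
    have h2 : h * k = k * h := by
      rw [mul_inv_eq_one, mul_inv_eq_iff_eq_mul] at h1; exact h1
    rw [mem_stabilizer_iff, ← hfix, ← mul_smul, h2, mul_smul, (hfix _).2 rfl]
  have h2 : IsMultiplyPretransitive G α 2 := (forall_isAff_or_two_pretransitive he).resolve_left hA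
  have hp2 : p ≠ 2 := fun h => hA (forall_isAff_of_le_three (by omega) e)
  have h2K : (2 : ZMod p) ≠ 0 := by
    intro h2
    have : (p : ℕ) ∣ 2 := (ZMod.natCast_eq_zero_iff 2 p).1 (by exact_mod_cast h2)
    exact hp2 ((Nat.prime_dvd_prime_iff_eq Fact.out Nat.prime_two).1 this)
  obtain ⟨t', ht'⟩ := exists_prime_orderOf_dvd_card' 2 heven.two_dvd
  have ht : orderOf (t' : G) = 2 := by rw [Subgroup.orderOf_coe, ht']
  have htN : (t' : G) ∈ Subgroup.normalizer ((P : Subgroup G) : Set G) := t'.2
  generalize (t' : G) = t at ht htN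
  rw [hc, mem_normalizer_iff_isAff he] at htN
  obtain ⟨b, hb⟩ := reflection_of_isAff hp2 ht htN
  -- `G = H ⟨c⟩`
  have hdec : ∀ g : G, ∃ h ∈ H, ∃ i : ZMod p, g = h * c ^ i.val := by
    intro g
    have hmove : c • ((1 : G) : G ⧸ H) ≠ ((1 : G) : G ⧸ H) := by
      intro h
      rw [Quotient.smul_mk, QuotientGroup.eq] at h
      simp only [smul_eq_mul, mul_one, inv_mem_iff] at h
      have := htrans c h (Subgroup.mem_zpowers c)
      rw [this, orderOf_one] at hoc
      exact hp.out.one_lt.ne hoc
    have hbij : Function.Bijective (fun i : ZMod p => c ^ i.val • ((1 : G) : G ⧸ H)) :=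
      (Nat.bijective_iff_injective_and_card _).2 ⟨zmod_orbit_injective hoc hmove, by
        rw [← Subgroup.index_eq_card, hH]; simp⟩
    obtain ⟨i, hi⟩ := hbij.2 ((g⁻¹ : G) : G ⧸ H)
    simp only [Quotient.smul_mk, smul_eq_mul, mul_one, QuotientGroup.eq] at hi
    refine ⟨_, H.inv_mem hi, -i, ?_⟩
    rw [mul_inv_rev, inv_inv, inv_inv, mul_assoc, ← pow_val_add hoc]
    simp
  obtain ⟨r, hrH, j, hj⟩ := hdec t
  have hr : ∀ x, e (r • x) = (b + j) - e x := by
    intro x
    have := hb (c ^ (-j).val • x)
    rw [hj, mul_smul, ← mul_smul (c ^ j.val), ← pow_val_add hoc, add_neg_cancel, ZMod.val_zero,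
      pow_zero, one_smul, coord_pow_val he] at this
    rw [this]; ring
  generalize b + j = d at hr
  let χ : α → ZMod 2 := fun x => if x ∈ orbit H (e.symm 0) then 1 else 0
  have hχ : ∀ h ∈ H, ∀ x, χ (h • x) = χ x := by
    intro h hh x
    have : h • x ∈ orbit H (e.symm 0) ↔ x ∈ orbit H (e.symm 0) := by
      rw [← orbit_eq_iff, ← orbit_eq_iff]
      exact iff_of_eq (congrArg (· = _) (orbit_smul (⟨h, hh⟩ : H) x))
    simp only [χ, this]
  let M : α → α → ZMod 2 := fun x y => ∑ i : ZMod p, χ (c ^ i.val • x) * χ (c ^ i.val • y)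
  have hM : ∀ (g : G) x y, M (g • x) (g • y) = M x y := by
    intro g x y
    choose k hk π hπ using fun i : ZMod p => hdec (c ^ i.val * g)
    have hinj : Function.Injective π := by
      intro i i' hii
      have h1 : c ^ i.val * (c ^ i'.val)⁻¹ = k i * (k i')⁻¹ := by
        have := hπ i
        rw [hii, ← inv_mul_eq_iff_eq_mul.2 (hπ i')] at this
        rw [mul_inv_eq_iff_eq_mul, ← mul_right_cancel_iff (a := g), this]
        group
      have h3 := htrans _ (h1 ▸ H.mul_mem (hk i) (H.inv_mem (hk i')))
        (Subgroup.mul_mem _ (Subgroup.npow_mem_zpowers _ _)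
          (Subgroup.inv_mem _ (Subgroup.npow_mem_zpowers _ _)))
      have h4 := congrArg (fun g => e (g • e.symm 0)) (mul_inv_eq_one.1 h3)
      simpa [coord_pow_val he] using h4
    refine Fintype.sum_bijective π (Finite.injective_iff_bijective.1 hinj) _ _ fun i => ?_
    rw [← mul_smul, ← mul_smul, hπ, mul_smul, mul_smul, hχ _ (hk i), hχ _ (hk i)]
  have hMr : ∀ w, M w (r • w) = χ w := by
    intro w
    have h1 : ∀ i : ZMod p, c ^ (-i).val • w = r • c ^ i.val • r • w := fun i =>
      e.injective (by simp only [hr, coord_pow_val he]; ring)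
    have h3 : ∀ i : ZMod p, c ^ (-i).val • r • w = r • c ^ i.val • w := fun i =>
      e.injective (by simp only [hr, coord_pow_val he]; ring)
    have h4 : ∑ i ∈ (Finset.univ : Finset (ZMod p)).erase 0,
        χ (c ^ i.val • w) * χ (c ^ i.val • r • w) = 0 := by
      refine Finset.sum_involution (fun i _ => -i) (fun i _ => ?_) (fun i hi _ h => ?_)
        (fun i hi => by simpa using hi) (fun i _ => neg_neg i)
      · rw [h1, h3, hχ r hrH, hχ r hrH, mul_comm, CharTwo.add_self_eq_zero]
      · have : 2 * i = 0 := by linear_combination -h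
        exact (Finset.mem_erase.1 hi).1 ((mul_eq_zero.1 this).resolve_left h2K)
    simp only [M]
    rw [← Finset.add_sum_erase _ _ (Finset.mem_univ 0), h4]
    simp only [ZMod.val_zero, pow_zero, one_smul, hχ r hrH, add_zero, χ]
    split_ifs <;> simp
  have hfix : ∀ w, w ≠ e.symm (d / 2) → w ≠ r • w := by
    intro w hw h
    apply hw
    have := congrArg e h
    rw [hr] at this
    rw [Equiv.eq_symm_apply, eq_div_iff h2K]
    linear_combination this
  have hconst : ∀ w w', w ≠ e.symm (d / 2) → w' ≠ e.symm (d / 2) → χ w = χ w' := by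
    intro w w' hw hw'
    obtain ⟨g, hg1, hg2⟩ := is_two_pretransitive_iff.1 h2 (hfix w hw) (hfix w' hw')
    rw [← hMr, ← hMr w', ← hg2, ← hM g, hg1]
  refine ⟨e.symm (d / 2), fun k hk => ?_⟩
  by_contra hne
  have hall : ∀ w, χ w = χ (e.symm (d / 2)) := by
    intro w
    by_cases hw : w = e.symm (d / 2)
    · rw [hw]
    · rw [hconst w _ hw hne, hχ k hk]
  have huniv : orbit H (e.symm 0) = Set.univ := by
    rw [Set.eq_univ_iff_forall]
    intro w
    by_contra hw
    have := (hall w).trans (hall (e.symm 0)).symm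
    simp only [χ, if_neg hw, if_pos (mem_orbit_self _)] at this
    exact zero_ne_one this
  have : IsPretransitive H α := (isPretransitive_iff_orbit_eq_univ _).2 huniv
  have : Nonempty α := ⟨e.symm 0⟩
  exact hpH (hα ▸ card_dvd_card_of_isPretransitive)

/-- In a transitive permutation group of prime degree `p` whose Sylow `p`-normaliser has even order, the point stabilisers are the only subgroups of index `p`. -/
theorem result {α : Type*} [Fintype α] [DecidableEq α] {p : ℕ} [Fact p.Prime] (hα : Fintype.card α = p) (G : Subgroup (Equiv.Perm α)) [MulAction.IsPretransitive G α] (P : Sylow p G) (heven : Even (Nat.card (Subgroup.normalizer ((P : Subgroup G) : Set G)))) (H : Subgroup G) (hH : H.index = p) : ∃ a : α, H = MulAction.stabilizer G a := by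
  exact general (by rw [Nat.card_eq_fintype_card, hα]) P heven H hH

end Cfsg.Agent.S0677
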