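import Cfsg.Agent.Base
import Cfsg.Statements.S0678
import Cfsg.Agent.Perm.Bochert
import Cfsg.Agent.Perm.SimpleCrit
import Cfsg.Agent.Perm.PrimeBurnside
import Cfsg.Agent.Perm.Tuples

set_option autoImplicit false
open Cfsg

namespace Cfsg.Agent.S0678

open CL.Perm MulAction

/-- A non-solvable transitive permutation group on 7 points that does not contain the alternating group is a simple group of order 168. -/
theorem result {α : Type*} [Fintype α] [DecidableEq α] (hα : Fintype.card α = 7) (G : Subgroup (Equiv.Perm α)) [MulAction.IsPretransitive G α] (hG : ¬ Group.IsSolvable G) (hA : ¬ alternatingGroup α ≤ G) : Nat.card G = 168 ∧ IsSimpleGroup G := by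
  have h7 : Fact (Nat.Prime 7) := ⟨by norm_num⟩
  have hα' : Nat.card α = 7 := by rw [Nat.card_eq_fintype_card, hα]
  have hprim : IsPreprimitive G α := IsPreprimitive.of_prime_card (by rw [hα']; norm_num)
  have h2 := (isSolvable_or_two_pretransitive (G := G) hα').resolve_left hG
  have hd := descFactorial_dvd_card (G := G) (α := α) 2 (by omega)
  have hb := card_le_descFactorial_half hprim hA
  rw [hα'] at hd
  rw [hα] at hb
  obtain ⟨P⟩ : Nonempty (Sylow 7 G) := inferInstance
  obtain ⟨-, -, -, r, hr, -, hc⟩ := sylow_prime_degree hα' P
  have hn := card_sylow_modEq_one 7 G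
  have hsq : ¬ Squarefree (Nat.card G) := fun h => by
    have := IsZGroup.of_squarefree h
    exact hG inferInstance
  have hpos : 0 < Nat.card G := Nat.card_pos
  have h168 : Nat.card G = 168 := by
    have hr6 := Nat.le_of_dvd (by norm_num) hr
    obtain ⟨m, hm⟩ := hd
    simp only [Nat.descFactorial] at hm hb
    norm_num at hm hb
    have hm5 : m ≤ 5 := by omega
    unfold Nat.ModEq at hn
    interval_cases m
    · omega
    · exact absurd (by rw [hm]; decide +kernel) hsq
    · interval_cases r <;> omega
    · interval_cases r <;> omega
    · omega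
    · exact absurd (by rw [hm]; decide +kernel) hsq
  exact ⟨h168, simple_of_prime_degree (m := 8) (r := 3) h7.out hα' (by norm_num) (by norm_num)
    (by norm_num) (by norm_num) h168⟩

end Cfsg.Agent.S0678
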