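import Cfsg.Agent.Base
import Cfsg.Statements.S0679
import Cfsg.Agent.Perm.Bochert
import Cfsg.Agent.Perm.SimpleCrit
import Cfsg.Agent.Perm.PrimeBurnside
import Cfsg.Agent.Perm.Tuples
import Cfsg.Agent.Perm.JordanCycle
import Cfsg.Agent.Perm.Multi
import Cfsg.Agent.S0676
import Cfsg.Agent.S0498

set_option autoImplicit false
open Cfsg

namespace Cfsg.Agent.S0679

open CL.Perm MulAction Equiv Equiv.Perm

section

variable {α : Type*} [Fintype α] [DecidableEq α]

theorem two_ne_zero_zmod : (2 : ZMod 11) ≠ 0 := by decide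

set_option synthInstance.maxSize 1024 in
theorem key_count : ∀ n : ℕ, n < 1009 → n % 11 = 1 → n % 2 = 0 → 39916800 % (55 * n) = 0 →
    n % 7 = 0 ∨ n % 5 = 0 ∨ n = 12 ∨ n = 144 := by decide +kernel

theorem exists_supp {g : Perm α} {p : ℕ} (hp : p.Prime) (ho : orderOf g = p) :
    ∃ n, 1 ≤ n ∧ g.support.card = n * p ∧ sign g = (-1) ^ (n * p + n) := by
  obtain ⟨n, hn⟩ := cycleType_prime_order (σ := g) (ho ▸ hp)
  refine ⟨n + 1, by omega, ?_, ?_⟩
  · rw [← sum_cycleType, hn, Multiset.sum_replicate, ho, smul_eq_mul]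
  · rw [sign_of_cycleType, hn, Multiset.sum_replicate, ho, smul_eq_mul, Multiset.card_replicate]

theorem card_support_le_of_fix {g : Perm α} {s : Finset α} (h : ∀ x ∈ s, g x = x) :
    g.support.card + s.card ≤ Fintype.card α := by
  rw [← Finset.card_union_of_disjoint (Finset.disjoint_left.2 fun x hx hx' =>
    mem_support.1 hx (h x hx'))]
  exact Finset.card_le_univ _

theorem exists_prime_order_fix {H : Subgroup (Perm α)} {p : ℕ} [hp : Fact p.Prime]
    (hH : IsPGroup p H) (b : α) (h : (orbit H b).ncard < Nat.card H) :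
    ∃ x ∈ H, orderOf x = p ∧ x b = b := by
  obtain ⟨n, hn⟩ := IsPGroup.iff_card.1 (hH.to_subgroup (stabilizer H b))
  have h1 := (stabilizer H b).card_mul_index
  rw [index_stabilizer] at h1
  have h2 : p ∣ Nat.card (stabilizer H b) := by
    rw [hn]
    refine dvd_pow_self p fun h0 => ?_
    rw [hn, h0, pow_zero, one_mul] at h1
    omega
  obtain ⟨x, hx⟩ := exists_prime_orderOf_dvd_card' p h2
  exact ⟨((x : H) : Perm α), (x : H).2, by rw [Subgroup.orderOf_coe, Subgroup.orderOf_coe, hx],
    x.2⟩

variable (hα : Fintype.card α = 11) {G : Subgroup (Perm α)} (hprim : IsPreprimitive G α)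
  (hA : ¬ alternatingGroup α ≤ G)

include hα hprim hA

theorem supp {g : Perm α} (hg : g ∈ G) {p : ℕ} (hp : p.Prime) (h8 : p ≤ 8) (ho : orderOf g = p) :
    ∃ n, 2 ≤ n ∧ n * p ≤ 11 ∧ g.support.card = n * p ∧ sign g = (-1) ^ (n * p + n) := by
  obtain ⟨n, h1, h2, h3⟩ := exists_supp hp ho
  refine ⟨n, ?_, by rw [← h2, ← hα]; exact Finset.card_le_univ _, h2, h3⟩
  by_contra h
  obtain rfl : n = 1 := by omega
  have := hp.pos
  exact hA (alternatingGroup_le_of_isCycle_prime hprim hp (by omega)
    (isCycle_of_prime_order (ho ▸ hp) (by omega)) (by omega) hg)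

theorem not_seven : ¬ 7 ∣ Nat.card G := by
  intro h
  have : Fact (Nat.Prime 7) := ⟨by norm_num⟩
  obtain ⟨g, hg⟩ := exists_prime_orderOf_dvd_card' 7 h
  obtain ⟨n, h1, h2, -⟩ := supp hα hprim hA g.2 this.out (by norm_num)
    (by rw [Subgroup.orderOf_coe, hg])
  omega

theorem five_fix {x : Perm α} (hx : x ∈ G) (ho : orderOf x = 5) {a b : α} (ha : x a = a)
    (hb : x b = b) : a = b := by
  obtain ⟨n, h1, h2, h3, -⟩ := supp hα hprim hA hx (by norm_num : Nat.Prime 5) (by norm_num) ho
  by_contra hab
  have := card_support_le_of_fix (g := x) (s := {a, b}) (by simp [ha, hb])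
  rw [Finset.card_pair hab] at this
  omega

theorem not_twentyfive : ¬ 25 ∣ Nat.card G := by
  intro h
  have : Fact (Nat.Prime 5) := ⟨by norm_num⟩
  obtain ⟨Q, hQ⟩ := Sylow.exists_subgroup_card_pow_prime 5 (n := 2) (G := G) h
  have hc : Nat.card (Q.map G.subtype) = 5 ^ 2 := by
    rw [Subgroup.card_map_of_injective G.subtype_injective, hQ]
  have hP : IsPGroup 5 (Q.map G.subtype) := IsPGroup.of_card hc
  obtain ⟨a, ha⟩ := hP.nonempty_fixed_point_of_prime_not_dvd_card α
    (by rw [Nat.card_eq_fintype_card, hα]; norm_num)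
  have : Nontrivial α := Fintype.one_lt_card_iff_nontrivial.1 (by omega)
  obtain ⟨b, hb⟩ := exists_ne a
  obtain ⟨x, hx, ho, hxb⟩ := exists_prime_order_fix hP b (by
    have := Set.ncard_le_card (orbit (Q.map G.subtype) b)
    rw [Nat.card_eq_fintype_card, hα] at this
    omega)
  exact hb (five_fix hα hprim hA (Subgroup.map_subtype_le Q hx) ho hxb (ha ⟨x, hx⟩))

theorem fix_five {z : Perm α} (hz : z.support.card = 6)
    (h : ∀ p q, z p = p → z q = q → ∃ g ∈ G, Commute g z ∧ g p = q) : False := by
  have : Fact (Nat.Prime 5) := ⟨by norm_num⟩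
  let C : Subgroup (Perm α) := G ⊓ Subgroup.centralizer {z}
  have hF : z.supportᶜ.card = 5 := by rw [Finset.card_compl, hα, hz]
  obtain ⟨p, hp⟩ := Finset.card_pos.1 (by omega : 0 < z.supportᶜ.card)
  have hp' : z p = p := by simpa using hp
  have horb : orbit C p = (z.supportᶜ : Finset α) := by
    ext q
    simp only [Finset.coe_compl, Set.mem_compl_iff, Finset.mem_coe, mem_support, not_not]
    constructor
    · rintro ⟨g, rfl⟩
      have h1 : (g : Perm α) * z = z * g := Subgroup.mem_centralizer_singleton_iff.1 g.2.2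
      change z ((g : Perm α) p) = (g : Perm α) p
      rw [← Perm.mul_apply, ← h1, Perm.mul_apply, hp']
    · intro hq
      obtain ⟨g, hg, h1, h2⟩ := h p q hp' hq
      exact ⟨⟨g, hg, Subgroup.mem_centralizer_singleton_iff.2 h1⟩, h2⟩
  have h5 : 5 ∣ Nat.card C := by
    have := (stabilizer C p).index_dvd_card
    rwa [index_stabilizer, horb, Set.ncard_coe_finset, hF] at this
  obtain ⟨x, hx⟩ := exists_prime_orderOf_dvd_card' 5 h5
  have ho : orderOf (x : Perm α) = 5 := by rw [Subgroup.orderOf_coe, hx]
  have h1 : (x : Perm α) * z = z * x := Subgroup.mem_centralizer_singleton_iff.1 x.2.2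
  have hinv : ∀ a, (x : Perm α) a ∈ z.support ↔ a ∈ z.support := fun a => by
    rw [mem_support, mem_support, ← Perm.mul_apply, ← h1, Perm.mul_apply,
      (x : Perm α).injective.ne_iff]
  obtain ⟨c, hc⟩ := exists_fixed_point_of_prime (p := 5) (n := 1) (α := z.support)
    (σ := (x : Perm α).subtypePerm hinv) (by rw [Fintype.card_coe, hz]; norm_num) (by
      rw [subtypePerm_pow]
      have h2 : (x : Perm α) ^ 5 ^ 1 = 1 := by rw [pow_one, ← ho, pow_orderOf_eq_one]
      ext a
      simp only [subtypePerm_apply, h2, Perm.coe_one, id])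
  have h2 : (x : Perm α) c = c := congrArg Subtype.val hc
  refine mem_support.1 c.2 (five_fix hα hprim hA x.2.1 ho ?_ h2)
  rw [← Perm.mul_apply, h1, Perm.mul_apply, h2]

omit hprim hA in
theorem exists_nine (h2 : IsMultiplyPretransitive G α 2) (hc : Nat.card G = 7920) {u v : α}
    (huv : u ≠ v) {y : Perm α} (hy : y ∈ G) (hy3 : y ^ 3 = 1) (hu : y u = u) (hv : y v = v) :
    ∃ T : Subgroup (Perm α), T ≤ G ∧ Nat.card T = 3 ^ 2 ∧ y ∈ T ∧ ∀ t ∈ T, t u = u ∧ t v = v := by
  have h1 := card_eq_descFactorial_mul_card_fixing h2 (Finset.card_pair huv)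
  rw [hc, hα] at h1
  set S := fixingSubgroup G (({u, v} : Finset α) : Set α)
  have hS : Nat.card S = 72 := by
    simp only [Nat.descFactorial] at h1
    omega
  have hyS : (⟨y, hy⟩ : G) ∈ S := mem_fixing.2 (by
    simp only [Finset.mem_insert, Finset.mem_singleton, forall_eq_or_imp, forall_eq]
    exact ⟨hu, hv⟩)
  have hp : IsPGroup 3 (Subgroup.zpowers (⟨⟨y, hy⟩, hyS⟩ : S)) := by
    rintro ⟨_, k, rfl⟩
    refine ⟨1, Subtype.ext ?_⟩
    have : (⟨⟨y, hy⟩, hyS⟩ : S) ^ 3 = 1 := Subtype.ext (Subtype.ext hy3)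
    change ((⟨⟨y, hy⟩, hyS⟩ : S) ^ k) ^ 3 ^ 1 = 1
    rw [pow_one, ← zpow_natCast, ← zpow_mul, mul_comm, zpow_mul, zpow_natCast, this, one_zpow]
  obtain ⟨T, hT⟩ := hp.exists_le_sylow
  refine ⟨((T : Subgroup S).map S.subtype).map G.subtype, Subgroup.map_subtype_le _, ?_,
    ⟨_, ⟨_, hT (Subgroup.mem_zpowers _), rfl⟩, rfl⟩, ?_⟩
  · rw [Subgroup.card_map_of_injective G.subtype_injective,
      Subgroup.card_map_of_injective S.subtype_injective, T.card_eq_multiplicity, hS]
    congr 1
    rw [show 72 = 3 ^ 2 * 8 by norm_num, Nat.factorization_mul (by norm_num) (by norm_num),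
      Finsupp.add_apply, Nat.factorization_pow_self (by norm_num),
      Nat.factorization_eq_zero_of_not_dvd (by norm_num)]
  · rintro _ ⟨_, ⟨t, -, rfl⟩, rfl⟩
    have := mem_fixing.1 t.2
    exact ⟨this u (by simp), this v (by simp)⟩

theorem three_supp (h2 : IsMultiplyPretransitive G α 2) (hc : Nat.card G = 7920) {y : Perm α}
    (hy : y ∈ G) (ho : orderOf y = 3) : y.support.card = 9 := by
  obtain ⟨n, h1, h3, h4, -⟩ := supp hα hprim hA hy Nat.prime_three (by norm_num) ho
  by_contra hne
  have h6 : y.support.card = 6 := by omega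
  have hF : y.supportᶜ.card = 5 := by rw [Finset.card_compl, hα, h6]
  refine fix_five hα hprim hA h6 fun p q hp hq => ?_
  have h7 : 1 < (y.supportᶜ \ {p, q}).card := by
    have := Finset.le_card_sdiff {p, q} y.supportᶜ
    have := Finset.card_le_two (a := p) (b := q)
    omega
  obtain ⟨u, hu, v, hv, huv⟩ := Finset.one_lt_card.1 h7
  simp only [Finset.mem_sdiff, Finset.mem_compl, mem_support, not_not, Finset.mem_insert,
    Finset.mem_singleton, not_or] at hu hv
  obtain ⟨T, hTG, hT, hyT, hfix⟩ := exists_nine hα h2 hc huv hy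
    (by rw [← ho, pow_orderOf_eq_one]) hu.1 hv.1
  have hcomm : ∀ t ∈ T, t * y = y * t := fun t ht => congrArg Subtype.val
    ((IsPGroup.isMulCommutative_of_card_eq_prime_sq hT).is_comm.comm (⟨t, ht⟩ : T) ⟨y, hyT⟩)
  have hP : IsPGroup 3 T := IsPGroup.of_card hT
  have hinv : ∀ t ∈ T, ∀ a, y (t a) = t a ↔ y a = a := fun t ht a => by
    rw [← Perm.mul_apply, ← hcomm t ht, Perm.mul_apply, t.injective.eq_iff]
  obtain ⟨r, hr, t, ht, htr⟩ : ∃ r, y r = r ∧ ∃ t ∈ T, t r ≠ r := by
    by_contra hcon
    push Not at hcon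
    obtain ⟨w, hw⟩ := Finset.card_pos.1 (by omega : 0 < y.support.card)
    obtain ⟨z, hz, hzo, hzw⟩ := exists_prime_order_fix hP w (by
      have : orbit T w ⊆ (y.support : Finset α) := by
        rintro _ ⟨t, rfl⟩
        exact mem_support.2 fun h => mem_support.1 hw ((hinv t t.2 w).1 h)
      have := Set.ncard_le_ncard this
      rw [Set.ncard_coe_finset] at this
      omega)
    obtain ⟨m, h1, -, h3, -⟩ := supp hα hprim hA (hTG hz) Nat.prime_three (by norm_num) hzo
    have h8 := card_support_le_of_fix (g := z) (s := insert w y.supportᶜ) (by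
      intro x hx
      rcases Finset.mem_insert.1 hx with rfl | hx
      · exact hzw
      · exact hcon x (by simpa using hx) z hz)
    rw [Finset.card_insert_of_notMem (by simpa using hw)] at h8
    omega
  have hsub : orbit T r ⊆ (y.supportᶜ \ {u, v} : Finset α) := by
    rintro _ ⟨s, rfl⟩
    simp only [Finset.coe_sdiff, Finset.coe_compl, Finset.coe_insert, Finset.coe_singleton,
      Set.mem_sdiff, Set.mem_compl_iff, Finset.mem_coe, mem_support, not_not, Set.mem_insert_iff,
      Set.mem_singleton_iff, not_or]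
    refine ⟨(hinv s s.2 r).2 hr, fun h => htr ?_, fun h => htr ?_⟩
    · have : r = u := (s : Perm α).injective (h.trans (hfix s s.2).1.symm)
      rw [this, (hfix t ht).1]
    · have : r = v := (s : Perm α).injective (h.trans (hfix s s.2).2.symm)
      rw [this, (hfix t ht).2]
  have hcard : (y.supportᶜ \ {u, v} : Finset α).card = 3 := by
    rw [Finset.card_sdiff_of_subset (by
      intro x hx
      simp only [Finset.mem_insert, Finset.mem_singleton] at hx
      rcases hx with rfl | rfl
      · simpa using hu.1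
      · simpa using hv.1), hF, Finset.card_pair huv]
  have heq : orbit T r = (y.supportᶜ \ {u, v} : Finset α) := by
    refine Set.eq_of_subset_of_ncard_le hsub ?_
    obtain ⟨k, hk⟩ := hP.card_orbit r
    rw [Nat.card_coe_set_eq] at hk
    rw [Set.ncard_coe_finset, hcard, hk]
    refine Nat.le_self_pow (fun h0 => htr ?_) 3
    rw [h0, pow_zero, Set.ncard_eq_one] at hk
    obtain ⟨a, ha⟩ := hk
    have h9 : t r ∈ orbit T r := ⟨⟨t, ht⟩, rfl⟩
    have h10 := mem_orbit_self (M := T) r
    rw [ha] at h9 h10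
    exact h9.trans h10.symm
  have hpr : p ∈ orbit T r := by
    rw [heq]; simp [hp, Ne.symm hu.2.1, Ne.symm hv.2.1]
  have hqr : q ∈ orbit T r := by
    rw [heq]; simp [hq, Ne.symm hu.2.2, Ne.symm hv.2.2]
  obtain ⟨g, hg⟩ := (orbit_eq_iff.2 hpr).symm ▸ hqr
  exact ⟨g, hTG g.2, hcomm g g.2, hg⟩

theorem trans_nine (h2 : IsMultiplyPretransitive G α 2) (hc : Nat.card G = 7920) {u v : α}
    (huv : u ≠ v) {w w' : α} (hwu : w ≠ u) (hwv : w ≠ v) (hwu' : w' ≠ u) (hwv' : w' ≠ v) :
    ∃ g ∈ G, g u = u ∧ g v = v ∧ g w = w' ∧ g ^ 9 = 1 := by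
  obtain ⟨T, hTG, hT, -, hfix⟩ := exists_nine hα h2 hc huv G.one_mem (one_pow 3) rfl rfl
  have hP : IsPGroup 3 T := IsPGroup.of_card hT
  have hsub : orbit T w ⊆ (({u, v} : Finset α)ᶜ : Finset α) := by
    rintro _ ⟨s, rfl⟩
    simp only [Finset.coe_compl, Finset.coe_insert, Finset.coe_singleton, Set.mem_compl_iff,
      Set.mem_insert_iff, Set.mem_singleton_iff, not_or]
    exact ⟨fun h => hwu ((s : Perm α).injective (h.trans (hfix s s.2).1.symm)),
      fun h => hwv ((s : Perm α).injective (h.trans (hfix s s.2).2.symm))⟩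
  have heq : orbit T w = (({u, v} : Finset α)ᶜ : Finset α) := by
    refine Set.eq_of_subset_of_ncard_le hsub ?_
    rw [Set.ncard_coe_finset, Finset.card_compl, hα, Finset.card_pair huv]
    by_contra hlt
    obtain ⟨z, hz, hzo, hzw⟩ := exists_prime_order_fix hP w (by omega)
    have h1 := three_supp hα hprim hA h2 hc (hTG hz) hzo
    have h3 := card_support_le_of_fix (g := z) (s := {w, u, v})
      (by simp [hzw, (hfix z hz).1, (hfix z hz).2])
    rw [Finset.card_insert_of_notMem (by simp [hwu, hwv]), Finset.card_pair huv] at h3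
    omega
  have h1 : w' ∈ orbit T w := by rw [heq]; simp [hwu', hwv']
  obtain ⟨g, hg⟩ := h1
  refine ⟨g, hTG g.2, (hfix g g.2).1, (hfix g g.2).2, hg, ?_⟩
  have := pow_card_eq_one' (x := g)
  rw [hT] at this
  exact congrArg Subtype.val this

theorem two_supp (h2 : IsMultiplyPretransitive G α 2) (hc : Nat.card G = 7920) {t : Perm α}
    (ht : t ∈ G) (ho : orderOf t = 2) : t.support.card ≠ 4 := by
  intro h4
  have htt : ∀ x, t (t x) = x := fun x => by
    rw [← Perm.mul_apply, ← sq, ← ho, pow_orderOf_eq_one]; rfl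
  obtain ⟨a, ha⟩ := Finset.card_pos.1 (by omega : 0 < t.support.card)
  have hab : t a ≠ a := mem_support.1 ha
  obtain ⟨c, hc1, hc2⟩ := Finset.exists_mem_notMem_of_card_lt_card
    (s := {a, t a}) (t := t.support) (lt_of_le_of_lt Finset.card_le_two (by omega))
  simp only [Finset.mem_insert, Finset.mem_singleton, not_or] at hc2
  have hcd : t c ≠ c := mem_support.1 hc1
  have hda : t c ≠ a := fun h => hc2.2 (by rw [← h, htt])
  have hdb : t c ≠ t a := t.injective.ne hc2.1
  have hsupp : t.support = {a, t a, c, t c} := by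
    refine (Finset.eq_of_subset_of_card_le ?_ ?_).symm
    · intro x hx
      simp only [Finset.mem_insert, Finset.mem_singleton] at hx
      rcases hx with rfl | rfl | rfl | rfl <;> simp [hab, hcd]
    · rw [h4, Finset.card_insert_of_notMem (by simp [hab.symm, Ne.symm hc2.1, hda.symm]),
        Finset.card_insert_of_notMem (by simp [Ne.symm hc2.2, Ne.symm hc2.1]),
        Finset.card_pair hcd.symm]
  have hfix : ∀ x, x ≠ a → x ≠ t a → x ≠ c → x ≠ t c → t x = x := fun x h1 h2 h3 h4 => by
    rw [← notMem_support, hsupp]; simp [h1, h2, h3, h4]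
  obtain ⟨g, hg, hga, hgb, hgc, hg9⟩ := trans_nine hα hprim hA h2 hc hab.symm hc2.1 hc2.2 hda hdb
  have h1 : t * (g * t * g⁻¹) = 1 := by
    by_contra h1
    refine hA (alternatingGroup_le_of_card_support_le_three hprim
      (G.mul_mem ht (G.mul_mem (G.mul_mem hg ht) (G.inv_mem hg))) h1 ?_)
    refine le_trans (Finset.card_le_card (t := {c, t c, g (t c)}) fun x hx => ?_)
      Finset.card_le_three
    by_contra hcon
    simp only [Finset.mem_insert, Finset.mem_singleton, not_or] at hcon
    apply mem_support.1 hx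
    obtain ⟨x, rfl⟩ := g.surjective x
    simp only [Perm.mul_apply, Perm.coe_inv, symm_apply_apply]
    by_cases hxa : x = a
    · rw [hxa, hgb, htt, hga]
    by_cases hxb : x = t a
    · rw [hxb, htt, hga, hgb]
    rw [hfix x hxa hxb (fun h => hcon.2.1 (by rw [h, hgc])) (fun h => hcon.2.2 (by rw [h]))]
    exact hfix _ (fun h => hxa (g.injective (h.trans hga.symm)))
      (fun h => hxb (g.injective (h.trans hgb.symm))) hcon.1 hcon.2.1
  have h3 : g (g c) = c := by
    have := DFunLike.congr_fun h1 (g c)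
    simp only [Perm.mul_apply, Perm.coe_inv, symm_apply_apply, Perm.coe_one, id] at this
    rw [hgc] at this ⊢
    exact t.injective this
  have h5 : (g ^ 9) c = g c := by
    simp only [pow_succ, pow_zero, one_mul, Perm.mul_apply, h3]
  rw [hg9, hgc] at h5
  exact hcd h5.symm

theorem eq_one_of_fix_four (h2 : IsMultiplyPretransitive G α 2) (hc : Nat.card G = 7920)
    (hle : G ≤ alternatingGroup α) {g : Perm α} (hg : g ∈ G) {s : Finset α} (hs : s.card = 4)
    (h : ∀ x ∈ s, g x = x) : g = 1 := by
  by_contra hne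
  obtain ⟨p, hp, hpd⟩ := Nat.exists_prime_and_dvd (orderOf_eq_one_iff.not.2 hne)
  have ho := orderOf_pow_orderOf_div (orderOf_pos g).ne' hpd
  set k := g ^ (orderOf g / p)
  have hk : k ∈ G := G.pow_mem hg _
  have h7 := card_support_le_of_fix (g := k) (s := s)
    fun x hx => pow_apply_eq_self_of_apply_eq_self (h x hx) _
  obtain ⟨m, hm1, hm2, -⟩ := exists_supp hp ho
  have hp8 : p ≤ 8 := by nlinarith
  obtain ⟨n, h1, -, h3, h4⟩ := supp hα hprim hA hk hp hp8 ho
  have hp2 := hp.two_le
  have hp3 : p ≤ 3 := by nlinarith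
  have hsign : sign k = 1 := mem_alternatingGroup.1 (hle hk)
  interval_cases p
  · have : n = 2 ∨ n = 3 := by omega
    rcases this with rfl | rfl
    · exact two_supp hα hprim hA h2 hc hk ho h3
    · rw [hsign] at h4
      exact absurd h4 (by decide)
  · have := three_supp hα hprim hA h2 hc hk ho
    omega

theorem sharp (h2 : IsMultiplyPretransitive G α 2) (hc : Nat.card G = 7920)
    (hle : G ≤ alternatingGroup α) :
    IsMultiplyPretransitive G α 4 ∧ ∀ x : Fin 4 ↪ α, stabilizer G x = ⊥ := by
  have hst : ∀ x : Fin 4 ↪ α, stabilizer G x = ⊥ := by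
    intro x
    rw [eq_bot_iff]
    intro g hg
    refine Subtype.ext (eq_one_of_fix_four hα hprim hA h2 hc hle g.2
      (s := Finset.univ.map x) (by simp) ?_)
    intro y hy
    obtain ⟨i, -, rfl⟩ := Finset.mem_map.1 hy
    exact DFunLike.congr_fun hg i
  refine ⟨⟨fun x y => ?_⟩, hst⟩
  have h1 := index_stabilizer G x
  rw [hst, Subgroup.index_bot, hc] at h1
  have h3 : orbit G x = Set.univ := by
    refine Set.eq_of_subset_of_ncard_le (Set.subset_univ _) ?_
    refine le_of_eq_of_le ?_ h1.le
    rw [Set.ncard_univ, Nat.card_eq_fintype_card, Fintype.card_embedding_eq, hα]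
    simp [Nat.descFactorial]
  exact (h3 ▸ Set.mem_univ y : y ∈ orbit G x)

theorem card_of_even (hG : ¬ Group.IsSolvable G) (hle : G ≤ alternatingGroup α) :
    Nat.card G = 660 ∨ Nat.card G = 7920 := by
  have h11 : Fact (Nat.Prime 11) := ⟨by norm_num⟩
  have hα' : Nat.card α = 11 := by rw [Nat.card_eq_fintype_card, hα]
  have h2 := (isSolvable_or_two_pretransitive (G := G) hα').resolve_left hG
  have hd := descFactorial_dvd_card (G := G) (α := α) 2 (by omega)
  have hb := card_le_descFactorial_half hprim hA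
  have hf := card_dvd_factorial (G := G) (Ω := α)
  rw [hα'] at hd hf
  rw [hα] at hb
  obtain ⟨P⟩ : Nonempty (Sylow 11 G) := inferInstance
  obtain ⟨-, -, -, r, hr, hN, hc⟩ := sylow_prime_degree hα' P
  have hn := card_sylow_modEq_one 11 G
  have hodd : ¬ 2 ∣ r := by
    intro h
    obtain ⟨c, e, hP, he⟩ := exists_coord_sylow hα' P
    obtain ⟨t, ht⟩ := exists_prime_orderOf_dvd_card' 2 (G := Subgroup.normalizer (P : Set G))
      (by rw [hN]; exact Dvd.dvd.mul_left h _)
    have ht' : orderOf (t : G) = 2 := by rw [Subgroup.orderOf_coe, ht]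
    have htN : (t : G) ∈ Subgroup.normalizer (Subgroup.zpowers c : Set G) := by
      rw [← hP]; exact t.2
    obtain ⟨b, hb⟩ := reflection_of_isAff (by norm_num) ht' ((mem_normalizer_iff_isAff he).1 htN)
    obtain ⟨n, h1, h3, h4, h5⟩ := supp hα hprim hA (t : G).2 Nat.prime_two (by norm_num)
      (by rw [Subgroup.orderOf_coe, ht'])
    rw [mem_alternatingGroup.1 (hle (t : G).2)] at h5
    have h6 : n ≠ 5 := by
      rintro rfl
      exact absurd h5 (by decide)
    obtain ⟨x, hx, y, hy, hxy⟩ := Finset.one_lt_card.1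
      (by rw [Finset.card_compl]; omega : 1 < ((t : G) : Perm α).supportᶜ.card)
    have hx' : (t : G) • x = x := notMem_support.1 (Finset.mem_compl.1 hx)
    have hy' : (t : G) • y = y := notMem_support.1 (Finset.mem_compl.1 hy)
    have h7 := hb x
    have h8 := hb y
    rw [hx'] at h7
    rw [hy'] at h8
    apply hxy
    apply e.injective
    have h9 : (2 : ZMod 11) ≠ 0 := two_ne_zero_zmod
    apply mul_left_cancel₀ h9
    linear_combination h7 - h8
  have hr1 : r ≠ 1 := fun h => hG (isSolvable_of_card_normalizer_eq hα' P (by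
    rw [h] at hN; exact hN))
  have hr5 : r = 5 := by
    have := Nat.le_of_dvd (by norm_num) hr
    interval_cases r <;> omega
  have h7 := not_seven hα hprim hA
  have h25 := not_twentyfive hα hprim hA
  simp only [Nat.descFactorial] at hd hb
  norm_num at hd hb
  rw [hr5] at hc
  rcases key_count (Nat.card (Sylow 11 G)) (by omega) hn (by omega) (by
    rw [show 55 * Nat.card (Sylow 11 G) = Nat.card G by omega]
    exact Nat.mod_eq_zero_of_dvd hf) with h | h | h | h <;> omega

end

/-- A non-solvable transitive permutation group on 11 points that does not contain the alternating group is either sharply 4-transitive (of order 7920) or isomorphic to the projective special linear group of degree 2 over the field with 11 elements. -/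
theorem result {α : Type*} [Fintype α] [DecidableEq α] (hα : Fintype.card α = 11) (G : Subgroup (Equiv.Perm α)) [MulAction.IsPretransitive G α] (hG : ¬ Group.IsSolvable G) (hA : ¬ alternatingGroup α ≤ G) : (MulAction.IsMultiplyPretransitive G α 4 ∧ ∀ x : Fin 4 ↪ α, MulAction.stabilizer G x = ⊥) ∨ Nonempty (G ≃* Matrix.ProjectiveSpecialLinearGroup (Fin 2) (ZMod 11)) := by
  have h11 : Fact (Nat.Prime 11) := ⟨by norm_num⟩
  have hα' : Nat.card α = 11 := by rw [Nat.card_eq_fintype_card, hα]
  have hprim : IsPreprimitive G α := IsPreprimitive.of_prime_card (by rw [hα']; norm_num)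
  by_cases hle : G ≤ alternatingGroup α
  · rcases card_of_even hα hprim hA hG hle with h | h
    · right
      have := simple_of_prime_degree (G := G) (m := 12) (r := 5) h11.out hα' (by norm_num)
        (by norm_num) (by norm_num) (by norm_num) h
      exact Cfsg.Agent.S0498.result 11 (Or.inl rfl) (by rw [h]; norm_num) (ZMod.card 11)
    · exact Or.inl (sharp hα hprim hA
        ((isSolvable_or_two_pretransitive (G := G) hα').resolve_left hG) h hle)
  exfalso
  have : Nontrivial α := Fintype.one_lt_card_iff_nontrivial.1 (by omega)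
  let H := G ⊓ alternatingGroup α
  have hH : ¬ Group.IsSolvable H := by
    intro hs
    apply hG
    refine Group.isSolvable_of_ker_le_range (Subgroup.inclusion (inf_le_left : H ≤ G))
      (sign.comp G.subtype) fun g hg => ⟨⟨g, g.2, hg⟩, rfl⟩
  have hidx : (alternatingGroup α).relIndex G = 2 := by
    have h1 := Subgroup.relIndex_dvd_index_of_normal (alternatingGroup α) G
    rw [alternatingGroup.index_eq_two] at h1
    rcases (Nat.dvd_prime Nat.prime_two).1 h1 with h | h
    · exact absurd (Subgroup.relIndex_eq_one.1 h) hle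
    · exact h
  have hcard : Nat.card H * 2 = Nat.card G := by
    rw [← hidx, ← ((alternatingGroup α).subgroupOf G).card_mul_index, Subgroup.relIndex,
      ← Subgroup.inf_subgroupOf_left,
      Nat.card_congr (Subgroup.subgroupOfEquivOfLe (inf_le_left : H ≤ G)).toEquiv]
  have hHt : IsPretransitive H α := by
    have hne : (alternatingGroup α).subgroupOf G ≠ ⊥ := by
      intro h
      apply hH
      have : Subsingleton H := ⟨fun a b => by
        have ha : (⟨a, a.2.1⟩ : G) ∈ (alternatingGroup α).subgroupOf G := a.2.2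
        have hb : (⟨b, b.2.1⟩ : G) ∈ (alternatingGroup α).subgroupOf G := b.2.2
        rw [h, Subgroup.mem_bot] at ha hb
        exact Subtype.ext (congrArg (Subtype.val : G → Perm α) (ha.trans hb.symm))⟩
      infer_instance
    have := isPretransitive_of_normal_of_prime_degree hα' _ hne
    refine ⟨fun x y => ?_⟩
    obtain ⟨g, hg⟩ := exists_smul_eq ((alternatingGroup α).subgroupOf G) x y
    exact ⟨⟨((g : G) : Perm α), (g : G).2, g.2⟩, hg⟩
  have hHp : IsPreprimitive H α := IsPreprimitive.of_prime_card (by rw [hα']; norm_num)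
  have hHA : ¬ alternatingGroup α ≤ H := fun h => hA (h.trans inf_le_left)
  rcases card_of_even hα hHp hHA hH inf_le_right with h | h
  · obtain ⟨P⟩ : Nonempty (Sylow 11 G) := inferInstance
    obtain ⟨-, -, -, r, hr, hN, hc⟩ := sylow_prime_degree hα' P
    have hn : Nat.card (Sylow 11 G) % 11 = 1 := card_sylow_modEq_one 11 G
    have hr10 : r = 10 := by
      have := Nat.le_of_dvd (by norm_num) hr
      interval_cases r <;> omega
    have h3 := Cfsg.Agent.S0676.result hα G hG P (by
      change Even (Nat.card (Subgroup.normalizer (P : Set G)))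
      rw [hN, hr10]; decide)
    have hd := descFactorial_dvd_card (G := G) (α := α) 3 (by omega)
    rw [hα'] at hd
    simp only [Nat.descFactorial] at hd
    omega
  · have h2 := (isSolvable_or_two_pretransitive (G := H) hα').resolve_left hH
    have h4 := (sharp hα hHp hHA h2 h inf_le_right).1
    have hone := @eq_one_of_fix_four α _ _ hα H hHp hHA h2 h inf_le_right
    obtain ⟨g, hg, hgA⟩ := Set.not_subset.1 hle
    obtain ⟨s, -, hs⟩ := Finset.exists_subset_card_eq (s := (Finset.univ : Finset α)) (n := 4)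
      (by rw [Finset.card_univ]; omega)
    obtain ⟨k, hk⟩ := exists_smul_eq_perm h4 (by omega) s hs.le g
    set t : Perm α := (k : Perm α)⁻¹ * g with ht
    have htG : t ∈ G := G.mul_mem (G.inv_mem k.2.1) hg
    have htA : t ∉ alternatingGroup α := fun h => hgA (by
      have := (alternatingGroup α).mul_mem k.2.2 h
      rwa [ht, mul_inv_cancel_left] at this)
    have hts : ∀ x ∈ s, t x = x := fun x hx => by
      rw [ht, Perm.mul_apply, ← hk x hx]
      exact symm_apply_apply _ _
    have hsign : sign t = -1 := (Int.units_eq_one_or _).resolve_left htA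
    have ht2 : t ^ 2 = 1 := hone ⟨G.pow_mem htG 2, by
      change sign (t ^ 2) = 1
      rw [map_pow, hsign]; decide⟩ hs fun x hx => pow_apply_eq_self_of_apply_eq_self (hts x hx) _
    have ho : orderOf t = 2 := orderOf_eq_prime ht2 fun h => htA (h ▸ one_mem _)
    obtain ⟨n, h1, -, h3, h5⟩ := supp hα hprim hA htG Nat.prime_two (by norm_num) ho
    have h7 := card_support_le_of_fix hts
    have hn : n ≠ 2 := by
      rintro rfl
      rw [hsign] at h5
      exact absurd h5 (by decide)
    have h6 : t.support.card = 6 := by omega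
    refine fix_five hα hprim hA h6 fun p q hp hq => ?_
    obtain ⟨s', hs1, hs2, hs3⟩ := Finset.exists_subsuperset_card_eq (s := {p}) (t := t.supportᶜ)
      (n := 4) (by simpa using hp) (by simp) (by rw [Finset.card_compl]; omega)
    obtain ⟨m, hm⟩ := exists_smul_eq_perm h4 (by omega) s' hs3.le (swap p q)
    have hfix : ∀ x ∈ s', t x = x := fun x hx => by simpa using hs2 hx
    refine ⟨m, m.2.1, ?_, by
      have := hm p (hs1 (Finset.mem_singleton_self p))
      rwa [swap_apply_left] at this⟩
    have h8 : (m : Perm α)⁻¹ * t * m * t⁻¹ = 1 := by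
      refine hone ⟨G.mul_mem (G.mul_mem (G.mul_mem (G.inv_mem m.2.1) htG) m.2.1) (G.inv_mem htG),
        ?_⟩ hs3 fun x hx => ?_
      · change sign _ = 1
        simp only [map_mul, map_inv, hsign, mem_alternatingGroup.1 m.2.2]
        decide
      · have h9 : t⁻¹ x = x := by rw [Perm.inv_eq_iff_eq, hfix x hx]
        have h10 : (m : Perm α) x = swap p q x := hm x hx
        have h11 : t (swap p q x) = swap p q x := by
          rw [swap_apply_def]
          split_ifs
          · exact hq
          · exact hp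
          · exact hfix x hx
        simp only [Perm.mul_apply, h9, h10, h11]
        rw [Perm.inv_eq_iff_eq, h10]
    rw [mul_inv_eq_one, mul_assoc, inv_mul_eq_iff_eq_mul] at h8
    exact h8.symm

end Cfsg.Agent.S0679
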