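import Cfsg.Agent.Base
import Cfsg.Statements.S0680
import Cfsg.Agent.Perm.Sharp2

set_option autoImplicit false
open Cfsg

namespace Cfsg.Agent.S0680

/-- A finite sharply doubly transitive permutation group has degree a prime power `p ^ j`; a Sylow `p`-subgroup is normal, elementary abelian and regular, and consists of the identity together with the elements without fixed points. (Frobenius' Theorem is not needed.) -/
theorem result {α : Type*} [Fintype α] [DecidableEq α] (G : Subgroup (Equiv.Perm α)) [MulAction.IsMultiplyPretransitive G α 2] (hsharp : ∀ x : Fin 2 ↪ α, MulAction.stabilizer G x = ⊥) (h2 : 2 ≤ Fintype.card α) : ∃ p j : ℕ, p.Prime ∧ 1 ≤ j ∧ Fintype.card α = p ^ j ∧ ∀ (hp : Fact p.Prime) (P : Sylow p G), (P : Subgroup G).Normal ∧ IsMulCommutative (P : Subgroup G) ∧ (∀ x ∈ (P : Subgroup G), x ^ p = 1) ∧ MulAction.IsPretransitive (P : Subgroup G) α ∧ (∀ a : α, MulAction.stabilizer (P : Subgroup G) a = ⊥) ∧ ∀ g : G, g ∈ (P : Subgroup G) ↔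 g = 1 ∨ ∀ a : α, g • a ≠ a := by
  have h := CL.Perm.sharp2_of_stabilizer ‹_› hsharp
  have : Nontrivial α := Fintype.one_lt_card_iff_nontrivial.mp h2
  obtain ⟨p, j, K, hp, hj, hn, hK, hN, hcomm, hpow, hmem, htr⟩ := h.exists_kernel
  refine ⟨p, j, hp, hj, by rw [← hn, Nat.card_eq_fintype_card], fun _ P => ?_⟩
  have hPK : (P : Subgroup G) = K := by
    have hKp : IsPGroup p K := IsPGroup.of_card hK
    symm
    apply Subgroup.eq_of_le_of_card_ge (hKp.le_sylow_of_normal P)
    obtain ⟨i, hi⟩ := IsPGroup.iff_card.mp P.isPGroup'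
    have hdvd := Subgroup.card_subgroup_dvd_card (P : Subgroup G)
    rw [h.card_eq, hi, hn] at hdvd
    have hcop : Nat.Coprime (p ^ i) (p ^ j - 1) := by
      apply Nat.Coprime.pow_left
      rw [hp.coprime_iff_not_dvd]
      intro hd
      have h1 : p ∣ p ^ j := dvd_pow_self p (by omega)
      have h2 := (Nat.dvd_sub h1 hd)
      rw [Nat.sub_sub_self (Nat.one_le_pow _ _ hp.pos)] at h2
      exact hp.one_lt.ne' (Nat.dvd_one.mp h2)
    rw [hi, hK]
    exact Nat.le_of_dvd (pow_pos hp.pos _) (hcop.dvd_of_dvd_mul_right hdvd)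
  rw [hPK]
  refine ⟨hN, ⟨⟨fun x y => Subtype.ext (hcomm x x.2 y y.2)⟩⟩, hpow, ⟨fun a b => ?_⟩, fun a => ?_, hmem⟩
  · obtain ⟨k, hk, hab⟩ := htr a b
    exact ⟨⟨k, hk⟩, hab⟩
  · rw [eq_bot_iff]
    intro k hk
    rcases (hmem k).mp k.2 with h1 | h1
    · exact Subgroup.mem_bot.mpr (Subtype.ext h1)
    · exact absurd hk (h1 a)

end Cfsg.Agent.S0680
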