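import Cfsg.Agent.Base
import Cfsg.Statements.S0682
import Cfsg.Agent.Perm.NearField

set_option autoImplicit false
open Cfsg

namespace Cfsg.Agent.S0682

/-- A finite near-field has prime-power order; its additive group is commutative of prime exponent. -/
theorem result {F : Type*} [Cfsg.NearField F] [Finite F] : ∃ p j : ℕ, p.Prime ∧ 1 ≤ j ∧ Nat.card F = p ^ j ∧ (∀ x y : F, x + y = y + x) ∧ ∀ x : F, p • x = 0 := by
  have h := CL.Perm.NF.sharp2_affine F
  have : Nontrivial F := ⟨0, 1, NearField.zero_ne_one⟩
  obtain ⟨p, j, K, hp, hj, hn, hK, hN, hcomm, hpow, hmem, htr⟩ := h.exists_kernel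
  let t : F → CL.Perm.NF.affine F := fun b =>
    ⟨_, CL.Perm.NF.affineEquiv_mem 1 b NearField.zero_ne_one.symm⟩
  have ht : ∀ b x : F, t b • x = x + b := fun b x => by
    change x * 1 + b = _
    rw [mul_one]
  have htK : ∀ b, t b ∈ K := by
    intro b
    rw [hmem]
    by_cases hb : b = 0
    · left
      ext x
      change t b • x = x
      rw [ht, hb, add_zero]
    · right
      intro a ha
      rw [ht] at ha
      exact hb (add_left_cancel (ha.trans (add_zero a).symm))
  refine ⟨p, j, hp, hj, hn, fun x y => ?_, fun x => ?_⟩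
  · have := congrArg (· • (0 : F)) (hcomm _ (htK y) _ (htK x))
    simpa [mul_smul, ht] using this
  · have h1 : ∀ n : ℕ, (t x) ^ n • (0 : F) = n • x := by
      intro n
      induction n with
      | zero => simp
      | succ n ih => rw [pow_succ', mul_smul, ih, ht, succ_nsmul]
    rw [← h1, hpow _ (htK x), one_smul]

end Cfsg.Agent.S0682
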