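import Cfsg.Statements.S0684
import Cfsg.Agent.Base
import Cfsg.Agent.Perm.RegLinStruct

set_option autoImplicit false
open Cfsg

namespace Cfsg.Agent.S0684

/-- Point stabiliser of a sharply doubly transitive group not of semilinear type: a maximal normal abelian subgroup `A` of a linear group `H` that is regular on non-zero vectors and has no irreducible cyclic normal subgroup is cyclic and reducible, and the order of `A` divides `p ^ k - 1` for `k` the dimension of a minimal `A`-invariant subspace. -/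
theorem result {p : ℕ} [Fact p.Prime] {V : Type*} [AddCommGroup V] [Module (ZMod p) V] [Finite V] (H : Subgroup (V ≃ₗ[ZMod p] V)) (hreg : ∀ v w : V, v ≠ 0 → w ≠ 0 → ∃! h : H, (h : V ≃ₗ[ZMod p] V) v = w) (hI : ∀ A : Subgroup H, A.Normal → IsCyclic A → ∃ W : Submodule (ZMod p) V, W ≠ ⊥ ∧ W ≠ ⊤ ∧ ∀ a ∈ A, ∀ v ∈ W, ((a : H) : V ≃ₗ[ZMod p] V) v ∈ W) (A : Subgroup H) (hAn : A.Normal) (hAc : IsMulCommutative A) (hAmax : ∀ B : Subgroup H, B.Normal → IsMulCommutative B → A ≤ B → B = A) : IsCyclic A ∧ ∃ W : Submodule (ZMod p) V, W ≠ ⊥ ∧ W ≠ ⊤ ∧ (∀ a ∈ A, ∀ v ∈ W, ((a : H) : V ≃ₗ[ZMod p] V) v ∈ W) ∧ (∀ W' : Submodule (ZMod p) V, W' ≤ W → (∀ a ∈ A, ∀ v ∈ W', ((a : H) : V ≃ₗ[ZMod p] V) v ∈ W') → W' = ⊥ ∨ W' = W) ∧ Nat.card A ∣ p ^ Module.finrank (ZMod p) W - 1 := by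
  have := CL.Perm.nontrivial_of_regLin hI
  have := CL.Perm.finite_of_reg (D := H) hreg
  have hc := ((CL.Perm.isFPF_of_reg (D := H) hreg).subgroup A).isCyclic_of_comm
  obtain ⟨W₀, h1, h2, h3⟩ := hI A hAn hc
  obtain ⟨W, ⟨hW1, hW2, hW3⟩, hmin⟩ := (wellFounded_lt (α := Submodule (ZMod p) V)).has_min
    {W | W ≠ ⊥ ∧ W ≤ W₀ ∧ ∀ a ∈ A, ∀ v ∈ W, ((a : H) : V ≃ₗ[ZMod p] V) v ∈ W} ⟨W₀, h1, le_rfl, h3⟩
  refine ⟨hc, W, hW1, fun h => h2 (top_le_iff.mp (h ▸ hW2)), hW3, fun W' h4 h5 => ?_, ?_⟩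
  · rw [or_iff_not_imp_left]
    exact fun h6 => h4.eq_or_lt.resolve_right (hmin W' ⟨h6, h4.trans hW2, h5⟩)
  · let S : SubMulAction A V :=
      { carrier := (W : Set V) \ {0}
        smul_mem' := fun a v hv => ⟨hW3 a a.2 v hv.1, (smul_ne_zero_iff_ne a).mpr hv.2⟩ }
    have h4 := CL.Perm.card_dvd_of_free S fun a v hv h => Subtype.ext
      (CL.Perm.eq_of_reg (D := H) hreg hv.2 (h.trans (one_smul H v).symm))
    have h5 : Nat.card S = Nat.card W - 1 := Set.ncard_sdiff_singleton_of_mem W.zero_mem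
    rwa [h5, Module.natCard_eq_pow_finrank (K := ZMod p) (V := W), Nat.card_zmod] at h4

end Cfsg.Agent.S0684
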