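import Cfsg.Statements.S0687
import Cfsg.Agent.Base
import Cfsg.Agent.Perm.RegLinStruct

set_option autoImplicit false
open Cfsg

namespace Cfsg.Agent.S0687

/-- In a linear group over the prime field that is regular on non-zero vectors and has no irreducible cyclic normal subgroup, a normal subgroup `N` minimal among the non-abelian normal subgroups centralising a maximal normal abelian subgroup `A` is irreducible on `V`, and its centraliser is `A`. -/
theorem result {p : ℕ} [Fact p.Prime] {V : Type*} [AddCommGroup V] [Module (ZMod p) V] [Finite V] (H : Subgroup (V ≃ₗ[ZMod p] V)) (hreg : ∀ v w : V, v ≠ 0 → w ≠ 0 → ∃! h : H, (h : V ≃ₗ[ZMod p] V) v = w) (hI : ∀ A : Subgroup H, A.Normal → IsCyclic A → ∃ W : Submodule (ZMod p) V, W ≠ ⊥ ∧ W ≠ ⊤ ∧ ∀ a ∈ A, ∀ v ∈ W, ((a : H) : V ≃ₗ[ZMod p] V) v ∈ W) (A : Subgroup H) (hAn : A.Normal) (hAc : IsMulCommutative A) (hAmax : ∀ B : Subgroup H, B.Normal → IsMulCommutative B → A ≤ B → B = A) (N : Subgroup H)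 (hNn : N.Normal) (hNle : N ≤ Subgroup.centralizer (A : Set H)) (hNna : ¬ IsMulCommutative N) (hNmin : ∀ M : Subgroup H, M.Normal → M ≤ N → ¬ IsMulCommutative M → M = N) : (∀ W : Submodule (ZMod p) V, (∀ n ∈ N, ∀ v ∈ W, ((n : H) : V ≃ₗ[ZMod p] V) v ∈ W) → W = ⊥ ∨ W = ⊤) ∧ Subgroup.centralizer (N : Set H) = A := by
  have := CL.Perm.nontrivial_of_regLin hI
  have := CL.Perm.finite_of_reg (D := H) hreg
  obtain ⟨h1, h2, -⟩ := CL.Perm.regLin_main (D := H) hreg p hAc hAmax
    (CL.Perm.reducible_of_regLin hreg hI hAn hAc) hNle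
    (CL.Perm.quaternion_or_SL25 hAc hAmax (CL.Perm.isFPF_of_reg (D := H) hreg) hNle hNna hNmin)
  refine ⟨fun W hW => ?_, h2⟩
  have h3 : Nat.card W.toAddSubgroup ∣ p ^ 2 := h1 ▸ AddSubgroup.card_addSubgroup_dvd_card _
  obtain ⟨i, hi, h4⟩ := (Nat.dvd_prime_pow Fact.out).mp h3
  interval_cases i
  · exact Or.inl (Submodule.toAddSubgroup_injective (AddSubgroup.card_eq_one.mp h4))
  · exact absurd (CL.Perm.isMulCommutative_of_prime_card (D := H) hreg (h4.trans (pow_one p)) hW) hNna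
  · exact Or.inr (Submodule.toAddSubgroup_injective (AddSubgroup.eq_top_of_card_eq _ (h4.trans h1.symm)))

end Cfsg.Agent.S0687
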