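import Cfsg.Statements.S0688
import Cfsg.Agent.Base
import Cfsg.Agent.Perm.RegLinStruct

set_option autoImplicit false
open Cfsg

namespace Cfsg.Agent.S0688

/-- Degrees of the soluble exceptional sharply doubly transitive groups: if a solvable linear group over the prime field is regular on the non-zero vectors of `V` and has no irreducible cyclic normal subgroup, then `V` has 25, 49, 121 or 529 elements. -/
theorem result {p : ℕ} [Fact p.Prime] {V : Type*} [AddCommGroup V] [Module (ZMod p) V] [Finite V] (H : Subgroup (V ≃ₗ[ZMod p] V)) (hreg : ∀ v w : V, v ≠ 0 → w ≠ 0 → ∃! h : H, (h : V ≃ₗ[ZMod p] V) v = w) (hI : ∀ A : Subgroup H, A.Normal → IsCyclic A → ∃ W : Submodule (ZMod p) V, W ≠ ⊥ ∧ W ≠ ⊤ ∧ ∀ a ∈ A, ∀ v ∈ W, ((a : H) : V ≃ₗ[ZMod p] V) v ∈ W) (hsolv : Group.IsSolvable H) : Nat.card V = 25 ∨ Nat.card V = 49 ∨ Nat.card V = 121 ∨ Nat.card V = 529 := by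
  have := CL.Perm.nontrivial_of_regLin hI
  have := CL.Perm.finite_of_reg (D := H) hreg
  obtain ⟨A, N, hAn, hAc, hAmax, hNn, hNle, hNna, hNmin⟩ := CL.Perm.exists_maxAb_minNonab hreg hI
  have hN := CL.Perm.quaternion_or_SL25 hAc hAmax (CL.Perm.isFPF_of_reg (D := H) hreg) hNle hNna hNmin
  obtain ⟨h1, h2, h3⟩ := CL.Perm.regLin_main (D := H) hreg p hAc hAmax
    (CL.Perm.reducible_of_regLin hreg hI hAn hAc) hNle hN
  obtain ⟨e⟩ := hN.resolve_right fun ⟨e⟩ => CL.Perm.not_isSolvable_SL25
    (Group.isSolvable_of_surjective (f := e.toMonoidHom) e.surjective)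
  have h4 := CL.Perm.card_eq_of_reg (D := H) hreg
  have h5 : A.index ∣ 24 := by
    rw [← h2]
    refine (CL.Perm.index_centralizer_dvd_card_mulAut N).trans ?_
    rw [Nat.card_congr (MulAut.congr e).toEquiv]
    exact CL.Perm.card_mulAut_quaternion_dvd
  have hp : p.Prime := Fact.out
  have hN8 : Nat.card N = 8 := by
    rw [Nat.card_congr e.toEquiv, Nat.card_eq_fintype_card, QuaternionGroup.card]
  have h8 : 8 ∣ Nat.card H := hN8 ▸ Subgroup.card_subgroup_dvd_card N
  have h6 : Nat.card H = (p + 1) * (p - 1) := by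
    obtain ⟨q, rfl⟩ : ∃ q, p = q + 1 := ⟨p - 1, by have := hp.pos; omega⟩
    rw [h1] at h4
    rw [Nat.add_sub_cancel]
    nlinarith
  have h7 : p + 1 ∣ 24 := by
    have := mul_dvd_mul h5 h3
    rwa [A.index_mul_card, h6, Nat.mul_dvd_mul_iff_right (by have := hp.two_le; omega)] at this
  have h9 : p ≠ 3 := by
    rintro rfl
    have hN' : N = ⊤ := Subgroup.eq_top_of_card_eq _ (by rw [hN8, h6])
    have hM : IsMulCommutative ↥⁅N, N⁆ := by
      by_contra hM
      have := hNmin _ inferInstance (Subgroup.commutator_le_left N N) hM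
      have : Group.IsPerfect N := Subgroup.isPerfect_iff.mpr this
      have : Nontrivial N := Finite.one_lt_card_iff_nontrivial.mp (by rw [hN8]; norm_num)
      exact Group.IsPerfect.not_isSolvable N inferInstance
    have hle := CL.Perm.le_of_maxAb hAc hAmax hM ((Subgroup.commutator_le_left N N).trans hNle)
    rw [hN'] at hle hNle
    apply hNna
    have hx : ∀ x : H, x ∈ A := by
      intro x
      have hn : (Subgroup.zpowers x ⊔ A).Normal :=
        Subgroup.Normal.of_commutator_le _ (hle.trans le_sup_right)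
      rw [← hAmax _ hn ?_ le_sup_right]
      · exact Subgroup.mem_sup_left (Subgroup.mem_zpowers x)
      · rw [← Subgroup.le_centralizer_iff_isMulCommutative]
        refine sup_le ?_ ?_ <;> rw [Subgroup.le_centralizer_iff]
        · exact sup_le (Subgroup.zpowers x).le_centralizer
            (Subgroup.le_centralizer_iff.mp (le_top.trans hNle))
        · exact le_top.trans hNle
    refine ⟨⟨fun a b => Subtype.ext ?_⟩⟩
    exact congrArg (fun z : A => (z : H)) (hAc.is_comm.comm ⟨a, hx a⟩ ⟨b, hx b⟩)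
  have h10 : p + 1 ≤ 24 := Nat.le_of_dvd (by norm_num) h7
  rw [h6] at h8
  rw [h1]
  have h11 : p ≤ 23 := by omega
  clear * - h7 h8 h9 hp h11
  interval_cases p <;> simp_all (config := {decide := true})

end Cfsg.Agent.S0688
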