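import Cfsg.Statements.S0689
import Cfsg.Agent.Base
import Cfsg.Agent.Perm.RegLinStruct
import Cfsg.Agent.Char.Burnside

set_option autoImplicit false
open Cfsg

namespace Cfsg.Agent.S0689

/-- The insoluble sharply doubly transitive groups: a non-solvable linear group over the prime field that is regular on the non-zero vectors of `V` occurs only for `|V| = 11², 29², 59²`, and is `SL(2,5) × C_m` with `m = 1, 7, 29` respectively. -/
theorem result {p : ℕ} [Fact p.Prime] {V : Type*} [AddCommGroup V] [Module (ZMod p) V] [Finite V] (H : Subgroup (V ≃ₗ[ZMod p] V)) (hreg : ∀ v w : V, v ≠ 0 → w ≠ 0 → ∃! h : H, (h : V ≃ₗ[ZMod p] V) v = w) (hsolv : ¬ Group.IsSolvable H) : (Nat.card V = 121 ∧ Nonempty (H ≃* Matrix.SpecialLinearGroup (Fin 2) (ZMod 5))) ∨ (Nat.card V = 841 ∧ Nonempty (H ≃* Matrix.SpecialLinearGroup (Fin 2) (ZMod 5) × Multiplicative (ZMod 7))) ∨ (Nat.card V = 3481 ∧ Nonempty (H ≃* Matrix.SpecialLinearGroup (Fin 2) (ZMod 5) × Multiplicative (ZMod 29))) := by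
  have hV : Nontrivial V := by
    by_contra h
    rw [not_nontrivial_iff_subsingleton] at h
    have : Subsingleton H := ⟨fun a b => Subtype.ext (LinearEquiv.ext fun v => Subsingleton.elim _ _)⟩
    exact hsolv inferInstance
  have := CL.Perm.finite_of_reg (D := H) hreg
  have hD := CL.Perm.isFPF_of_reg (D := H) hreg
  have hI : ∀ A : Subgroup H, A.Normal → IsCyclic A → ∃ W : Submodule (ZMod p) V, W ≠ ⊥ ∧ W ≠ ⊤ ∧
      ∀ a ∈ A, ∀ v ∈ W, ((a : H) : V ≃ₗ[ZMod p] V) v ∈ W := by
    intro A hAn hA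
    by_contra hno
    push Not at hno
    refine hsolv (CL.Perm.isSolvable_of_irreducible (D := H) hreg p hA.isMulCommutative
      fun W hW => ?_)
    by_contra h
    push Not at h
    obtain ⟨a, ha, v, hv, h1⟩ := hno (AddSubgroup.toZModSubmodule p W)
      (fun h0 => h.1 ((AddSubgroup.toZModSubmodule p).injective (h0.trans (map_bot _).symm)))
      (fun h0 => h.2 ((AddSubgroup.toZModSubmodule p).injective (h0.trans (map_top _).symm)))
    exact h1 (hW a ha v hv)
  obtain ⟨A, N, hAn, hAc, hAmax, hNn, hNle, hNna, hNmin⟩ := CL.Perm.exists_maxAb_minNonab hreg hI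
  have hN := CL.Perm.quaternion_or_SL25 hAc hAmax hD hNle hNna hNmin
  obtain ⟨h1, h2, h3⟩ := CL.Perm.regLin_main (D := H) hreg p hAc hAmax
    (CL.Perm.reducible_of_regLin hreg hI hAn hAc) hNle hN
  obtain ⟨e⟩ := hN.resolve_left fun ⟨e⟩ => hsolv (by
    have h5 : Nat.card (H ⧸ A) ∣ 2 ^ 3 * 3 ^ 1 := by
      rw [← Subgroup.index_eq_card, ← h2]
      refine (CL.Perm.index_centralizer_dvd_card_mulAut N).trans ?_
      rw [Nat.card_congr (MulAut.congr e).toEquiv]
      exact CL.Perm.card_mulAut_quaternion_dvd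
    have := CL.Char.isSolvable_of_card_dvd Nat.prime_two Nat.prime_three h5
    have : Group.IsSolvable A := Group.isSolvable_of_comm fun a b => mul_comm' a b
    exact Group.isSolvable_of_ker_le_range A.subtype (QuotientGroup.mk' A) (by simp))
  obtain ⟨h5, h9⟩ := CL.Perm.index_centralizer_of_SL25 hD e
  rw [h2] at h5 h9
  have h4 := CL.Perm.card_eq_of_reg (D := H) hreg
  have hp : p.Prime := Fact.out
  have hN8 : Nat.card N = 120 := by rw [Nat.card_congr e.toEquiv, CL.Perm.card_SL25]
  have h8 : 120 ∣ Nat.card H := hN8 ▸ Subgroup.card_subgroup_dvd_card N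
  have h6 : Nat.card H = (p + 1) * (p - 1) := by
    obtain ⟨q, rfl⟩ : ∃ q, p = q + 1 := ⟨p - 1, by have := hp.pos; omega⟩
    rw [h1] at h4
    rw [Nat.add_sub_cancel]
    nlinarith
  have h7 : p + 1 ∣ 120 := by
    have := mul_dvd_mul h5 h3
    rwa [A.index_mul_card, h6, Nat.mul_dvd_mul_iff_right (by have := hp.two_le; omega)] at this
  have h10 : Nat.card H ∣ 120 * Nat.card A := by
    rw [← A.index_mul_card]
    exact mul_dvd_mul_right h5 _
  have hprod : ∀ r : ℕ, r.Prime → r.Coprime 120 → Nat.card H = 120 * r →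
      Nonempty (H ≃* Matrix.SpecialLinearGroup (Fin 2) (ZMod 5) × Multiplicative (ZMod r)) := by
    intro r hr hcop hH
    have := Fact.mk hr
    rw [hH, Nat.mul_dvd_mul_iff_left (by norm_num)] at h10
    obtain ⟨⟨t, htA⟩, ht⟩ := exists_prime_orderOf_dvd_card' r h10
    rw [← Subgroup.orderOf_coe] at ht
    have hT : Nat.card (Subgroup.zpowers t) = r := by rw [Nat.card_zpowers, ht]
    have hcomm : ∀ (n : N) (c : Subgroup.zpowers t), Commute (N.subtype n) ((Subgroup.zpowers t).subtype c) :=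
      fun n c => (h2.ge (Subgroup.zpowers_le.mpr htA c.2)) n n.2
    have hinj : Function.Injective (N.subtype.noncommCoprod (Subgroup.zpowers t).subtype hcomm) := by
      rw [MonoidHom.noncommCoprod_injective]
      refine ⟨N.subtype_injective, (Subgroup.zpowers t).subtype_injective, ?_⟩
      rw [Subgroup.range_subtype, Subgroup.range_subtype, disjoint_iff]
      exact Subgroup.inf_eq_bot_of_coprime (by rw [hN8, hT]; exact hcop.symm)
    have hbij : Function.Bijective (N.subtype.noncommCoprod (Subgroup.zpowers t).subtype hcomm) :=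
      hinj.bijective_of_nat_card_le (by rw [Nat.card_prod, hN8, hT, hH])
    exact ⟨(MulEquiv.ofBijective _ hbij).symm.trans (e.prodCongr
      (mulEquivOfPrimeCardEq hT (by rw [Nat.card_congr Multiplicative.toAdd, Nat.card_zmod])))⟩
  have h11 : p = 11 ∨ p = 19 ∨ p = 29 ∨ p = 59 := by
    have h10 : p + 1 ≤ 120 := Nat.le_of_dvd (by norm_num) h7
    rw [h6] at h8
    have h11 : p ≤ 119 := by omega
    clear * - h7 h8 hp h11
    interval_cases p <;> simp_all (config := {decide := true})
  rcases h11 with rfl | rfl | rfl | rfl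
  · have hN' : N = ⊤ := Subgroup.eq_top_of_card_eq _ (by rw [hN8, h6])
    exact Or.inl ⟨h1, ⟨(Subgroup.topEquiv.symm.trans (MulEquiv.subgroupCongr hN'.symm)).trans e⟩⟩
  · rw [h6, show (19 + 1) * (19 - 1) = 120 * 3 from rfl, Nat.mul_dvd_mul_iff_left (by norm_num)] at h10
    exact absurd h10 h9
  · exact Or.inr (Or.inl ⟨h1, hprod 7 (by norm_num) (by norm_num) h6⟩)
  · exact Or.inr (Or.inr ⟨h1, hprod 29 (by norm_num) (by norm_num) h6⟩)

end Cfsg.Agent.S0689
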