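import Cfsg.Statements.S0690
import Cfsg.Agent.Base
import Cfsg.Agent.Perm.FPFPerfect
import Cfsg.Agent.Solv.FpfComplement

set_option autoImplicit false
open Cfsg

namespace Cfsg.Agent.S0690

/-- Zassenhaus: a perfect non-trivial group of fixed-point-free automorphisms of a finite group is isomorphic to `SL(2,5)`. -/
theorem result {K : Type*} [Group K] [Finite K] (G : Subgroup (MulAut K)) (hfpf : ∀ φ ∈ G, φ ≠ 1 → ∀ k : K, φ k = k → k = 1) (hperf : commutator G = ⊤) (hne : G ≠ ⊥) : Nonempty (G ≃* Matrix.SpecialLinearGroup (Fin 2) (ZMod 5)) := by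
  have hG : Nontrivial G := (Subgroup.nontrivial_iff_ne_bot G).mpr hne
  have hK : Nontrivial K := by
    by_contra h
    rw [not_nontrivial_iff_subsingleton] at h
    exact hne (Subgroup.eq_bot_iff_forall G |>.mpr fun φ _ => MulEquiv.ext fun k => Subsingleton.elim _ _)
  have hp : Group.IsPerfect G := ⟨hperf⟩
  have h2 : 2 ∣ Nat.card G := by
    by_contra h2
    have hodd : Odd (Nat.card G) := Nat.not_even_iff_odd.mp fun h => h2 h.two_dvd
    let Γ := K ⋊[G.subtype] G
    have : Finite Γ := Finite.of_equiv _ SemidirectProduct.equivProd.symm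
    let A : Subgroup Γ := (SemidirectProduct.inr : G →* Γ).range
    let N : Subgroup Γ := (SemidirectProduct.inl : K →* Γ).range
    have hN : N.Normal := by
      simp only [N, SemidirectProduct.range_inl_eq_ker_rightHom]
      infer_instance
    let e : G ≃* A := MonoidHom.ofInjective SemidirectProduct.inr_injective
    have hZ : IsZGroup A := by
      refine CL.Frob.isZGroup_of_odd_of_fpf (K := N) (by rw [Subgroup.normalizer_eq_top]; exact le_top)
        ?_ ?_ (by rwa [← Nat.card_congr e.toEquiv])
      · rintro _ ⟨g, rfl⟩ hg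
        rw [eq_bot_iff]
        rintro _ ⟨⟨k, rfl⟩, hk⟩
        have h1 := Subgroup.mem_centralizer_singleton_iff.mp hk
        have h3 : (g : MulAut K) k = k := by
          have := congrArg SemidirectProduct.left h1
          rw [SemidirectProduct.mul_left, SemidirectProduct.mul_left] at this
          simpa using this.symm
        rw [hfpf g g.2 (fun h0 => hg (by rw [show g = 1 from Subtype.ext h0, map_one])) k h3,
          map_one]
        exact Subgroup.one_mem _
      · obtain ⟨k, hk⟩ := exists_ne (1 : K)
        intro h0
        have : (SemidirectProduct.inl k : Γ) ∈ N := ⟨k, rfl⟩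
        rw [h0, Subgroup.mem_bot] at this
        exact hk (SemidirectProduct.inl_injective (this.trans (map_one _).symm))
    have : IsZGroup G := IsZGroup.of_injective (f := e.toMonoidHom) e.injective
    exact Group.IsPerfect.not_isSolvable G inferInstance
  obtain ⟨t, ht⟩ := exists_prime_orderOf_dvd_card' 2 h2
  have ht1 : (t : MulAut K) ≠ 1 := by
    intro h0
    rw [show t = 1 from Subtype.ext h0] at ht
    simp at ht
  have htt : (t : MulAut K) * t = 1 := by
    rw [← Subgroup.coe_mul, ← sq, ← ht, pow_orderOf_eq_one, Subgroup.coe_one]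
  have hc := MonoidHom.FixedPointFree.commute_all_of_involutive (φ := (t : MulAut K))
    (hfpf t t.2 ht1) (fun k => by rw [← MulAut.mul_apply, htt, MulAut.one_apply])
  let _ : CommGroup K := { ‹Group K› with mul_comm := fun a b => (hc a b).eq }
  exact (CL.FPF.isFPF_of_mulDistribMulAction (G := G) (M := K) fun g hg k hk =>
    hfpf g g.2 (fun h0 => hg (Subtype.ext h0)) k hk).perfect hperf

end Cfsg.Agent.S0690
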