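import Cfsg.Agent.Base
import Cfsg.Statements.S0691
import Cfsg.Agent.Perm.RegularGL2Cert

set_option autoImplicit false
open Cfsg

namespace Cfsg.Agent.S0691

theorem cert : CL.Perm.RegCert.check 5 [(2, 0, 0, 3), (0, 4, 1, 0), (1, 2, 1, 3)]
    0x1101600700c00401001500600b00201301800900e00301201700800d00100500f00a014000
    0x1400901200600a00601500c00d01401100100a01800500300c01500500001400100a005000
    0x3004004002002002003003003003004002002004001003003003001000003002002001000 = true := by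
  decide +kernel


/-- An exceptional sharply doubly transitive group of degree 5^2: the listed matrices generate a subgroup of GL(2,5) of order 24 acting regularly on the non-zero vectors. -/
theorem result (A : Matrix.GeneralLinearGroup (Fin 2) (ZMod 5)) (B : Matrix.GeneralLinearGroup (Fin 2) (ZMod 5)) (C : Matrix.GeneralLinearGroup (Fin 2) (ZMod 5)) (hA : (A : Matrix (Fin 2) (Fin 2) (ZMod 5)) = !![2, 0; 0, -2]) (hB : (B : Matrix (Fin 2) (Fin 2) (ZMod 5)) = !![0, -1; 1, 0]) (hC : (C : Matrix (Fin 2) (Fin 2) (ZMod 5)) = !![1, 2; 1, -2]) : Nat.card (Subgroup.closure ({A, B, C} : Set (Matrix.GeneralLinearGroup (Fin 2) (ZMod 5)))) = 24 ∧ ∀ v w : Fin 2 → ZMod 5, v ≠ 0 → w ≠ 0 → ∃! h : Subgroup.closure ({A, B, C} : Set (Matrix.GeneralLinearGroup (Fin 2) (ZMod 5))), Matrix.mulVec ((h : Matrix.GeneralLinearGroup (Fin 2) (ZMod 5)) : Matrix (Fin 2) (Fin 2) (ZMod 5)) v = w := by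
  have eA : (A : Matrix (Fin 2) (Fin 2) (ZMod 5)) = CL.Perm.RegCert.mat 5 (2, 0, 0, 3) := by
    rw [hA]; decide +kernel
  have eB : (B : Matrix (Fin 2) (Fin 2) (ZMod 5)) = CL.Perm.RegCert.mat 5 (0, 4, 1, 0) := by
    rw [hB]; decide +kernel
  have eC : (C : Matrix (Fin 2) (Fin 2) (ZMod 5)) = CL.Perm.RegCert.mat 5 (1, 2, 1, 3) := by
    rw [hC]; decide +kernel
  refine CL.Perm.RegCert.regular_of_check (by norm_num) _ _ _ _ cert _ ?_ ?_
  · rintro s (rfl | rfl | rfl)
    · exact ⟨_, by simp, eA⟩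
    · exact ⟨_, by simp, eB⟩
    · exact ⟨_, by simp, eC⟩
  · intro g hg
    simp only [List.mem_cons, List.not_mem_nil, or_false] at hg
    rcases hg with rfl | rfl | rfl
    · exact ⟨_, by simp, eA⟩
    · exact ⟨_, by simp, eB⟩
    · exact ⟨_, by simp, eC⟩

end Cfsg.Agent.S0691
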