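import Cfsg.Statements.S0694
import Cfsg.Agent.Base

set_option autoImplicit false
open Cfsg

namespace Cfsg.Agent.S0694

open Finset in
theorem geom_mul {q : ℕ} (hq : 1 ≤ q) (i : ℕ) : (∑ k ∈ range i, q ^ k) * (q - 1) = q ^ i - 1 := by
  have h := geom_sum_mul (q : ℤ) i
  have h1 : 1 ≤ q ^ i := Nat.one_le_pow _ _ hq
  zify [hq, h1]
  exact h

open Finset in
theorem modEq_iff {q n : ℕ} (hq : 2 ≤ q) (i : ℕ) :
    q ^ i ≡ 1 [MOD n * (q - 1)] ↔ n ∣ ∑ k ∈ range i, q ^ k := by
  have h1 : 1 ≤ q ^ i := Nat.one_le_pow _ _ (by omega)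
  rw [Nat.ModEq.comm, Nat.modEq_iff_dvd' h1, ← geom_mul (by omega),
    Nat.mul_dvd_mul_iff_right (by omega)]

open Finset in
theorem emult_geom {q r : ℕ} (hq : 2 ≤ q) (hr : r.Prime) (hrq : r ∣ q - 1)
    (h4 : r = 2 → 4 ∣ q - 1) (i : ℕ) :
    emultiplicity r (∑ k ∈ range i, q ^ k) = emultiplicity r i := by
  have hx : ¬ r ∣ q := by
    intro h
    have := Nat.dvd_sub h hrq
    rw [Nat.sub_sub_self (by omega)] at this
    exact hr.one_lt.ne' (Nat.dvd_one.mp this)
  have key : emultiplicity r (q ^ i - 1) = emultiplicity r (q - 1) + emultiplicity r i := by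
    rcases hr.eq_two_or_odd' with rfl | hodd
    · have h1 : 1 ≤ q ^ i := Nat.one_le_pow _ _ (by omega)
      have := Int.two_pow_sub_pow' (x := (q : ℤ)) (y := 1) i
        (by have := h4 rfl; zify [show 1 ≤ q by omega] at this; exact this)
        (by exact_mod_cast hx)
      rw [← Int.natCast_emultiplicity, ← Int.natCast_emultiplicity, ← Int.natCast_emultiplicity]
      push_cast [h1, show 1 ≤ q by omega]
      simpa using this
    · simpa using Nat.emultiplicity_pow_sub_pow hr hodd (x := q) (y := 1) hrq hx i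
  rw [← geom_mul (by omega), emultiplicity_mul hr.prime, add_comm] at key
  have hfin : emultiplicity r (q - 1) ≠ ⊤ := by
    rw [← finiteMultiplicity_iff_emultiplicity_ne_top, Nat.finiteMultiplicity_iff]
    exact ⟨hr.ne_one, by omega⟩
  exact WithTop.add_left_cancel hfin key

open Finset in
theorem dvd_geom_iff {q n : ℕ} (hq : 2 ≤ q) (h1 : ∀ r : ℕ, r.Prime → r ∣ n → r ∣ q - 1)
    (h4 : 4 ∣ n → 4 ∣ q - 1) (i : ℕ) : n ∣ ∑ k ∈ range i, q ^ k ↔ n ∣ i := by
  rw [Nat.dvd_iff_prime_pow_dvd_dvd, Nat.dvd_iff_prime_pow_dvd_dvd]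
  refine forall_congr' fun r => forall_congr' fun k => forall_congr' fun hr =>
    forall_congr' fun hk => ?_
  rcases Nat.eq_zero_or_pos k with rfl | hk0
  · simp
  have hrn : r ∣ n := (dvd_pow_self r hk0.ne').trans hk
  by_cases hc : r = 2 → 4 ∣ q - 1
  · rw [pow_dvd_iff_le_emultiplicity, pow_dvd_iff_le_emultiplicity,
      emult_geom hq hr (h1 r hr hrn) hc]
  · push Not at hc
    obtain ⟨rfl, hc⟩ := hc
    have hk1 : k = 1 := by
      by_contra hne
      apply hc
      apply h4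
      exact (pow_dvd_pow 2 (show 2 ≤ k by omega)).trans hk
    subst hk1
    have hodd : q % 2 = 1 := by
      have := h1 2 hr hrn
      omega
    rw [pow_one, Nat.dvd_iff_mod_eq_zero, Nat.dvd_iff_mod_eq_zero, Finset.sum_nat_mod]
    simp [Nat.pow_mod, hodd]

open Finset in
theorem geom_surj {q n : ℕ} (hn : 1 < n) (hcop : Nat.Coprime n q)
    (h : ∀ i, 0 < i → i < n → ¬ n ∣ ∑ k ∈ range i, q ^ k) (x : ℕ) :
    ∃ i, ∑ k ∈ range i, q ^ k ≡ x [MOD n] := by
  have : NeZero n := ⟨by omega⟩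
  have hlt : ∀ i j : ℕ, i < j → j < n →
      ¬ (∑ k ∈ range i, q ^ k ≡ ∑ k ∈ range j, q ^ k [MOD n]) := by
    intro i j hij hj hh
    obtain ⟨d, rfl⟩ := Nat.exists_eq_add_of_lt hij
    rw [add_assoc, Finset.sum_range_add] at hh
    have h2 : n ∣ ∑ k ∈ range (d + 1), q ^ (i + k) :=
      (Nat.modEq_zero_iff_dvd).mp (Nat.ModEq.add_left_cancel' (∑ k ∈ range i, q ^ k) (by simpa using hh.symm))
    simp_rw [pow_add, ← Finset.mul_sum] at h2
    exact h (d + 1) (by omega) (by omega) ((hcop.pow_right i).dvd_of_dvd_mul_left h2)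
  have hinj : Function.Injective (fun i : Fin n => ((∑ k ∈ range i, q ^ k : ℕ) : ZMod n)) := by
    intro i j hij
    simp only [ZMod.natCast_eq_natCast_iff] at hij
    rcases lt_trichotomy i j with h1 | h1 | h1
    · exact absurd hij (hlt i j h1 j.2)
    · exact h1
    · exact absurd hij.symm (hlt j i h1 i.2)
  obtain ⟨i, hi⟩ := (hinj.bijective_of_nat_card_le (by simp)).2 (x : ZMod n)
  exact ⟨i, (ZMod.natCast_eq_natCast_iff _ _ _).mp hi⟩


/-- The Dickson pair condition: for a prime power `q` and `n > 1`, (every prime factor of `n` divides `q - 1`, and `4 ∣ n → 4 ∣ q - 1`) holds exactly when `q ^ n ≡ 1` modulo `n * (q - 1)` but `q ^ i` is not, for `0 < i < n`. -/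
theorem result (q n : ℕ) (hq : IsPrimePow q) (hn : 1 < n) : ((∀ r : ℕ, r.Prime → r ∣ n → r ∣ q - 1) ∧ (4 ∣ n → 4 ∣ q - 1)) ↔ (q ^ n ≡ 1 [MOD n * (q - 1)] ∧ ∀ i : ℕ, 0 < i → i < n → ¬ q ^ i ≡ 1 [MOD n * (q - 1)]) := by
  have hq2 : 2 ≤ q := hq.two_le
  simp_rw [modEq_iff hq2]
  constructor
  · rintro ⟨h1, h4⟩
    simp_rw [dvd_geom_iff hq2 h1 h4]
    exact ⟨dvd_rfl, fun i hi hin h => absurd (Nat.le_of_dvd hi h) (by omega)⟩
  · rintro ⟨h1, h2⟩
    have hcop : Nat.Coprime n q := by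
      have h3 : n ∣ q ^ n - 1 := by
        rw [← geom_mul (by omega)]; exact h1.mul_right _
      have h4 : Nat.Coprime (q ^ n - 1) (q ^ n) := by
        have : 1 ≤ q ^ n := Nat.one_le_pow _ _ (by omega)
        exact (Nat.coprime_self_sub_left this).mpr (Nat.coprime_one_left _)
      exact Nat.Coprime.coprime_dvd_right (dvd_pow_self q (by omega))
        (Nat.Coprime.coprime_dvd_left h3 h4)
    have hs := geom_surj hn hcop h2
    have hA : ∀ r : ℕ, r.Prime → r ∣ n → r ∣ q - 1 := by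
      intro r hr hrn
      by_contra hnd
      have := Fact.mk hr
      have hne : ((q : ZMod r) - 1) ≠ 0 := by
        intro h0
        apply hnd
        rw [← ZMod.natCast_eq_zero_iff]
        push_cast [show 1 ≤ q by omega]
        exact h0
      obtain ⟨i, hi⟩ := hs (-((q : ZMod r) - 1)⁻¹).val
      have hi' := (ZMod.natCast_eq_natCast_iff _ _ _).mpr (hi.of_dvd hrn)
      rw [ZMod.natCast_zmod_val] at hi'
      push_cast at hi'
      have h5 := geom_sum_mul (q : ZMod r) i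
      rw [hi', neg_mul, inv_mul_cancel₀ hne] at h5
      have h6 : (q : ZMod r) ^ i = 0 := by linear_combination -h5
      have h7 : (q : ZMod r) = 0 := eq_zero_of_pow_eq_zero h6
      rw [ZMod.natCast_eq_zero_iff] at h7
      exact hr.one_lt.ne' (Nat.dvd_one.mp (hcop ▸ Nat.dvd_gcd hrn h7))
    refine ⟨hA, fun h4 => ?_⟩
    by_contra hnd
    have h2q := hA 2 Nat.prime_two (Dvd.dvd.trans (by norm_num) h4)
    have hq3 : q % 4 = 3 := by omega
    obtain ⟨i, hi⟩ := hs 2
    have hi' := hi.of_dvd h4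
    have : ∀ i : ℕ, (∑ k ∈ Finset.range i, q ^ k) % 4 = 0 ∨
        (∑ k ∈ Finset.range i, q ^ k) % 4 = 1 := by
      intro i
      induction i with
      | zero => simp
      | succ i ih =>
        rw [Finset.sum_range_succ', pow_zero]
        simp_rw [pow_succ, ← Finset.sum_mul]
        rcases ih with ih | ih <;> simp [Nat.add_mod, Nat.mul_mod, ih, hq3]
    have h8 := this i
    unfold Nat.ModEq at hi'
    omega

end Cfsg.Agent.S0694
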