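import Cfsg.Agent.Base
import Cfsg.Statements.S0695
import Cfsg.Agent.Perm.NormalMulti

set_option autoImplicit false
open Cfsg

namespace Cfsg.Agent.S0695

/-- A regular normal subgroup of a doubly primitive group of finite degree at least 2 is an elementary abelian 2-group (and the degree is a power of 2), unless the degree is 3. -/
theorem result {G : Type*} [Group G] {X : Type*} [Fintype X] [MulAction G X] (hX : 2 ≤ Fintype.card X) (h2 : MulAction.IsMultiplyPreprimitive G X 2) (N : Subgroup G) [N.Normal] (htrans : MulAction.IsPretransitive N X) (hreg : ∀ x : X, MulAction.stabilizer N x = ⊥) : Fintype.card X = 3 ∨ (IsMulCommutative N ∧ (∀ n ∈ N, n ^ 2 = 1) ∧ ∃ m : ℕ, Fintype.card X = 2 ^ m) := by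
  have : Nontrivial X := Fintype.one_lt_card_iff_nontrivial.mp hX
  rcases CL.Perm.card_eq_three_or_sq_eq_one h2 N hreg with h | h
  · left
    rwa [Nat.card_eq_fintype_card] at h
  right
  refine ⟨⟨⟨fun a b => ?_⟩⟩, h, ?_⟩
  · apply Subtype.ext
    have ha := h a a.2
    have hb := h b b.2
    have hab := h (a * b) (N.mul_mem a.2 b.2)
    rw [sq] at ha hb hab
    change (a : G) * b = b * a
    rw [mul_eq_one_iff_eq_inv] at ha hb hab
    rw [hab, mul_inv_rev, ← ha, ← hb]
  · obtain ⟨x⟩ : Nonempty X := inferInstance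
    have hc := CL.Perm.card_eq_of_regular N htrans (hreg x)
    have : Finite N := Nat.finite_of_card_ne_zero (by rw [hc]; exact Nat.card_pos.ne')
    have hp : IsPGroup 2 N := fun g => ⟨1, Subtype.ext (by simpa using h g g.2)⟩
    obtain ⟨m, hm⟩ := IsPGroup.iff_card.mp hp
    exact ⟨m, by rw [← Nat.card_eq_fintype_card, ← hc, hm]⟩

end Cfsg.Agent.S0695
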