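import Cfsg.Agent.Base
import Cfsg.Statements.S0698
import Cfsg.Agent.Perm.NormalMulti
import Cfsg.Agent.S0695
import Cfsg.Agent.S0697

set_option autoImplicit false
open Cfsg

namespace Cfsg.Agent.S0698

open MulAction Subgroup SubMulAction

/-- Jordan's Theorem on normal subgroups of multiply transitive groups: if `G` is `k`-transitive (`k > 1`) of degree greater than `k`, a non-trivial normal subgroup is `(k-1)`-transitive, except possibly for `k = 3` when it may be an elementary abelian 2-group. -/
theorem result {α : Type*} [Fintype α] [DecidableEq α] (G : Subgroup (Equiv.Perm α)) {k : ℕ} (hk : 1 < k) (hdeg : k < Fintype.card α) (hG : MulAction.IsMultiplyPretransitive G α k) (N : Subgroup G) [N.Normal] (hN : N ≠ ⊥) : MulAction.IsMultiplyPretransitive N α (k - 1) ∨ (k = 3 ∧ IsMulCommutative N ∧ ∀ n ∈ N, n ^ 2 = 1) := by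
  obtain ⟨k, rfl⟩ : ∃ j, k = j + 1 + 1 := ⟨k - 2, by omega⟩
  rw [Nat.add_sub_cancel]
  have hcard : ((k + 1).succ : ℕ∞) ≤ ENat.card α := by
    rw [ENat.card_eq_coe_natCard, Nat.card_eq_fintype_card]; exact_mod_cast hdeg.le
  have hprim : IsMultiplyPreprimitive G α (k + 1) :=
    isMultiplyPreprimitive_of_isMultiplyPretransitive_succ G α hcard
  have hprim1 : IsPreprimitive G α := isPreprimitive_of_is_two_pretransitive
    (isMultiplyPretransitive_of_le (n := k + 1 + 1) (by omega)
      (by rw [Nat.card_eq_fintype_card]; omega))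
  have ht : IsPretransitive N α := CL.Perm.isPretransitive_of_normal hN
  rcases Nat.eq_zero_or_pos k with rfl | hk0
  · left
    rwa [zero_add, is_one_pretransitive_iff]
  by_cases hreg : ∀ a : α, stabilizer N a = ⊥
  · by_cases hk1 : k = 1
    · subst hk1
      right
      rcases Cfsg.Agent.S0695.result (by omega) hprim N ht hreg with h | h
      · omega
      · exact ⟨rfl, h.1, h.2.1⟩
    · exfalso
      have h3 : IsMultiplyPreprimitive G α 3 := isMultiplyPreprimitive_of_le G α hprim (by omega)
        (by rw [ENat.card_eq_coe_natCard, Nat.card_eq_fintype_card]; exact_mod_cast (by omega))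
      have := CL.Perm.card_eq_three_or_four (by rw [Nat.card_eq_fintype_card]; omega) h3 N ht hreg
      rw [Nat.card_eq_fintype_card] at this
      omega
  left
  push Not at hreg
  by_cases htop : G = ⊤
  swap
  · exact Cfsg.Agent.S0697.result G (by omega) (by omega) hprim htop N hN hreg
  by_cases hk1 : k = 1
  · subst hk1
    obtain ⟨a, ha⟩ := hreg
    apply CL.Perm.isMultiplyPretransitive_succ_of_subgroupOf N ht a
    have hG' : IsMultiplyPreprimitive (stabilizer G a) (ofStabilizer G a) 1 :=
      isMultiplyPreprimitive_ofStabilizer G α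
    have := (is_one_preprimitive_iff _ _).mp hG'
    have := CL.Perm.faithfulSMul_ofStabilizer (G := G) a
    rw [is_one_pretransitive_iff]
    apply CL.Perm.isPretransitive_of_normal
    intro hb
    apply ha
    rw [eq_bot_iff] at hb ⊢
    intro h hh
    have := hb (x := ⟨h, hh⟩) h.2
    rw [mem_bot] at this ⊢
    exact Subtype.ext (congrArg (fun z : stabilizer G a => (z : G)) this)
  · subst htop
    have hn : (N.map (⊤ : Subgroup (Equiv.Perm α)).subtype).Normal :=
      ‹N.Normal›.map _ fun g => ⟨⟨g, trivial⟩, rfl⟩
    have hle := Equiv.Perm.alternatingGroup_le_of_normal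
      (by rw [Nat.card_eq_fintype_card]; omega) (N := N.map (⊤ : Subgroup (Equiv.Perm α)).subtype)
      ((Subgroup.nontrivial_iff_ne_bot _).mpr fun h =>
        hN ((Subgroup.map_eq_bot_iff_of_injective _ (Subgroup.subtype_injective _)).mp h))
    have hA : IsMultiplyPretransitive (alternatingGroup α) α (k + 1) :=
      have := alternatingGroup.isMultiplyPretransitive α
      isMultiplyPretransitive_of_le (n := Nat.card α - 2)
        (by rw [Nat.card_eq_fintype_card]; omega) (by omega)
    constructor
    intro x y
    obtain ⟨g, hg⟩ := hA.exists_smul_eq x y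
    obtain ⟨n, hn, hng⟩ := hle g.2
    refine ⟨⟨n, hn⟩, ?_⟩
    rw [← hg]
    ext i
    change (n : Equiv.Perm α) (x i) = (g : Equiv.Perm α) (x i)
    rw [← hng]
    rfl

end Cfsg.Agent.S0698
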