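import Cfsg.Statements.S0706
import Cfsg.Agent.Base
import Cfsg.Agent.Perm.Witt
-- import your own Cfsg.Agent.* helpers here

set_option autoImplicit false
open Cfsg

namespace Cfsg.Agent.S0706

open scoped Pointwise

/-- In a generously `k`-transitive permutation group, for a prime `p ≤ k` and a `k`-set `Γ`, there are no `p` points outside `Γ` lying in distinct orbits of the pointwise stabiliser of `Γ` all of length prime to `p` (at most `p - 1` such orbits). -/
theorem result {α : Type*} [Fintype α] [DecidableEq α] (G : Subgroup (Equiv.Perm α)) {k : ℕ} (hk : k < Fintype.card α) (hgen : ∀ s : Finset α, s.card = k + 1 → ∀ σ : Equiv.Perm ↥s, ∃ g ∈ G, ∀ x : ↥s, g (x : α) = σ x) {p : ℕ} (hp : p.Prime) (hpk : p ≤ k) (Γ : Finset α) (hΓ : Γ.card = k) (f : Fin p → α) (hf : ∀ i, f i ∉ Γ) (hdist : ∀ i j, i ≠ j → f j ∉ MulAction.orbit (fixingSubgroup G (Γ : Set α)) (f i)) : ∃ i, p ∣ Nat.card (MulAction.orbit (fixingSubgroup G (Γ : Set α)) (f i)) := by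
  have h : ∀ s : Finset α, s.card = k + 1 → ∀ π : Equiv.Perm α, (∀ x ∈ s, π x ∈ s) →
      ∃ g : G, ∀ x ∈ s, g • x = π x := fun s hs =>
    CL.Perm.exists_smul_eq_perm_of_forall_subtype fun σ =>
      let ⟨g, hg, h⟩ := hgen s hs σ
      ⟨⟨g, hg⟩, h⟩
  have hG := CL.Perm.multi_of_generous hk h
  have : Fact p.Prime := ⟨hp⟩
  by_contra hcon
  push Not at hcon
  obtain ⟨Λ, hΛ, hΛc⟩ := Finset.exists_subset_card_eq (s := Γ) (n := k - p) (by omega)
  -- `K` : fixes `Λ` pointwise and `Γ` setwise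
  let K : Subgroup G := fixingSubgroup G (Λ : Set α) ⊓ MulAction.stabilizer G Γ
  have hKΓ : ∀ g ∈ K, ∀ x ∈ Γ, g • x ∈ Γ := by
    intro g hg x hx
    have : g • x ∈ g • Γ := Finset.smul_mem_smul_finset hx
    rwa [MulAction.mem_stabilizer_iff.1 hg.2] at this
  have hHK : fixingSubgroup G (Γ : Set α) ≤ K := by
    intro g hg
    rw [CL.Perm.mem_fixing] at hg
    refine ⟨CL.Perm.mem_fixing.2 fun x hx => hg x (hΛ hx), ?_⟩
    change g • Γ = Γ
    refine Finset.eq_of_subset_of_card_le ?_ (by simp)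
    intro y hy
    obtain ⟨x, hx, rfl⟩ := Finset.mem_smul_finset.1 hy
    rw [hg x hx]; exact hx
  obtain ⟨S, hS⟩ := CL.Transfer.exists_isSylowIn (p := p) K
  have horb : ∀ i, MulAction.orbit K (f i) =
      MulAction.orbit (fixingSubgroup G (Γ : Set α)) (f i) := by
    intro i
    apply Set.Subset.antisymm
    · rintro _ ⟨g, rfl⟩
      obtain ⟨u, hu, e⟩ := CL.Perm.exists_fixing_of_generous h hΓ (hf i) (hKΓ g g.2)
      exact ⟨⟨u, CL.Perm.mem_fixing.2 hu⟩, e⟩
    · rintro _ ⟨g, rfl⟩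
      exact ⟨⟨g, hHK g.2⟩, rfl⟩
  have hfix : ∀ i, ∃ x ∈ MulAction.orbit (fixingSubgroup G (Γ : Set α)) (f i),
      ∀ u ∈ S, u • x = x := by
    intro i
    rw [← horb]
    exact CL.Perm.exists_fixed_mem_orbit hS.isPGroup hS.le (by rw [horb]; exact hcon i)
  choose x hx hxS using hfix
  have hxinj : Function.Injective x := by
    intro i j hij
    by_contra hne
    apply hdist i j hne
    have h1 := MulAction.orbit_eq_iff.2 (hx i)
    have h2 := MulAction.orbit_eq_iff.2 (hx j)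
    rw [← h1, hij, h2]
    exact MulAction.mem_orbit_self _
  have hxΓ : ∀ i, x i ∉ Γ := by
    intro i hi
    obtain ⟨g, hg⟩ := hx i
    have := CL.Perm.mem_fixing.1 g.2 _ hi
    rw [← hg] at this hi
    exact hf i (smul_left_cancel (g : G) this ▸ hi)
  let Γ' : Finset α := Λ ∪ Finset.univ.image x
  have hΓ' : Γ'.card = k := by
    rw [Finset.card_union_of_disjoint, Finset.card_image_of_injective _ hxinj, hΛc]
    · simp only [Finset.card_univ, Fintype.card_fin]; omega
    · rw [Finset.disjoint_right]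
      intro y hy hyΛ
      obtain ⟨i, -, rfl⟩ := Finset.mem_image.1 hy
      exact hxΓ i (hΛ hyΛ)
  have hSle : S ≤ fixingSubgroup G (Γ' : Set α) := by
    intro u hu
    rw [CL.Perm.mem_fixing]
    intro y hy
    rcases Finset.mem_union.1 hy with hy | hy
    · exact CL.Perm.mem_fixing.1 (hS.le hu).1 y hy
    · obtain ⟨i, -, rfl⟩ := Finset.mem_image.1 hy
      exact hxS i u hu
  -- orders
  have hc := CL.Perm.card_fixing_eq_of_multi hG hΓ hΓ'
  obtain ⟨y, hyΓ, hyΛ⟩ : ∃ y ∈ Γ, y ∉ Λ := by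
    by_contra hh
    push Not at hh
    have := Finset.card_le_card (hh : Γ ⊆ Λ)
    have := hp.pos
    omega
  have horby : MulAction.orbit K y = ((Γ \ Λ : Finset α) : Set α) := by
    apply Set.Subset.antisymm
    · rintro _ ⟨g, rfl⟩
      refine Finset.mem_coe.2 (Finset.mem_sdiff.2 ⟨hKΓ g g.2 y hyΓ, fun hh => hyΛ ?_⟩)
      have := CL.Perm.mem_fixing.1 g.2.1 _ hh
      exact smul_left_cancel (g : G) this ▸ hh
    · intro z hz
      obtain ⟨hzΓ, hzΛ⟩ := Finset.mem_sdiff.1 (Finset.mem_coe.1 hz)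
      obtain ⟨g, hg⟩ := CL.Perm.multi_iff_perm.1 hG Γ hΓ (Equiv.swap y z)
      refine ⟨⟨g, CL.Perm.mem_fixing.2 fun w hw => ?_, ?_⟩, ?_⟩
      · rw [hg w (hΛ hw), Equiv.swap_apply_of_ne_of_ne]
        · rintro rfl; exact hyΛ hw
        · rintro rfl; exact hzΛ hw
      · change g • Γ = Γ
        refine Finset.eq_of_subset_of_card_le ?_ (by simp)
        intro w hw
        obtain ⟨v, hv, rfl⟩ := Finset.mem_smul_finset.1 hw
        rw [hg v hv, Equiv.swap_apply_def]
        split_ifs <;> assumption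
      · change g • y = z
        rw [hg y hyΓ, Equiv.swap_apply_left]
  have hpd : p ∣ (fixingSubgroup G (Γ : Set α)).relIndex K := by
    have h1 := CL.Perm.card_orbit_eq_relIndex K y
    rw [horby, Nat.card_coe_set_eq, Set.ncard_coe_finset, Finset.card_sdiff_of_subset hΛ, hΓ,
      hΛc, show k - (k - p) = p by omega] at h1
    rw [h1]
    exact Subgroup.relIndex_dvd_of_le_left K fun g hg => CL.Perm.mem_fixing.1 hg y hyΓ
  have e1 := Subgroup.card_mul_index (S.subgroupOf K)
  have e2 := Subgroup.card_mul_index ((fixingSubgroup G (Γ : Set α)).subgroupOf K)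
  rw [Nat.card_congr (Subgroup.subgroupOfEquivOfLe hS.le).toEquiv] at e1
  rw [Nat.card_congr (Subgroup.subgroupOfEquivOfLe hHK).toEquiv, hc, ← e1] at e2
  obtain ⟨c, hc'⟩ := Subgroup.card_dvd_of_le hSle
  rw [hc', mul_assoc] at e2
  have e3 := Nat.eq_of_mul_eq_mul_left Nat.card_pos e2
  apply hS.not_dvd
  rw [Subgroup.relIndex, ← e3]
  exact Dvd.dvd.mul_left hpd _

end Cfsg.Agent.S0706
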