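import Cfsg.Agent.Base
import Cfsg.Statements.S0699
import Cfsg.Agent.Perm.NormalMulti
import Cfsg.Agent.S0698
import Cfsg.Agent.S0706

set_option autoImplicit false
open Cfsg

namespace Cfsg.Agent.S0699

open MulAction Subgroup SubMulAction

theorem exists_three {G α : Type*} [Group G] [MulAction G α]
    (hG : IsMultiplyPretransitive G α 3) {a b c a' b' c' : α} (hab : a ≠ b) (hac : a ≠ c)
    (hbc : b ≠ c) (hab' : a' ≠ b') (hac' : a' ≠ c') (hbc' : b' ≠ c') :
    ∃ g : G, g • a = a' ∧ g • b = b' ∧ g • c = c' := by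
  have inj : ∀ {x y z : α}, x ≠ y → x ≠ z → y ≠ z → Function.Injective ![x, y, z] := by
    intro x y z h1 h2 h3 i j hij
    fin_cases i <;> fin_cases j <;> simp_all [eq_comm]
  obtain ⟨g, hg⟩ := hG.exists_smul_eq ⟨_, inj hab hac hbc⟩ ⟨_, inj hab' hac' hbc'⟩
  exact ⟨g, DFunLike.congr_fun hg 0, DFunLike.congr_fun hg 1, DFunLike.congr_fun hg 2⟩

theorem exists_swap_fix {N α : Type*} [Group N] [Finite N] [MulAction N α] [Finite α]
    (hodd : Odd (Nat.card α)) (h2 : IsMultiplyPretransitive N α 2) {a b : α} (hab : a ≠ b) :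
    ∃ (s : N) (c : α), c ≠ a ∧ c ≠ b ∧ s • a = b ∧ s • b = a ∧ s • c = c := by
  obtain ⟨t, hta, htb⟩ := is_two_pretransitive_iff.mp h2 hab hab.symm
  obtain ⟨k, m, hm, hkm⟩ := Nat.exists_eq_two_pow_mul_odd (orderOf_pos t).ne'
  have hpow : ∀ j : ℕ, t ^ (2 * j + 1) • a = b ∧ t ^ (2 * j + 1) • b = a := by
    intro j
    induction j with
    | zero => simpa using ⟨hta, htb⟩
    | succ j ih =>
      have e : t ^ (2 * (j + 1) + 1) = t ^ (2 * j + 1) * t * t := by
        rw [← pow_succ, ← pow_succ]; rfl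
      rw [e, mul_smul, mul_smul, mul_smul, mul_smul, hta, htb, hta]
      exact ih
  obtain ⟨j, rfl⟩ := hm
  have hp : IsPGroup 2 (zpowers (t ^ (2 * j + 1))) := by
    rw [IsPGroup.iff_card]
    rw [Nat.card_zpowers, orderOf_pow' _ (by omega), hkm, Nat.gcd_mul_left_left,
      Nat.mul_div_cancel _ (by omega)]
    exact ⟨k, rfl⟩
  obtain ⟨c, hc⟩ := hp.nonempty_fixed_point_of_prime_not_dvd_card α
    (by rw [Nat.two_dvd_ne_zero]; exact Nat.odd_iff.mp hodd)
  have hc' : t ^ (2 * j + 1) • c = c := hc ⟨_, mem_zpowers _⟩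
  refine ⟨_, c, ?_, ?_, (hpow j).1, (hpow j).2, hc'⟩
  · rintro rfl
    exact hab (hc'.symm.trans (hpow j).1)
  · rintro rfl
    exact hab ((hpow j).2.symm.trans hc')

/-- Wagner's Theorem: a non-trivial normal subgroup of a triply transitive permutation group of odd degree at least 5 is triply transitive. -/
theorem result {α : Type*} [Fintype α] [DecidableEq α] (G : Subgroup (Equiv.Perm α)) (hodd : Odd (Fintype.card α)) (h5 : 5 ≤ Fintype.card α) (hG : MulAction.IsMultiplyPretransitive G α 3) (N : Subgroup G) [N.Normal] (hN : N ≠ ⊥) : MulAction.IsMultiplyPretransitive N α 3 := by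
  classical
  have hprim1 : IsPreprimitive G α := isPreprimitive_of_is_two_pretransitive
    (isMultiplyPretransitive_of_le (n := 3) (by omega) (by rw [Nat.card_eq_fintype_card]; omega))
  have ht : IsPretransitive N α := CL.Perm.isPretransitive_of_normal hN
  have hne : Nonempty α := Fintype.card_pos_iff.mp (by omega)
  have h2 : IsMultiplyPretransitive N α 2 := by
    rcases Cfsg.Agent.S0698.result G (k := 3) (by norm_num) (by omega) hG N hN with h | h
    · exact h
    · exfalso
      have hp : IsPGroup 2 N := fun g => ⟨1, Subtype.ext (by simpa using h.2.2 g g.2)⟩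
      obtain ⟨c, hc⟩ := hp.nonempty_fixed_point_of_prime_not_dvd_card α (by
        rw [Nat.two_dvd_ne_zero, Nat.card_eq_fintype_card]; exact Nat.odd_iff.mp hodd)
      have : Nontrivial α := Fintype.one_lt_card_iff_nontrivial.mp (by omega)
      obtain ⟨d, hd⟩ := exists_ne c
      obtain ⟨n, hn⟩ := ht.exists_smul_eq c d
      exact hd (hn.symm.trans (hc n))
  have hswap : ∀ a b c : α, a ≠ b → a ≠ c → b ≠ c →
      ∃ s ∈ N, s • a = b ∧ s • b = a ∧ s • c = c := by
    intro a b c hab hac hbc
    obtain ⟨s, d, hda, hdb, h1, h2, h3⟩ := exists_swap_fix (by rwa [Nat.card_eq_fintype_card]) h2 hab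
    obtain ⟨g, ga, gb, gc⟩ := exists_three hG hab hda.symm hdb.symm hab hac hbc
    refine ⟨g * s * g⁻¹, ‹N.Normal›.conj_mem _ s.2 g, ?_, ?_, ?_⟩
    · rw [mul_smul, mul_smul, inv_smul_eq_iff.mpr ga.symm]
      exact (congrArg _ h1).trans gb
    · rw [mul_smul, mul_smul, inv_smul_eq_iff.mpr gb.symm]
      exact (congrArg _ h2).trans ga
    · rw [mul_smul, mul_smul, inv_smul_eq_iff.mpr gc.symm, ← gc]
      exact congrArg _ h3
  set N' : Subgroup (Equiv.Perm α) := N.map G.subtype with hN'
  have hgen : ∀ s : Finset α, s.card = 2 + 1 → ∀ σ : Equiv.Perm ↥s, ∃ g ∈ N', ∀ x : ↥s,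
      g (x : α) = σ x := by
    intro s hs σ
    have hσ : σ ∈ Subgroup.closure {σ : Equiv.Perm s | σ.IsSwap} := by
      rw [Equiv.Perm.closure_isSwap]; trivial
    induction hσ using Subgroup.closure_induction with
    | one => exact ⟨1, N'.one_mem, fun _ => rfl⟩
    | mul σ τ _ _ h1 h2 =>
      obtain ⟨g, hg, hg'⟩ := h1
      obtain ⟨h, hh, hh'⟩ := h2
      exact ⟨g * h, N'.mul_mem hg hh, fun x => by rw [Equiv.Perm.mul_apply, hh', hg']; rfl⟩
    | inv σ _ h1 =>
      obtain ⟨g, hg, hg'⟩ := h1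
      refine ⟨g⁻¹, N'.inv_mem hg, fun x => ?_⟩
      rw [Equiv.Perm.inv_eq_iff_eq, hg']
      simp
    | mem σ hσ =>
      obtain ⟨x, y, hxy, rfl⟩ := hσ
      have hxy' : (x : α) ≠ y := fun h => hxy (Subtype.ext h)
      have hcard : ((s.erase x).erase y).card = 1 := by
        rw [Finset.card_erase_of_mem (Finset.mem_erase.mpr ⟨hxy'.symm, y.2⟩),
          Finset.card_erase_of_mem x.2, hs]
      obtain ⟨z, hz⟩ := Finset.card_eq_one.mp hcard
      have hzm : z ∈ (s.erase x).erase y := by rw [hz]; exact Finset.mem_singleton_self z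
      simp only [Finset.mem_erase] at hzm
      obtain ⟨t, ht, h1, h2, h3⟩ := hswap x y z hxy' (Ne.symm hzm.2.1) (Ne.symm hzm.1)
      refine ⟨t, ⟨t, ht, rfl⟩, fun w => ?_⟩
      by_cases hwx : w = x
      · rw [hwx, Equiv.swap_apply_left]; exact h1
      by_cases hwy : w = y
      · rw [hwy, Equiv.swap_apply_right]; exact h2
      rw [Equiv.swap_apply_of_ne_of_ne hwx hwy]
      have : (w : α) ∈ (s.erase x).erase y := by
        simp only [Finset.mem_erase]
        exact ⟨fun h => hwy (Subtype.ext h), fun h => hwx (Subtype.ext h), w.2⟩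
      rw [hz, Finset.mem_singleton] at this
      rw [this]
      exact h3
  have key : ∀ a b c d : α, a ≠ b → c ≠ a → c ≠ b → d ≠ a → d ≠ b →
      ∃ n ∈ N, n • a = a ∧ n • b = b ∧ n • c = d := by
    intro a b c d hab hca hcb hda hdb
    have hmem : ∀ x y : α, y ∈ orbit (fixingSubgroup N' (({a, b} : Finset α) : Set α)) x ↔
        ∃ n ∈ N, n • a = a ∧ n • b = b ∧ n • x = y := by
      intro x y
      constructor
      · rintro ⟨⟨⟨_, n, hn, rfl⟩, hf⟩, rfl⟩
        rw [mem_fixingSubgroup_iff] at hf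
        exact ⟨n, hn, hf a (by simp), hf b (by simp), rfl⟩
      · rintro ⟨n, hn, h1, h2, rfl⟩
        refine ⟨⟨⟨n, n, hn, rfl⟩, ?_⟩, rfl⟩
        rw [mem_fixingSubgroup_iff]
        intro y hy
        simp only [Finset.coe_insert, Finset.coe_singleton, Set.mem_insert_iff,
          Set.mem_singleton_iff] at hy
        rcases hy with rfl | rfl
        · exact h1
        · exact h2
    by_contra hcd
    have hoddorb : ∀ x : α, x ≠ a → x ≠ b →
        ¬ 2 ∣ Nat.card (orbit (fixingSubgroup N' (({a, b} : Finset α) : Set α)) x) := by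
      intro x hxa hxb
      let s : Set α := {a, b}
      have hs : s.ncard = 2 := Set.ncard_pair hab
      have htr : IsPretransitive (fixingSubgroup G s) (ofFixingSubgroup G s) := by
        rw [← is_one_pretransitive_iff]
        exact ofFixingSubgroup.isMultiplyPretransitive G s (n := 3) (by rw [hs])
      let x' : ofFixingSubgroup G s := ⟨x, by
        rw [mem_ofFixingSubgroup_iff]; simp [s, hxa, hxb]⟩
      have hB := IsBlock.orbit_of_normal (G := fixingSubgroup G s)
        (N := N.subgroupOf (fixingSubgroup G s)) x'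
      have hdvd := hB.ncard_dvd_card ⟨x', mem_orbit_self _⟩
      have hc : Nat.card (ofFixingSubgroup G s) = Fintype.card α - 2 := by
        change Nat.card (sᶜ : Set α) = _
        rw [Nat.card_coe_set_eq, Set.ncard_compl, hs, Nat.card_eq_fintype_card]
      have himg : Subtype.val '' orbit (N.subgroupOf (fixingSubgroup G s)) x' =
          orbit (fixingSubgroup N' (({a, b} : Finset α) : Set α)) x := by
        ext y
        rw [hmem]
        constructor
        · rintro ⟨_, ⟨⟨⟨n, hf⟩, hn⟩, rfl⟩, rfl⟩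
          rw [mem_fixingSubgroup_iff] at hf
          exact ⟨n, hn, hf a (by simp [s]), hf b (by simp [s]), rfl⟩
        · rintro ⟨n, hn, h1, h2, rfl⟩
          refine ⟨_, ⟨⟨⟨n, ?_⟩, hn⟩, rfl⟩, rfl⟩
          rw [mem_fixingSubgroup_iff]
          rintro y (rfl | rfl)
          · exact h1
          · exact h2
      rw [Nat.card_coe_set_eq, ← himg, Set.ncard_image_of_injective _ Subtype.val_injective]
      intro h
      have := h.trans hdvd
      rw [hc] at this
      have := Nat.odd_iff.mp hodd
      omega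
    obtain ⟨i, hi⟩ := Cfsg.Agent.S0706.result N' (k := 2) (by omega) hgen Nat.prime_two le_rfl
      {a, b} (Finset.card_pair hab) ![c, d] (by
        intro i
        fin_cases i <;> simp [*]) (by
        intro i j hij
        fin_cases i <;> fin_cases j
        · exact absurd rfl hij
        · exact fun h => hcd ((hmem _ _).mp h)
        · intro h
          obtain ⟨n, hn, h1, h2, h3⟩ := (hmem _ _).mp h
          exact hcd ⟨n⁻¹, N.inv_mem hn, inv_smul_eq_iff.mpr h1.symm, inv_smul_eq_iff.mpr h2.symm,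
            inv_smul_eq_iff.mpr h3.symm⟩
        · exact absurd rfl hij)
    fin_cases i
    · exact hoddorb c hca hcb hi
    · exact hoddorb d hda hdb hi
  constructor
  intro x y
  have hx01 : x 0 ≠ x 1 := x.injective.ne (by decide)
  have hy01 : y 0 ≠ y 1 := y.injective.ne (by decide)
  obtain ⟨n, hn0, hn1⟩ := is_two_pretransitive_iff.mp h2 hx01 hy01
  obtain ⟨m, hm, hm0, hm1, hm2⟩ := key (y 0) (y 1) (n • x 2) (y 2) hy01
    (by rw [← hn0]; exact (MulAction.injective n).ne (x.injective.ne (by decide)))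
    (by rw [← hn1]; exact (MulAction.injective n).ne (x.injective.ne (by decide)))
    (y.injective.ne (by decide)) (y.injective.ne (by decide))
  refine ⟨⟨m, hm⟩ * n, ?_⟩
  ext i
  rw [Function.Embedding.smul_apply, mul_smul]
  fin_cases i
  · exact (congrArg _ hn0).trans hm0
  · exact (congrArg _ hn1).trans hm1
  · exact hm2

end Cfsg.Agent.S0699
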