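import Cfsg.Agent.Base
import Cfsg.Statements.S0702
import Cfsg.Agent.Perm.Centralizer

set_option autoImplicit false
open Cfsg

namespace Cfsg.Agent.S0702

open MulAction Subgroup

theorem stab_eq_of_le {α : Type*} [Finite α] (G : Subgroup (Equiv.Perm α))
    [hG : IsPretransitive G α] {a b : α} (h : stabilizer G a ≤ stabilizer G b) :
    stabilizer G a = stabilizer G b := by
  apply Subgroup.eq_of_le_of_card_ge h
  obtain ⟨g, hg⟩ := hG.exists_smul_eq a b
  exact (Nat.card_congr (stabilizerEquivStabilizer hg.symm).toEquiv).ge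

theorem stab_inv_smul {G α : Type*} [Group G] [MulAction G α] {a : α} {n : G}
    (hn : n ∈ normalizer ((stabilizer G a : Subgroup G) : Set G)) :
    stabilizer G a = stabilizer G (n⁻¹ • a) := by
  ext g
  rw [mem_normalizer_iff] at hn
  rw [hn g, mem_stabilizer_iff, mem_stabilizer_iff, mul_smul, mul_smul, smul_eq_iff_eq_inv_smul]

/-- For a transitive permutation group `G` on a finite set, the centraliser of `G` in the symmetric group is isomorphic to `N_G(G_ω)/G_ω`, and its orbit of `ω` is the set of fixed points of `G_ω`. -/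
theorem result {α : Type*} [Finite α] (G : Subgroup (Equiv.Perm α)) [MulAction.IsPretransitive G α] (a : α) : Nonempty (Subgroup.centralizer (G : Set (Equiv.Perm α)) ≃* Subgroup.normalizer ((MulAction.stabilizer G a : Subgroup G) : Set G) ⧸ (MulAction.stabilizer G a).subgroupOf (Subgroup.normalizer ((MulAction.stabilizer G a : Subgroup G) : Set G))) ∧ MulAction.orbit (Subgroup.centralizer (G : Set (Equiv.Perm α))) a = MulAction.fixedPoints (MulAction.stabilizer G a) α := by
  constructor
  · choose f hf hfa using fun n : normalizer ((stabilizer G a : Subgroup G) : Set G) =>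
      CL.Perm.exists_mem_centralizer_of_stabilizer_eq G (stab_inv_smul n.2)
    have huniq : ∀ c d : centralizer (G : Set (Equiv.Perm α)),
        (c : Equiv.Perm α) a = (d : Equiv.Perm α) a → c = d := by
      intro c d h
      have : ((d⁻¹ * c : centralizer (G : Set (Equiv.Perm α))) : Equiv.Perm α) = 1 := by
        apply CL.Perm.eq_one_of_mem_centralizer G (d⁻¹ * c).2 (a := a)
        simp [h]
      have h2 : d⁻¹ * c = 1 := Subtype.ext this
      rw [inv_mul_eq_one] at h2
      exact h2.symm
    have hcomm : ∀ (c : centralizer (G : Set (Equiv.Perm α))) (g : G) (x : α),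
        (c : Equiv.Perm α) (g • x) = g • (c : Equiv.Perm α) x := by
      intro c g x
      have h := (mem_centralizer_iff.mp c.2) g g.2
      change (c : Equiv.Perm α) ((g : Equiv.Perm α) x) = (g : Equiv.Perm α) ((c : Equiv.Perm α) x)
      rw [← Equiv.Perm.mul_apply, ← h, Equiv.Perm.mul_apply]
    let φ : normalizer ((stabilizer G a : Subgroup G) : Set G) →*
        centralizer (G : Set (Equiv.Perm α)) := MonoidHom.mk' (fun n => ⟨f n, hf n⟩) (by
      intro n m
      apply huniq
      change f (n * m) a = f n (f m a)
      rw [hfa, hfa]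
      have := hcomm ⟨f n, hf n⟩ (m : G)⁻¹ a
      rw [this]
      change _ = (m : G)⁻¹ • f n a
      rw [hfa, ← mul_smul, ← mul_inv_rev]
      rfl)
    have hφ : ∀ n, (φ n : Equiv.Perm α) a = (n : G)⁻¹ • a := hfa
    have hsurj : Function.Surjective φ := by
      intro c
      obtain ⟨g, hg⟩ := IsPretransitive.exists_smul_eq (M := G) a ((c : Equiv.Perm α) a)
      have hs := CL.Perm.stabilizer_apply_eq_of_mem_centralizer G c.2 a
      have hn : g⁻¹ ∈ normalizer ((stabilizer G a : Subgroup G) : Set G) := by
        rw [mem_normalizer_iff]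
        intro h
        conv_lhs => rw [← hs, ← hg]
        rw [mem_stabilizer_iff, mem_stabilizer_iff, inv_inv, mul_smul, mul_smul, inv_smul_eq_iff]
      refine ⟨⟨g⁻¹, hn⟩, huniq _ _ ?_⟩
      rw [hφ, inv_inv, hg]
    have hker : φ.ker = (stabilizer G a).subgroupOf _ := by
      ext n
      rw [MonoidHom.mem_ker, mem_subgroupOf, mem_stabilizer_iff]
      constructor
      · intro h
        have := hφ n
        rw [h, eq_comm, inv_smul_eq_iff] at this
        exact this.symm
      · intro h
        apply huniq
        rw [hφ, inv_smul_eq_iff]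
        exact h.symm
    exact ⟨((QuotientGroup.quotientMulEquivOfEq hker.symm).trans
      (QuotientGroup.quotientKerEquivOfSurjective φ hsurj)).symm⟩
  · ext b
    constructor
    · rintro ⟨c, rfl⟩ g
      have hs := CL.Perm.stabilizer_apply_eq_of_mem_centralizer G c.2 a
      have : (g : G) ∈ stabilizer G ((c : Equiv.Perm α) a) := by rw [hs]; exact g.2
      exact this
    · intro hb
      obtain ⟨c, hc, hcb⟩ := CL.Perm.exists_mem_centralizer_of_stabilizer_eq G
        (stab_eq_of_le G (a := a) (b := b) (fun g hg => hb ⟨g, hg⟩))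
      exact ⟨⟨c, hc⟩, hcb⟩

end Cfsg.Agent.S0702
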