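import Cfsg.Agent.Base
import Cfsg.Statements.S0703
import Cfsg.Agent.Perm.Centralizer

set_option autoImplicit false
open Cfsg

namespace Cfsg.Agent.S0703

/-- An abelian transitive minimal normal subgroup `M` of a permutation group on a finite set is self-centralising in the symmetric group, regular, elementary abelian, and is the unique minimal normal subgroup. -/
theorem result {α : Type*} [Finite α] (G : Subgroup (Equiv.Perm α)) (M : Subgroup G) [M.Normal] (hM : M ≠ ⊥) (hmin : ∀ L : Subgroup G, L.Normal → L ≤ M → L = ⊥ ∨ L = M) (hab : IsMulCommutative M) (htrans : MulAction.IsPretransitive M α) : Subgroup.centralizer ((M.map G.subtype : Subgroup (Equiv.Perm α)) : Set (Equiv.Perm α)) = M.map G.subtype ∧ (∀ a : α, MulAction.stabilizer M a = ⊥) ∧ (∃ p : ℕ, p.Prime ∧ ∀ m ∈ M, m ^ p = 1) ∧ ∀ L : Subgroup G, L.Normal → L ≠ ⊥ → (∀ L' : Subgroup G, L'.Normal → L' ≤ L → L' = ⊥ ∨ L' = L) → L = M := by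
  have hc : ∀ a ∈ M, ∀ b ∈ M, Commute a b := fun a ha b hb =>
    congrArg Subtype.val (hab.is_comm.comm (⟨a, ha⟩ : M) ⟨b, hb⟩)
  have := CL.Perm.nonempty_of_ne_bot (α := α) hM
  refine ⟨CL.Perm.centralizer_map_eq_of_commute M M htrans htrans hc,
    CL.Perm.stabilizer_eq_bot_of_commute M M htrans hc,
    CL.Perm.exists_prime_pow_eq_one_of_minimal_normal M hM hmin hab, ?_⟩
  intro L hLn hL hLmin
  by_contra hne
  have hcomm := CL.Perm.commute_of_minimal_normal hL hLmin hmin hne
  have hle : L ≤ M := fun l hl =>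
    CL.Perm.mem_of_commute_of_pretransitive M M htrans htrans hc (hcomm l hl)
  rcases hmin L hLn hle with h | h
  · exact hL h
  · exact hne h

end Cfsg.Agent.S0703
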