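import Cfsg.Agent.Base
import Cfsg.Statements.S0704
import Cfsg.Agent.Perm.Centralizer

set_option autoImplicit false
open Cfsg

namespace Cfsg.Agent.S0704

/-- Two distinct transitive minimal normal subgroups `M`, `N` of a permutation group are regular, non-abelian, isomorphic, each other's centraliser in the symmetric group, and the only minimal normal subgroups. -/
theorem result {α : Type*} (G : Subgroup (Equiv.Perm α)) (M N : Subgroup G) [M.Normal] [N.Normal] (hM : M ≠ ⊥) (hN : N ≠ ⊥) (hMmin : ∀ L : Subgroup G, L.Normal → L ≤ M → L = ⊥ ∨ L = M) (hNmin : ∀ L : Subgroup G, L.Normal → L ≤ N → L = ⊥ ∨ L = N) (hMN : M ≠ N) (hMt : MulAction.IsPretransitive M α) (hNt : MulAction.IsPretransitive N α) : (∀ a : α, MulAction.stabilizer M a = ⊥) ∧ (∀ a : α, MulAction.stabilizer N a = ⊥) ∧ ¬ IsMulCommutative M ∧ Nonempty (M ≃* N) ∧ Subgroup.centralizer ((M.map G.subtype : Subgroup (Equiv.Perm α)) : Set (Equiv.Perm α)) = N.map G.subtype ∧ Subgroup.centralizer ((N.map G.subtype : Subgroup (Equiv.Perm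 α)) : Set (Equiv.Perm α)) = M.map G.subtype ∧ ∀ L : Subgroup G, L.Normal → L ≠ ⊥ → (∀ L' : Subgroup G, L'.Normal → L' ≤ L → L' = ⊥ ∨ L' = L) → L = M ∨ L = N := by
  have := CL.Perm.nonempty_of_ne_bot (α := α) hM
  have hc := CL.Perm.commute_of_minimal_normal hM hMmin hNmin hMN
  have hc' : ∀ n ∈ N, ∀ m ∈ M, Commute n m := fun n hn m hm => (hc m hm n hn).symm
  refine ⟨CL.Perm.stabilizer_eq_bot_of_commute M N hNt hc,
    CL.Perm.stabilizer_eq_bot_of_commute N M hMt hc', ?_,
    CL.Perm.nonempty_mulEquiv_of_commute M N hMt hNt hc,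
    CL.Perm.centralizer_map_eq_of_commute M N hMt hNt hc,
    CL.Perm.centralizer_map_eq_of_commute N M hNt hMt hc', ?_⟩
  · intro hab
    have hcM : ∀ a ∈ M, ∀ b ∈ M, Commute a b := fun a ha b hb =>
      congrArg Subtype.val (hab.is_comm.comm (⟨a, ha⟩ : M) ⟨b, hb⟩)
    have hle : M ≤ N := fun m hm =>
      CL.Perm.mem_of_commute_of_pretransitive N M hNt hMt hc' (hcM m hm)
    rcases hNmin M inferInstance hle with h | h
    · exact hM h
    · exact hMN h
  · intro L hLn hL hLmin
    by_cases hne : L = M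
    · exact Or.inl hne
    right
    have hcomm := CL.Perm.commute_of_minimal_normal hL hLmin hMmin hne
    have hle : L ≤ N := fun l hl =>
      CL.Perm.mem_of_commute_of_pretransitive N M hNt hMt hc' (hcomm l hl)
    exact (hNmin L hLn hle).resolve_left hL

end Cfsg.Agent.S0704
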