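import Cfsg.Agent.Base
import Cfsg.Statements.S0707
import Cfsg.Agent.Perm.Centralizer

set_option autoImplicit false
open Cfsg

namespace Cfsg.Agent.S0707

open MulAction Subgroup

/-- In a primitive permutation group, distinct points have distinct stabilisers unless the group is regular of prime degree. -/
theorem result {α : Type*} (G : Subgroup (Equiv.Perm α)) [MulAction.IsPreprimitive G α] (h : ¬ (Nat.card α).Prime ∨ ∃ a : α, MulAction.stabilizer G a ≠ ⊥) {a b : α} (hab : a ≠ b) : MulAction.stabilizer G a ≠ MulAction.stabilizer G b := by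
  intro hs
  have : Nontrivial α := ⟨⟨a, b, hab⟩⟩
  have hco : IsCoatom (stabilizer G a) := IsPreprimitive.isCoatom_stabilizer_of_isPreprimitive G a
  obtain ⟨g, hg⟩ := IsPretransitive.exists_smul_eq (M := G) a b
  have hgn : g ∈ normalizer ((stabilizer G a : Subgroup G) : Set G) := by
    rw [← Subgroup.inv_mem_iff, mem_normalizer_iff]
    intro h
    conv_lhs => rw [hs, ← hg]
    rw [mem_stabilizer_iff, mem_stabilizer_iff, inv_inv, mul_smul, mul_smul, inv_smul_eq_iff]
  have hlt : stabilizer G a < normalizer ((stabilizer G a : Subgroup G) : Set G) := by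
    refine lt_of_le_of_ne le_normalizer fun h => ?_
    rw [← h, mem_stabilizer_iff, hg] at hgn
    exact hab hgn.symm
  have hn : (stabilizer G a).Normal := normalizer_eq_top_iff.mp (hco.2 _ hlt)
  have hbot : stabilizer G a = ⊥ := by
    by_contra hne
    obtain ⟨x, hx⟩ := (CL.Perm.isPretransitive_of_normal (α := α) hne).exists_smul_eq a b
    exact hab (x.2.symm.trans hx)
  have hall : ∀ x : α, stabilizer G x = ⊥ := by
    intro x
    obtain ⟨u, rfl⟩ := IsPretransitive.exists_smul_eq (M := G) a x
    rw [stabilizer_smul_eq_stabilizer_map_conj, hbot, Subgroup.map_bot]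
  rcases h with h | ⟨x, hx⟩
  · apply h
    rw [hbot] at hco
    have hso : IsSimpleOrder (Subgroup G) := isSimpleOrder_iff_isCoatom_bot.mpr hco
    have hcard : Nat.card G = Nat.card α := by
      apply Nat.card_eq_of_bijective (fun g : G => g • a)
      constructor
      · intro u v huv
        have : v⁻¹ * u ∈ stabilizer G a := by
          rw [mem_stabilizer_iff, mul_smul, inv_smul_eq_iff]
          exact huv
        rw [hbot, mem_bot, inv_mul_eq_one] at this
        exact this.symm
      · exact IsPretransitive.exists_smul_eq a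
    rw [← hcard]
    have hg1 : g ≠ 1 := by
      rintro rfl
      exact hab (by simpa using hg)
    have hz : zpowers g = ⊤ := (eq_bot_or_eq_top (zpowers g)).resolve_left (by simpa using hg1)
    have hcyc : IsCyclic G := ⟨⟨g, fun x => by
      have : x ∈ zpowers g := by rw [hz]; trivial
      exact this⟩⟩
    have : Nontrivial G := ⟨⟨g, 1, hg1⟩⟩
    have hsimple : IsSimpleGroup G := ⟨fun H _ => eq_bot_or_eq_top H⟩
    let _ : CommGroup G := IsCyclic.commGroup
    exact IsSimpleGroup.prime_card
  · exact hx (hall x)

end Cfsg.Agent.S0707
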