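import Cfsg.Statements.S0709
import Cfsg.Agent.Base
import Cfsg.Agent.Perm.Multi
-- import your own Cfsg.Agent.* helpers here

set_option autoImplicit false
open Cfsg

namespace Cfsg.Agent.S0709

open Equiv

/-- One step of a transitive extension. -/
theorem step {Γ : Type*} [Group Γ] (K' K : Subgroup Γ) (a b : Γ) (hK'K : K' ≤ K) (ha : a ∈ K)
    (hdec : ∀ g ∈ K, g ∈ K' ∨ ∃ x ∈ K', ∃ y ∈ K', g = x * a * y)
    (hb2 : b ^ 2 ∈ K') (hbn : ∀ g ∈ K', b * g * b⁻¹ ∈ K') (hab : (a * b) ^ 3 ∈ K) :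
    ∀ g ∈ K ⊔ Subgroup.zpowers b, g ∈ K ∨ ∃ x ∈ K, ∃ y ∈ K, g = x * b * y := by
  have hbn' : ∀ g ∈ K', b⁻¹ * g * b ∈ K' := by
    intro g hg
    have := K'.mul_mem (K'.mul_mem (K'.inv_mem hb2) (hbn g hg)) hb2
    convert this using 1
    simp only [sq]
    group
  have key : ∀ g ∈ K, b * g * b ∈ K ∨ ∃ x ∈ K, ∃ y ∈ K, b * g * b = x * b * y := by
    intro g hg
    rcases hdec g hg with h | ⟨x, hx, y, hy, rfl⟩
    · left
      have := hK'K (K'.mul_mem (hbn g h) hb2)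
      convert this using 1
      simp only [sq]
      group
    · right
      refine ⟨(b * x * b⁻¹) * a⁻¹ * (a * b) ^ 3 * (b ^ 2)⁻¹,
        K.mul_mem (K.mul_mem (K.mul_mem (hK'K (hbn x hx)) (K.inv_mem ha)) hab)
          (K.inv_mem (hK'K hb2)), a⁻¹ * (b⁻¹ * y * b),
        K.mul_mem (K.inv_mem ha) (hK'K (hbn' y hy)), ?_⟩
      simp only [pow_succ, pow_zero]
      group
  let X : Subgroup Γ :=
    { carrier := {g | g ∈ K ∨ ∃ x ∈ K, ∃ y ∈ K, g = x * b * y}
      one_mem' := Or.inl K.one_mem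
      mul_mem' := by
        rintro g h (hg | ⟨x, hx, y, hy, rfl⟩) (hh | ⟨z, hz, w, hw, rfl⟩)
        · exact Or.inl (K.mul_mem hg hh)
        · exact Or.inr ⟨g * z, K.mul_mem hg hz, w, hw, by group⟩
        · exact Or.inr ⟨x, hx, y * h, K.mul_mem hy hh, by group⟩
        · rcases key (y * z) (K.mul_mem hy hz) with h | ⟨u, hu, v, hv, e⟩
          · left
            convert K.mul_mem (K.mul_mem hx h) hw using 1
            group
          · right
            refine ⟨x * u, K.mul_mem hx hu, v * w, K.mul_mem hv hw, ?_⟩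
            calc x * b * y * (z * b * w) = x * (b * (y * z) * b) * w := by group
              _ = _ := by rw [e]; group
      inv_mem' := by
        rintro g (hg | ⟨x, hx, y, hy, rfl⟩)
        · exact Or.inl (K.inv_mem hg)
        · refine Or.inr ⟨y⁻¹ * (b ^ 2)⁻¹, K.mul_mem (K.inv_mem hy) (K.inv_mem (hK'K hb2)), x⁻¹,
            K.inv_mem hx, ?_⟩
          simp only [sq]
          group }
  have hle : K ⊔ Subgroup.zpowers b ≤ X := sup_le (fun g hg => Or.inl hg)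
    ((Subgroup.zpowers_le).2 (Or.inr ⟨1, K.one_mem, 1, K.one_mem, by group⟩))
  exact fun g hg => hle hg

/-- The chain of subgroups. -/
def chain {Γ : Type*} [Group Γ] (K₀ : Subgroup Γ) (s : ℕ → Γ) : ℕ → Subgroup Γ
  | 0 => K₀
  | i + 1 => chain K₀ s i ⊔ Subgroup.zpowers (s (i + 1))

theorem chain_zero {Γ : Type*} [Group Γ] (K₀ : Subgroup Γ) (s : ℕ → Γ) : chain K₀ s 0 = K₀ := rfl

theorem chain_succ {Γ : Type*} [Group Γ] (K₀ : Subgroup Γ) (s : ℕ → Γ) (i : ℕ) :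
    chain K₀ s (i + 1) = chain K₀ s i ⊔ Subgroup.zpowers (s (i + 1)) := rfl

theorem chain_mono {Γ : Type*} [Group Γ] (K₀ : Subgroup Γ) (s : ℕ → Γ) : Monotone (chain K₀ s) :=
  monotone_nat_of_le_succ fun _ => le_sup_left

theorem mem_chain {Γ : Type*} [Group Γ] (K₀ : Subgroup Γ) (s : ℕ → Γ) {i j : ℕ} (hi : 1 ≤ i)
    (hij : i ≤ j) : s i ∈ chain K₀ s j := by
  obtain ⟨i, rfl⟩ : ∃ k, i = k + 1 := ⟨i - 1, by omega⟩
  exact chain_mono K₀ s hij (Subgroup.mem_sup_right (Subgroup.mem_zpowers _))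

theorem chain_le {Γ : Type*} [Group Γ] (K₀ : Subgroup Γ) (s : ℕ → Γ) {X : Subgroup Γ} (j : ℕ)
    (h0 : K₀ ≤ X) (hs : ∀ i, 1 ≤ i → i ≤ j → s i ∈ X) : chain K₀ s j ≤ X := by
  induction j with
  | zero => exact h0
  | succ j ih =>
    exact sup_le (ih fun i h1 h2 => hs i h1 (by omega))
      (Subgroup.zpowers_le.2 (hs _ (by omega) le_rfl))

/-- Witt's Lemma for constructing transitive extensions. Points `q 1, …, q t` (`t ≥ 2`) of a finite set are given; `G` fixes `q i` for `i ≥ 3` and is doubly transitive on the remaining points; `s 1 ∈ G` swaps `q 1, q 2`; for `2 ≤ i ≤ t-1`, `s i` swaps `q i, q (i+1)` and fixes the other `q j`; with `H` the stabiliser of `q 1, q 2` in `G`: `s i ^ 2 ∈ H`, `(s i * s (i+1)) ^ 3 ∈ H`, `(s i * s j) ^ 2 ∈ H` for `j ≥ i + 2`, and `s i` (`i ≥ 2`) normalises the stabiliser of `q 2` in `G`. Then `G` and the `s i` generate a `t`-transitive group whose pointwise stabiliser of the `q`'s is `H`.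 -/
theorem result {α : Type*} [Fintype α] [DecidableEq α] (t : ℕ) (ht : 2 ≤ t) (q : ℕ → α) (hq : ∀ i j : ℕ, 1 ≤ i → i ≤ t → 1 ≤ j → j ≤ t → q i = q j → i = j) (G : Subgroup (Equiv.Perm α)) (hfix : ∀ g ∈ G, ∀ i : ℕ, 3 ≤ i → i ≤ t → g (q i) = q i) (h2 : ∀ a b c d : α, (∀ i, 3 ≤ i → i ≤ t → a ≠ q i ∧ b ≠ q i ∧ c ≠ q i ∧ d ≠ q i) → a ≠ b → c ≠ d → ∃ g ∈ G, g a = c ∧ g b = d) (s : ℕ → Equiv.Perm α) (hs1 : s 1 ∈ G) (hs1q : s 1 (q 1) = q 2 ∧ s 1 (q 2) = q 1) (hsq : ∀ i : ℕ, 2 ≤ i → i + 1 ≤ t → s i (q i) = q (i + 1) ∧ s i (q (i + 1)) = q i ∧ ∀ j : ℕ, 1 ≤ j → j ≤ t → j ≠ i → j ≠ i + 1 → s i (q j) = q j) (H : Subgroup (Equiv.Perm α)) (hH : H = G ⊓ MulAction.stabilizer (Equiv.Perm α) (q 1) ⊓ MulAction.stabilizer (Equiv.Perm α) (q 2)) (hsq2 : ∀ i : ℕ, 1 ≤ i → i + 1 ≤ t → s i ^ 2 ∈ H) (hbraid : ∀ i : ℕ, 1 ≤ i → i + 2 ≤ t → (s i * s (i + 1)) ^ 3 ∈ H) (hcomm : ∀ i j : ℕ, 1 ≤ i → i + 2 ≤ j → j + 1 ≤ t → (s i * s j) ^ 2 ∈ H ∧ (s j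 * s i) ^ 2 ∈ H) (hnorm : ∀ i : ℕ, 2 ≤ i → i + 1 ≤ t → ∀ g ∈ G ⊓ MulAction.stabilizer (Equiv.Perm α) (q 2), s i * g * (s i)⁻¹ ∈ G ⊓ MulAction.stabilizer (Equiv.Perm α) (q 2)) : MulAction.IsMultiplyPretransitive ↥(Subgroup.closure ((G : Set (Equiv.Perm α)) ∪ {x | ∃ i : ℕ, 2 ≤ i ∧ i + 1 ≤ t ∧ x = s i})) α t ∧ Subgroup.closure ((G : Set (Equiv.Perm α)) ∪ {x | ∃ i : ℕ, 2 ≤ i ∧ i + 1 ≤ t ∧ x = s i}) ⊓ fixingSubgroup (Equiv.Perm α) {x | ∃ i : ℕ, 1 ≤ i ∧ i ≤ t ∧ x = q i} = H := by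
  set K₀ : Subgroup (Perm α) := G ⊓ MulAction.stabilizer (Perm α) (q 2) with hK₀
  have hHK₀ : H ≤ K₀ := by
    rw [hH]
    exact fun g hg => ⟨hg.1.1, hg.2⟩
  have hK0 : ∀ i, K₀ ≤ chain K₀ s i := fun i => chain_mono K₀ s (Nat.zero_le i)
  -- (A) `chain i` fixes `q j` for `j ≥ i + 2`
  have hA : ∀ i, i + 1 ≤ t → ∀ g ∈ chain K₀ s i, ∀ j, i + 2 ≤ j → j ≤ t → g (q j) = q j := by
    intro i hi g hg j hj hjt
    refine chain_le K₀ s (X := MulAction.stabilizer (Perm α) (q j)) i ?_ ?_ hg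
    · intro g hg
      rcases (show j = 2 ∨ 3 ≤ j by omega) with rfl | h3
      · exact hg.2
      · exact hfix g hg.1 j h3 hjt
    · intro m h1 hm
      rcases h1.eq_or_lt with rfl | h1
      · exact hfix _ hs1 j (by omega) hjt
      · exact (hsq m h1 (by omega)).2.2 j (by omega) hjt (by omega) (by omega)
  have hswap : ∀ i, 1 ≤ i → i + 1 ≤ t → s i (q i) = q (i + 1) ∧ s i (q (i + 1)) = q i := by
    intro i h1 hi
    rcases h1.eq_or_lt with rfl | h1
    · exact hs1q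
    · exact ⟨(hsq i h1 hi).1, (hsq i h1 hi).2.1⟩
  have hq12 : q 1 ≠ q 2 := fun h => by have := hq 1 2 le_rfl (by omega) (by omega) ht h; omega
  have hq1 : ∀ j, 3 ≤ j → j ≤ t → q 1 ≠ q j := fun j h3 hj h => by
    have := hq 1 j le_rfl (by omega) (by omega) hj h; omega
  have hq2 : ∀ j, 3 ≤ j → j ≤ t → q 2 ≠ q j := fun j h3 hj h => by
    have := hq 2 j (by omega) ht (by omega) hj h; omega
  have hGne : ∀ g ∈ G, ∀ x, (∀ j, 3 ≤ j → j ≤ t → x ≠ q j) → ∀ j, 3 ≤ j → j ≤ t → g x ≠ q j := by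
    intro g hg x hx j h3 hj h
    rw [← hfix g hg j h3 hj] at h
    exact hx j h3 hj (g.injective h)
  -- (B) transitivity
  have hB : ∀ i, i + 1 ≤ t → ∀ a b, (∀ j, i + 2 ≤ j → j ≤ t → a ≠ q j) →
      (∀ j, i + 2 ≤ j → j ≤ t → b ≠ q j) → ∃ g ∈ chain K₀ s i, g a = b := by
    intro i
    induction i with
    | zero =>
      intro _ a b ha hb
      obtain ⟨g, hg, e1, e2⟩ := h2 (q 2) a (q 2) b (fun j h3 hj =>
        ⟨hq2 j h3 hj, ha j (by omega) hj, hq2 j h3 hj, hb j (by omega) hj⟩)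
        (ha 2 le_rfl ht).symm (hb 2 le_rfl ht).symm
      exact ⟨g, ⟨hg, e1⟩, e2⟩
    | succ i ih =>
      intro hi
      have key : ∀ a, (∀ j, i + 1 + 2 ≤ j → j ≤ t → a ≠ q j) →
          ∃ g ∈ chain K₀ s (i + 1), g a = q (i + 1) := by
        intro a ha
        by_cases h : a = q (i + 2)
        · exact ⟨s (i + 1), mem_chain K₀ s (by omega) le_rfl, h ▸ (hswap (i + 1) (by omega) hi).2⟩
        · obtain ⟨g, hg, e⟩ := ih (by omega) a (q (i + 1)) (fun j hj hjt => by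
            rcases hj.eq_or_lt with rfl | hj
            · exact h
            · exact ha j (by omega) hjt) (fun j hj hjt e => by
              have := hq _ _ (by omega) (by omega) (by omega) hjt e; omega)
          exact ⟨g, chain_mono K₀ s (Nat.le_succ i) hg, e⟩
      intro a b ha hb
      obtain ⟨g, hg, e1⟩ := key a ha
      obtain ⟨h, hh, e2⟩ := key b hb
      exact ⟨h⁻¹ * g, Subgroup.mul_mem _ (Subgroup.inv_mem _ hh) hg, by
        rw [Perm.mul_apply, e1, Perm.inv_eq_iff_eq, e2]⟩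
  -- decomposition of `G`
  have hGdec : ∀ g ∈ G, g ∈ K₀ ∨ ∃ x ∈ K₀, ∃ y ∈ K₀, g = x * s 1 * y := by
    intro g hg
    by_cases h : g (q 2) = q 2
    · exact Or.inl ⟨hg, h⟩
    obtain ⟨x, hx, e1, e2⟩ := h2 (q 2) (q 1) (q 2) (g (q 2)) (fun j h3 hj =>
      ⟨hq2 j h3 hj, hq1 j h3 hj, hq2 j h3 hj, hGne g hg _ hq2 j h3 hj⟩) hq12.symm (Ne.symm h)
    refine Or.inr ⟨x, ⟨hx, e1⟩, (x * s 1)⁻¹ * g,
      ⟨G.mul_mem (G.inv_mem (G.mul_mem hx hs1)) hg, ?_⟩, by group⟩
    change ((x * s 1)⁻¹ * g) (q 2) = q 2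
    rw [Perm.mul_apply, Perm.inv_eq_iff_eq, Perm.mul_apply, hs1q.2, e2]
  have hchain1 : chain K₀ s 1 = G := by
    refine le_antisymm (sup_le inf_le_left (Subgroup.zpowers_le.2 hs1)) fun g hg => ?_
    rcases hGdec g hg with h | ⟨x, hx, y, hy, rfl⟩
    · exact hK0 1 h
    · exact Subgroup.mul_mem _ (Subgroup.mul_mem _ (hK0 1 hx) (mem_chain K₀ s le_rfl le_rfl))
        (hK0 1 hy)
  -- (C) double coset decomposition
  have hC : ∀ i, i + 2 ≤ t → ∀ g ∈ chain K₀ s (i + 1), g ∈ chain K₀ s i ∨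
      ∃ x ∈ chain K₀ s i, ∃ y ∈ chain K₀ s i, g = x * s (i + 1) * y := by
    intro i
    induction i with
    | zero => intro _; rw [zero_add, hchain1]; exact hGdec
    | succ i ih =>
      intro hi
      refine step (chain K₀ s i) (chain K₀ s (i + 1)) (s (i + 1)) (s (i + 2))
        (chain_mono K₀ s (Nat.le_succ i)) (mem_chain K₀ s (by omega) le_rfl) (ih (by omega))
        (hK0 i (hHK₀ (hsq2 (i + 2) (by omega) (by omega)))) ?_
        (hK0 _ (hHK₀ (hbraid (i + 1) (by omega) (by omega))))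
      intro g hg
      refine chain_le K₀ s
        (X := (chain K₀ s i).comap (MulAut.conj (s (i + 2))).toMonoidHom) i ?_ ?_ hg
      · exact fun g hg => hK0 i (hnorm (i + 2) (by omega) (by omega) g hg)
      · intro m h1 hm
        change s (i + 2) * s m * (s (i + 2))⁻¹ ∈ chain K₀ s i
        have h3 := Subgroup.mul_mem _ (Subgroup.mul_mem _
          (hK0 i (hHK₀ (hcomm m (i + 2) h1 (by omega) (by omega)).2))
          (Subgroup.inv_mem _ (mem_chain K₀ s h1 hm)))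
          (Subgroup.inv_mem _ (hK0 i (hHK₀ (hsq2 (i + 2) (by omega) (by omega)))))
        convert h3 using 1
        simp only [sq]
        group
  -- (D) stabilisers
  have hD : ∀ i, i + 2 ≤ t → ∀ g ∈ chain K₀ s (i + 1), g (q (i + 2)) = q (i + 2) →
      g ∈ chain K₀ s i := by
    intro i hi g hg hgq
    rcases hC i hi g hg with h | ⟨x, hx, y, hy, rfl⟩
    · exact h
    · exfalso
      rw [Perm.mul_apply, Perm.mul_apply, hA i (by omega) y hy _ le_rfl hi,
        (hswap (i + 1) (by omega) hi).2, ← hA i (by omega) x hx _ le_rfl hi] at hgq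
      have := hq _ _ (by omega) (by omega) (by omega) hi (x.injective hgq)
      omega
  have hcl : Subgroup.closure ((G : Set (Equiv.Perm α)) ∪
      {x | ∃ i : ℕ, 2 ≤ i ∧ i + 1 ≤ t ∧ x = s i}) = chain K₀ s (t - 1) := by
    apply le_antisymm
    · rw [Subgroup.closure_le]
      rintro g (hg | ⟨i, h2, hi, rfl⟩)
      · exact chain_mono K₀ s (show 1 ≤ t - 1 by omega) (hchain1 ▸ hg)
      · exact mem_chain K₀ s (by omega) (by omega)
    · refine chain_le K₀ s _ (fun g hg => Subgroup.subset_closure (Or.inl hg.1)) fun i h1 hi => ?_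
      rcases h1.eq_or_lt with rfl | h1
      · exact Subgroup.subset_closure (Or.inl hs1)
      · exact Subgroup.subset_closure (Or.inr ⟨i, h1, by omega, rfl⟩)
  rw [hcl]
  constructor
  · have : ∀ j, j ≤ t → MulAction.IsMultiplyPretransitive (chain K₀ s (t - 1)) α j := by
      intro j
      induction j with
      | zero => intro _; exact MulAction.is_zero_pretransitive'
      | succ j ih =>
        intro hj
        refine CL.Perm.multi_succ_of_transOff (ih (by omega))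
          (s := (Finset.Icc (t - j + 1) t).image q) ?_ ?_
        · rw [Finset.card_image_of_injOn, Nat.card_Icc]
          · omega
          · intro a ha b hb e
            simp only [Finset.coe_Icc, Set.mem_Icc] at ha hb
            exact hq a b (by omega) ha.2 (by omega) hb.2 e
        · intro a b ha hb
          simp only [Finset.mem_image, Finset.mem_Icc, not_exists, not_and, and_imp] at ha hb
          obtain ⟨g, hg, e⟩ := hB (t - j - 1) (by omega) a b
            (fun m h1 h2 e => ha m (by omega) h2 e.symm)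
            (fun m h1 h2 e => hb m (by omega) h2 e.symm)
          refine ⟨⟨g, chain_mono K₀ s (by omega) hg⟩, fun x hx => ?_, e⟩
          obtain ⟨m, hm, rfl⟩ := Finset.mem_image.1 hx
          rw [Finset.mem_Icc] at hm
          exact hA (t - j - 1) (by omega) g hg m (by omega) hm.2
    exact this t le_rfl
  · apply le_antisymm
    · rintro g ⟨hg, hgf⟩
      have hgq : ∀ i, 1 ≤ i → i ≤ t → g (q i) = q i := fun i h1 hi =>
        (mem_fixingSubgroup_iff _).1 hgf (q i) ⟨i, h1, hi, rfl⟩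
      have : ∀ i, i + 1 ≤ t → g ∈ chain K₀ s i → g ∈ K₀ := by
        intro i
        induction i with
        | zero => exact fun _ h => h
        | succ i ih => exact fun hi h => ih (by omega) (hD i hi g h (hgq _ (by omega) hi))
      have h0 := this (t - 1) (by omega) hg
      rw [hH]
      exact ⟨⟨h0.1, hgq 1 le_rfl (by omega)⟩, h0.2⟩
    · intro g hg
      refine ⟨hK0 _ (hHK₀ hg), (mem_fixingSubgroup_iff _).2 ?_⟩
      rintro _ ⟨i, h1, hi, rfl⟩
      rw [hH] at hg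
      rcases (show i = 1 ∨ i = 2 ∨ 3 ≤ i by omega) with rfl | rfl | h3
      · exact hg.1.2
      · exact hg.2
      · exact hfix g hg.1.1 i h3 hi

end Cfsg.Agent.S0709
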