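import Cfsg.Statements.S0710
import Cfsg.Agent.Base
import Cfsg.Agent.Perm.SylowCount
-- import your own Cfsg.Agent.* helpers here

set_option autoImplicit false
open Cfsg

namespace Cfsg.Agent.S0710

/-- No transitive permutation group on 13 points has order `13 * 12 * 11 * 10 * 9 * 8`. -/
theorem result {α : Type*} [Fintype α] [DecidableEq α] (hα : Fintype.card α = 13) (G : Subgroup (Equiv.Perm α)) [MulAction.IsPretransitive G α] : Nat.card G ≠ 13 * 12 * 11 * 10 * 9 * 8 := by
  intro h
  obtain ⟨j, hj, hmod⟩ := CL.Perm.exists_dvd_modEq_of_card_le_succ (G := G) (p := 13)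
    (r := 95040) (by norm_num) (by omega) (by rw [h]) (by norm_num)
  have hle : j ≤ 12 := Nat.le_of_dvd (by norm_num) hj
  unfold Nat.ModEq at hmod
  interval_cases j <;> omega

end Cfsg.Agent.S0710
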