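import Cfsg.Statements.S0712
import Cfsg.Agent.Base
import Cfsg.Agent.Perm.Multi
-- import your own Cfsg.Agent.* helpers here

set_option autoImplicit false
open Cfsg

namespace Cfsg.Agent.S0712

/-- Jordan: a primitive group in which the pointwise stabiliser of a set `s` is doubly transitive on the complement of `s` (which has at least 2 points) is `(|s| + 2)`-transitive. -/
theorem result {α : Type*} [Fintype α] [DecidableEq α] (G : Subgroup (Equiv.Perm α)) (hG : MulAction.IsPreprimitive G α) (s : Set α) {m : ℕ} (hsm : s.ncard = m) (hm : m + 2 ≤ Fintype.card α) (h2 : MulAction.IsMultiplyPretransitive (fixingSubgroup G s) (SubMulAction.ofFixingSubgroup G s) 2) : MulAction.IsMultiplyPretransitive G α (m + 2) := by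
  classical
  obtain ⟨s, rfl⟩ : ∃ t : Finset α, (t : Set α) = s := ⟨s.toFinset, by simp⟩
  rw [Set.ncard_coe_finset] at hsm
  rw [MulAction.is_two_pretransitive_iff] at h2
  have key : ∀ a b c d : α, a ∉ s → b ∉ s → c ∉ s → d ∉ s → a ≠ b → c ≠ d →
      ∃ g : G, (∀ x ∈ s, g • x = x) ∧ g • a = c ∧ g • b = d := by
    intro a b c d ha hb hc hd hab hcd
    obtain ⟨g, h1, h2⟩ := h2 (a := ⟨a, ha⟩) (b := ⟨b, hb⟩) (c := ⟨c, hc⟩) (d := ⟨d, hd⟩)
      (fun h => hab (congrArg Subtype.val h)) (fun h => hcd (congrArg Subtype.val h))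
    exact ⟨g, CL.Perm.mem_fixing.1 g.2, congrArg Subtype.val h1, congrArg Subtype.val h2⟩
  have hT : CL.Perm.TransOff G s := by
    intro a b ha hb
    by_cases hab : a = b
    · exact ⟨1, fun x _ => one_smul _ _, by rw [one_smul, hab]⟩
    obtain ⟨g, h1, h2, -⟩ := key a b b a ha hb hb ha hab (Ne.symm hab)
    exact ⟨g, h1, h2⟩
  have hm' : MulAction.IsMultiplyPretransitive G α m := by
    rcases m with _ | n
    · exact MulAction.is_zero_pretransitive'
    rcases (show n + 2 < Fintype.card α by omega) with hn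
    have hprim : MulAction.IsPreprimitive (fixingSubgroup G (s : Set α))
        (SubMulAction.ofFixingSubgroup G (s : Set α)) :=
      MulAction.isPreprimitive_of_is_two_pretransitive (MulAction.is_two_pretransitive_iff.2 h2)
    have := hG.isMultiplyPreprimitive (s := (s : Set α)) (n := n)
      (by rw [Set.ncard_coe_finset, hsm]) (by rwa [Nat.card_eq_fintype_card]) hprim
    exact CL.Perm.multi_of_le this.isMultiplyPretransitive (by omega) (by omega)
  have hm1 := CL.Perm.multi_succ_of_transOff hm' hsm hT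
  obtain ⟨a, ha⟩ : ∃ a, a ∉ s := by
    by_contra h
    push Not at h
    have : s = Finset.univ := Finset.eq_univ_iff_forall.2 h
    rw [this, Finset.card_univ] at hsm
    omega
  refine CL.Perm.multi_succ_of_transOff hm1 (s := insert a s)
    (by rw [Finset.card_insert_of_notMem ha, hsm]) fun b c hb hc => ?_
  simp only [Finset.mem_insert, not_or] at hb hc
  obtain ⟨g, h1, h2, h3⟩ := key a b a c ha hb.2 ha hc.2 (Ne.symm hb.1) (Ne.symm hc.1)
  refine ⟨g, fun x hx => ?_, h3⟩
  rcases Finset.mem_insert.1 hx with rfl | hx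
  · exact h2
  · exact h1 x hx

end Cfsg.Agent.S0712
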