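import Cfsg.Agent.Base
import Cfsg.Statements.S0714
import Cfsg.Agent.Perm.Module
import Cfsg.Agent.Perm.PrimeBurnside

set_option autoImplicit false
open Cfsg

namespace Cfsg.Agent.S0714

open MulAction CL.Perm Equiv

theorem exists_not_mem {α : Type*} [Fintype α] [DecidableEq α] (s : Finset α)
    (h : s.card < Fintype.card α) : ∃ a, a ∉ s := by
  by_contra hc
  push Not at hc
  rw [Finset.eq_univ_iff_forall.2 hc, Finset.card_univ] at h
  exact lt_irrefl _ h

/-- Over any field, the permutation module of the alternating group of degree at least 5 has exactly four invariant subspaces: zero, the constant functions, the functions with coordinate sum zero, and everything. -/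
theorem result {α : Type*} [Fintype α] [DecidableEq α] (hα : 5 ≤ Fintype.card α) {K : Type*} [Field K] (W : Subrepresentation (Cfsg.permRep K (alternatingGroup α) α)) : W.toSubmodule = ⊥ ∨ W = Cfsg.permConstants K (alternatingGroup α) α ∨ W = Cfsg.permSumZero K (alternatingGroup α) α ∨ W.toSubmodule = ⊤ := by
  by_cases hc : ∀ v ∈ W.toSubmodule, ∀ a b, v a = v b
  · -- only constants
    by_cases h0 : W.toSubmodule = ⊥
    · exact Or.inl h0
    refine Or.inr (Or.inl (Subrepresentation.ext (le_antisymm ?_ ?_)))
    · intro v hv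
      obtain ⟨a, -⟩ := exists_not_mem (∅ : Finset α) (by simp; omega)
      exact mem_permConstants.2 ⟨v a, fun x => hc v hv x a⟩
    · obtain ⟨v, hv, hv0⟩ := W.toSubmodule.exists_mem_ne_zero_of_ne_bot h0
      obtain ⟨a, ha⟩ : ∃ a, v a ≠ 0 := by
        by_contra h
        push Not at h
        exact hv0 (funext h)
      rw [permConstants_le_iff]
      have : (fun _ => (1 : K)) = (v a)⁻¹ • v := by
        funext x
        simp [hc v hv x a, ha]
      rw [this]
      exact W.toSubmodule.smul_mem _ hv
  push Not at hc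
  obtain ⟨v, hv, a, b, hab⟩ := hc
  have hab' : a ≠ b := fun h => hab (by rw [h])
  obtain ⟨c, hc⟩ := exists_not_mem ({a, b} : Finset α)
    ((Finset.card_le_two).trans_lt (by omega))
  obtain ⟨d, hd⟩ := exists_not_mem ({a, b, c} : Finset α)
    ((Finset.card_le_three).trans_lt (by omega))
  obtain ⟨e, he⟩ := exists_not_mem ({a, b, c, d} : Finset α)
    ((Finset.card_le_four).trans_lt (by omega))
  simp only [Finset.mem_insert, Finset.mem_singleton, not_or] at hc hd he
  obtain ⟨hca, hcb⟩ := hc
  obtain ⟨hda, hdb, hdc⟩ := hd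
  obtain ⟨hea, heb, hec, hed⟩ := he
  -- composition with a 3-cycle preserves `W`
  have hcomp : ∀ x y z : α, x ≠ y → x ≠ z → y ≠ z → ∀ w ∈ W.toSubmodule,
      (fun t => w (swap x y (swap x z t))) ∈ W.toSubmodule := by
    intro x y z h1 h2 h3 w hw
    exact W.apply_mem_toSubmodule
      (⟨_, (Perm.isThreeCycle_swap_mul_swap_same h1 h2 h3).mem_alternatingGroup⟩⁻¹) hw
  set w : α → K := (fun t => v (swap a c (swap a b t))) - v with hw
  have hwW : w ∈ W.toSubmodule :=
    W.toSubmodule.sub_mem (hcomp a c b (Ne.symm hca) hab' hcb v hv) hv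
  have hwa : w a ≠ 0 := by
    simp only [hw, Pi.sub_apply, swap_apply_left, swap_apply_of_ne_of_ne hab'.symm (Ne.symm hcb)]
    exact sub_ne_zero.2 hab.symm
  have hw0 : ∀ t, t ≠ a → t ≠ b → t ≠ c → w t = 0 := by
    intro t h1 h2 h3
    simp only [hw, Pi.sub_apply, swap_apply_of_ne_of_ne h1 h2, swap_apply_of_ne_of_ne h1 h3,
      sub_self]
  have hu : (Pi.single d 1 - Pi.single a 1 : α → K) ∈ W.toSubmodule := by
    have h1 := W.toSubmodule.smul_mem (w a)⁻¹
      (W.toSubmodule.sub_mem (hcomp a d e (Ne.symm hda) (Ne.symm hea) (Ne.symm hed) w hwW) hwW)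
    convert h1 using 1
    funext t
    simp only [Pi.sub_apply, Pi.smul_apply, smul_eq_mul]
    by_cases h1 : t = a
    · subst h1
      rw [swap_apply_left, swap_apply_of_ne_of_ne hea hed, hw0 e hea heb hec]
      simp [Ne.symm hda, hwa]
    by_cases h2 : t = d
    · subst h2
      rw [swap_apply_of_ne_of_ne hda (Ne.symm hed), swap_apply_right, hw0 t hda hdb hdc]
      simp [hda, hwa]
    by_cases h3 : t = e
    · subst h3
      rw [swap_apply_right, swap_apply_left, hw0 t hea heb hec, hw0 d hda hdb hdc]
      simp [hea, hed]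
    · rw [swap_apply_of_ne_of_ne h1 h3, swap_apply_of_ne_of_ne h1 h2]
      simp [h1, h2]
  have h2t : IsMultiplyPretransitive (alternatingGroup α) α 2 := by
    have := alternatingGroup.isMultiplyPretransitive α
    exact isMultiplyPretransitive_of_le (n := Nat.card α - 2)
      (by rw [Nat.card_eq_fintype_card]; omega) (Nat.sub_le _ _)
  have hS : (Cfsg.permSumZero K (alternatingGroup α) α).toSubmodule ≤ W.toSubmodule := by
    apply permSumZero_le_of_single_sub a
    intro x
    by_cases hx : x = a
    · rw [hx, sub_self]; exact W.toSubmodule.zero_mem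
    obtain ⟨g, h1, h2⟩ := is_two_pretransitive_iff.1 h2t hda hx
    have := W.apply_mem_toSubmodule g hu
    rwa [map_sub, permRep_single, permRep_single, h1, h2] at this
  rcases hS.eq_or_lt with h | h
  · exact Or.inr (Or.inr (Or.inl (Subrepresentation.ext h.symm)))
  · refine Or.inr (Or.inr (Or.inr (Submodule.eq_top_of_finrank_eq ?_)))
    have : Nonempty α := ⟨a⟩
    have h1 := Submodule.finrank_lt_finrank_of_lt h
    have h2 := finrank_permSumZero K (alternatingGroup α) α
    have h3 := W.toSubmodule.finrank_le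
    rw [Module.finrank_fintype_fun_eq_card] at h3 ⊢
    omega

end Cfsg.Agent.S0714
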