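import Cfsg.Agent.Base
import Cfsg.Statements.S0715
import Cfsg.Agent.Perm.Isotypic

set_option autoImplicit false
open Cfsg

namespace Cfsg.Agent.S0715

open CL.Perm CL.Char MulAction

/-- If a natural number `f` divides the degree of every non-principal irreducible constituent of the permutation character of a transitive group, then `f` divides every non-trivial subdegree. -/
theorem result {G : Type*} [Group G] [Fintype G] {Ω : Type*} [Fintype Ω] [MulAction G Ω] [MulAction.IsPretransitive G Ω] (f : ℕ) (hf : ∀ χ : G → ℂ, Cfsg.IsIrrCharacter G χ → χ ≠ (fun _ => 1) → Cfsg.classInner (fun g : G => (Nat.card (MulAction.fixedBy Ω g) : ℂ)) χ ≠ 0 → ∃ m : ℕ, χ 1 = (f : ℂ) * m) (a b : Ω) (hab : b ≠ a) : f ∣ Nat.card (MulAction.orbit (MulAction.stabilizer G a) b) := by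
  classical
  rw [← character_permRep] at hf
  by_cases hf0 : f = 0
  · exfalso
    subst hf0
    have h := dvd_finrank_subrep _ hf (permSumZero ℂ G Ω) (fun v hv hinv => by
      have hc : ∀ x, v x = v a := fun x => by
        obtain ⟨g, rfl⟩ := exists_smul_eq G a x
        rw [← hinv g, permRep_apply, inv_smul_smul, hinv g]
      rw [mem_permSumZero] at hv
      simp only [hc, Finset.sum_const, Finset.card_univ, nsmul_eq_mul, mul_eq_zero,
        Nat.cast_eq_zero, (Fintype.card_pos_iff.2 ⟨a⟩).ne', false_or] at hv
      funext x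
      rw [hc, hv]; rfl)
    rw [zero_dvd_iff, Submodule.finrank_eq_zero] at h
    have h1 := single_sub_single_mem_permSumZero (G := G) a b (1 : ℂ)
    rw [h, Submodule.mem_bot] at h1
    have h2 := congrFun h1 a
    simp [hab.symm] at h2
  set k := Nat.card (orbit (stabilizer G a) b) with hk
  set A := orbMat G ℂ a b with hA
  have hn : (Fintype.card Ω : ℂ) ≠ 0 := Nat.cast_ne_zero.2 (Fintype.card_pos_iff.2 ⟨a⟩).ne'
  have hrow : ∀ y, ∑ x, A y x = k := fun y => by
    rw [row_sum_eq A (orbMat_invariant (G := G) ℂ a b) y a, orbMat_row_sum]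
  have hcol : ∀ x, ∑ y, A y x = k := fun x => by
    rw [orbMat_col_sum_eq_row_sum ℂ a b x a, hrow]
  let B : Matrix Ω Ω ℂ := Matrix.of fun y x => A y x - k / Fintype.card Ω
  have hB : ∀ (g : G) y x, B (g • y) (g • x) = B y x := fun g y x => by
    simp only [B, Matrix.of_apply, hA, orbMat_invariant]
  have hBv : ∀ (v : Ω → ℂ) y, B.mulVec v y = A.mulVec v y - k / Fintype.card Ω * ∑ x, v x := by
    intro v y
    simp only [Matrix.mulVec, dotProduct, B, Matrix.of_apply, sub_mul, Finset.sum_sub_distrib,
      Finset.mul_sum]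
  have hint : IsIntegral ℤ (Matrix.toLin' A : Module.End ℂ (Ω → ℂ)) := by
    have : A = (orbMat G ℤ a b).map (Int.castRingHom ℂ) := by
      ext y x
      rw [Matrix.map_apply, hA, orbMat_cast ℂ, orbMat_cast ℤ]; simp
    rw [this]
    exact isIntegral_toLin'_of_int _
  obtain ⟨z, hz, htr⟩ := exists_trace_eq_mul (Matrix.toLin' B) f (by
    intro μ hμ hev
    constructor
    · obtain ⟨v, hv⟩ := hev.exists_hasEigenvector
      have h1 : B.mulVec v = μ • v := hv.apply_eq_smul
      have h2 : ∑ y, v y = 0 := by
        have h3 : ∑ y, B.mulVec v y = 0 := by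
          simp only [hBv, Finset.sum_sub_distrib, Finset.sum_const, Finset.card_univ,
            nsmul_eq_mul]
          simp only [Matrix.mulVec, dotProduct]
          rw [Finset.sum_comm]
          simp only [← Finset.sum_mul, hcol, ← Finset.mul_sum]
          field_simp
          ring
        rw [h1] at h3
        simp only [Pi.smul_apply, smul_eq_mul, ← Finset.mul_sum] at h3
        exact (mul_eq_zero.1 h3).resolve_left hμ
      refine isIntegral_of_eigen hint hv.2 ?_
      rw [← h1]
      funext y
      rw [hBv, h2, mul_zero, sub_zero]; rfl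
    · have hcomm : ∀ g : G, Commute (Matrix.toLin' B : Module.End ℂ (Ω → ℂ)) (permRep ℂ G Ω g) :=
        fun g => LinearMap.ext fun v => mulVec_permRep B hB g v
      refine dvd_finrank_subrep _ hf ⟨Module.End.maxGenEigenspace (Matrix.toLin' B) μ,
        fun g v hv => Module.End.mapsTo_maxGenEigenspace_of_comm (hcomm g) μ hv⟩ ?_
      intro v hv hinv
      have hc : ∀ x, v x = v a := fun x => by
        obtain ⟨g, rfl⟩ := exists_smul_eq G a x
        rw [← hinv g, permRep_apply, inv_smul_smul, hinv g]
      have h0 : Matrix.toLin' B v = (0 : ℂ) • v := by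
        funext y
        rw [Matrix.toLin'_apply, hBv]
        simp only [Matrix.mulVec, dotProduct, hc, ← Finset.sum_mul, hrow, Finset.sum_const,
          Finset.card_univ, nsmul_eq_mul, zero_smul, Pi.zero_apply]
        field_simp
        ring
      have h1 : v ∈ Module.End.maxGenEigenspace (Matrix.toLin' B) 0 :=
        Module.End.eigenspace_le_maxGenEigenspace (Module.End.mem_eigenspace_iff.2 h0)
      exact Submodule.disjoint_def.1
        ((Module.End.independent_maxGenEigenspace (Matrix.toLin' B)).pairwiseDisjoint hμ) v hv h1)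
  rw [Matrix.trace_toLin'_eq, Matrix.trace] at htr
  have hdiag : ∀ x, B.diag x = -(k / Fintype.card Ω) := fun x => by
    simp only [Matrix.diag, B, Matrix.of_apply]
    rw [hA, orbMat_of_not_exists, zero_sub]
    rintro ⟨g, h1, h2⟩
    exact hab (smul_left_cancel g (h2.trans h1.symm))
  simp only [hdiag, Finset.sum_const, Finset.card_univ, nsmul_eq_mul] at htr
  refine nat_dvd_of_isIntegral_div hf0 ?_
  have hf' : (f : ℂ) ≠ 0 := Nat.cast_ne_zero.2 hf0
  have : (k : ℂ) / f = -z := by
    field_simp at htr ⊢
    linear_combination -htr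
  rw [this]
  exact hz.neg

end Cfsg.Agent.S0715
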