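import Cfsg.Agent.Base
import Cfsg.Statements.S0716
import Cfsg.Agent.Perm.Isotypic
import Cfsg.Agent.S0715
import Cfsg.Agent.S0669

set_option autoImplicit false
open Cfsg

namespace Cfsg.Agent.S0716

open CL.Perm CL.Char MulAction

theorem card_eq_sum_orbits (H : Type*) [Group H] (Ω : Type*) [Finite Ω] [MulAction H Ω]
    [Fintype (orbitRel.Quotient H Ω)] :
    Nat.card Ω = ∑ q : orbitRel.Quotient H Ω, Nat.card q.orbit := by
  rw [Nat.card_congr (selfEquivSigmaOrbits' H Ω), Nat.card_sigma]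

theorem exists_mult {G : Type*} [Group G] [Fintype G] {Ω : Type*} [Fintype Ω] [MulAction G Ω]
    [IsPretransitive G Ω] (a : Ω) : ∃ c : IrrCharacter G → ℕ,
      (∀ χ : IrrCharacter G,
        classInner (fun g : G => (Nat.card (fixedBy Ω g) : ℂ)) χ = c χ) ∧ c (irrOne G) = 1 ∧
      Nat.card Ω = ∑ χ, c χ * deg (χ : G → ℂ) ∧
      Nat.card (orbitRel.Quotient (stabilizer G a) Ω) = ∑ χ, c χ ^ 2 := by
  have : Nonempty Ω := ⟨a⟩
  obtain ⟨c, hc1, hc2⟩ := char_exists_eq_sum (char_fixedBy (G := G) Ω)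
  refine ⟨c, hc1, ?_, ?_, ?_⟩
  · have h := hc1 (irrOne G)
    have h2 := classInner_fixedBy_one (G := G) Ω
    rw [card_orbits_of_pretransitive] at h2
    exact_mod_cast h.symm.trans h2
  · have h := congrFun hc2 1
    simp only [fixedBy_one_eq_univ, Nat.card_univ, Finset.sum_apply, Pi.smul_apply,
      smul_eq_mul] at h
    apply Nat.cast_injective (R := ℂ)
    rw [h, Nat.cast_sum]
    exact Finset.sum_congr rfl fun χ _ => by rw [Nat.cast_mul, irr_cast_deg χ.2]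
  · rw [← Cfsg.Agent.S0669.result a]
    apply Nat.cast_injective (R := ℂ)
    rw [← classInner_fixedBy_fixedBy,
      classInner_eq_sum (char_isClassFunction (char_fixedBy (G := G) Ω)), Nat.cast_sum]
    exact Finset.sum_congr rfl fun χ _ => by rw [hc1, map_natCast, Nat.cast_pow, sq]

theorem partA {G : Type*} [Group G] [Fintype G] {Ω : Type*} [Fintype Ω] [MulAction G Ω]
    [IsPretransitive G Ω] (a : Ω) (f : ℕ) (hf : ∀ χ : G → ℂ, IsIrrCharacter G χ →
      χ ≠ (fun _ => 1) → classInner (fun g : G => (Nat.card (fixedBy Ω g) : ℂ)) χ ≠ 0 → χ 1 = f) :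
    (∀ χ : G → ℂ, IsIrrCharacter G χ →
      classInner (fun g : G => (Nat.card (fixedBy Ω g) : ℂ)) χ = 0 ∨
      classInner (fun g : G => (Nat.card (fixedBy Ω g) : ℂ)) χ = 1) ∧
    ∀ b : Ω, b ≠ a → Nat.card (orbit (stabilizer G a) b) = f := by
  classical
  obtain ⟨c, hc, hc1, hn, hr⟩ := exists_mult (G := G) a
  have hdvd : ∀ b, b ≠ a → f ∣ Nat.card (orbit (stabilizer G a) b) := fun b hb =>
    Cfsg.Agent.S0715.result f (fun χ h1 h2 h3 => ⟨1, by rw [hf χ h1 h2 h3]; simp⟩) a b hb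
  have hdeg : ∀ χ : IrrCharacter G, χ ≠ irrOne G → c χ ≠ 0 → deg (χ : G → ℂ) = f :=
    fun χ h1 h2 => deg_eq_of_apply_one (hf χ χ.2 (fun h => h1 (Subtype.ext h))
      (by rw [hc]; exact_mod_cast h2))
  have hmf : (∀ χ : IrrCharacter G, χ ≠ irrOne G → c χ ^ 2 = c χ) → ∀ χ : G → ℂ,
      IsIrrCharacter G χ → classInner (fun g : G => (Nat.card (fixedBy Ω g) : ℂ)) χ = 0 ∨
      classInner (fun g : G => (Nat.card (fixedBy Ω g) : ℂ)) χ = 1 := by
    intro h χ hχ
    rw [hc ⟨χ, hχ⟩]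
    by_cases h1 : (⟨χ, hχ⟩ : IrrCharacter G) = irrOne G
    · right; rw [h1, hc1, Nat.cast_one]
    · have h2 := h _ h1
      have h3 : c ⟨χ, hχ⟩ = 0 ∨ c ⟨χ, hχ⟩ = 1 := by
        rcases Nat.lt_or_ge (c ⟨χ, hχ⟩) 2 with h4 | h4
        · omega
        · nlinarith
      rcases h3 with h3 | h3 <;> simp [h3]
  rcases Nat.eq_zero_or_pos f with hf0 | hf0
  · refine ⟨hmf fun χ hχ => ?_, fun b hb => ?_⟩
    · by_cases h0 : c χ = 0
      · simp [h0]
      · have := irr_deg_pos χ.2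
        rw [hdeg χ hχ h0] at this
        omega
    · have := hdvd b hb
      rw [hf0] at this ⊢
      exact zero_dvd_iff.1 this
  let := Fintype.ofFinite (orbitRel.Quotient (stabilizer G a) Ω)
  let q0 : orbitRel.Quotient (stabilizer G a) Ω := Quotient.mk'' a
  have hq0 : Nat.card q0.orbit = 1 := by
    rw [orbitRel.Quotient.orbit_mk, Nat.card_eq_one_iff_exists]
    refine ⟨⟨a, mem_orbit_self a⟩, ?_⟩
    rintro ⟨_, g, rfl⟩
    exact Subtype.ext g.2
  have hle : ∀ q ∈ Finset.univ.erase q0, f ≤ Nat.card q.orbit := by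
    intro q hq
    induction q using Quotient.inductionOn' with | h b =>
    have hb : b ≠ a := fun h => (Finset.mem_erase.1 hq).1 (by rw [h])
    have : Nonempty (orbit (stabilizer G a) b) := ⟨⟨b, mem_orbit_self b⟩⟩
    have hpos : 0 < Nat.card (orbit (stabilizer G a) b) := Nat.card_pos
    exact Nat.le_of_dvd hpos (hdvd b hb)
  have h1 := card_eq_sum_orbits (stabilizer G a) Ω
  rw [← Finset.add_sum_erase _ _ (Finset.mem_univ q0), hq0] at h1
  rw [← Finset.add_sum_erase _ _ (Finset.mem_univ (irrOne G)), hc1,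
    deg_eq_of_apply_one (n := 1) (by simp [irrOne_apply])] at hn
  rw [← Finset.add_sum_erase _ _ (Finset.mem_univ (irrOne G)), hc1] at hr
  have h2 : ∑ χ ∈ Finset.univ.erase (irrOne G), c χ * deg (χ : G → ℂ) =
      f * ∑ χ ∈ Finset.univ.erase (irrOne G), c χ := by
    rw [Finset.mul_sum]
    refine Finset.sum_congr rfl fun χ hχ => ?_
    by_cases h0 : c χ = 0
    · simp [h0]
    · rw [hdeg χ (Finset.mem_erase.1 hχ).1 h0, mul_comm]
  have hsq : ∀ χ ∈ Finset.univ.erase (irrOne G), c χ ≤ c χ ^ 2 := fun χ _ => by nlinarith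
  have h3 := Finset.sum_le_sum hsq
  have h4 := Finset.sum_le_sum hle
  have h5 : ∑ q ∈ Finset.univ.erase q0, f = f * ∑ χ ∈ Finset.univ.erase (irrOne G), c χ ^ 2 := by
    rw [Finset.sum_const, Finset.card_erase_of_mem (Finset.mem_univ _), Finset.card_univ,
      ← Nat.card_eq_fintype_card, hr, smul_eq_mul, mul_comm]
    simp
  have h6 := Nat.mul_le_mul_left f h3
  have h7 : ∑ χ ∈ Finset.univ.erase (irrOne G), c χ =
      ∑ χ ∈ Finset.univ.erase (irrOne G), c χ ^ 2 := Nat.eq_of_mul_eq_mul_left hf0 (by omega)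
  refine ⟨hmf fun χ hχ => ?_, fun b hb => ?_⟩
  · exact ((Finset.sum_eq_sum_iff_of_le hsq).1 h7 χ
      (Finset.mem_erase.2 ⟨hχ, Finset.mem_univ _⟩)).symm
  · have h8 : ∑ q ∈ Finset.univ.erase q0, f = ∑ q ∈ Finset.univ.erase q0, Nat.card q.orbit := by
      omega
    refine ((Finset.sum_eq_sum_iff_of_le hle).1 h8 (Quotient.mk'' b)
      (Finset.mem_erase.2 ⟨fun h => hb ?_, Finset.mem_univ _⟩)).symm
    obtain ⟨g, hg⟩ := Quotient.exact' h
    exact hg.symm.trans g.2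

/-- (a) If all non-principal irreducible constituents of the permutation character of a transitive group have the same degree `f`, the character is multiplicity-free and all non-trivial subdegrees equal `f`. (b) A transitive group of rank at most 5 has multiplicity-free permutation character. -/
theorem result {G : Type*} [Group G] [Fintype G] {Ω : Type*} [Fintype Ω] [MulAction G Ω] [MulAction.IsPretransitive G Ω] (a : Ω) : ((f : ℕ) → (∀ χ : G → ℂ, Cfsg.IsIrrCharacter G χ → χ ≠ (fun _ => 1) → Cfsg.classInner (fun g : G => (Nat.card (MulAction.fixedBy Ω g) : ℂ)) χ ≠ 0 → χ 1 = f) → (∀ χ : G → ℂ, Cfsg.IsIrrCharacter G χ → Cfsg.classInner (fun g : G => (Nat.card (MulAction.fixedBy Ω g) : ℂ)) χ = 0 ∨ Cfsg.classInner (fun g : G => (Nat.card (MulAction.fixedBy Ω g) : ℂ)) χ = 1) ∧ ∀ b : Ω, b ≠ a → Nat.card (MulAction.orbit (MulAction.stabilizer G a) b) = f) ∧ (Nat.card (MulAction.orbitRel.Quotient (MulAction.stabilizer G a)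 Ω) ≤ 5 → ∀ χ : G → ℂ, Cfsg.IsIrrCharacter G χ → Cfsg.classInner (fun g : G => (Nat.card (MulAction.fixedBy Ω g) : ℂ)) χ = 0 ∨ Cfsg.classInner (fun g : G => (Nat.card (MulAction.fixedBy Ω g) : ℂ)) χ = 1) := by
  classical
  refine ⟨partA a, fun h5 χ hχ => ?_⟩
  obtain ⟨c, hc, hc1, -, hr⟩ := exists_mult (G := G) a
  by_contra hcon
  have h2 : 2 ≤ c ⟨χ, hχ⟩ := by
    rw [hc ⟨χ, hχ⟩, not_or, Nat.cast_eq_zero, Nat.cast_eq_one] at hcon
    omega
  have hne : (⟨χ, hχ⟩ : IrrCharacter G) ≠ irrOne G := fun h => by rw [h, hc1] at h2; omega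
  refine hcon ((partA a (deg χ) fun ψ hψ hψ1 hψ0 => ?_).1 χ hχ)
  by_cases h : ψ = χ
  · rw [h, irr_cast_deg hχ]
  exfalso
  have h3 : c ⟨ψ, hψ⟩ ≠ 0 := by
    rw [hc ⟨ψ, hψ⟩, Ne, Nat.cast_eq_zero] at hψ0
    exact hψ0
  have hne1 : (⟨ψ, hψ⟩ : IrrCharacter G) ≠ irrOne G := fun h => hψ1 (congrArg Subtype.val h)
  have hne2 : (⟨ψ, hψ⟩ : IrrCharacter G) ≠ ⟨χ, hχ⟩ := fun e => h (congrArg Subtype.val e)
  have h4 := Finset.sum_le_sum_of_subset (f := fun χ => c χ ^ 2)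
    (Finset.subset_univ {irrOne G, ⟨χ, hχ⟩, ⟨ψ, hψ⟩})
  rw [Finset.sum_insert (by simp [hne.symm, hne1.symm]), Finset.sum_pair hne2.symm, hc1] at h4
  have h6 : 1 ≤ c ⟨ψ, hψ⟩ := Nat.pos_of_ne_zero h3
  nlinarith

end Cfsg.Agent.S0716
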