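import Cfsg.Agent.Base
import Cfsg.Statements.S0717
import Cfsg.Agent.Perm.Isotypic

set_option autoImplicit false
open Cfsg

namespace Cfsg.Agent.S0717

open CL.Perm CL.Char
open scoped ComplexConjugate

/-- All suborbits of a transitive group are self-paired (every pair of points is interchanged by some group element) if and only if the permutation character is multiplicity-free and each of its irreducible constituents is real-valued. -/
theorem result {G : Type*} [Group G] [Fintype G] {Ω : Type*} [Fintype Ω] [MulAction G Ω] [MulAction.IsPretransitive G Ω] : (∀ a b : Ω, ∃ g : G, g • a = b ∧ g • b = a) ↔ ∀ χ : G → ℂ, Cfsg.IsIrrCharacter G χ → Cfsg.classInner (fun g : G => (Nat.card (MulAction.fixedBy Ω g) : ℂ)) χ ≠ 0 → Cfsg.classInner (fun g : G => (Nat.card (MulAction.fixedBy Ω g) : ℂ)) χ = 1 ∧ ∀ g : G, (starRingEnd ℂ) (χ g) = χ g := by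
  classical
  rw [← character_permRep]
  constructor
  · intro hgen
    have hsym : ∀ T : (Ω → ℂ) →ₗ[ℂ] (Ω → ℂ),
        (∀ (g : G) v, T (permRep ℂ G Ω g v) = permRep ℂ G Ω g (T v)) →
        (LinearMap.toMatrix' T).transpose = LinearMap.toMatrix' T := by
      intro T hT
      have h1 := (mem_linHom_invariants_iff_toMatrix T).1 ((mem_linHom_invariants_iff T).2 hT)
      ext y x
      obtain ⟨g, h2, h3⟩ := hgen x y
      rw [Matrix.transpose_apply, ← h1 g x y, h2, h3]
    have hcomm : ∀ S T : (Ω → ℂ) →ₗ[ℂ] (Ω → ℂ),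
        (∀ (g : G) v, S (permRep ℂ G Ω g v) = permRep ℂ G Ω g (S v)) →
        (∀ (g : G) v, T (permRep ℂ G Ω g v) = permRep ℂ G Ω g (T v)) → S ∘ₗ T = T ∘ₗ S := by
      intro S T hS hT
      apply LinearMap.toMatrix'.injective
      rw [← hsym (S ∘ₗ T) (fun g v => by simp only [LinearMap.comp_apply, hS, hT]),
        LinearMap.toMatrix'_comp, LinearMap.toMatrix'_comp, Matrix.transpose_mul, hsym S hS,
        hsym T hT]
    intro χ hχ hne
    refine ⟨(multFree_of_comm _ hcomm hχ).resolve_left hne, ?_⟩
    have h1 : isoProj (permRep ℂ G Ω) χ = isoProj (permRep ℂ G Ω) (fun g => conj (χ g)) := by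
      apply LinearMap.toMatrix'.injective
      rw [← hsym (isoProj (permRep ℂ G Ω) χ) (isoProj_rep _ (irr_isClassFunction hχ))]
      ext y x
      rw [Matrix.transpose_apply, toMatrix'_isoProj_transpose (irr_isCharacter hχ)]
    by_contra hcon
    have hne' : χ ≠ fun g => conj (χ g) := fun h => hcon fun g => (congrFun h g).symm
    apply isoProj_ne_zero _ hχ hne
    refine LinearMap.ext fun v => ?_
    rw [← isoProj_isoProj_self _ hχ, LinearMap.zero_apply,
      ← isoProj_isoProj_of_ne (permRep ℂ G Ω) hχ (irr_conj hχ) hne' v, ← h1]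
  · intro h a b
    have hmf : ∀ χ, IsIrrCharacter G χ → classInner (permRep ℂ G Ω).character χ = 0 ∨
        classInner (permRep ℂ G Ω).character χ = 1 := fun χ hχ => by
      by_cases h0 : classInner (permRep ℂ G Ω).character χ = 0
      · exact Or.inl h0
      · exact Or.inr (h χ hχ h0).1
    obtain ⟨c, hc⟩ := exists_eq_sum_isoProj (permRep ℂ G Ω) hmf
      (T := (orbMat G ℂ a b).mulVecLin) (mulVec_permRep _ (orbMat_invariant ℂ a b))
    have h1 : orbMat G ℂ a b = ∑ χ : IrrCharacter G,
        c χ • LinearMap.toMatrix' (isoProj (permRep ℂ G Ω) χ) := by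
      have := congrArg LinearMap.toMatrix' hc
      rw [← Matrix.toLin'_apply', LinearMap.toMatrix'_toLin'] at this
      rw [this, map_sum]
      simp only [map_smul]
    have h2 : orbMat G ℂ a b b a = orbMat G ℂ a b a b := by
      rw [h1]
      simp only [Matrix.sum_apply, Matrix.smul_apply]
      refine Finset.sum_congr rfl fun χ _ => ?_
      by_cases h0 : classInner (permRep ℂ G Ω).character χ = 0
      · rw [isoProj_eq_zero _ χ.2 h0]; simp
      · rw [toMatrix'_isoProj_transpose (irr_isCharacter χ.2), funext (h χ χ.2 h0).2]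
    rw [orbMat_self] at h2
    by_contra hcon
    rw [orbMat_of_not_exists ℂ hcon] at h2
    exact zero_ne_one h2

end Cfsg.Agent.S0717
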