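import Cfsg.Agent.Base
import Cfsg.Statements.S0719
import Cfsg.Agent.Perm.Isotypic
import Cfsg.Agent.Perm.BlockLemmas
import Cfsg.Agent.S0716
import Cfsg.Agent.S0717

set_option autoImplicit false
open Cfsg

namespace Cfsg.Agent.S0719

open CL.Perm CL.Char MulAction
open scoped ComplexConjugate

theorem arith {m k : ℕ} {c t : ℤ} (hk : 2 ≤ k) (hk' : k + 3 ≤ 2 * m)
    (h1 : (k : ℤ) = t + c - c * m) (h2 : 2 * t * (t - 1) = -((m - 1) * (c * (c + 2)))) :
    ∃ a : ℕ, 0 < a ∧ m = 2 * a ^ 2 + 2 * a + 1 ∧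
      (k = a * (2 * a + 1) ∨ k = (a + 1) * (2 * a + 1)) := by
  have hm : (2 : ℤ) ≤ m := by omega
  have ht : 0 ≤ t * (t - 1) := by
    rcases le_or_gt t 0 with h | h <;> nlinarith
  have hc : c * (c + 2) ≤ 0 := by
    by_contra h
    push Not at h
    nlinarith
  have hc' : c = 0 ∨ c = -1 ∨ c = -2 := by
    have h3 : -2 ≤ c := by nlinarith
    have h4 : c ≤ 0 := by nlinarith
    omega
  have ht01 : t * (t - 1) = 0 → t = 0 ∨ t = 1 := fun h => by
    rcases mul_eq_zero.1 h with h | h <;> omega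
  rcases hc' with rfl | rfl | rfl
  · rcases ht01 (by linarith) with rfl | rfl <;> omega
  · rcases le_or_gt t 0 with h | h
    · obtain ⟨a, rfl⟩ := Int.exists_eq_neg_ofNat h
      have h3 : (m : ℤ) = 2 * a ^ 2 + 2 * a + 1 := by linarith
      refine ⟨a, ?_, by exact_mod_cast h3, Or.inl ?_⟩
      · rcases Nat.eq_zero_or_pos a with rfl | h0
        · simp at h3; omega
        · exact h0
      · have : (k : ℤ) = a * (2 * a + 1) := by rw [h1, h3]; ring
        exact_mod_cast this
    · obtain ⟨a, ha⟩ := Int.eq_ofNat_of_zero_le (a := t - 1) (by omega)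
      have h4 : t = a + 1 := by omega
      subst h4
      have h3 : (m : ℤ) = 2 * a ^ 2 + 2 * a + 1 := by linarith
      refine ⟨a, ?_, by exact_mod_cast h3, Or.inr ?_⟩
      · rcases Nat.eq_zero_or_pos a with rfl | h0
        · simp at h3; omega
        · exact h0
      · have : (k : ℤ) = (a + 1) * (2 * a + 1) := by rw [h1, h3]; ring
        exact_mod_cast this
  · rcases ht01 (by linarith) with rfl | rfl <;> omega

theorem two_le_card_orbit {G : Type*} [Group G] {Ω : Type*} [Finite Ω] [MulAction G Ω]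
    [IsPreprimitive G Ω] (hgen : ∀ a b : Ω, ∃ g : G, g • a = b ∧ g • b = a) {a : Ω}
    (hr : Nat.card (orbitRel.Quotient (stabilizer G a) Ω) ≠ Nat.card Ω) {b : Ω} (hb : b ≠ a) :
    2 ≤ Nat.card (orbit (stabilizer G a) b) := by
  by_contra hcon
  have hsub : Subsingleton (orbit (stabilizer G a) b) :=
    Finite.card_le_one_iff_subsingleton.1 (by omega)
  have h1 : ∀ g : G, g • a = a → g • b = b := fun g hg =>
    congrArg Subtype.val (hsub.elim ⟨_, mem_orbit b (⟨g, hg⟩ : stabilizer G a)⟩
      ⟨b, mem_orbit_self b⟩)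
  obtain ⟨h, h2, h3⟩ := hgen a b
  have h4 : ∀ g : G, g • b = b → g • a = a := fun g hg => by
    have := h1 (h⁻¹ * g * h) (by rw [mul_smul, mul_smul, h2, hg, inv_smul_eq_iff, h2])
    rw [mul_smul, mul_smul, h3, inv_smul_eq_iff, h3] at this
    exact this
  have h5 := rel_of_invariant_equivalence (G := G)
    (r := fun x y : Ω => ∀ g : G, g • x = x ↔ g • y = y)
    ⟨fun _ _ => Iff.rfl, fun h g => (h g).symm, fun h h' g => (h g).trans (h' g)⟩
    (fun k x y hxy g => by
      have := hxy (k⁻¹ * g * k)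
      simpa only [mul_smul, inv_smul_eq_iff] using this) hb.symm (fun g => ⟨h1 g, h4 g⟩)
  apply hr
  symm
  refine Nat.card_eq_of_bijective (Quotient.mk'' : Ω → orbitRel.Quotient (stabilizer G a) Ω)
    ⟨fun x y hxy => ?_, Quotient.mk''_surjective⟩
  obtain ⟨g, hg⟩ := Quotient.exact' hxy
  exact hg.symm.trans ((h5 a y g).1 g.2)

/-- Groups of Wielandt type: if a primitive group of degree `2m` has rank 3 and permutation character `1 + χ₁ + χ₂` with irreducible `χ₁, χ₂` of degrees `m - 1` and `m`, then `m = 2a² + 2a + 1` for some positive integer `a` and the two non-trivial subdegrees are `a(2a+1)` and `(a+1)(2a+1)`. -/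
theorem result {G : Type*} [Group G] [Fintype G] {Ω : Type*} [Fintype Ω] [MulAction G Ω] (hprim : MulAction.IsPreprimitive G Ω) {m : ℕ} (hm : Fintype.card Ω = 2 * m) (a₀ : Ω) (hrank : Nat.card (MulAction.orbitRel.Quotient (MulAction.stabilizer G a₀) Ω) = 3) (χ₁ χ₂ : G → ℂ) (h₁ : Cfsg.IsIrrCharacter G χ₁) (h₂ : Cfsg.IsIrrCharacter G χ₂) (hπ : (fun g : G => (Nat.card (MulAction.fixedBy Ω g) : ℂ)) = fun g => 1 + χ₁ g + χ₂ g) (hd₁ : χ₁ 1 = (m : ℂ) - 1) (hd₂ : χ₂ 1 = m) : ∃ a : ℕ, 0 < a ∧ m = 2 * a ^ 2 + 2 * a + 1 ∧ ∀ b : Ω, b ≠ a₀ → Nat.card (MulAction.orbit (MulAction.stabilizer G a₀) b) = a * (2 * a + 1) ∨ Nat.card (MulAction.orbit (MulAction.stabilizer G a₀) b) = (a + 1) * (2 * a + 1) := by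
  classical
  have : Nonempty Ω := ⟨a₀⟩
  have hπ' : (permRep ℂ G Ω).character = (fun _ => 1) + χ₁ + χ₂ := by
    rw [character_permRep, hπ]; rfl
  have hin : ∀ χ, classInner (permRep ℂ G Ω).character χ =
      classInner (fun _ => 1) χ + classInner χ₁ χ + classInner χ₂ χ := fun χ => by
    rw [hπ', classInner_add_left, classInner_add_left]
  have h11 : classInner (permRep ℂ G Ω).character (fun _ => 1) = 1 := by
    rw [character_permRep, classInner_fixedBy_one, card_orbits_of_pretransitive, Nat.cast_one]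
  have hne : χ₁ ≠ (fun _ => 1) ∧ χ₂ ≠ (fun _ => 1) := by
    obtain ⟨n₁, hn₁⟩ := char_inner_nat (irr_isCharacter h₁) char_one
    obtain ⟨n₂, hn₂⟩ := char_inner_nat (irr_isCharacter h₂) char_one
    have h := h11
    rw [hin, classInner_one_one, hn₁, hn₂] at h
    have h' : 1 + n₁ + n₂ = 1 := by exact_mod_cast h
    constructor
    · intro e
      rw [e, classInner_one_one] at hn₁
      have : 1 = n₁ := by exact_mod_cast hn₁
      omega
    · intro e
      rw [e, classInner_one_one] at hn₂
      have : 1 = n₂ := by exact_mod_cast hn₂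
      omega
  have h12 : χ₁ 1 ≠ χ₂ 1 := by
    rw [hd₁, hd₂]; intro h; exact one_ne_zero (by linear_combination -h : (1 : ℂ) = 0)
  have h12' : χ₁ ≠ χ₂ := fun h => h12 (by rw [h])
  have hm1 : classInner (permRep ℂ G Ω).character χ₁ = 1 := by
    rw [hin, irr_inner_of_ne irr_one h₁ hne.1.symm, irr_inner_self h₁,
      irr_inner_of_ne h₂ h₁ h12'.symm]; simp
  have hm2 : classInner (permRep ℂ G Ω).character χ₂ = 1 := by
    rw [hin, irr_inner_of_ne irr_one h₂ hne.2.symm, irr_inner_self h₂,
      irr_inner_of_ne h₁ h₂ h12']; simp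
  have hcons : ∀ χ, IsIrrCharacter G χ → classInner (permRep ℂ G Ω).character χ ≠ 0 →
      χ = (fun _ => 1) ∨ χ = χ₁ ∨ χ = χ₂ := by
    intro χ hχ h
    by_contra hcon
    simp only [not_or] at hcon
    apply h
    rw [hin, irr_inner_of_ne irr_one hχ (Ne.symm hcon.1), irr_inner_of_ne h₁ hχ (Ne.symm hcon.2.1),
      irr_inner_of_ne h₂ hχ (Ne.symm hcon.2.2)]; simp
  have hconj : ∀ χ, IsIrrCharacter G χ → classInner (permRep ℂ G Ω).character χ ≠ 0 →
      classInner (permRep ℂ G Ω).character (fun g => conj (χ g)) ≠ 0 := by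
    intro χ hχ h
    have h1 : (permRep ℂ G Ω).character = fun g => conj ((permRep ℂ G Ω).character g) := by
      rw [character_permRep]; simp
    rw [h1, classInner_conj_conj, Ne, classInner_eq_zero_comm]
    exact h
  have hcc : ∀ χ : G → ℂ, (fun g => conj (χ g)) = (fun _ => 1) → χ = fun _ => 1 := by
    intro χ h
    funext g
    rw [← Complex.conj_conj (χ g), congrFun h g, map_one]
  have hgen : ∀ a b : Ω, ∃ g : G, g • a = b ∧ g • b = a := by
    refine Cfsg.Agent.S0717.result.2 fun χ hχ h => ?_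
    rw [← character_permRep] at h ⊢
    rcases hcons χ hχ h with rfl | rfl | rfl
    · exact ⟨h11, fun g => map_one _⟩
    · refine ⟨hm1, ?_⟩
      rcases hcons _ (irr_conj hχ) (hconj χ hχ h) with e | e | e
      · exact absurd (hcc _ e) hne.1
      · exact congrFun e
      · exact absurd ((irr_conj_apply_one hχ).symm.trans (congrFun e 1)) h12
    · refine ⟨hm2, ?_⟩
      rcases hcons _ (irr_conj hχ) (hconj χ hχ h) with e | e | e
      · exact absurd (hcc _ e) hne.2
      · exact absurd ((irr_conj_apply_one hχ).symm.trans (congrFun e 1)).symm h12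
      · exact congrFun e
  have hrn : Nat.card (orbitRel.Quotient (stabilizer G a₀) Ω) ≠ Nat.card Ω := by
    rw [hrank, Nat.card_eq_fintype_card, hm]; omega
  have hdec : ∀ v, isoProj (permRep ℂ G Ω) (fun _ => 1) v + isoProj (permRep ℂ G Ω) χ₁ v +
      isoProj (permRep ℂ G Ω) χ₂ v = v := by
    intro v
    conv_rhs => rw [← sum_isoProj (permRep ℂ G Ω) v]
    rw [← Finset.sum_subset (Finset.subset_univ {irrOne G, ⟨χ₁, h₁⟩, ⟨χ₂, h₂⟩}),
      Finset.sum_insert, Finset.sum_pair, add_assoc]
    · rfl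
    · exact fun h => h12' (congrArg Subtype.val h)
    · simp only [Finset.mem_insert, Finset.mem_singleton, not_or]
      exact ⟨fun h => hne.1 (congrArg Subtype.val h).symm,
        fun h => hne.2 (congrArg Subtype.val h).symm⟩
    · intro χ _ hχ
      rw [isoProj_eq_zero _ χ.2, LinearMap.zero_apply]
      by_contra h
      apply hχ
      simp only [Finset.mem_insert, Finset.mem_singleton]
      rcases hcons χ χ.2 h with e | e | e
      · exact Or.inl (Subtype.ext e)
      · exact Or.inr (Or.inl (Subtype.ext e))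
      · exact Or.inr (Or.inr (Subtype.ext e))
  let := Fintype.ofFinite (orbitRel.Quotient (stabilizer G a₀) Ω)
  have hthird : ∀ p q : orbitRel.Quotient (stabilizer G a₀) Ω, ∃ b : Ω,
      Quotient.mk'' b ≠ p ∧ Quotient.mk'' b ≠ q := by
    intro p q
    by_contra hcon
    push Not at hcon
    have h1 : (Finset.univ : Finset (orbitRel.Quotient (stabilizer G a₀) Ω)) ⊆ {p, q} := by
      intro x _
      induction x using Quotient.inductionOn' with | h x =>
      by_cases h : Quotient.mk'' x = p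
      · simp [h]
      · simp [hcon x h]
    have h2 := (Finset.card_le_card h1).trans Finset.card_le_two
    rw [Finset.card_univ, ← Nat.card_eq_fintype_card, hrank] at h2
    omega
  have key : ∀ b : Ω, b ≠ a₀ → ∃ a : ℕ, 0 < a ∧ m = 2 * a ^ 2 + 2 * a + 1 ∧
      (Nat.card (orbit (stabilizer G a₀) b) = a * (2 * a + 1) ∨
        Nat.card (orbit (stabilizer G a₀) b) = (a + 1) * (2 * a + 1)) := by
    intro b hb
    obtain ⟨b', hb1, hb2⟩ := hthird (Quotient.mk'' a₀) (Quotient.mk'' b)
    have hb' : b' ≠ a₀ := fun h => hb1 (by rw [h])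
    have hb0 : (Quotient.mk'' b : orbitRel.Quotient (stabilizer G a₀) Ω) ≠ Quotient.mk'' a₀ := by
      intro h
      obtain ⟨g, hg⟩ := Quotient.exact' h
      exact hb (hg.symm.trans g.2)
    have hk2 := two_le_card_orbit hgen hrn hb
    have hl2 := two_le_card_orbit hgen hrn hb'
    have hkl : Nat.card (orbit (stabilizer G a₀) b) + 3 ≤ 2 * m := by
      have h1 := Finset.sum_le_sum_of_subset
        (f := fun q : orbitRel.Quotient (stabilizer G a₀) Ω => Nat.card q.orbit)
        (Finset.subset_univ {Quotient.mk'' a₀, Quotient.mk'' b, Quotient.mk'' b'})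
      rw [← Cfsg.Agent.S0716.card_eq_sum_orbits, Nat.card_eq_fintype_card, hm,
        Finset.sum_insert (by simp [hb0.symm, hb1.symm]), Finset.sum_pair hb2.symm] at h1
      simp only [orbitRel.Quotient.orbit_mk] at h1
      have : Nonempty (orbit (stabilizer G a₀) a₀) := ⟨⟨a₀, mem_orbit_self a₀⟩⟩
      have hpos : 0 < Nat.card (orbit (stabilizer G a₀) a₀) := Nat.card_pos
      omega
    set k := Nat.card (orbit (stabilizer G a₀) b) with hk
    set A := orbMat G ℂ a₀ b with hA
    have hAinv := orbMat_invariant (G := G) ℂ a₀ b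
    have hrow : ∀ y, ∑ x, A y x = k := fun y => by
      rw [row_sum_eq A hAinv y a₀, orbMat_row_sum]
    have hdiag : ∀ x, A x x = 0 := fun x => by
      rw [hA, orbMat_of_not_exists]
      rintro ⟨g, h1, h2⟩
      exact hb (smul_left_cancel g (h2.trans h1.symm))
    have hT := mulVec_permRep A hAinv
    obtain ⟨r, hr⟩ := exists_comp_isoProj_eq_smul (permRep ℂ G Ω) h₁ (Or.inr hm1)
      (T := Matrix.toLin' A) hT
    obtain ⟨s, hs⟩ := exists_comp_isoProj_eq_smul (permRep ℂ G Ω) h₂ (Or.inr hm2)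
      (T := Matrix.toLin' A) hT
    have h0 : ∀ v, Matrix.toLin' A (isoProj (permRep ℂ G Ω) (fun _ => 1) v) =
        (k : ℂ) • isoProj (permRep ℂ G Ω) (fun _ => 1) v := by
      intro v
      funext y
      simp only [Matrix.toLin'_apply, Matrix.mulVec, dotProduct, isoProj_one_apply,
        ← Finset.sum_mul, hrow, Pi.smul_apply, smul_eq_mul]
    have hTeq : ∀ v, Matrix.toLin' A v = (k : ℂ) • isoProj (permRep ℂ G Ω) (fun _ => 1) v +
        r • isoProj (permRep ℂ G Ω) χ₁ v + s • isoProj (permRep ℂ G Ω) χ₂ v := by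
      intro v
      conv_lhs => rw [← hdec v]
      rw [map_add, map_add, h0, hr, hs]
    have htr : (k : ℂ) + r * (m - 1) + s * m = 0 := by
      have h1 : Matrix.toLin' A = (k : ℂ) • isoProj (permRep ℂ G Ω) (fun _ => 1) +
          r • isoProj (permRep ℂ G Ω) χ₁ + s • isoProj (permRep ℂ G Ω) χ₂ := LinearMap.ext hTeq
      have h2 := congrArg (LinearMap.trace ℂ _) h1
      rw [Matrix.trace_toLin'_eq, map_add, map_add, map_smul, map_smul, map_smul,
        trace_isoProj _ irr_one, trace_isoProj _ h₁, trace_isoProj _ h₂, h11, hm1, hm2, hd₁,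
        hd₂, Matrix.trace] at h2
      simp only [Matrix.diag, hdiag, Finset.sum_const_zero, smul_eq_mul] at h2
      linear_combination -h2
    have hm0 : (m : ℂ) ≠ 0 := Nat.cast_ne_zero.2 (by omega)
    have hquad : ∀ y x, ∑ z, A y z * A z x - (r + s) * A y x + r * s * (if y = x then 1 else 0) =
        (k - r) * (k - s) / (2 * m) := by
      intro y x
      have h1 := congrArg (Matrix.toLin' A) (hTeq (Pi.single x 1))
      rw [map_add, map_add, map_smul, map_smul, map_smul, h0, hr, hs] at h1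
      have h2 := congrFun h1 y
      have h3 := congrFun (hTeq (Pi.single x 1)) y
      have h4 := congrFun (hdec (Pi.single x 1)) y
      have h5 := isoProj_one_apply (G := G) (Pi.single x 1) y
      simp only [Matrix.toLin'_apply, Matrix.mulVec_single_one, Pi.add_apply, Pi.smul_apply,
        smul_eq_mul, Matrix.col_apply] at h2 h3 h4
      simp only [Matrix.mulVec, dotProduct, Matrix.col_apply] at h2
      rw [Pi.single_apply] at h4
      rw [Finset.sum_pi_single', if_pos (Finset.mem_univ _), hm, Nat.cast_mul, Nat.cast_two] at h5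
      rw [h2, h3, ← h4, h5]
      field_simp
      ring
    have hnat : ∀ y x, ∃ N : ℕ, ∑ z, A y z * A z x = N := fun y x =>
      ⟨∑ z, orbMat G ℕ a₀ b y z * orbMat G ℕ a₀ b z x, by
        simp only [hA, orbMat_cast ℂ, Nat.cast_sum, Nat.cast_mul]⟩
    obtain ⟨N₁, hN₁⟩ := hnat a₀ b
    obtain ⟨N₂, hN₂⟩ := hnat a₀ b'
    have e1 := hquad a₀ b
    have e2 := hquad a₀ b'
    have e3 := hquad a₀ a₀
    rw [hN₁, if_neg hb.symm, show A a₀ b = 1 from orbMat_self ℂ _ _] at e1
    rw [hN₂, if_neg hb'.symm, show A a₀ b' = 0 from orbMat_of_not_exists ℂ (by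
      rintro ⟨g, h1, h2⟩
      exact hb2 (Quotient.sound' ⟨⟨g, h1⟩, h2⟩))] at e2
    have hsq : ∑ z, A a₀ z * A z a₀ = k := by
      rw [← hrow a₀]
      refine Finset.sum_congr rfl fun z _ => ?_
      obtain ⟨g, h1, h2⟩ := hgen a₀ z
      have : A z a₀ = A a₀ z := by
        have := hAinv g a₀ z
        rwa [h1, h2] at this
      rw [this]
      by_cases h : ∃ g : G, g • a₀ = a₀ ∧ g • b = z
      · rw [hA, orbMat_of_exists ℂ h, one_mul]
      · rw [hA, orbMat_of_not_exists ℂ h, zero_mul]
    rw [hsq, hdiag, if_pos rfl] at e3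
    have hc : r + s = (((N₁ : ℤ) - N₂ : ℤ) : ℂ) := by
      push_cast
      linear_combination e2 - e1
    set c : ℤ := (N₁ : ℤ) - N₂
    have hr' : r = k + c * m := by linear_combination -htr + m * hc
    have hs' : s = c - k - c * m := by linear_combination hc - hr'
    refine arith (c := c) (t := k + c * m - c) hk2 hkl (by ring) ?_
    apply Int.cast_injective (α := ℂ)
    push_cast
    rw [hr', hs', eq_div_iff (mul_ne_zero two_ne_zero hm0)] at e3
    apply mul_left_cancel₀ hm0
    linear_combination -e3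
  obtain ⟨b₀, hb₀, -⟩ := hthird (Quotient.mk'' a₀) (Quotient.mk'' a₀)
  obtain ⟨a, ha, hma, -⟩ := key b₀ (fun h => hb₀ (by rw [h]))
  refine ⟨a, ha, hma, fun b hb => ?_⟩
  obtain ⟨a', -, hma', h⟩ := key b hb
  have : a' = a := by
    rcases lt_trichotomy a' a with h1 | h1 | h1
    · nlinarith
    · exact h1
    · nlinarith
  rwa [this] at h

end Cfsg.Agent.S0719
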