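import Cfsg.Agent.Base
import Cfsg.Statements.S0720
import Cfsg.Agent.Perm.TwoP2
import Cfsg.Agent.Perm.PrimeDegree
import Cfsg.Agent.Perm.JordanCycle
import Cfsg.Agent.Perm.Multi
import Cfsg.Agent.S0707

set_option autoImplicit false
open Cfsg

namespace Cfsg.Agent.S0720

open MulAction CL.Perm CL.Perm.TwoP Matrix

theorem semiregular_case {p : ℕ} [hp : Fact p.Prime] {α : Type*} [Fintype α]
    {e : Fin 2 × ZMod p ≃ α} {G : Type*} [Group G] [Finite G] [MulAction G α] {c : G}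
    [IsPreprimitive G α] (hc : ∀ i x, c • e (i, x) = e (i, x + 1))
    (hn1 : ∀ x y : α, x ≠ y → Nat.card (orbit (stabilizer G x) y) ≠ 1) (x₀ : α) :
    IsMultiplyPretransitive G α 2 ∨
      (Nat.card (orbitRel.Quotient (stabilizer G x₀) α) = 3 ∧ ∃ a : ℕ, 0 < a ∧
        p = 2 * a ^ 2 + 2 * a + 1 ∧ ∀ b : α, b ≠ x₀ →
          Nat.card (orbit (stabilizer G x₀) b) = a * (2 * a + 1) ∨
          Nat.card (orbit (stabilizer G x₀) b) = (a + 1) * (2 * a + 1)) := by
  classical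
  have hp0 : (p : ℚ) ≠ 0 := Nat.cast_ne_zero.2 hp.out.ne_zero
  obtain ⟨E, hE, hEs, hEE, h1, hv, hAE⟩ := exists_projection hc
  rcases trichotomy (tinv_of_inv hc hE) hEE h1 hv with h | h | hq
  · exfalso
    have hr : Equivalence (fun x y : α => sg e x * sg e y = 1) :=
      ⟨sg_mul_self e, fun h => by rw [mul_comm]; exact h, fun {x y z} h1 h2 => by
        linear_combination (sg e y * sg e z) * h1 + h2 - (sg e x * sg e z) * sg_mul_self e y⟩
    have := rel_of_invariant_equivalence (G := G) hr (fun g x y hxy => by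
      have h2 := hE g x y
      rw [h, h, hxy] at h2
      field_simp at h2
      exact h2) (a := e (0, 0)) (b := e (0, 1)) (by simp) (by simp [sg_zero]) (e (0, 0)) (e (1, 0))
    rw [sg_zero, sg_one] at this
    norm_num at this
  · left
    have key : ∀ x y x' y' : α, x ≠ y → x' ≠ y' → ∃ g : G, g • x = x' ∧ g • y = y' := by
      intro x y x' y' hxy hxy'
      by_contra hne
      obtain ⟨a, -, h2, -⟩ := orbital_eigen hc hEs hEE hv hAE (orbMat_invariant (G := G) ℚ x y)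
      have h3 : ∀ u w, u ≠ w → orbMat G ℚ x y u w =
          ((∑ z, orbMat G ℚ x y x z) - a) / (2 * p) := by
        intro u w huw
        have h4 := congrFun (congrFun h2 u) w
        simp only [Matrix.mul_apply, Matrix.smul_apply, h, mul_sub, mul_ite, mul_one, mul_zero,
          Finset.sum_sub_distrib, Finset.sum_ite_eq', Finset.mem_univ, if_true, if_neg huw,
          ← Finset.sum_mul, smul_eq_mul] at h4
        rw [row_sum_eq (G := G) _ (orbMat_invariant ℚ x y) u x] at h4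
        linear_combination h4
      have h4 := (h3 x y hxy).trans (h3 x' y' hxy').symm
      rw [orbMat_self, orbMat_of_not_exists ℚ hne] at h4
      exact one_ne_zero h4
    exact is_two_pretransitive_iff.2 fun hab hcd => key _ _ _ _ hab hcd
  right
  have hrel := fun x y (hxy : x ≠ y) => orbital_relations hc hE hEs hEE hv hAE hq hxy
  have hhalf : E x₀ x₀ = 1 / 2 := by
    have h2 := hq 0
    have hdiag : ∀ x, E x x = E x₀ x₀ := by
      intro x
      obtain ⟨g, rfl⟩ := exists_smul_eq G x₀ x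
      exact hE g _ _
    simp only [blk, if_true, hdiag] at h2
    linarith
  have hsq : ∑ y, E x₀ y ^ 2 = 1 / 2 := by
    rw [← hhalf]
    conv_rhs => rw [← hEE, Matrix.mul_apply]
    exact Finset.sum_congr rfl fun y _ => by rw [pow_two, ← transpose_apply E y, hEs]
  have hB : ¬ ∀ d, d ≠ 0 → blk e E 0 0 d = 0 := by
    intro hB
    have h2 : ∀ y, E x₀ y ^ 2 = if y = x₀ then 1 / 4 else 0 := by
      intro y
      split_ifs with hy
      · rw [hy, hhalf]; norm_num
      · obtain ⟨a, -, h3, -⟩ := hrel x₀ y (Ne.symm hy)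
        by_contra h4
        exact hn1 x₀ y (Ne.symm hy) ((h3 fun h5 => h4 (by rw [h5]; simp)).2 hB)
    simp only [h2, Finset.sum_ite_eq', Finset.mem_univ, if_true] at hsq
    norm_num at hsq
  have hall : ∀ y, x₀ ≠ y → ∃ a : ℤ, a ≠ 0 ∧ E x₀ y ≠ 0 ∧ 2 * (2 * a + 1) * E x₀ y = 1 ∧
      (Nat.card (orbit (stabilizer G x₀) y) : ℤ) = a * (2 * a + 1) := by
    intro y hy
    obtain ⟨a, h2, h3, h4⟩ := hrel x₀ y hy
    have hne : E x₀ y ≠ 0 := fun h => hB (h4 h)
    have h5 := (h3 hne).1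
    have hn0 : 0 < Nat.card (orbit (stabilizer G x₀) y) := by
      have : Nonempty (orbit (stabilizer G x₀) y) := ⟨⟨y, mem_orbit_self _⟩⟩
      exact Nat.card_pos
    have ha : a ≠ 0 := by rintro rfl; omega
    refine ⟨a, ha, hne, ?_, by rw [h5]; ring⟩
    have h6 : (Nat.card (orbit (stabilizer G x₀) y) : ℚ) = 2 * (a : ℚ) ^ 2 + a := by
      exact_mod_cast h5
    rw [h6] at h2
    have ha' : (a : ℚ) ≠ 0 := by exact_mod_cast ha
    apply mul_left_cancel₀ ha'
    linear_combination h2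
  obtain ⟨g₁, hg₁⟩ := exists_smul_eq G (e (0, 0)) x₀
  obtain ⟨g₂, hg₂⟩ := exists_smul_eq G (e (1, 0)) x₀
  set y₁ := g₁ • e (0, 1) with hy₁
  set y₂ := g₂ • e (1, 1) with hy₂
  have hy₁0 : x₀ ≠ y₁ := by rw [← hg₁, hy₁]; simp
  have hy₂0 : x₀ ≠ y₂ := by rw [← hg₂, hy₂]; simp
  have hE12 : E x₀ y₁ + E x₀ y₂ = 0 := by
    have := hq 1
    rw [if_neg one_ne_zero] at this
    rw [← this]
    congr 1
    · rw [← hg₁, hy₁, hE]; rfl
    · rw [← hg₂, hy₂, hE]; rfl
  obtain ⟨a₁, ha₁, hne₁, he₁, hn₁⟩ := hall y₁ hy₁0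
  obtain ⟨a₂, ha₂, hne₂, he₂, hn₂⟩ := hall y₂ hy₂0
  have ha12 : a₂ = -a₁ - 1 := by
    have : (a₂ : ℚ) = -a₁ - 1 := by
      apply mul_left_cancel₀ (mul_ne_zero (by norm_num : (4 : ℚ) ≠ 0) hne₁)
      linear_combination he₁ - he₂ + 2 * (2 * (a₂ : ℚ) + 1) * hE12
    exact_mod_cast this
  subst ha12
  have hn₁' : (Nat.card (orbit (stabilizer G x₀) y₁) : ℚ) = a₁ * (2 * a₁ + 1) := by
    exact_mod_cast hn₁
  have hn₂' : (Nat.card (orbit (stabilizer G x₀) y₂) : ℚ) = (a₁ + 1) * (2 * a₁ + 1) := by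
    have : (Nat.card (orbit (stabilizer G x₀) y₂) : ℤ) = (a₁ + 1) * (2 * a₁ + 1) := by
      rw [hn₂]; ring
    exact_mod_cast this
  have hcase : ∀ y' y, orbMat G ℚ x₀ y' x₀ y = 0 ∧ y ∉ orbit (stabilizer G x₀) y' ∨
      (orbMat G ℚ x₀ y' x₀ y = 1 ∧ E x₀ y = E x₀ y' ∧ y ∈ orbit (stabilizer G x₀) y') := by
    intro y' y
    by_cases h : ∃ g : G, g • x₀ = x₀ ∧ g • y' = y
    · refine Or.inr ⟨orbMat_of_exists ℚ h, ?_⟩
      obtain ⟨g, h2, rfl⟩ := h
      exact ⟨by conv_lhs => rw [← h2, hE], ⟨⟨g, h2⟩, rfl⟩⟩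
    · refine Or.inl ⟨orbMat_of_not_exists ℚ h, ?_⟩
      rintro ⟨g, hg⟩
      exact h ⟨g, g.2, hg⟩
  have hx0 : ∀ y', x₀ ≠ y' → x₀ ∉ orbit (stabilizer G x₀) y' := by
    rintro y' hy' ⟨g, hg⟩
    exact hy' (smul_left_cancel (g : G) (g.2.trans hg.symm))
  let w : α → ℚ := fun y =>
    1 - (if y = x₀ then 1 else 0) - orbMat G ℚ x₀ y₁ x₀ y - orbMat G ℚ x₀ y₂ x₀ y
  have hw : ∀ y, w y = 0 ∨ (w y = 1 ∧ y ≠ x₀ ∧ y ∉ orbit (stabilizer G x₀) y₁ ∧
      y ∉ orbit (stabilizer G x₀) y₂) := by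
    intro y
    simp only [w]
    rcases hcase y₁ y with ⟨h2, h2'⟩ | ⟨h2, h3, h4⟩ <;>
      rcases hcase y₂ y with ⟨k2, k2'⟩ | ⟨k2, k3, k4⟩ <;> by_cases hy : y = x₀
    · simp [h2, k2, hy ▸ h2, hy ▸ k2, hy]
    · simp [h2, k2, hy, h2', k2']
    · exact absurd (hy ▸ k4) (hx0 _ hy₂0)
    · simp [h2, k2, hy]
    · exact absurd (hy ▸ h4) (hx0 _ hy₁0)
    · simp [h2, k2, hy]
    · exact absurd (hy ▸ h4) (hx0 _ hy₁0)
    · exact absurd (by linarith) hne₁
  have hA2 : ∀ y', ∑ y, orbMat G ℚ x₀ y' x₀ y * E x₀ y ^ 2 =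
      Nat.card (orbit (stabilizer G x₀) y') * E x₀ y' ^ 2 := by
    intro y'
    rw [← orbMat_row_sum ℚ, Finset.sum_mul]
    refine Finset.sum_congr rfl fun y _ => ?_
    rcases hcase y' y with ⟨h2, -⟩ | ⟨-, h3, -⟩
    · simp [h2]
    · rw [h3]
  have hwsum : ∑ y, w y * E x₀ y ^ 2 = 0 := by
    simp only [w, sub_mul, Finset.sum_sub_distrib, one_mul, hsq, hA2, hn₁', hn₂', ite_mul,
      zero_mul, Finset.sum_ite_eq', Finset.mem_univ, if_true, hhalf]
    have : E x₀ y₂ = -E x₀ y₁ := by linarith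
    rw [this]
    linear_combination (-(1 / 4 : ℚ) - (2 * (a₁ : ℚ) + 1) * E x₀ y₁ / 2) * he₁
  have hw0 : ∀ y, w y = 0 := by
    intro y
    have h2 := (Finset.sum_eq_zero_iff_of_nonneg (fun y _ => mul_nonneg (by
      rcases hw y with h | ⟨h, -⟩ <;> simp [h]) (sq_nonneg _))).1 hwsum y (Finset.mem_univ _)
    rcases hw y with h | ⟨h, hy, -⟩
    · exact h
    · obtain ⟨_, -, h3, -⟩ := hall y (Ne.symm hy)
      rw [h, one_mul] at h2
      exact absurd (pow_eq_zero_iff two_ne_zero |>.1 h2) h3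
  have hcover : ∀ y, y ≠ x₀ → y ∈ orbit (stabilizer G x₀) y₁ ∨ y ∈ orbit (stabilizer G x₀) y₂ := by
    intro y hy
    by_contra hcon
    rw [not_or] at hcon
    have h2 := hw0 y
    rcases hcase y₁ y with ⟨h3, -⟩ | ⟨-, -, h3⟩
    · rcases hcase y₂ y with ⟨h4, -⟩ | ⟨-, -, h4⟩
      · simp [w, hy, h3, h4] at h2
      · exact hcon.2 h4
    · exact hcon.1 h3
  have hcount : (p : ℤ) = 2 * a₁ ^ 2 + 2 * a₁ + 1 := by
    have h2 : ∑ y, w y = 0 := by simp only [hw0, Finset.sum_const_zero]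
    simp only [w, Finset.sum_sub_distrib, orbMat_row_sum, hn₁', hn₂', Finset.sum_ite_eq',
      Finset.mem_univ, if_true, Finset.sum_const, Finset.card_univ, nsmul_eq_mul, mul_one,
      ← Fintype.card_congr e, Fintype.card_prod, Fintype.card_fin, ZMod.card] at h2
    have : (p : ℚ) = 2 * (a₁ : ℚ) ^ 2 + 2 * a₁ + 1 := by
      push_cast at h2
      linear_combination h2 / 2
    exact_mod_cast this
  refine ⟨?_, ?_⟩
  · rw [← Set.ncard_univ, Set.ncard_eq_three]
    refine ⟨Quotient.mk'' x₀, Quotient.mk'' y₁, Quotient.mk'' y₂,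
      fun h => hx0 _ hy₁0 (Quotient.exact' h), fun h => hx0 _ hy₂0 (Quotient.exact' h),
      fun h => ?_, ?_⟩
    · rcases hcase y₂ y₁ with ⟨-, h2⟩ | ⟨-, h2, -⟩
      · exact h2 (Quotient.exact' h)
      · exact hne₁ (by linarith)
    · symm
      rw [Set.eq_univ_iff_forall]
      intro q
      induction q using Quotient.inductionOn' with | h y =>
      by_cases hy : y = x₀
      · exact Or.inl (by rw [hy])
      · rcases hcover y hy with h | h
        · exact Or.inr (Or.inl (Quotient.sound' h))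
        · exact Or.inr (Or.inr (Quotient.sound' h))
  · have hn₂'' : (Nat.card (orbit (stabilizer G x₀) y₂) : ℤ) = (a₁ + 1) * (2 * a₁ + 1) := by
      rw [hn₂]; ring
    rcases lt_or_gt_of_ne ha₁ with hneg | hpos
    · obtain ⟨a, ha⟩ := Int.eq_ofNat_of_zero_le (show 0 ≤ -a₁ - 1 by omega)
      have ha' : a₁ = -a - 1 := by omega
      subst ha'
      refine ⟨a, by omega, by zify; rw [hcount]; ring, fun b hb => ?_⟩
      rcases hcover b hb with h | h <;> rw [orbit_eq_iff.2 h]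
      · right; zify; rw [hn₁]; ring
      · left; zify; rw [hn₂'']; ring
    · obtain ⟨a, rfl⟩ := Int.eq_ofNat_of_zero_le hpos.le
      refine ⟨a, by omega, by exact_mod_cast hcount, fun b hb => ?_⟩
      rcases hcover b hb with h | h <;> rw [orbit_eq_iff.2 h]
      · left; exact_mod_cast hn₁
      · right; exact_mod_cast hn₂''

theorem exists_coord_two {p : ℕ} [hp : Fact p.Prime] {α : Type*} [Finite α] {G : Type*} [Group G]
    [MulAction G α] {c : G} (hα : Nat.card α = 2 * p) (hc : orderOf c = p)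
    (hfix : ∀ x : α, c • x ≠ x) :
    ∃ e : Fin 2 × ZMod p ≃ α, ∀ i x, c • e (i, x) = e (i, x + 1) := by
  have hpos := hp.out.pos
  obtain ⟨a⟩ : Nonempty α := (Nat.card_pos_iff.1 (by omega)).1
  obtain ⟨b, hb⟩ : ∃ b, b ∉ Set.range (fun i : ZMod p => c ^ i.val • a) := by
    by_contra h
    push Not at h
    have := Nat.card_le_card_of_surjective _ h
    rw [hα, Nat.card_zmod] at this
    omega
  have hb' : ∀ i j : ZMod p, c ^ i.val • a ≠ c ^ j.val • b := by
    intro i j h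
    refine hb ⟨-j + i, ?_⟩
    have h2 : c ^ (-j).val * c ^ j.val = 1 := by rw [← pow_val_add hc]; simp
    simp only [pow_val_add hc, mul_smul, h]
    rw [← mul_smul, h2, one_smul]
  let f : Fin 2 × ZMod p → α := fun z => c ^ z.2.val • ![a, b] z.1
  have hinj : Function.Injective f := by
    rintro ⟨i, x⟩ ⟨j, y⟩ h
    fin_cases i <;> fin_cases j
    · exact Prod.ext rfl (zmod_orbit_injective hc (hfix a) h)
    · exact absurd h (hb' _ _)
    · exact absurd h.symm (hb' _ _)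
    · exact Prod.ext rfl (zmod_orbit_injective hc (hfix b) h)
  have hbij : Function.Bijective f :=
    (Nat.bijective_iff_injective_and_card _).2 ⟨hinj, by simp [hα]⟩
  refine ⟨Equiv.ofBijective f hbij, fun i x => ?_⟩
  simp only [Equiv.ofBijective_apply, f]
  rw [add_comm, pow_val_add hc, ZMod.val_one, pow_one, mul_smul]

/-- Wielandt's Theorem on primitive groups of degree `2p`: such a group is doubly transitive, or it has rank 3, `p = 2a² + 2a + 1`, and subdegrees `a(2a+1)` and `(a+1)(2a+1)`. -/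
theorem result {α : Type*} [Fintype α] [DecidableEq α] {p : ℕ} (hp : p.Prime) (hα : Fintype.card α = 2 * p) (G : Subgroup (Equiv.Perm α)) (hG : MulAction.IsPreprimitive G α) (a₀ : α) : MulAction.IsMultiplyPretransitive G α 2 ∨ (Nat.card (MulAction.orbitRel.Quotient (MulAction.stabilizer G a₀) α) = 3 ∧ ∃ a : ℕ, 0 < a ∧ p = 2 * a ^ 2 + 2 * a + 1 ∧ ∀ b : α, b ≠ a₀ → Nat.card (MulAction.orbit (MulAction.stabilizer G a₀) b) = a * (2 * a + 1) ∨ Nat.card (MulAction.orbit (MulAction.stabilizer G a₀) b) = (a + 1) * (2 * a + 1)) := by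
  have : Fact p.Prime := ⟨hp⟩
  have hα' : Nat.card α = 2 * p := by rw [Nat.card_eq_fintype_card, hα]
  have : Nonempty α := ⟨a₀⟩
  obtain ⟨c, hc⟩ := exists_prime_orderOf_dvd_card' (G := G) p
    ((Dvd.intro_left 2 hα'.symm).trans card_dvd_card_of_isPretransitive)
  have hc' : orderOf (c : Equiv.Perm α) = p := by rw [Subgroup.orderOf_coe, hc]
  by_cases hfix : ∀ x : α, c • x ≠ x
  · obtain ⟨e, he⟩ := exists_coord_two hα' hc hfix
    refine semiregular_case he (fun x y hxy h1 => ?_) a₀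
    have hnp : ¬ (Nat.card α).Prime := by
      rw [hα']
      exact Nat.not_prime_mul (by norm_num) hp.one_lt.ne'
    apply Cfsg.Agent.S0707.result G (Or.inl hnp) hxy
    apply Subgroup.eq_of_le_of_card_ge
    · intro g hg
      have := (Nat.card_eq_one_iff_unique.1 h1).1
      exact congrArg Subtype.val (Subsingleton.elim
        (⟨g • y, ⟨⟨g, hg⟩, rfl⟩⟩ : orbit (stabilizer G x) y) ⟨y, mem_orbit_self _⟩)
    · have h2 := (stabilizer G x).card_mul_index
      have h3 := (stabilizer G y).card_mul_index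
      rw [index_stabilizer_of_transitive] at h2 h3
      exact (Nat.eq_of_mul_eq_mul_right Nat.card_pos (h3.trans h2.symm)).le
  · left
    push Not at hfix
    obtain ⟨x, hx⟩ := hfix
    have hcyc : (c : Equiv.Perm α).IsCycle := by
      apply Equiv.Perm.isCycle_of_prime_order (by rw [hc']; exact hp)
      rw [hc', ← hα]
      exact Finset.card_lt_card (Finset.ssubset_univ_iff.2 fun h =>
        (Equiv.Perm.mem_support.1 (h ▸ Finset.mem_univ x)) hx)
    have := multi_of_isCycle_prime hG hp hcyc (by rw [← hcyc.orderOf, hc']) c.2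
      (k := p) (by omega)
    exact multi_of_le this (by have := hp.one_lt; omega) (by have := hp.one_lt; omega)

end Cfsg.Agent.S0720
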