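import Cfsg.Agent.Base
import Cfsg.Statements.S0723
import Cfsg.Agent.Perm.Socle
import Cfsg.Agent.Perm.Scott
import Cfsg.Agent.Perm.Centralizer
import Cfsg.Agent.S0722

set_option autoImplicit false
open Cfsg

namespace Cfsg.Agent.S0723

open MulAction Subgroup CL.Perm

section
variable {H : Type*} [Group H] (N : Subgroup H) [N.Normal] {T : Type*} [Group T] {ι : Type*}
  (e : N ≃* (ι → T))

/-- coordinate map twisted by conjugation -/
def tw (h : H) (i : ι) : N →* T := (coord e i).comp (MulAut.conjNormal h : MulAut N).toMonoidHom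

theorem tw_apply (h : H) (i : ι) (n : N) : tw N e h i n = coord e i (MulAut.conjNormal h n) := rfl

theorem tw_surjective (h : H) (i : ι) : Function.Surjective (tw N e h i) :=
  (coord_surjective e i).comp (MulAut.conjNormal h : MulAut N).surjective

theorem tw_ker_mul (n : N) (h : H) (i : ι) : (tw N e ((n : H) * h) i).ker = (tw N e h i).ker := by
  ext x
  rw [MonoidHom.mem_ker, MonoidHom.mem_ker, tw_apply, tw_apply]
  have : MulAut.conjNormal ((n : H) * h) x = n * MulAut.conjNormal h x * n⁻¹ := by
    ext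
    simp [mul_assoc]
  rw [this, map_mul, map_mul, map_inv, mul_inv_eq_one, mul_eq_left]

theorem exists_tw_ker_eq [Finite H] [Finite ι] [IsSimpleGroup T] (hT : ¬ IsMulCommutative T)
    (hmin : ∀ M : Subgroup H, M.Normal → M ≤ N → M = ⊥ ∨ M = N) (i j : ι) :
    ∃ h : H, (tw N e h i).ker = (coord e j).ker := by
  have := Fintype.ofFinite H
  let L : Subgroup N := ⨅ h : H, (tw N e h i).ker
  have hLn : (L.map N.subtype).Normal := by
    constructor
    rintro _ ⟨x, hx, rfl⟩ g
    refine ⟨MulAut.conjNormal g x, ?_, by simp⟩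
    refine Subgroup.mem_iInf.mpr fun h => ?_
    have := Subgroup.mem_iInf.mp hx (h * g)
    rw [MonoidHom.mem_ker, tw_apply, map_mul] at this
    exact this
  have hL : L = ⊥ := by
    rcases hmin _ hLn (map_subtype_le L) with h | h
    · exact (Subgroup.map_eq_bot_iff_of_injective _ N.subtype_injective).mp h
    · exfalso
      apply ker_ne_top_of_surjective _ (tw_surjective N e 1 i)
      rw [eq_top_iff]
      intro x _
      have : (x : H) ∈ L.map N.subtype := by rw [h]; exact x.2
      obtain ⟨y, hy, hxy⟩ := this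
      rw [← Subtype.ext hxy]
      exact Subgroup.mem_iInf.mp hy 1
  obtain ⟨h, -, hh⟩ := exists_le_ker_of_biInf_le hT (coord e j) (coord_surjective e j)
    Finset.univ (fun h : H => (tw N e h i).ker) (fun _ => inferInstance) (by
      intro x hx
      have : x ∈ L := Subgroup.mem_iInf.mpr fun h => hx h (Finset.mem_univ _)
      rw [hL, mem_bot] at this
      rw [this]
      exact one_mem _)
  exact ⟨h, ker_eq_of_ker_le _ (tw_surjective N e h i) _ (coord_surjective e j) hh⟩

theorem conj_mem_iff (K : Subgroup H) {k : H} (hk : k ∈ K) (x : N) :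
    MulAut.conjNormal k x ∈ K.subgroupOf N ↔ x ∈ K.subgroupOf N := by
  simp only [mem_subgroupOf, MulAut.conjNormal_apply]
  rw [K.mul_mem_cancel_right (K.inv_mem hk), K.mul_mem_cancel_left hk]

theorem transport (K : Subgroup H) {k : H} (hk : k ∈ K) {i j : ι}
    (h : (tw N e k i).ker = (coord e j).ker) (n : N) :
    coord e j n ∈ (K.subgroupOf N).map (coord e j) ↔
      coord e i (MulAut.conjNormal k n) ∈ (K.subgroupOf N).map (coord e i) := by
  constructor
  · rintro ⟨x, hx, hxn⟩
    refine ⟨MulAut.conjNormal k x, (conj_mem_iff N K hk x).mpr hx, ?_⟩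
    rw [MonoidHom.eq_iff, ← h, ← MonoidHom.eq_iff] at hxn
    exact hxn
  · rintro ⟨y, hy, hyn⟩
    obtain ⟨x, rfl⟩ := (MulAut.conjNormal k : MulAut N).surjective y
    refine ⟨x, (conj_mem_iff N K hk x).mp hy, ?_⟩
    rw [MonoidHom.eq_iff, ← h, ← MonoidHom.eq_iff]
    exact hyn

end

/-- The core of the O'Nan–Scott Theorem. Let `H` be a primitive permutation group on a finite set whose unique minimal normal subgroup `N` is non-abelian, and `K` a point stabiliser. Then there are a non-abelian simple group `T` and an isomorphism `N ≃* T^m` (`m ≥ 1`) under which `K ⊓ N` becomes either a product `∏ K_i` of proper subgroups `K_i < T`, or the set of functions constant on each block of a partition of the index set into blocks of one common size `k ≥ 2`. -/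
theorem result {α : Type*} [Finite α] (H : Subgroup (Equiv.Perm α)) [MulAction.IsPreprimitive H α] (N : Subgroup H) [N.Normal] (hN : N ≠ ⊥) (hmin : ∀ M : Subgroup H, M.Normal → M ≤ N → M = ⊥ ∨ M = N) (huniq : ∀ L : Subgroup H, L.Normal → L ≠ ⊥ → (∀ M : Subgroup H, M.Normal → M ≤ L → M = ⊥ ∨ M = L) → L = N) (hnab : ¬ IsMulCommutative N) (a : α) : ∃ (T : Type) (_ : Group T) (m : ℕ) (e : N ≃* (Fin m → T)), IsSimpleGroup T ∧ ¬ IsMulCommutative T ∧ 0 < m ∧ ((∃ K : Fin m → Subgroup T, (∀ i, K i ≠ ⊤) ∧ ∀ n : N, (n : H) ∈ MulAction.stabilizer H a ↔ ∀ i, e n i ∈ K i) ∨ (∃ (k : ℕ) (c : Fin m → Fin m), 2 ≤ k ∧ (∀ j : Fin m, Nat.card {i : Fin m // c i = j} = k ∨ Nat.card {i : Fin m // c i = j} = 0) ∧ ∀ n : N, (n : H) ∈ MulAction.stabilizer H a ↔ ∀ i j : Fin m, c i = c j → e n i = e n j)) := by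
  classical
  obtain ⟨T, _, m, hTs, hm, ⟨e⟩⟩ := exists_mulEquiv_pi_of_minimal_normal N hN hmin
  have hT : ¬ IsMulCommutative T := by
    intro h
    apply hnab
    refine ⟨⟨fun x y => e.injective ?_⟩⟩
    ext i
    rw [map_mul, map_mul]
    exact h.is_comm.comm _ _
  have hNt : IsPretransitive N α := isPretransitive_of_normal hN
  have hnt : Nontrivial α := nontrivial_of_ne_bot (α := α) hN
  set K := stabilizer H a with hK
  have htrans : ∀ i j, ∃ k ∈ K, (tw N e k i).ker = (coord e j).ker := by
    intro i j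
    obtain ⟨h, hh⟩ := exists_tw_ker_eq N e hT hmin i j
    obtain ⟨n, hn⟩ := hNt.exists_smul_eq (h • a) a
    refine ⟨(n : H) * h, ?_, by rw [tw_ker_mul, hh]⟩
    rw [hK, mem_stabilizer_iff, mul_smul]
    exact hn
  have hperm : ∀ (k : H) i, ∃ j, (tw N e k i).ker = (coord e j).ker := fun k i =>
    exists_ker_eq_ker_coord e hT _ (tw_surjective N e k i)
  by_cases hsub : ∀ i, (K.subgroupOf N).map (coord e i) = ⊤
  swap
  · -- product type
    push Not at hsub
    obtain ⟨i₀, hi₀⟩ := hsub
    have hall : ∀ j, (K.subgroupOf N).map (coord e j) ≠ ⊤ := by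
      intro j hj
      apply hi₀
      obtain ⟨k, hk, hkj⟩ := htrans i₀ j
      rw [eq_top_iff]
      intro t _
      obtain ⟨n, rfl⟩ := tw_surjective N e k i₀ t
      rw [tw_apply, ← transport N e K hk hkj, hj]
      trivial
    refine ⟨T, inferInstance, m, e, hTs, hT, hm, Or.inl ⟨fun i => (K.subgroupOf N).map (coord e i),
      hall, ?_⟩⟩
    let Y : Subgroup N := ⨅ i, ((K.subgroupOf N).map (coord e i)).comap (coord e i)
    have hY : ∀ n : N, n ∈ Y ↔ ∀ i, coord e i n ∈ (K.subgroupOf N).map (coord e i) := fun n =>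
      Subgroup.mem_iInf
    have hYk : ∀ k ∈ K, ∀ y ∈ Y.map N.subtype, k * y * k⁻¹ ∈ Y.map N.subtype := by
      rintro k hk _ ⟨n, hn, rfl⟩
      refine ⟨MulAut.conjNormal k n, (hY _).mpr fun i => ?_, by simp⟩
      obtain ⟨j, hj⟩ := hperm k i
      rw [← transport N e K hk hj]
      exact (hY n).mp hn j
    rcases Cfsg.Agent.S0722.result H N hN hmin a (Y.map N.subtype) (map_subtype_le Y) (by
      rintro x ⟨hx, hxN⟩
      exact ⟨⟨x, hxN⟩, (hY _).mpr fun i => ⟨_, hx, rfl⟩, rfl⟩) (by
      intro k hk
      rw [mem_normalizer_iff]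
      intro y
      refine ⟨hYk k hk y, fun hy => ?_⟩
      have := hYk k⁻¹ (K.inv_mem hk) _ hy
      simpa [mul_assoc] using this) with h | h
    · intro n
      constructor
      · intro hn i
        exact ⟨n, hn, rfl⟩
      · intro hn
        have : (n : H) ∈ Y.map N.subtype := ⟨n, (hY n).mpr hn, rfl⟩
        rw [h] at this
        exact this.1
    · exfalso
      apply hi₀
      rw [eq_top_iff]
      intro t _
      obtain ⟨n, rfl⟩ := coord_surjective e i₀ t
      have : (n : H) ∈ Y.map N.subtype := by rw [h]; exact n.2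
      obtain ⟨y, hy, hyn⟩ := this
      rw [← Subtype.ext hyn]
      exact (hY y).mp hy i₀
  · -- diagonal type
    let ρ : Fin m → K.subgroupOf N →* T := fun i => (coord e i).comp (K.subgroupOf N).subtype
    have hρ : ∀ i, Function.Surjective (ρ i) := by
      intro i t
      obtain ⟨x, hx, rfl⟩ : t ∈ (K.subgroupOf N).map (coord e i) := by rw [hsub i]; trivial
      exact ⟨⟨x, hx⟩, rfl⟩
    have : Nonempty (Fin m) := ⟨⟨0, hm⟩⟩
    let c : Fin m → Fin m := fun i => Function.invFun (fun j => (ρ j).ker) (ρ i).ker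
    have hc : ∀ i, (ρ (c i)).ker = (ρ i).ker := fun i =>
      Function.invFun_eq (f := fun j => (ρ j).ker) ⟨i, rfl⟩
    have hcc : ∀ i j, c i = c j ↔ (ρ i).ker = (ρ j).ker := by
      intro i j
      constructor
      · intro h
        rw [← hc i, h, hc j]
      · intro h
        simp only [c, h]
    choose σ hσ using fun i => exists_mulEquiv_of_ker_eq (ρ i) (hρ i) (ρ (c i)) (hρ _) (hc i).symm
    let e' : N ≃* (Fin m → T) := e.trans (MulEquiv.piCongrRight σ)
    have he' : ∀ (x : K.subgroupOf N) i, e' x i = ρ (c i) x := fun x i => hσ i x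
    have hiff : ∀ n : N, (n : H) ∈ K ↔ ∀ i j : Fin m, c i = c j → e' n i = e' n j := by
      intro n
      constructor
      · intro hn i j hij
        rw [he' ⟨n, hn⟩, he' ⟨n, hn⟩, hij]
      · intro hn
        obtain ⟨x, hx⟩ := exists_forall_apply_eq hT ρ hρ (Finset.univ.image c) (by
          intro i hi j hj hij
          obtain ⟨i, -, rfl⟩ := Finset.mem_image.mp hi
          obtain ⟨j, -, rfl⟩ := Finset.mem_image.mp hj
          rw [hcc, ← hc i, ← hc j, hij]) (e' n)
        have : (x : N) = n := by
          apply e'.injective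
          ext i
          rw [he', hx _ (Finset.mem_image_of_mem c (Finset.mem_univ i))]
          apply hn
          rw [hcc, hc]
        rw [← this]
        exact x.2
    have hle : ∀ i j, Nat.card {l : Fin m // c l = c i} ≤ Nat.card {l : Fin m // c l = c j} := by
      intro i j
      obtain ⟨k, hk, hkj⟩ := htrans i j
      choose τ hτ using hperm k
      have hτi : τ i = j := eq_of_ker_coord_eq e ((hτ i).symm.trans hkj)
      have hmem : ∀ l (x : K.subgroupOf N), x ∈ (ρ (τ l)).ker ↔
          (⟨MulAut.conjNormal k x, (conj_mem_iff N K hk _).mpr x.2⟩ : K.subgroupOf N) ∈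
            (ρ l).ker := by
        intro l x
        change (x : N) ∈ (coord e (τ l)).ker ↔ _
        rw [← hτ l]
        rfl
      have hτc : ∀ l, c l = c i → c (τ l) = c j := by
        intro l hl
        rw [← hτi, hcc]
        rw [hcc] at hl
        ext x
        rw [hmem, hmem, hl]
      have hτinj : Function.Injective τ := by
        intro l l' h
        apply eq_of_ker_coord_eq e
        have h1 : (tw N e k l).ker = (tw N e k l').ker := by rw [hτ, hτ, h]
        ext y
        obtain ⟨x, rfl⟩ := (MulAut.conjNormal k : MulAut N).surjective y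
        change x ∈ (tw N e k l).ker ↔ x ∈ (tw N e k l').ker
        rw [h1]
      refine Nat.card_le_card_of_injective
        (fun l : {l : Fin m // c l = c i} => (⟨τ l, hτc l l.2⟩ : {l : Fin m // c l = c j})) ?_
      intro l l' h
      exact Subtype.ext (hτinj (congrArg Subtype.val h))
    let i₀ : Fin m := ⟨0, hm⟩
    refine ⟨T, inferInstance, m, e', hTs, hT, hm,
      Or.inr ⟨Nat.card {l : Fin m // c l = c i₀}, c, ?_, ?_, hiff⟩⟩
    · by_contra hlt
      have hone : ∀ i j, c i = c j → i = j := by
        intro i j hij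
        have h1 : Nat.card {l : Fin m // c l = c j} ≤ 1 := (hle j i₀).trans (by omega)
        have := Finite.card_le_one_iff_subsingleton.mp h1
        exact congrArg Subtype.val
          (Subsingleton.elim (⟨i, hij⟩ : {l : Fin m // c l = c j}) ⟨j, rfl⟩)
      obtain ⟨b, hb⟩ := exists_ne a
      obtain ⟨n, hn⟩ := hNt.exists_smul_eq a b
      have : (n : H) ∈ K := (hiff n).mpr fun i j hij => by rw [hone i j hij]
      exact hb (hn.symm.trans this)
    · intro j
      by_cases hj : ∃ i, c i = j
      · obtain ⟨i, rfl⟩ := hj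
        exact Or.inl (le_antisymm (hle _ _) (hle _ _))
      · right
        push Not at hj
        have : IsEmpty {i : Fin m // c i = j} := ⟨fun i => hj i i.2⟩
        exact Nat.card_of_isEmpty

end Cfsg.Agent.S0723
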