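import Cfsg.Agent.Base
import Cfsg.Statements.S0726
import Cfsg.Agent.Perm.Centralizer

set_option autoImplicit false
open Cfsg

namespace Cfsg.Agent.S0726

/-- The left and right regular permutation representations of a group are each other's centralisers in the symmetric group: the centraliser of the left regular image is the right regular image, and a transitive subgroup centralising the left regular image is the whole right regular image. -/
theorem result {G : Type*} [Group G] : Subgroup.centralizer ((MulAction.toPermHom G G).range : Set (Equiv.Perm G)) = (MulAction.toPermHom Gᵐᵒᵖ G).range ∧ ∀ H : Subgroup (Equiv.Perm G), H ≤ Subgroup.centralizer ((MulAction.toPermHom G G).range : Set (Equiv.Perm G)) → MulAction.IsPretransitive H G → H = (MulAction.toPermHom Gᵐᵒᵖ G).range := by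
  have hL : MulAction.IsPretransitive (MulAction.toPermHom G G).range G := by
    constructor
    intro x y
    refine ⟨⟨MulAction.toPermHom G G (y * x⁻¹), ⟨_, rfl⟩⟩, ?_⟩
    change (y * x⁻¹) * x = y
    simp
  have hR : MulAction.IsPretransitive (MulAction.toPermHom Gᵐᵒᵖ G).range G := by
    constructor
    intro x y
    refine ⟨⟨MulAction.toPermHom Gᵐᵒᵖ G (MulOpposite.op (x⁻¹ * y)), ⟨_, rfl⟩⟩, ?_⟩
    change x * (x⁻¹ * y) = y
    simp
  have hc : ∀ r ∈ (MulAction.toPermHom Gᵐᵒᵖ G).range, ∀ l ∈ (MulAction.toPermHom G G).range,
      Commute r l := by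
    rintro _ ⟨r, rfl⟩ _ ⟨l, rfl⟩
    ext x
    change (l * x) * r.unop = l * (x * r.unop)
    rw [mul_assoc]
  have h1 : Subgroup.centralizer ((MulAction.toPermHom G G).range : Set (Equiv.Perm G)) =
      (MulAction.toPermHom Gᵐᵒᵖ G).range := by
    apply le_antisymm
    · intro c hcm
      exact CL.Perm.mem_of_commute_of_pretransitive (α := G) _ _ hR hL hc
        (fun b hb => ((Subgroup.mem_centralizer_iff.mp hcm) b hb).symm)
    · intro r hr
      rw [Subgroup.mem_centralizer_iff]
      intro l hl
      exact (hc r hr l hl).symm.eq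
  refine ⟨h1, fun H hH hHt => le_antisymm (h1 ▸ hH) fun r hr => ?_⟩
  exact CL.Perm.mem_of_commute_of_pretransitive (α := G) H _ hHt hL
    (fun a ha b hb => ((Subgroup.mem_centralizer_iff.mp (hH ha)) b hb).symm) (hc r hr)

end Cfsg.Agent.S0726
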