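import Cfsg.Statements.S0727
import Cfsg.Agent.Base
import Cfsg.Agent.Zass.Sharp3

set_option autoImplicit false
open Cfsg

namespace Cfsg.Agent.S0727

/-- A sharply triply transitive permutation group of degree `2^f + 1` is isomorphic to the projective general linear group of degree 2 over the field with `2^f` elements. -/
theorem result {α : Type*} [Fintype α] [DecidableEq α] {f : ℕ} (hf : 1 ≤ f) (hα : Fintype.card α = 2 ^ f + 1) (G : Subgroup (Equiv.Perm α)) (h3 : MulAction.IsMultiplyPretransitive G α 3) (hsharp : ∀ x : Fin 3 ↪ α, MulAction.stabilizer G x = ⊥) : ∃ (F : Type) (_ : Field F) (_ : Fintype F), Fintype.card F = 2 ^ f ∧ Nonempty (G ≃* Matrix.ProjGenLinGroup (Fin 2) F) := by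
  have h2 : 2 ≤ 2 ^ f := by
    calc 2 = 2 ^ 1 := rfl
      _ ≤ 2 ^ f := Nat.pow_le_pow_right (by norm_num) hf
  rw [← Nat.card_eq_fintype_card] at hα
  have h := CL.Zass.s3_of_sharp h3 hsharp (by omega)
  obtain ⟨a⟩ := h.nonempty
  obtain ⟨b, hb⟩ := h.toPre.exists_ne a
  have ho : Odd (Nat.card α) := by
    rw [hα]
    exact (Nat.even_pow.2 ⟨even_two, by omega⟩).add_one
  obtain ⟨K, _, _, hK, hG⟩ := h.pgl_of_comm hb.symm ((h.toPre.oi_of_odd ho).comm hb.symm)
  exact ⟨K, inferInstance, inferInstance, by omega, hG⟩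

end Cfsg.Agent.S0727
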