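import Cfsg.Agent.Base
import Cfsg.Statements.S0733
import Cfsg.Agent.Perm.BlockLemmas

set_option autoImplicit false
open Cfsg

namespace Cfsg.Agent.S0733

open MulAction

/-- A permutation group of affine type — generated by the translations of a finite vector space `V` over `ZMod p` together with a group `G₀` of linear automorphisms — is primitive on `V` if and only if `G₀` is irreducible on `V`. -/
theorem result {p : ℕ} [Fact p.Prime] {V : Type*} [AddCommGroup V] [Module (ZMod p) V] [Finite V] [Nontrivial V] (G₀ : Subgroup (V ≃ₗ[ZMod p] V)) (G : Subgroup (Equiv.Perm V)) (hG : ∀ σ : Equiv.Perm V, σ ∈ G ↔ ∃ g ∈ G₀, ∃ b : V, ∀ x : V, σ x = (g : V ≃ₗ[ZMod p] V) x + b) : MulAction.IsPreprimitive G V ↔ ∀ W : Submodule (ZMod p) V, (∀ g ∈ G₀, ∀ v ∈ W, (g : V ≃ₗ[ZMod p] V) v ∈ W) → W = ⊥ ∨ W = ⊤ := by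
  have htr : ∀ b : V, Equiv.addRight b ∈ G := fun b =>
    (hG _).mpr ⟨1, G₀.one_mem, b, fun x => rfl⟩
  have hlin : ∀ g ∈ G₀, (g : V ≃ₗ[ZMod p] V).toEquiv ∈ G := fun g hg =>
    (hG _).mpr ⟨g, hg, 0, fun x => by simp⟩
  constructor
  · intro hprim W hW
    have hB : IsBlock G (W : Set V) := by
      apply CL.Perm.isBlock_of_forall_mem
      intro σ a ha hσa b hb
      obtain ⟨g, hg, c, hσ⟩ := (hG σ).mp σ.2
      change (σ : Equiv.Perm V) a ∈ W at hσa
      change (σ : Equiv.Perm V) b ∈ W
      rw [hσ] at hσa ⊢
      have hc : c ∈ W := by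
        have := W.sub_mem hσa (hW g hg a ha)
        simpa using this
      exact W.add_mem (hW g hg b hb) hc
    rcases hB.subsingleton_or_eq_univ with h | h
    · left
      rw [eq_bot_iff]
      intro v hv
      exact h hv W.zero_mem
    · right
      rw [eq_top_iff]
      intro v _
      have : v ∈ (W : Set V) := by rw [h]; trivial
      exact this
  · intro hirr
    have : IsPretransitive G V := by
      constructor
      intro x y
      refine ⟨⟨Equiv.addRight (y - x), htr _⟩, ?_⟩
      change x + (y - x) = y
      abel
    apply IsPreprimitive.of_isTrivialBlock_base (0 : V)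
    intro B h0 hB
    let A : AddSubgroup V :=
      { carrier := B
        zero_mem' := h0
        add_mem' := by
          intro a b ha hb
          exact CL.Perm.smul_mem_of_isBlock hB (g := ⟨Equiv.addRight b, htr b⟩) h0
            (by change 0 + b ∈ B; simpa using hb) ha
        neg_mem' := by
          intro a ha
          have := CL.Perm.smul_mem_of_isBlock hB (g := ⟨Equiv.addRight (-a), htr _⟩) ha
            (by change a + -a ∈ B; simpa using h0) h0
          change 0 + -a ∈ B at this
          simpa using this }
    rcases hirr (AddSubgroup.toZModSubmodule p A) (by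
      intro g hg v hv
      exact CL.Perm.smul_mem_of_isBlock hB (g := ⟨_, hlin g hg⟩) h0
        (by change g 0 ∈ B; simpa using h0) hv) with h | h
    · left
      intro x hx y hy
      have hx' : x ∈ AddSubgroup.toZModSubmodule p A := hx
      have hy' : y ∈ AddSubgroup.toZModSubmodule p A := hy
      rw [h, Submodule.mem_bot] at hx' hy'
      rw [hx', hy']
    · right
      rw [Set.eq_univ_iff_forall]
      intro x
      have : x ∈ AddSubgroup.toZModSubmodule p A := by rw [h]; trivial
      exact this

end Cfsg.Agent.S0733
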