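import Cfsg.Agent.Base
import Cfsg.Statements.S0734
import Cfsg.Agent.Perm.BlockLemmas

set_option autoImplicit false
open Cfsg

namespace Cfsg.Agent.S0734

open MulAction

/-- Higman's criterion for primitivity: a transitive action on a finite set is primitive if and only if every non-trivial orbital graph (edges = images of a fixed pair of distinct points) is connected. -/
theorem result {G : Type*} [Group G] {Ω : Type*} [Finite Ω] [MulAction G Ω] [MulAction.IsPretransitive G Ω] [Nontrivial Ω] : MulAction.IsPreprimitive G Ω ↔ ∀ a b : Ω, a ≠ b → (SimpleGraph.fromRel fun x y : Ω => ∃ g : G, g • a = x ∧ g • b = y).Connected := by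
  constructor
  · intro hprim a b hab
    set Γ := SimpleGraph.fromRel fun x y : Ω => ∃ g : G, g • a = x ∧ g • b = y with hΓ
    have hadj : ∀ (g : G) (x y : Ω), Γ.Adj x y → Γ.Adj (g • x) (g • y) := by
      intro g x y h
      rw [hΓ, SimpleGraph.fromRel_adj] at h ⊢
      refine ⟨fun e => h.1 (MulAction.injective g e), ?_⟩
      rcases h.2 with ⟨u, rfl, rfl⟩ | ⟨u, rfl, rfl⟩
      · exact Or.inl ⟨g * u, mul_smul _ _ _, mul_smul _ _ _⟩
      · exact Or.inr ⟨g * u, mul_smul _ _ _, mul_smul _ _ _⟩
    refine SimpleGraph.Connected.mk fun x y => ?_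
    refine CL.Perm.rel_of_invariant_equivalence (G := G) (r := Γ.Reachable)
      Γ.reachable_is_equivalence ?_ hab ?_ x y
    · intro g x y h
      exact h.map (⟨fun x => g • x, fun {x y} h => hadj g x y h⟩ : Γ →g Γ)
    · apply SimpleGraph.Adj.reachable
      rw [hΓ, SimpleGraph.fromRel_adj]
      exact ⟨hab, Or.inl ⟨1, one_smul _ _, one_smul _ _⟩⟩
  · intro h
    refine ⟨fun {B} hB => ?_⟩
    by_cases hs : B.Subsingleton
    · exact Or.inl hs
    right
    rw [Set.not_subsingleton_iff] at hs
    obtain ⟨a, ha, b, hb, hab⟩ := hs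
    rw [Set.eq_univ_iff_forall]
    intro x
    have hr := (h a b hab).preconnected a x
    rw [SimpleGraph.reachable_iff_reflTransGen] at hr
    induction hr with
    | refl => exact ha
    | tail _ hyz ih =>
      rw [SimpleGraph.fromRel_adj] at hyz
      rcases hyz.2 with ⟨u, rfl, rfl⟩ | ⟨u, rfl, rfl⟩
      · exact CL.Perm.smul_mem_of_isBlock hB ha ih hb
      · exact CL.Perm.smul_mem_of_isBlock hB hb ih ha

end Cfsg.Agent.S0734
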