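import Cfsg.Statements.S0735
import Cfsg.Agent.Base
import Cfsg.Agent.Perm.Multi
-- import your own Cfsg.Agent.* helpers here

set_option autoImplicit false
open Cfsg

namespace Cfsg.Agent.S0735

open MulAction in
open scoped Pointwise in
theorem pair_eq {G α : Type*} [Group G] [MulAction G α] [DecidableEq α]
    (h2 : IsPretransitive G (Set.powersetCard α 2)) {a b c d : α} (hab : a ≠ b) (hcd : c ≠ d) :
    ∃ g : G, (g • a = c ∧ g • b = d) ∨ (g • a = d ∧ g • b = c) := by
  obtain ⟨g, hg⟩ := CL.Perm.homog_iff.1 h2 {a, b} {c, d} (Finset.card_pair hab)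
    (Finset.card_pair hcd)
  refine ⟨g, ?_⟩
  rw [Finset.smul_finset_insert, Finset.smul_finset_singleton, ← Finset.coe_inj,
    Finset.coe_pair, Finset.coe_pair, Set.pair_eq_pair_iff] at hg
  exact hg

/-- A 2-homogeneous permutation group (transitive on 2-subsets) of even order is doubly transitive; a non-trivial 2-homogeneous group is primitive. -/
theorem result {α : Type*} [Fintype α] [DecidableEq α] (G : Subgroup (Equiv.Perm α)) (h2 : MulAction.IsPretransitive G (Set.powersetCard α 2)) (hα : 3 ≤ Fintype.card α) : (Even (Nat.card G) → MulAction.IsMultiplyPretransitive G α 2) ∧ (G ≠ ⊥ → MulAction.IsPreprimitive G α) := by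
  constructor
  · intro hev
    have : Fact (Nat.Prime 2) := ⟨Nat.prime_two⟩
    obtain ⟨t, ht⟩ := exists_prime_orderOf_dvd_card' 2 hev.two_dvd
    have ht1 : t ≠ 1 := by rintro rfl; simp at ht
    have ht2 : t * t = 1 := by rw [← sq, ← ht, pow_orderOf_eq_one]
    obtain ⟨x, hx⟩ : ∃ x : α, t • x ≠ x := by
      by_contra h
      push Not at h
      exact ht1 (Subtype.ext (Equiv.ext h))
    have hswap : ∀ c d : α, c ≠ d → ∃ u : G, u • c = d ∧ u • d = c := by
      intro c d hcd
      obtain ⟨g, hg | hg⟩ := pair_eq h2 hx hcd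
      · refine ⟨g * t * g⁻¹, ?_, ?_⟩
        · rw [← hg.1, ← hg.2, mul_smul, mul_smul, inv_smul_smul, ← mul_smul t, ht2, one_smul]
        · rw [← hg.1, ← hg.2, mul_smul, mul_smul, inv_smul_smul]
      · refine ⟨g * t * g⁻¹, ?_, ?_⟩
        · rw [← hg.1, ← hg.2, mul_smul, mul_smul, inv_smul_smul]
        · rw [← hg.1, ← hg.2, mul_smul, mul_smul, inv_smul_smul, ← mul_smul t, ht2, one_smul]
    rw [MulAction.is_two_pretransitive_iff]
    intro a b c d hab hcd
    obtain ⟨g, hg | hg⟩ := pair_eq h2 hab hcd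
    · exact ⟨g, hg⟩
    · obtain ⟨u, h1, h2⟩ := hswap c d hcd
      exact ⟨u * g, by rw [mul_smul, hg.1, h2], by rw [mul_smul, hg.2, h1]⟩
  · intro _
    have htr : MulAction.IsPretransitive G α := by
      refine ⟨fun a b => ?_⟩
      by_contra hab
      have hne : a ≠ b := by rintro rfl; exact hab ⟨1, one_smul _ _⟩
      obtain ⟨c, hc⟩ : ∃ c, c ∉ ({a, b} : Finset α) := by
        by_contra h
        push Not at h
        have := Finset.card_le_card (fun x _ => h x : (Finset.univ : Finset α) ⊆ {a, b})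
        rw [Finset.card_univ, Finset.card_pair hne] at this
        omega
      simp only [Finset.mem_insert, Finset.mem_singleton, not_or] at hc
      obtain ⟨g, hg | hg⟩ := pair_eq h2 hne (Ne.symm hc.1)
      · obtain ⟨u, hu | hu⟩ := pair_eq h2 hne (Ne.symm hc.2)
        · exact hab ⟨u, hu.1⟩
        · exact hab ⟨g⁻¹ * u, by rw [mul_smul, hu.1, ← hg.2, inv_smul_smul]⟩
      · exact hab ⟨g⁻¹, by rw [← hg.2, inv_smul_smul]⟩
    refine ⟨fun {B} hB => ?_⟩
    rcases B.subsingleton_or_nontrivial with h | ⟨a, ha, b, hb, hab⟩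
    · exact Or.inl h
    right
    rw [Set.eq_univ_iff_forall]
    intro c
    by_cases hac : a = c
    · exact hac ▸ ha
    rw [MulAction.isBlock_iff_smul_eq_of_mem] at hB
    obtain ⟨g, hg | hg⟩ := pair_eq h2 hab hac
    · rw [← hB (g := g) ha (by rw [hg.1]; exact ha), ← hg.2]
      exact Set.smul_mem_smul_set hb
    · rw [← hB (g := g) hb (by rw [hg.2]; exact ha), ← hg.1]
      exact Set.smul_mem_smul_set ha

end Cfsg.Agent.S0735
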