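import Cfsg.Statements.S0736
import Cfsg.Agent.Base
import Cfsg.Agent.Perm.Multi
-- import your own Cfsg.Agent.* helpers here

set_option autoImplicit false
open Cfsg

namespace Cfsg.Agent.S0736

open scoped Pointwise

theorem not_dvd_choose {p a k : ℕ} (hp : p.Prime) (h : p ^ a ∣ k) :
    ¬ p ∣ (k + (p ^ a - 1)).choose (p ^ a - 1) := by
  have hpos : 0 < (k + (p ^ a - 1)).choose (p ^ a - 1) := Nat.choose_pos (Nat.le_add_left _ _)
  rw [hp.dvd_iff_one_le_factorization hpos.ne', Nat.factorization_choose' hp (Nat.lt_succ_self _),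
    not_le, Nat.lt_one_iff, Finset.card_eq_zero, Finset.filter_eq_empty_iff]
  intro i _
  rw [not_le]
  have hpa : 0 < p ^ a := pow_pos hp.pos a
  have hpi : 0 < p ^ i := pow_pos hp.pos i
  rcases le_total i a with hia | hia
  · rw [Nat.mod_eq_zero_of_dvd ((pow_dvd_pow p hia).trans h), add_zero]
    exact Nat.mod_lt _ hpi
  · have hd : p ^ a ∣ p ^ i := pow_dvd_pow p hia
    have h1 : p ^ a ∣ k % p ^ i := (Nat.dvd_mod_iff hd).2 h
    have h2 : k % p ^ i < p ^ i := Nat.mod_lt _ hpi
    obtain ⟨u, hu⟩ := h1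
    obtain ⟨v, hv⟩ := hd
    have h3 : u < v := by
      rw [hu, hv] at h2
      exact lt_of_mul_lt_mul_left h2 (Nat.zero_le _)
    have h4 : (p ^ a - 1) % p ^ i ≤ p ^ a - 1 := Nat.mod_le _ _
    have h5 : p ^ a * (u + 1) ≤ p ^ a * v := Nat.mul_le_mul_left _ h3
    rw [hu]
    rw [mul_add, mul_one, ← hv] at h5
    omega

/-- A `k`-homogeneous permutation group of degree `n`, `k ≥ 2`, with `k + q - 1 ≤ n` for every prime power `q` dividing `k`, is `(k-1)`-homogeneous. -/
theorem result {α : Type*} [Fintype α] [DecidableEq α] (G : Subgroup (Equiv.Perm α)) {k : ℕ} (hk : 2 ≤ k) (hG : MulAction.IsPretransitive G (Set.powersetCard α k)) (hq : ∀ q : ℕ, IsPrimePow q → q ∣ k → k + q - 1 ≤ Fintype.card α) : MulAction.IsPretransitive G (Set.powersetCard α (k - 1)) := by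
  classical
  obtain ⟨j, rfl⟩ : ∃ j, k = j + 1 := ⟨k - 1, by omega⟩
  rw [Nat.add_sub_cancel]
  replace hG := (CL.Perm.homog_iff (G := G)).1 hG
  refine (CL.Perm.homog_iff (G := G)).2 ?_
  intro s₀ s₁ hs₀ hs₁
  have hkn : j + 1 ≤ Fintype.card α := by
    obtain ⟨p, hp, hpk⟩ := Nat.exists_prime_and_dvd (show j + 1 ≠ 1 by omega)
    have := hq p hp.isPrimePow hpk
    have := hp.pos
    omega
  let O : Finset α → Prop := fun s => ∃ g : G, g • s₀ = s
  let r : Finset α → ℕ := fun t => ((Finset.powersetCard j t).filter O).card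
  have hr_le : ∀ (g : G) (t : Finset α), r t ≤ r (g • t) := by
    intro g t
    refine Finset.card_le_card_of_injOn (fun s => g • s) ?_ ?_
    · intro s hs
      simp only [Finset.coe_filter, Finset.mem_powersetCard, Set.mem_ofPred_eq] at hs ⊢
      obtain ⟨⟨h1, h2⟩, u, rfl⟩ := hs
      exact ⟨⟨Finset.smul_finset_subset_smul_finset h1, by simpa using h2⟩, g * u, mul_smul _ _ _⟩
    · intro s _ s' _ h
      exact smul_left_cancel g h
  have hr : ∀ t t' : Finset α, t.card = j + 1 → t'.card = j + 1 → r t = r t' := by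
    intro t t' ht ht'
    obtain ⟨g, rfl⟩ := hG t t' ht ht'
    refine le_antisymm (hr_le g t) ?_
    simpa using hr_le g⁻¹ (g • t)
  obtain ⟨t₀, hst₀, ht₀⟩ := Finset.exists_superset_card_eq (s := s₀) (n := j + 1) (by omega) hkn
  obtain ⟨t₁, hst₁, ht₁⟩ := Finset.exists_superset_card_eq (s := s₁) (n := j + 1) (by omega) hkn
  have hpos : 0 < r t₀ :=
    Finset.card_pos.2 ⟨s₀, Finset.mem_filter.2 ⟨Finset.mem_powersetCard.2 ⟨hst₀, hs₀⟩,
      1, one_smul _ _⟩⟩
  have hdvd : j + 1 ∣ r t₀ := by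
    rw [Nat.dvd_iff_prime_pow_dvd_dvd]
    intro p a hp hpa
    rcases Nat.eq_zero_or_pos a with rfl | ha
    · simp
    have hle := hq (p ^ a) (hp.isPrimePow.pow ha.ne') hpa
    have hpa0 : 0 < p ^ a := pow_pos hp.pos a
    obtain ⟨M, -, hM⟩ := Finset.exists_superset_card_eq (s := (∅ : Finset α))
      (n := j + 1 + (p ^ a - 1)) (by simp) (by omega)
    have hc := Finset.card_mul_eq_card_mul (s := (Finset.powersetCard j M).filter O)
      (t := Finset.powersetCard (j + 1) M) (fun s t => s ⊆ t) (m := p ^ a) (n := r t₀) (by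
        intro s hs
        simp only [Finset.mem_filter, Finset.mem_powersetCard] at hs
        rw [Finset.bipartiteAbove, Finset.card_filter_powersetCard_subset _ _ _ hs.1.1
          (by omega), hs.1.2, hM, Nat.add_sub_cancel_left, Nat.choose_one_right]
        omega) (by
        intro t ht
        rw [Finset.mem_powersetCard] at ht
        rw [← hr t t₀ ht.2 ht₀, Finset.bipartiteBelow]
        congr 1
        ext s
        simp only [Finset.mem_filter, Finset.mem_powersetCard]
        exact ⟨fun h => ⟨⟨h.2, h.1.1.2⟩, h.1.2⟩, fun h => ⟨⟨⟨h.1.1.trans ht.1, h.1.2⟩, h.2⟩, h.1.1⟩⟩)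
    rw [Finset.card_powersetCard, hM, Nat.choose_symm_add] at hc
    have hco : (p ^ a).Coprime ((j + 1 + (p ^ a - 1)).choose (p ^ a - 1)) :=
      Nat.Coprime.pow_left _ ((Nat.Prime.coprime_iff_not_dvd hp).2 (not_dvd_choose hp hpa))
    exact hco.dvd_of_dvd_mul_left (hc ▸ Dvd.intro_left _ rfl)
  have hfull : (Finset.powersetCard j t₁).filter O = Finset.powersetCard j t₁ := by
    refine Finset.eq_of_subset_of_card_le (Finset.filter_subset _ _) ?_
    rw [Finset.card_powersetCard, ht₁, Nat.choose_succ_self_right]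
    change j + 1 ≤ r t₁
    rw [hr t₁ t₀ ht₁ ht₀]
    exact Nat.le_of_dvd hpos hdvd
  have : s₁ ∈ (Finset.powersetCard j t₁).filter O := by
    rw [hfull]; exact Finset.mem_powersetCard.2 ⟨hst₁, hs₁⟩
  exact (Finset.mem_filter.1 this).2

end Cfsg.Agent.S0736
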