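import Cfsg.Statements.S0737
import Cfsg.Agent.Base
import Cfsg.Agent.Perm.Semilinear
import Cfsg.Agent.Perm.NormalMulti
import Cfsg.Agent.Solv.Fitting
import Cfsg.Agent.S0205
import Cfsg.Agent.S0735
import Cfsg.Agent.S1160

set_option autoImplicit false
open Cfsg

namespace Cfsg.Agent.S0737

open MulAction Subgroup

section linear

variable {D V : Type*} [Group D] [Finite D] [AddCommGroup V] [Finite V] [DistribMulAction D V]

omit [Finite D] [Finite V] in
theorem stabilizer_neg (v : V) : stabilizer D (-v) = stabilizer D v := by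
  ext d
  simp

omit [Finite D] in
theorem card_mod_four [Nontrivial V] (hodd : Odd (Nat.card D)) (h2 : ∀ v : V, -v = v → v = 0)
    (htrans : ∀ u v : V, u ≠ 0 → v ≠ 0 → ∃ d : D, d • u = v ∨ d • u = -v) :
    Nat.card V % 4 = 3 := by
  obtain ⟨v, hv⟩ := exists_ne (0 : V)
  have hne : ∀ d : D, d • v ≠ -v := by
    intro d hd
    have h : ∀ n : ℕ, d ^ (2 * n + 1) • v = -v := by
      intro n
      induction n with
      | zero => simpa using hd
      | succ n ih =>
        have e : d ^ (2 * (n + 1) + 1) = d ^ (2 * n + 1) * d * d := by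
          rw [← pow_succ, ← pow_succ]; rfl
        rw [e, mul_smul, mul_smul, hd, smul_neg, hd, neg_neg, ih]
    obtain ⟨n, hn⟩ := hodd
    have := h n
    rw [← hn, pow_card_eq_one', one_smul] at this
    exact hv (h2 v this.symm)
  have hdisj : Disjoint (orbit D v) (orbit D (-v)) := by
    rw [Set.disjoint_left]
    rintro _ ⟨d, rfl⟩ ⟨d', h⟩
    apply hne (d'⁻¹ * d)
    rw [mul_smul, inv_smul_eq_iff]
    exact h.symm
  have h0 : (0 : V) ∉ orbit D v ∪ orbit D (-v) := by
    rintro (⟨d, hd⟩ | ⟨d, hd⟩)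
    · exact hv ((smul_eq_zero_iff_eq d).mp hd)
    · exact hv (neg_eq_zero.mp ((smul_eq_zero_iff_eq d).mp hd))
  have huniv : (Set.univ : Set V) = insert 0 (orbit D v ∪ orbit D (-v)) := by
    symm
    rw [Set.eq_univ_iff_forall]
    intro w
    by_cases hw : w = 0
    · exact Or.inl hw
    obtain ⟨d, hd | hd⟩ := htrans v w hv hw
    · exact Or.inr (Or.inl ⟨d, hd⟩)
    · exact Or.inr (Or.inr ⟨d, by simp [hd]⟩)
  rw [← Set.ncard_univ, huniv, Set.ncard_insert_of_notMem h0, Set.ncard_union_eq hdisj,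
    ← index_stabilizer, ← index_stabilizer, stabilizer_neg]
  have := Nat.odd_iff.mp (hodd.of_dvd_nat (stabilizer D v).index_dvd_card)
  omega

omit [Finite V] in
theorem card_stabilizer_eq (P : Subgroup D) [hP : P.Normal]
    (htrans : ∀ u v : V, u ≠ 0 → v ≠ 0 → ∃ d : D, d • u = v ∨ d • u = -v) (a b : V) (ha : a ≠ 0)
    (hb : b ≠ 0) : Nat.card (stabilizer P a) = Nat.card (stabilizer P b) := by
  have key : ∀ (d : D) (a : V), Nat.card (stabilizer P a) ≤ Nat.card (stabilizer P (d • a)) := by
    intro d a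
    refine Nat.card_le_card_of_injective (fun g : stabilizer P a =>
      (⟨⟨d * g.1 * d⁻¹, hP.conj_mem _ g.1.2 d⟩, by
        change (d * g.1 * d⁻¹) • d • a = d • a
        rw [mul_smul, inv_smul_smul, mul_smul]
        exact congrArg _ g.2⟩ : stabilizer P (d • a))) ?_
    intro g g' h
    have : d * g.1 * d⁻¹ = d * g'.1 * d⁻¹ := congrArg (fun z : stabilizer P (d • a) => (z.1 : D)) h
    exact Subtype.ext (Subtype.ext (by simpa using this))
  have key2 : ∀ a b : V, a ≠ 0 → b ≠ 0 →
      Nat.card (stabilizer P a) ≤ Nat.card (stabilizer P b) := by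
    intro a b ha hb
    obtain ⟨d, hd | hd⟩ := htrans a b ha hb
    · rw [← hd]; exact key d a
    · rw [← stabilizer_neg b, ← hd]; exact key d a
  exact le_antisymm (key2 a b ha hb) (key2 b a hb ha)

theorem fitting_comm [FaithfulSMul D V] (hodd : Odd (Nat.card D)) {q : ℕ} (hq : q.Prime)
    (hV : ∀ v : V, q • v = 0)
    (htrans : ∀ u v : V, u ≠ 0 → v ≠ 0 → ∃ d : D, d • u = v ∨ d • u = -v) :
    IsMulCommutative (fittingSubgroup D) := by
  have hcent : ∀ p p' : Nat.Primes, pCore (p : ℕ) D ≤ centralizer (pCore (p' : ℕ) D : Set D) := by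
    intro p p'
    have : Fact (p : ℕ).Prime := ⟨p.2⟩
    have : Fact (p' : ℕ).Prime := ⟨p'.2⟩
    by_cases h : p = p'
    · subst h
      by_cases hp2 : (p : ℕ) = 2
      · rw [CL.pCore_eq_bot_of_not_dvd (p := p)]
        · exact bot_le
        · rw [hp2, Nat.two_dvd_ne_zero]
          exact Nat.odd_iff.mp hodd
      have hc := (Cfsg.Agent.S1160.result (P := pCore (p : ℕ) D) (E := V) hp2
        (CL.pCore_isPGroup _ _) hq hV (card_stabilizer_eq _ htrans)).1
      intro x hx
      rw [mem_centralizer_iff]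
      intro y hy
      exact congrArg Subtype.val (hc.isMulCommutative.is_comm.comm
        (⟨y, hy⟩ : pCore (p : ℕ) D) ⟨x, hx⟩)
    · exact CL.pCore_le_centralizer_pCore_of_ne fun e => h (Subtype.ext e)
  rw [← le_centralizer_iff_isMulCommutative]
  conv_lhs => rw [CL.fitting_eq_iSup_pCore]
  refine iSup_le fun p => ?_
  rw [le_centralizer_iff, CL.fitting_eq_iSup_pCore]
  exact iSup_le fun p' => hcent p' p

end linear

/-- A non-trivial 2-homogeneous permutation group that is not doubly transitive has odd order and degree `p^f ≡ 3 (mod 4)`, and is permutation-isomorphic to a group of semi-affine transformations `x ↦ a φ(x) + b` of the field with `p^f` elements containing all translations. -/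
theorem result {α : Type*} [Fintype α] [DecidableEq α] (G : Subgroup (Equiv.Perm α)) (hne : G ≠ ⊥) (h2 : MulAction.IsPretransitive G (Set.powersetCard α 2)) (hn2 : ¬ MulAction.IsMultiplyPretransitive G α 2) : Odd (Nat.card G) ∧ ∃ (p f : ℕ) (_ : Fact p.Prime), p ≠ 2 ∧ Fintype.card α = p ^ f ∧ p ^ f % 4 = 3 ∧ ∃ e : α ≃ GaloisField p f, (∀ g : G, e.symm.trans (((g : Equiv.Perm α)).trans e) ∈ Cfsg.semiaffineGroup (GaloisField p f)) ∧ ∀ b : GaloisField p f, ∃ g : G, ∀ x : α, e ((g : Equiv.Perm α) x) = e x + b := by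
  classical
  have hα : 3 ≤ Fintype.card α := by
    by_contra h
    apply hn2
    rw [Equiv.Perm.subgroup_eq_top_of_nontrivial (G := G)
      (by rw [Nat.card_eq_fintype_card]; omega) ((Subgroup.nontrivial_iff_ne_bot G).mpr hne)]
    constructor
    intro x y
    obtain ⟨σ, hσ⟩ := (Equiv.Perm.isMultiplyPretransitive α 2).exists_smul_eq x y
    exact ⟨⟨σ, trivial⟩, hσ⟩
  obtain ⟨h1, h3⟩ := Cfsg.Agent.S0735.result G h2 hα
  have hodd : Odd (Nat.card G) := Nat.not_even_iff_odd.mp fun h => hn2 (h1 h)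
  have hprim := h3 hne
  have hsolv := Cfsg.Agent.S0205.result hodd
  have : Nontrivial G := (Subgroup.nontrivial_iff_ne_bot G).mpr hne
  obtain ⟨M, hM⟩ := CL.exists_isMinNormal G
  have hMn := hM.normal
  obtain ⟨p, hp, hab, hexp⟩ := hM.exists_prime_elementary
  have hfact : Fact p.Prime := ⟨hp⟩
  have hc : ∀ a ∈ M, ∀ b ∈ M, Commute a b := fun a ha b hb =>
    congrArg Subtype.val (hab.is_comm.comm (⟨a, ha⟩ : M) ⟨b, hb⟩)
  have ht : IsPretransitive M α := CL.Perm.isPretransitive_of_normal hM.ne_bot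
  have hreg := CL.Perm.stabilizer_eq_bot_of_commute M M ht hc
  obtain ⟨a⟩ : Nonempty α := Fintype.card_pos_iff.mp (by omega)
  have hcard : Nat.card M = Nat.card α := CL.Perm.card_eq_of_regular M ht (hreg a)
  have hpM : IsPGroup p M := fun g => ⟨1, Subtype.ext (by simpa using hexp g g.2)⟩
  obtain ⟨f, hf⟩ := IsPGroup.iff_card.mp hpM
  have hf0 : f ≠ 0 := by
    rintro rfl
    rw [hcard, Nat.card_eq_fintype_card, pow_zero] at hf
    omega
  have hp2 : p ≠ 2 := by
    rintro rfl
    have := hodd.of_dvd_nat M.card_subgroup_dvd_card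
    rw [hf, Nat.odd_pow_iff hf0] at this
    exact absurd this (by decide)
  let _ : CommGroup M := { (inferInstance : Group M) with mul_comm := hab.is_comm.comm }
  let _ : DistribMulAction (stabilizer G a) (Additive M) :=
    { smul := fun d v => Additive.ofMul (MulAut.conjNormal (d : G) v.toMul)
      one_smul := fun v => by
        change Additive.ofMul (MulAut.conjNormal (1 : G) v.toMul) = v
        simp
      mul_smul := fun d d' v => by
        change Additive.ofMul (MulAut.conjNormal ((d : G) * d') v.toMul) = _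
        rw [map_mul]
        rfl
      smul_zero := fun d => congrArg Additive.ofMul (map_one _)
      smul_add := fun d v w => congrArg Additive.ofMul (map_mul _ _ _) }
  have hsmul : ∀ (d : stabilizer G a) (v : Additive M),
      (((d • v).toMul : M) : G) = d * (v.toMul : M) * (d : G)⁻¹ := fun d v => rfl
  have hact : ∀ (d : stabilizer G a) (v : Additive M),
      (d • v).toMul • a = (d : G) • v.toMul • a := by
    intro d v
    change (((d • v).toMul : M) : G) • a = _
    rw [hsmul, mul_smul, mul_smul, show (d : G)⁻¹ • a = a from (d⁻¹).2]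
    rfl
  have hinjM : ∀ v w : Additive M, v.toMul • a = w.toMul • a → v = w := fun v w h =>
    congrArg Additive.ofMul (CL.Perm.eq_of_smul_eq_of_stabilizer_eq_bot M (hreg a) h)
  have hfaith : FaithfulSMul (stabilizer G a) (Additive M) := by
    constructor
    intro d d' h
    apply Subtype.ext
    apply FaithfulSMul.eq_of_smul_eq_smul (M := G) (α := α)
    intro x
    obtain ⟨m, rfl⟩ := ht.exists_smul_eq a x
    exact (hact d (Additive.ofMul m)).symm.trans ((congrArg (fun v => v.toMul • a)
      (h (Additive.ofMul m))).trans (hact d' (Additive.ofMul m)))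
  have hne0 : ∀ v : Additive M, v ≠ 0 → a ≠ v.toMul • a := fun v hv h =>
    hv (hinjM v 0 (by rw [← h]; exact (one_smul M a).symm))
  have htrans : ∀ u v : Additive M, u ≠ 0 → v ≠ 0 →
      ∃ d : stabilizer G a, d • u = v ∨ d • u = -v := by
    intro u v hu hv
    obtain ⟨g, ⟨hg1, hg2⟩ | ⟨hg1, hg2⟩⟩ := Cfsg.Agent.S0735.pair_eq h2 (hne0 u hu) (hne0 v hv)
    · exact ⟨⟨g, hg1⟩, Or.inl (hinjM _ _ ((hact _ _).trans hg2))⟩
    · refine ⟨⟨((v.toMul : M) : G)⁻¹ * g, ?_⟩, Or.inr (hinjM _ _ ((hact _ _).trans ?_))⟩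
      · rw [mem_stabilizer_iff, mul_smul, hg1]
        exact inv_smul_smul _ _
      · change (((v.toMul : M) : G)⁻¹ * g) • u.toMul • a = _
        rw [mul_smul, hg2]
        rfl
  have hV : ∀ v : Additive M, p • v = 0 := fun v =>
    congrArg Additive.ofMul (Subtype.ext (hexp _ v.toMul.2) : v.toMul ^ p = 1)
  have hnt : Nontrivial (Additive M) :=
    (Subgroup.nontrivial_iff_ne_bot M).mpr hM.ne_bot
  have hoddD : Odd (Nat.card (stabilizer G a)) := hodd.of_dvd_nat (card_subgroup_dvd_card _)
  have hcardV : Nat.card (Additive M) = p ^ f := hf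
  have hmod := card_mod_four hoddD (by
    intro v hv
    obtain ⟨k, hk⟩ := hp.odd_of_ne_two hp2
    have := hV v
    rw [hk, add_nsmul, one_nsmul, mul_nsmul, two_nsmul] at this
    nth_rewrite 1 [← hv] at this
    rwa [neg_add_cancel, nsmul_zero, zero_add] at this) htrans
  have := CL.fitting_normal (stabilizer G a)
  obtain ⟨e, he⟩ := CL.Perm.exists_addEquiv_semilinear (fittingSubgroup (stabilizer G a))
    (fitting_comm hoddD hp hV htrans) (CL.centralizer_fitting_le _) htrans (GaloisField p f)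
    (by rw [GaloisField.card p f hf0, hcardV])
  let β : Additive M ≃ α := Equiv.ofBijective (fun v => v.toMul • a)
    ⟨hinjM, fun x => ht.exists_smul_eq a x⟩
  have hβ : ∀ v, β v = v.toMul • a := fun _ => rfl
  refine ⟨hodd, p, f, hfact, hp2, by rw [← Nat.card_eq_fintype_card, ← hcard, hf],
    by rw [← hcardV, hmod], β.symm.trans e.toEquiv, fun g => ?_, fun b => ?_⟩
  · obtain ⟨m, hm⟩ := ht.exists_smul_eq a (g • a)
    have hd : (m : G)⁻¹ * g ∈ stabilizer G a := by
      rw [mem_stabilizer_iff, mul_smul, ← hm]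
      exact inv_smul_smul _ _
    obtain ⟨c, φ, h⟩ := he ⟨_, hd⟩
    refine ⟨c, e (Additive.ofMul m), φ, fun x => ?_⟩
    obtain ⟨v, rfl⟩ := e.surjective x
    rw [← h, ← map_add]
    change e (β.symm (g • β (e.symm (e v)))) = _
    rw [AddEquiv.symm_apply_apply]
    congr 1
    rw [Equiv.symm_apply_eq, hβ, hβ, add_comm, toMul_add, mul_smul, hact]
    change _ = (m : G) • ((m : G)⁻¹ * g) • v.toMul • a
    rw [mul_smul, smul_inv_smul]
  · refine ⟨((e.symm b).toMul : M), fun x => ?_⟩
    obtain ⟨v, rfl⟩ := β.surjective x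
    change e (β.symm ((e.symm b).toMul • β v)) = e (β.symm (β v)) + b
    rw [Equiv.symm_apply_apply, hβ, ← mul_smul, ← toMul_add, ← hβ, Equiv.symm_apply_apply, map_add,
      AddEquiv.apply_symm_apply, add_comm]

end Cfsg.Agent.S0737
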