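import Cfsg.Statements.S0739
import Cfsg.Agent.Base
import Cfsg.Agent.Zass.OddInv

set_option autoImplicit false
open Cfsg

namespace Cfsg.Agent.S0739

/-- In a finite Zassenhaus group whose two-point stabiliser `H = G_{a,b}` has odd order `d`, and which has no normal `q`-complement for any prime `q ∣ d`, `H` is cyclic, `C_G(H) = H`, and every element swapping `a` and `b` inverts each element of `H`. -/
theorem result {G Ω : Type*} [Group G] [Finite G] [MulAction G Ω] [Fintype Ω] (hZ : Cfsg.IsZassenhausGroup G Ω) {a b : Ω} (hab : a ≠ b) (hodd : Odd (Nat.card ↥(MulAction.stabilizer G a ⊓ MulAction.stabilizer G b))) (hnil : ∀ q : ℕ, q.Prime → q ∣ Nat.card ↥(MulAction.stabilizer G a ⊓ MulAction.stabilizer G b) → ¬ ∃ N : Subgroup G, N.Normal ∧ N.index = q ^ (Nat.card G).factorization q) : IsCyclic ↥(MulAction.stabilizer G a ⊓ MulAction.stabilizer G b) ∧ Subgroup.centralizer ((MulAction.stabilizer G a ⊓ MulAction.stabilizer G b : Subgroup G) : Set G) = MulAction.stabilizer G a ⊓ MulAction.stabilizer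 G b ∧ ∀ s : G, s • a = b → s • b = a → ∀ h ∈ MulAction.stabilizer G a ⊓ MulAction.stabilizer G b, s * h * s⁻¹ = h⁻¹ := by
  have h := CL.Zass.pre_of_zass hZ
  obtain ⟨s, -, hsa, hsb⟩ := h.exists_swap hab
  have hs := h.inverts_of_no_complement hab hodd hnil hsa hsb
  have hc := CL.Zass.Pre.comm_of_inverts hs
  refine ⟨h.isCyclic_of_comm hab le_rfl hc, ?_,
    fun s' hsa' hsb' => h.inverts_of_no_complement hab hodd hnil hsa' hsb'⟩
  apply le_antisymm
  · intro g hg
    obtain ⟨x, hx, hx1⟩ := CL.Zass.exists_st2_ne_one_of_zass hZ hab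
    exact h.centralizer_st2_of_inverts hab hsa hsb hs hx
      (fun hh => hx1 (CL.Zass.eq_one_of_sq_of_odd hodd hx hh)) (hg x hx).symm
  · intro g hg x hx
    exact hc x hx g hg

end Cfsg.Agent.S0739
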