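import Cfsg.Statements.S0740
import Cfsg.Agent.Base
import Cfsg.Agent.Zass.Pair

set_option autoImplicit false
open Cfsg

namespace Cfsg.Agent.S0740

/-- In a finite Zassenhaus group any two points `a ≠ b` are swapped by an involution; every such involution has exactly one fixed point when the degree is odd and 0 or 2 fixed points when the degree is even; and if the two-point stabiliser has even order, some such involution has exactly 2 fixed points. -/
theorem result {G Ω : Type*} [Group G] [Finite G] [MulAction G Ω] [Fintype Ω] (hZ : Cfsg.IsZassenhausGroup G Ω) {a b : Ω} (hab : a ≠ b) : (∃ s : G, orderOf s = 2 ∧ s • a = b ∧ s • b = a) ∧ (∀ s : G, orderOf s = 2 → s • a = b → s • b = a → (Odd (Fintype.card Ω) → Nat.card (MulAction.fixedBy Ω s) = 1) ∧ (Even (Fintype.card Ω) → Nat.card (MulAction.fixedBy Ω s) = 0 ∨ Nat.card (MulAction.fixedBy Ω s) = 2)) ∧ (Even (Fintype.card Ω) → Even (Nat.card ↥(MulAction.stabilizer G a ⊓ MulAction.stabilizer G b)) → ∃ s : G, orderOf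 s = 2 ∧ s • a = b ∧ s • b = a ∧ Nat.card (MulAction.fixedBy Ω s) = 2) := by
  have h := CL.Zass.pre_of_zass hZ
  have hne : ∀ s : G, s • a = b → s ≠ 1 := by
    rintro s hsa rfl
    exact hab (by simpa using hsa)
  rw [← Nat.card_eq_fintype_card]
  refine ⟨?_, ?_, ?_⟩
  · obtain ⟨s, hs, hsa, hsb⟩ := h.exists_swap hab
    exact ⟨s, CL.Zass.orderOf_eq_two_iff.2 ⟨hs, hne s hsa⟩, hsa, hsb⟩
  · intro s hs hsa hsb
    rw [CL.Zass.orderOf_eq_two_iff] at hs
    have h1 := CL.Zass.nfix_mod_two (Ω := Ω) hs.1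
    have h2 := h.nfix_le_two hs.2
    rw [CL.Zass.card_fixedBy_eq, Nat.odd_iff, Nat.even_iff]
    omega
  · intro _ he
    obtain ⟨s, hs, hsa, hsb, hf⟩ := h.exists_swap_two hab he
    exact ⟨s, CL.Zass.orderOf_eq_two_iff.2 ⟨hs, hne s hsa⟩, hsa, hsb, hf⟩

end Cfsg.Agent.S0740
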