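import Cfsg.Statements.S0742
import Cfsg.Agent.Base
import Cfsg.Agent.Zass.Coord

set_option autoImplicit false
open Cfsg

namespace Cfsg.Agent.S0742

/-- A finite Zassenhaus group of degree `n + 1` with two-point stabilisers of even order `d` satisfying `2d ≤ n - 1` has `n = p^f` for an odd prime `p` and is isomorphic to `PSL(2, p^f)`. -/
theorem result {G Ω : Type*} [Group G] [Finite G] [MulAction G Ω] [Fintype Ω] (hZ : Cfsg.IsZassenhausGroup G Ω) {a b : Ω} (hab : a ≠ b) (heven : Even (Nat.card ↥(MulAction.stabilizer G a ⊓ MulAction.stabilizer G b))) (hd : 2 * Nat.card ↥(MulAction.stabilizer G a ⊓ MulAction.stabilizer G b) ≤ Fintype.card Ω - 2) : ∃ (p f : ℕ) (K : Type) (_ : Field K) (_ : Fintype K), p.Prime ∧ p ≠ 2 ∧ Fintype.card K = p ^ f ∧ Fintype.card Ω = p ^ f + 1 ∧ Nonempty (G ≃* Matrix.ProjectiveSpecialLinearGroup (Fin 2) K) := by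
  have h := CL.Zass.pre_of_zass hZ
  rw [← Nat.card_eq_fintype_card] at hd ⊢
  obtain ⟨h1, h2⟩ := h.inverts_of_even_small hab heven hd
  obtain ⟨s, -, hsa, hsb⟩ := h.exists_swap hab
  obtain ⟨K, _, _, hK, hG⟩ := h.psl_of_half hab h1 hsa hsb (h2 s hsa hsb)
  obtain ⟨p, hp⟩ := CharP.exists K
  obtain ⟨f, hp', hf⟩ := FiniteField.card K p
  refine ⟨p, f, K, inferInstance, inferInstance, hp', ?_, hf, by rw [← hK, hf], hG⟩
  rintro rfl
  have h3 := h.three_le_card
  have h4 : Even (Fintype.card K) := by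
    rw [hf]
    exact Nat.even_pow.2 ⟨even_two, f.ne_zero⟩
  obtain ⟨m, hm⟩ := h4
  omega

end Cfsg.Agent.S0742
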