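import Cfsg.Statements.S0745
import Cfsg.Agent.Base
import Cfsg.Agent.Perm.HomogData
import Cfsg.Agent.Perm.SylowCount
import Cfsg.Agent.S0415
import Cfsg.Agent.S0416
import Cfsg.Agent.S0417
-- import your own Cfsg.Agent.* helpers here

set_option autoImplicit false
open Cfsg

namespace Cfsg.Agent.S0745

set_option synthInstance.maxSize 100000 in
theorem arith1 : ∀ d ≤ 30, ∀ e ≤ 24, 2 ≤ e → Odd d → e ∣ 2 → e * (d * e - 1) ∣ 6 →
    d * e = 2 := by decide +kernel

set_option synthInstance.maxSize 100000 in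
theorem arith2 : ∀ d ≤ 30, ∀ e ≤ 24, 2 ≤ e → Odd d → e ∣ 6 → e * (d * e - 1) ∣ 24 →
    (3 ∣ d → 3 * e ∣ 6) → d * e = 2 ∨ (d = 1 ∧ e = 3) := by decide +kernel

set_option synthInstance.maxSize 100000 in
theorem arith3 : ∀ d ≤ 30, ∀ e ≤ 24, 2 ≤ e → Odd d → e ∣ 24 → e * (d * e - 1) ∣ 120 →
    (3 ∣ d → 3 * e ∣ 24) → d * e = 2 ∨ (d = 1 ∧ e = 3) ∨ (d = 3 ∧ e = 2) ∨ (d = 1 ∧ e = 6) ∨
      (d = 7 ∧ e = 3) ∨ (d = 1 ∧ e = 4) := by decide +kernel

theorem arith4 : ∀ d ≤ 7, ∀ e ≤ 7, 2 ≤ e → Odd (d * e) → d * e ≤ 7 → d = 1 := by decide +kernel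

theorem bound {d e N : ℕ} (he : 2 ≤ e) (hN : N ≤ 120) (hN0 : 0 < N)
    (h : e * (d * e - 1) ∣ N) : d ≤ 30 := by
  have h1 := Nat.le_of_dvd hN0 h
  have h2 : 2 * (d * 2 - 1) ≤ e * (d * e - 1) :=
    Nat.mul_le_mul he (Nat.sub_le_sub_right (Nat.mul_le_mul_left d he) 1)
  omega

/-- Let `G` have degree `n` and `3 ≤ k ≤ n`; suppose `G` is `(k-2)`-transitive but not `(k-1)`-transitive, and is `(k-1)`-homogeneous and `k`-homogeneous. Then `k = n` and `G` is the alternating group, or `n = 5, k = 4, |G| = 20`, or `n = 6, k = 5, |G| = 120`, or `n = 9, k = 5, |G| ∈ {504, 1512}`. -/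
theorem result {α : Type*} [Fintype α] [DecidableEq α] (G : Subgroup (Equiv.Perm α)) {k : ℕ} (hk : 3 ≤ k) (hkn : k ≤ Fintype.card α) (ht : MulAction.IsMultiplyPretransitive G α (k - 2)) (hnt : ¬ MulAction.IsMultiplyPretransitive G α (k - 1)) (hh1 : MulAction.IsPretransitive G (Set.powersetCard α (k - 1))) (hh : MulAction.IsPretransitive G (Set.powersetCard α k)) : (k = Fintype.card α ∧ G = alternatingGroup α) ∨ (Fintype.card α = 5 ∧ k = 4 ∧ Nat.card G = 20) ∨ (Fintype.card α = 6 ∧ k = 5 ∧ Nat.card G = 120) ∨ (Fintype.card α = 9 ∧ k = 5 ∧ (Nat.card G = 504 ∨ Nat.card G = 1512)) := by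
  obtain ⟨j, rfl⟩ : ∃ j, k = j + 2 := ⟨k - 2, by omega⟩
  change MulAction.IsMultiplyPretransitive G α j at ht
  change ¬ MulAction.IsMultiplyPretransitive G α (j + 1) at hnt
  change MulAction.IsPretransitive G (Set.powersetCard α (j + 1)) at hh1
  obtain ⟨h5, d, e, hm, he, hd, hG, hall, h1, h2, h3⟩ := CL.Perm.homog_data hkn ht hnt hh1 hh
  by_cases hm2 : d * e = 2
  · have hn : Fintype.card α = j + 2 := by omega
    refine Or.inl ⟨hn.symm, ?_⟩
    have hA := IsMultiplyPretransitive.alternatingGroup_le α G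
      (by rw [Nat.card_eq_fintype_card, hn]; exact ht)
    have : Nontrivial α := Fintype.one_lt_card_iff_nontrivial.1 (by omega)
    refine (Subgroup.eq_of_le_of_card_ge hA ?_).symm
    have h4 := two_mul_nat_card_alternatingGroup (α := α)
    rw [Nat.card_perm, Nat.card_eq_fintype_card (α := α), hn,
      ← Nat.factorial_mul_descFactorial (show j ≤ j + 2 by omega), Nat.add_sub_cancel_left] at h4
    obtain rfl : d = 1 := by
      have : d * 2 ≤ d * e := Nat.mul_le_mul_left d he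
      obtain ⟨r, hr⟩ := hd
      omega
    rw [hG, hn]
    simp only [Nat.factorial] at h4
    omega
  right
  obtain rfl | rfl | rfl | hj : j = 1 ∨ j = 2 ∨ j = 3 ∨ 4 ≤ j := by omega
  · exact absurd (arith1 d (bound he (by decide) (by decide) h2) e
      ((Nat.le_of_dvd (by decide) h1).trans (by decide)) he hd h1 h2) hm2
  · obtain h | ⟨rfl, rfl⟩ := arith2 d (bound he (by decide) (by decide) h2) e
      ((Nat.le_of_dvd (by decide) h1).trans (by decide)) he hd h1 h2 (h3 le_rfl)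
    · exact absurd h hm2
    · have hn : Fintype.card α = 5 := by omega
      exact Or.inl ⟨hn, rfl, by rw [hG, hn]; rfl⟩
  · obtain h | ⟨rfl, rfl⟩ | ⟨rfl, rfl⟩ | ⟨rfl, rfl⟩ | ⟨rfl, rfl⟩ | ⟨rfl, rfl⟩ :=
      arith3 d (bound he (by decide) (by decide) h2) e
      ((Nat.le_of_dvd (by decide) h1).trans (by decide)) he hd h1 h2 (h3 (by decide))
    · exact absurd h hm2
    · have hn : Fintype.card α = 6 := by omega
      exact Or.inr (Or.inl ⟨hn, rfl, by rw [hG, hn]; rfl⟩)
    · have hn : Fintype.card α = 9 := by omega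
      exact Or.inr (Or.inr ⟨hn, rfl, Or.inr (by rw [hG, hn]; rfl)⟩)
    · have hn : Fintype.card α = 9 := by omega
      exact Or.inr (Or.inr ⟨hn, rfl, Or.inl (by rw [hG, hn]; rfl)⟩)
    · have hn : Fintype.card α = 24 := by omega
      obtain ⟨i, hi, hmod⟩ := CL.Perm.exists_dvd_modEq_of_card_le_succ (G := G) (p := 23)
        (r := 3696) (by norm_num) (by omega) (by rw [hG, hn]; rfl) (by norm_num)
      have := Nat.le_of_dvd (by decide) hi
      unfold Nat.ModEq at hmod
      obtain rfl : i = 16 := by omega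
      exact absurd hi (by decide)
    · have hn : Fintype.card α = 7 := by omega
      refine (CL.Perm.not_sharply_three_of_card_seven ht (fun g s hs hg => ?_) hn).elim
      have h4 := hall s hs
      rw [Subgroup.card_eq_one] at h4
      exact Subgroup.mem_bot.1 (h4 ▸ CL.Perm.mem_fixing.2 hg)
  exfalso
  obtain ⟨i, rfl⟩ : ∃ i, j = i + 4 := ⟨j - 4, by omega⟩
  have hodd : CL.Perm.OddStab G α (i + 4) := fun g s hs hg =>
    hd.of_dvd_nat (hall s hs ▸ Subgroup.orderOf_dvd_natCard _ (CL.Perm.mem_fixing.2 hg))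
  rcases Nat.even_or_odd (d * e) with hev | hod
  · have := CL.Perm.card_le_of_oddStab_even ht hodd (by
      obtain ⟨r, hr⟩ := hev
      exact ⟨r + 2, by omega⟩)
    omega
  have h11 := CL.Perm.card_le_of_oddStab_odd ht hodd h5 (by
    obtain ⟨r, hr⟩ := hod
    exact ⟨r + 2, by omega⟩)
  have hde : d * e ≤ 7 := by omega
  obtain rfl : d = 1 := arith4 d (le_trans (Nat.le_mul_of_pos_right d (by omega)) hde) e
    (le_trans (Nat.le_mul_of_pos_left e hd.pos) hde) he hod hde
  have hsharp : ∀ x : Fin (i + 4) ↪ α, MulAction.stabilizer G x = ⊥ := by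
    intro x
    have h4 := hall (Finset.univ.map x) (by simp)
    rw [Subgroup.card_eq_one] at h4
    rw [eq_bot_iff, ← h4]
    intro g hg
    refine CL.Perm.mem_fixing.2 fun y hy => ?_
    obtain ⟨l, -, rfl⟩ := Finset.mem_map.1 hy
    exact congrArg (fun f : Fin (i + 4) ↪ α => f l) (MulAction.mem_stabilizer_iff.1 hg)
  obtain ⟨r, hr⟩ := hod
  obtain rfl | rfl | hi : i = 0 ∨ i = 1 ∨ 2 ≤ i := by omega
  · have := Cfsg.Agent.S0415.result G (by omega) hsharp
    obtain rfl : e = 7 := by omega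
    exact absurd h1 (by decide)
  · have := Cfsg.Agent.S0416.result G (by omega) hsharp
    obtain rfl : e = 7 := by omega
    exact absurd h1 (by decide)
  · have := Cfsg.Agent.S0417.result G (i + 4) (by omega) (by omega) hsharp
    omega

end Cfsg.Agent.S0745
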