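import Cfsg.Statements.S0746
import Cfsg.Agent.Base
import Cfsg.Agent.S0745
import Cfsg.Agent.S0736
-- import your own Cfsg.Agent.* helpers here

set_option autoImplicit false
open Cfsg

namespace Cfsg.Agent.S0746

theorem pred_homog {α : Type*} [Fintype α] [DecidableEq α] (G : Subgroup (Equiv.Perm α)) {k : ℕ}
    (hk : 2 ≤ k) (hkn : 2 * k ≤ Fintype.card α)
    (hh : MulAction.IsPretransitive G (Set.powersetCard α k)) :
    MulAction.IsPretransitive G (Set.powersetCard α (k - 1)) :=
  Cfsg.Agent.S0736.result G hk hh fun q _ hq => by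
    have := Nat.le_of_dvd (by omega) hq
    omega

/-- The Livingstone–Wagner Theorem, first form: a `k`-homogeneous group of degree `n` with `4 ≤ 2k ≤ n` is `(k-1)`-transitive. -/
theorem result {α : Type*} [Fintype α] [DecidableEq α] (G : Subgroup (Equiv.Perm α)) {k : ℕ} (hk : 2 ≤ k) (hkn : 2 * k ≤ Fintype.card α) (hh : MulAction.IsPretransitive G (Set.powersetCard α k)) : MulAction.IsMultiplyPretransitive G α (k - 1) := by
  induction k, hk using Nat.le_induction with
  | base =>
    have h1 := (CL.Perm.homog_iff (G := G)).1 (pred_homog G le_rfl hkn hh)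
    refine CL.Perm.multi_iff_perm.2 fun s hs π => ?_
    obtain ⟨a, rfl⟩ := Finset.card_eq_one.1 hs
    obtain ⟨g, hg⟩ := h1 {a} {π a} rfl rfl
    refine ⟨g, fun x hx => ?_⟩
    rw [Finset.mem_singleton.1 hx]
    simpa using hg
  | succ k hk ih =>
    have h1 := pred_homog G (by omega) hkn hh
    have h2 := ih (by omega) h1
    by_contra h3
    have := Cfsg.Agent.S0745.result G (k := k + 1) (by omega) (by omega) h2 h3 h1 hh
    omega

end Cfsg.Agent.S0746
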