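import Cfsg.Statements.S0748
import Cfsg.Agent.Base
import Cfsg.Agent.S0746
-- import your own Cfsg.Agent.* helpers here

set_option autoImplicit false
open Cfsg

namespace Cfsg.Agent.S0748

open scoped Pointwise

/-- The Livingstone–Wagner Theorem: a `k`-homogeneous permutation group of degree `n` with `10 ≤ 2k ≤ n` is `k`-transitive. -/
theorem result {α : Type*} [Fintype α] [DecidableEq α] (G : Subgroup (Equiv.Perm α)) {k : ℕ} (hk : 5 ≤ k) (hkn : 2 * k ≤ Fintype.card α) (hh : MulAction.IsPretransitive G (Set.powersetCard α k)) : MulAction.IsMultiplyPretransitive G α k := by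
  have ht := Cfsg.Agent.S0746.result G (by omega) hkn hh
  obtain ⟨j, rfl⟩ : ∃ j, k = j + 5 := ⟨k - 5, by omega⟩
  change MulAction.IsMultiplyPretransitive G α (j + 4) at ht
  obtain ⟨s, hs, hA⟩ := CL.Perm.exists_altOn (by omega) (by omega) ht
  by_contra hnt
  have key : ∀ x : G, x * x = 1 → ∀ t : Finset α, t.card = j + 3 → (∀ a ∈ t, x • a = a) →
      x = 1 := by
    intro x hx t ht' hxt
    by_contra hx1
    obtain ⟨a, ha⟩ : ∃ a, x • a ≠ a := by
      by_contra h
      push Not at h
      exact hx1 (Subtype.ext (Equiv.ext h))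
    have hat : a ∉ t := fun h => ha (hxt a h)
    have hxat : x • a ∉ t := fun h => ha (smul_left_cancel x (hxt _ h))
    have hc : (insert a (insert (x • a) t)).card = j + 5 := by
      rw [Finset.card_insert_of_notMem (by simp [hat, ha.symm]),
        Finset.card_insert_of_notMem hxat, ht']
    obtain ⟨u, rfl⟩ := (CL.Perm.homog_iff (G := G)).1 hh _ s hc hs
    refine hnt (CL.Perm.multi_of_homog hh hs (CL.Perm.exists_smul_eq_perm_of_forall_swap
      (hA.forall_swap (a := u • a) (b := u • x • a) (g := u * x * u⁻¹)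
        (Finset.smul_mem_smul_finset (by simp)) (Finset.smul_mem_smul_finset (by simp))
        (fun h => ha (smul_left_cancel u h).symm) fun y hy => ?_)))
    obtain ⟨z, hz, rfl⟩ := Finset.mem_smul_finset.1 hy
    rw [mul_smul, mul_smul, inv_smul_smul]
    rcases Finset.mem_insert.1 hz with rfl | hz
    · rw [Equiv.swap_apply_left]
    rcases Finset.mem_insert.1 hz with rfl | hz
    · rw [Equiv.swap_apply_right, CL.Perm.invol_smul_smul hx]
    rw [hxt z hz, Equiv.swap_apply_of_ne_of_ne]
    · exact fun h => hat (smul_left_cancel u h ▸ hz)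
    · exact fun h => hxat (smul_left_cancel u h ▸ hz)
  have hodd3 : CL.Perm.OddStab G α (j + 3) := by
    intro g t ht' hg
    by_contra hev
    obtain ⟨r, hr⟩ := Nat.not_odd_iff_even.1 hev
    have h1 := key (g ^ r) (by rw [← pow_add, ← hr, pow_orderOf_eq_one]) t ht'
      (CL.Perm.mem_fixing.1 (Subgroup.pow_mem _ (CL.Perm.mem_fixing.2 hg) r))
    have hpos := orderOf_pos g
    have := Nat.le_of_dvd (by omega) (orderOf_dvd_of_pow_eq_one h1)
    omega
  have hodd : CL.Perm.OddStab G α (j + 4) := fun g t ht' hg => by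
    obtain ⟨r, hrt, hr⟩ := Finset.exists_subset_card_eq (s := t) (n := j + 3) (by omega)
    exact hodd3 g r hr fun a ha => hg a (hrt ha)
  obtain ⟨t, -, ht'⟩ := Finset.exists_subset_card_eq (s := (Finset.univ : Finset α))
    (n := j + 4) (by rw [Finset.card_univ]; omega)
  obtain ⟨a, ha, b, hb, hab⟩ := Finset.one_lt_card.1 (show 1 < t.card by omega)
  obtain ⟨x, hx, hxt⟩ := CL.Perm.exists_invol_eq ht hodd ht' (Equiv.swap a b) (fun c hc =>
    ⟨by rw [Equiv.swap_apply_def]; split_ifs <;> assumption, Equiv.swap_apply_self _ _ _⟩)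
  have hx1 : x ≠ 1 := by
    rintro rfl
    have := hxt a ha
    rw [one_smul, Equiv.swap_apply_left] at this
    exact hab this
  have h2 : ((t.erase a).erase b).card = j + 2 := by
    rw [Finset.card_erase_of_mem (Finset.mem_erase.2 ⟨hab.symm, hb⟩),
      Finset.card_erase_of_mem ha, ht']
    rfl
  have hfix : ∀ c ∈ (t.erase a).erase b, x • c = c := fun c hc => by
    simp only [Finset.mem_erase] at hc
    rw [hxt c hc.2.2, Equiv.swap_apply_of_ne_of_ne hc.2.1 hc.1]
  have hmod := CL.Perm.ncard_modEq_of_mul_self hx (Set.univ : Set α) (fun _ _ => trivial)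
  have he : {c | x • c = c} = (((t.erase a).erase b : Finset α) : Set α) :=
    Set.ext fun c => ⟨hodd3.mem_of_fixed hx hx1 h2 hfix, hfix c⟩
  rw [Set.univ_inter, he, Set.ncard_coe_finset, h2, Set.ncard_univ, Nat.card_eq_fintype_card]
    at hmod
  have := CL.Perm.card_le_of_oddStab_even ht hodd (by
    rw [Nat.even_iff]
    unfold Nat.ModEq at hmod
    omega)
  omega

end Cfsg.Agent.S0748
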