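import Cfsg.Statements.S0759
import Cfsg.Agent.QuadF.Disc

set_option autoImplicit false
open Cfsg

namespace Cfsg.Agent.S0759

/-- Type of the orthonormal form: over a finite field of odd order q and for m ≥ 1, the quadratic form Σ_(i<2m) x_i² on F^(2m) admits an m-dimensional subspace on which it vanishes identically if and only if it is not the case that q ≡ 3 (mod 4) and m is odd. -/
theorem result {F : Type*} [Field F] [Fintype F] (h2 : (2 : F) ≠ 0) (m : ℕ) (hm : 1 ≤ m) : (∃ W : Submodule F (Fin (2 * m) → F), Module.finrank F W = m ∧ ∀ w ∈ W, ∑ i, w i ^ 2 = 0) ↔ ¬ (Fintype.card F % 4 = 3 ∧ Odd m) := by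
  classical
  let Q : QuadraticForm F (Fin (2 * m) → F) := QuadraticMap.weightedSumSquares F (fun _ => (1 : F))
  have hQ : ∀ w, Q w = ∑ i, w i ^ 2 := fun w => by
    simp [Q, QuadraticMap.weightedSumSquares_apply, pow_two]
  have h1 : ∀ i, Q (Pi.basisFun F (Fin (2 * m)) i) = 1 := fun i => by
    simp [hQ, Pi.single_apply]
  have horth : ∀ i j, i ≠ j → QuadraticMap.polar Q (Pi.basisFun F (Fin (2 * m)) i)
      (Pi.basisFun F (Fin (2 * m)) j) = 0 := by
    intro i j h
    rw [QuadraticMap.polar, h1, h1, hQ]
    have : ∀ k, (Pi.basisFun F (Fin (2 * m)) i + Pi.basisFun F (Fin (2 * m)) j) k ^ 2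
        = (if k = i then 1 else 0) + (if k = j then 1 else 0) := by
      intro k
      by_cases hi : k = i
      · subst hi
        simp [h]
      · by_cases hj : k = j
        · subst hj
          simp [hi]
        · simp [hi, hj]
    simp only [this, Finset.sum_add_distrib]
    simp
  have hnd := CL.QuadF.nondeg_of_orth_basis h2 _ horth (fun i => by rw [h1]; exact one_ne_zero)
  have := CL.QuadF.plus_iff_isSquare h2 hnd (m := m) (by simp) _ horth
  simp only [h1, Finset.prod_const_one, mul_one] at this
  simp only [hQ] at this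
  rw [this, CL.QuadF.isSquare_neg_one_pow_iff]

end Cfsg.Agent.S0759
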