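import Cfsg.Statements.S0763
import Cfsg.Agent.QuadF.Index

set_option autoImplicit false
open Cfsg

namespace Cfsg.Agent.S0763

/-- Binary quadratic forms in characteristic two over a finite field: if Q is a quadratic form on a 2-dimensional space whose polar form is non-degenerate, then either there are vectors v, w with Q v = Q w = 0 and polar value 1 (Q is xy in these coordinates), or there are v, w and μ with Q v = 1, Q w = μ, polar value 1 and x² + x + μ without roots in F (Q is x² + xy + μy²). -/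
theorem result {F V : Type*} [Field F] [Finite F] [CharP F 2] [AddCommGroup V] [Module F V] (Q : QuadraticForm F V) (h2 : Module.finrank F V = 2) (hQ : (QuadraticMap.polarBilin Q).Nondegenerate) : (∃ v w : V, LinearIndependent F ![v, w] ∧ Q v = 0 ∧ Q w = 0 ∧ QuadraticMap.polar Q v w = 1) ∨ (∃ (v w : V) (μ : F), LinearIndependent F ![v, w] ∧ (∀ x : F, x ^ 2 + x + μ ≠ 0) ∧ Q v = 1 ∧ Q w = μ ∧ QuadraticMap.polar Q v w = 1) := by
  have : FiniteDimensional F V := Module.finite_of_finrank_pos (by omega)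
  have h20 : (2 : F) = 0 := CharTwo.two_eq_zero
  by_cases hs : ∃ v : V, v ≠ 0 ∧ Q v = 0
  · obtain ⟨v, hv, hv0⟩ := hs
    obtain ⟨w, hw0, hvw⟩ := CL.QuadF.exists_hyperbolic_partner hQ hv hv0
    exact Or.inl ⟨v, w, CL.QuadF.linearIndependent_pair_of_gram
      (CL.QuadF.gram_hyperbolic_ne_zero hv0 (by rw [hvw]; exact one_ne_zero)), hv0, hw0, hvw⟩
  · right
    obtain ⟨v, hv⟩ := CL.QuadF.exists_map_eq hQ h2.ge 1
    have hv0 : v ≠ 0 := CL.QuadF.ne_zero_of_map_ne_zero (by rw [hv]; exact one_ne_zero)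
    obtain ⟨w, hw, -⟩ := CL.QuadF.exists_polar_vec hQ (H := ⊥) (x := v) (by simpa using hv0)
    rw [QuadraticMap.polar_comm] at hw
    have hli : LinearIndependent F ![v, w] := CL.QuadF.linearIndependent_pair_of_gram (Q := Q)
      (by rw [CL.QuadF.polar_self_eq, h20, hw]; simp)
    refine ⟨v, w, Q w, hli, fun x hx => hs ⟨x • v + (1 : F) • w, fun h0 => ?_, ?_⟩, hv, rfl, hw⟩
    · exact one_ne_zero (LinearIndependent.pair_iff.1 hli x 1 h0).2
    · rw [one_smul, CL.QuadF.map_add_polar, CL.QuadF.map_smul_sq, QuadraticMap.polar_smul_left, hv,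
        hw, ← hx]
      simp only [smul_eq_mul]
      ring

end Cfsg.Agent.S0763
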