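import Cfsg.Statements.S0766
import Cfsg.Agent.Symp.Matrix
import Cfsg.Agent.S0765

set_option autoImplicit false
open Cfsg

namespace Cfsg.Agent.S0766

/-- The subgroup generated by the symplectic transvections acts transitively on ordered pairs (u, v) with f(u, v) = 1. -/
theorem result {F : Type*} [Field F] (m : ℕ) (u v u' v' : Fin m ⊕ Fin m → F) (h : Cfsg.sympForm m F u v = 1) (h' : Cfsg.sympForm m F u' v' = 1) : ∃ A ∈ Subgroup.closure {A : Matrix.symplecticGroup (Fin m) F | ∃ (w : Fin m ⊕ Fin m → F) (c : F), (A : Matrix (Fin m ⊕ Fin m) (Fin m ⊕ Fin m) F) = Cfsg.sympTransvection m w c}, (A : Matrix (Fin m ⊕ Fin m) (Fin m ⊕ Fin m) F).mulVec u = u' ∧ (A : Matrix (Fin m ⊕ Fin m) (Fin m ⊕ Fin m) F).mulVec v = v' := by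
  rw [Cfsg.Agent.S0765.result m]
  rw [CL.Symp.sympForm_eq] at h h'
  have key : ∀ u v : Fin m ⊕ Fin m → F, CL.Symp.form (Fin m) F u v = 1 →
      CL.Symp.IsHyp (CL.Symp.form (Fin m) F) (fun _ : Unit => u) (fun _ : Unit => v) :=
    fun u v h => ⟨fun _ _ => by simp [h], fun _ _ => CL.Symp.form_isAlt.self_eq_zero _,
      fun _ _ => CL.Symp.form_isAlt.self_eq_zero _⟩
  obtain ⟨A, hA⟩ := CL.Symp.sp_witt_family (key u v h).linearIndependent
    (key u' v' h').linearIndependent (by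
      rintro (i | i) (j | j)
      · simp [CL.Symp.form_isAlt.self_eq_zero]
      · simp [h, h']
      · simp [CL.Symp.alt_swap CL.Symp.form_isAlt v' u', CL.Symp.alt_swap CL.Symp.form_isAlt v u,
          h, h']
      · simp [CL.Symp.form_isAlt.self_eq_zero])
  exact ⟨A, trivial, hA (Sum.inl ()), hA (Sum.inr ())⟩

end Cfsg.Agent.S0766
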