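import Cfsg.Agent.Base
import Cfsg.Statements.S0770

set_option autoImplicit false
open Cfsg

namespace Cfsg.Agent.S0770

/-- For a field with at least 3 elements, an invertible matrix normalises the subgroup of invertible diagonal matrices of GL_n if and only if it is monomial (exactly one non-zero entry in each row). -/
theorem result {F : Type*} [Field F] (hF : ∃ a : F, a ≠ 0 ∧ a ≠ 1) (n : ℕ) (g : Matrix.GeneralLinearGroup (Fin n) F) : g ∈ Subgroup.normalizer ((Units.map (Matrix.diagonalRingHom (Fin n) F).toMonoidHom).range : Subgroup (Matrix.GeneralLinearGroup (Fin n) F)) ↔ ∀ i : Fin n, ∃! j : Fin n, (g : Matrix (Fin n) (Fin n) F) i j ≠ 0 := by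
  classical
  obtain ⟨a, ha0, ha1⟩ := hF
  set D : Subgroup (Matrix.GeneralLinearGroup (Fin n) F) :=
    (Units.map (Matrix.diagonalRingHom (Fin n) F).toMonoidHom).range with hD
  have hmem : ∀ h : Matrix.GeneralLinearGroup (Fin n) F, h ∈ D ↔
      (h : Matrix (Fin n) (Fin n) F).IsDiag := by
    intro h
    constructor
    · rintro ⟨u, rfl⟩
      exact Matrix.isDiag_diagonal _
    · intro hd
      have h1 : Matrix.diagonal (Matrix.diag (h : Matrix (Fin n) (Fin n) F)) = h :=
        hd.diagonal_diag
      have h2 : IsUnit (Matrix.diag (h : Matrix (Fin n) (Fin n) F)) := by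
        rw [← Matrix.isUnit_diagonal, h1]; exact h.isUnit
      obtain ⟨u, hu⟩ := h2
      refine ⟨u, Units.ext ?_⟩
      rw [← h1, ← hu]; rfl
  -- rows of invertible matrices are non-zero
  have hrow : ∀ (g : Matrix.GeneralLinearGroup (Fin n) F) (i : Fin n),
      ∃ j, (g : Matrix (Fin n) (Fin n) F) i j ≠ 0 := by
    intro g i
    by_contra! h
    exact g.det_ne_zero (Matrix.det_eq_zero_of_row_eq_zero i h)
  have hcol : ∀ (g : Matrix.GeneralLinearGroup (Fin n) F) (j : Fin n),
      ∃ i, (g : Matrix (Fin n) (Fin n) F) i j ≠ 0 := by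
    intro g j
    by_contra! h
    exact g.det_ne_zero (Matrix.det_eq_zero_of_column_eq_zero j h)
  constructor
  · intro hg i
    obtain ⟨j, hj⟩ := hrow g i
    refine ⟨j, hj, fun j' hj' => ?_⟩
    by_contra hne
    let d : Matrix.GeneralLinearGroup (Fin n) F :=
      Matrix.GeneralLinearGroup.mkOfDetNeZero (Matrix.diagonal fun l => if l = j then a else 1)
        (by simp [Matrix.det_diagonal, ha0])
    have hd : d ∈ D := (hmem d).2 (Matrix.isDiag_diagonal _)
    have h1 := (hmem _).1 ((Subgroup.mem_normalizer_iff.1 hg d).1 hd)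
    set e := g * d * g⁻¹ with he
    have h2 : (g : Matrix (Fin n) (Fin n) F) * d = e * g := by
      rw [← Units.val_mul, ← Units.val_mul, he]; simp
    have hdv : (d : Matrix (Fin n) (Fin n) F) = Matrix.diagonal fun l => if l = j then a else 1 :=
      rfl
    rw [← h1.diagonal_diag, hdv] at h2
    have h3 := congrFun (congrFun h2 i) j
    have h4 := congrFun (congrFun h2 i) j'
    simp only [Matrix.mul_diagonal, Matrix.diagonal_mul, if_true, if_neg hne] at h3 h4
    apply ha1
    have h5 : a = Matrix.diag (e : Matrix (Fin n) (Fin n) F) i :=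
      mul_left_cancel₀ hj (by rw [h3, mul_comm])
    have h6 : 1 = Matrix.diag (e : Matrix (Fin n) (Fin n) F) i :=
      mul_left_cancel₀ hj' (by rw [h4, mul_comm])
    rw [h5, h6]
  · intro hg
    choose σ hσ hσu using hg
    have hσs : Function.Surjective σ := by
      intro j
      obtain ⟨i, hi⟩ := hcol g j
      exact ⟨i, (hσu i j hi).symm⟩
    have hσi : Function.Injective σ := Finite.injective_iff_surjective.2 hσs
    let s : Fin n ≃ Fin n := Equiv.ofBijective σ ⟨hσi, hσs⟩
    have key : ∀ d : Fin n → F, (g : Matrix (Fin n) (Fin n) F) * Matrix.diagonal d =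
        Matrix.diagonal (fun i => d (s i)) * g := by
      intro d
      ext i j
      simp only [Matrix.mul_diagonal, Matrix.diagonal_mul]
      by_cases h : (g : Matrix (Fin n) (Fin n) F) i j = 0
      · simp [h]
      · rw [hσu i j h, mul_comm]; rfl
    rw [Subgroup.mem_normalizer_iff]
    intro h
    rw [hmem, hmem]
    constructor
    · intro hd
      have : ((g * h * g⁻¹ : Matrix.GeneralLinearGroup (Fin n) F) : Matrix (Fin n) (Fin n) F) =
          Matrix.diagonal (fun i => Matrix.diag (h : Matrix (Fin n) (Fin n) F) (s i)) := by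
        rw [Units.val_mul, Units.val_mul, ← hd.diagonal_diag, key, mul_assoc, ← Units.val_mul]
        simp
      rw [this]
      exact Matrix.isDiag_diagonal _
    · intro hd
      set e := g * h * g⁻¹ with he
      have h1 : h = g⁻¹ * (e * g) := by rw [he]; group
      have h2 := key (fun j => Matrix.diag (e : Matrix (Fin n) (Fin n) F) (s.symm j))
      simp only [Equiv.symm_apply_apply] at h2
      have h3 : (h : Matrix (Fin n) (Fin n) F) =
          Matrix.diagonal (fun j => Matrix.diag (e : Matrix (Fin n) (Fin n) F) (s.symm j)) := by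
        rw [h1, Units.val_mul, Units.val_mul, ← hd.diagonal_diag]
        simp only [Matrix.diag_diagonal]
        rw [← h2, ← mul_assoc, ← Units.val_mul]
        simp
      rw [h3]
      exact Matrix.isDiag_diagonal _

end Cfsg.Agent.S0770
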