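import Cfsg.Statements.S0778
import Cfsg.Agent.Symp.Matrix

set_option autoImplicit false
open Cfsg

namespace Cfsg.Agent.S0778

open Matrix

/-- The block-diagonal embedding of `GL_m` in `Sp_2m`. -/
noncomputable def emb (F : Type*) [Field F] (m : ℕ) :
    Matrix.GeneralLinearGroup (Fin m) F →* Matrix.symplecticGroup (Fin m) F where
  toFun g := ⟨Matrix.fromBlocks g.1 0 0 (g⁻¹).1ᵀ, by
    rw [SymplecticGroup.fromBlocks_mem_iff]
    refine ⟨by simp, by simp, ?_⟩
    rw [← Matrix.transpose_mul, ← Units.val_mul, inv_mul_cancel]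
    simp⟩
  map_one' := by
    apply Subtype.ext
    simp
  map_mul' g h := by
    apply Subtype.ext
    simp [Matrix.fromBlocks_multiply]

theorem emb_val (F : Type*) [Field F] (m : ℕ) (g : Matrix.GeneralLinearGroup (Fin m) F) :
    (emb F m g).1 = Matrix.fromBlocks g.1 0 0 (g⁻¹).1ᵀ := rfl

theorem emb_injective (F : Type*) [Field F] (m : ℕ) : Function.Injective (emb F m) := by
  intro g h e
  have := congrArg Subtype.val e
  rw [emb_val, emb_val, Matrix.fromBlocks_inj] at this
  exact Units.ext this.1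

theorem mulVec_eq_zero_iff {F : Type*} [Field F] {m : ℕ} {A B : Matrix (Fin m) (Fin m) F}
    (h : B * A = 1) (v : Fin m → F) : (∀ i, v i = 0) ↔ ∀ i, (A *ᵥ v) i = 0 := by
  constructor
  · intro hv
    have : v = 0 := funext hv
    simp [this]
  · intro hv
    have h0 : A *ᵥ v = 0 := funext hv
    have : v = 0 := by
      rw [← Matrix.one_mulVec v, ← h, ← Matrix.mulVec_mulVec, h0, Matrix.mulVec_zero]
    simp [this]

/-- The elements of Sp_2m(F) stabilising both W = ⟨e_1..e_m⟩ and U = ⟨f_1..f_m⟩ form a subgroup isomorphic to GL_m(F) (block-diagonal matrices diag(X, X^(−ᵀ)) up to the sign convention of J), for m ≥ 1 or m = 0 alike. -/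
theorem result {F : Type*} [Field F] (m : ℕ) : Nonempty (↥(Cfsg.stabilizing (Cfsg.spToMat m F) {v : Fin m ⊕ Fin m → F | ∀ i : Fin m, v (Sum.inr i) = 0} ⊓ Cfsg.stabilizing (Cfsg.spToMat m F) {v : Fin m ⊕ Fin m → F | ∀ i : Fin m, v (Sum.inl i) = 0}) ≃* Matrix.GeneralLinearGroup (Fin m) F) := by
  have hrange : (emb F m).range = (Cfsg.stabilizing (Cfsg.spToMat m F) {v : Fin m ⊕ Fin m → F | ∀ i : Fin m, v (Sum.inr i) = 0} ⊓ Cfsg.stabilizing (Cfsg.spToMat m F) {v : Fin m ⊕ Fin m → F | ∀ i : Fin m, v (Sum.inl i) = 0}) := by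
    apply le_antisymm
    · rintro _ ⟨g, rfl⟩
      constructor
      · intro v
        change (∀ i, v (Sum.inr i) = 0) ↔ ∀ i, ((emb F m g).1 *ᵥ v) (Sum.inr i) = 0
        simp only [emb_val, Matrix.fromBlocks_mulVec, Sum.elim_inr, Matrix.zero_mulVec, zero_add]
        exact mulVec_eq_zero_iff (B := g.1ᵀ)
          (by rw [← Matrix.transpose_mul, ← Units.val_mul, inv_mul_cancel]; simp) (v ∘ Sum.inr)
      · intro v
        change (∀ i, v (Sum.inl i) = 0) ↔ ∀ i, ((emb F m g).1 *ᵥ v) (Sum.inl i) = 0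
        simp only [emb_val, Matrix.fromBlocks_mulVec, Sum.elim_inl, Matrix.zero_mulVec, add_zero]
        exact mulVec_eq_zero_iff (B := (g⁻¹).1)
          (by rw [← Units.val_mul, inv_mul_cancel]; simp) (v ∘ Sum.inl)
    · rintro A ⟨h1, h2⟩
      have hc : A.1.toBlocks₂₁ = 0 := by
        ext i j
        have := (h1 (Pi.single (Sum.inl j) 1)).1 (by intro i; simp) i
        simpa [Matrix.toBlocks₂₁] using this
      have hb : A.1.toBlocks₁₂ = 0 := by
        ext i j
        have := (h2 (Pi.single (Sum.inr j) 1)).1 (by intro i; simp) i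
        simpa [Matrix.toBlocks₁₂] using this
      have hA := A.2
      rw [← A.1.fromBlocks_toBlocks, hc, hb, SymplecticGroup.fromBlocks_mem_iff] at hA
      have h3 : A.1.toBlocks₂₂ᵀ * A.1.toBlocks₁₁ = 1 := by
        have := congrArg Matrix.transpose hA.2.2
        simpa using this
      refine ⟨⟨A.1.toBlocks₁₁, A.1.toBlocks₂₂ᵀ, mul_eq_one_comm.1 h3, h3⟩, ?_⟩
      apply Subtype.ext
      rw [emb_val]
      conv_rhs => rw [← A.1.fromBlocks_toBlocks, hc, hb]
      rfl
  exact ⟨(MulEquiv.subgroupCongr hrange.symm).trans (MonoidHom.ofInjective (emb_injective F m)).symm⟩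

end Cfsg.Agent.S0778
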