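import Cfsg.Statements.S0774
import Cfsg.Agent.Symp.Count
import Cfsg.Agent.S0778
import Cfsg.Agent.S0769

set_option autoImplicit false
open Cfsg

namespace Cfsg.Agent.S0774

open Matrix

variable {F : Type*} [Field F] {m : ℕ}

/-- The standard Lagrangian subspace. -/
def lag (F : Type*) [Field F] (m : ℕ) : Submodule F (Fin m ⊕ Fin m → F) where
  carrier := {v | ∀ i, v (Sum.inr i) = 0}
  add_mem' ha hb := fun i => by simp [ha i, hb i]
  zero_mem' := fun _ => rfl
  smul_mem' c x hx := fun i => by simp [hx i]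

/-- Coordinates on the standard Lagrangian. -/
def lagEquiv (F : Type*) [Field F] (m : ℕ) : lag F m ≃ₗ[F] (Fin m → F) where
  toFun v := fun i => v.1 (Sum.inl i)
  map_add' _ _ := rfl
  map_smul' _ _ := rfl
  invFun w := ⟨Sum.elim w 0, fun _ => rfl⟩
  left_inv v := by
    ext (i | i)
    · rfl
    · exact (v.2 i).symm
  right_inv _ := rfl

theorem lag_le (F : Type*) [Field F] (m : ℕ) :
    lag F m ≤ (CL.Symp.form (Fin m) F).orthogonal (lag F m) := by
  intro u hu v hv
  change CL.Symp.form (Fin m) F v u = 0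
  rw [CL.Symp.form_eq_sum]
  simp [hu _, hv _]

/-- The flag stabiliser. -/
abbrev bor (F : Type*) [Field F] (m : ℕ) : Subgroup (Matrix.symplecticGroup (Fin m) F) :=
  ⨅ k : Fin m, Cfsg.stabilizing (Cfsg.spToMat m F) {v : Fin m ⊕ Fin m → F | (∀ i : Fin m, (k : ℕ) < (i : ℕ) → v (Sum.inl i) = 0) ∧ ∀ i : Fin m, v (Sum.inr i) = 0}

/-- Block upper triangular shape. -/
def Shape (A : Matrix (Fin m ⊕ Fin m) (Fin m ⊕ Fin m) F) : Prop :=
  (∀ i j : Fin m, A (Sum.inr i) (Sum.inl j) = 0) ∧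
    ∀ i j : Fin m, j < i → A (Sum.inl i) (Sum.inl j) = 0

theorem shape_of_mem {A : Matrix.symplecticGroup (Fin m) F} (hA : A ∈ bor F m) : Shape A.1 := by
  have key : ∀ j : Fin m, (∀ i : Fin m, (j : ℕ) < i → A.1 (Sum.inl i) (Sum.inl j) = 0) ∧
      ∀ i, A.1 (Sum.inr i) (Sum.inl j) = 0 := fun j => by
    have := (Subgroup.mem_iInf.1 hA j (Pi.single (Sum.inl j) 1)).1 ⟨fun i hi => by
      have : i ≠ j := fun h => by simp [h] at hi
      simp [this], fun i => by simp⟩
    simpa using this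
  exact ⟨fun i j => (key j).2 i, fun i j h => (key j).1 i h⟩

theorem maps_of_shape {A : Matrix (Fin m ⊕ Fin m) (Fin m ⊕ Fin m) F} (hA : Shape A) (k : Fin m)
    (v : Fin m ⊕ Fin m → F) (hv : (∀ i : Fin m, (k : ℕ) < (i : ℕ) → v (Sum.inl i) = 0) ∧
      ∀ i : Fin m, v (Sum.inr i) = 0) :
    (∀ i : Fin m, (k : ℕ) < (i : ℕ) → (A *ᵥ v) (Sum.inl i) = 0) ∧
      ∀ i : Fin m, (A *ᵥ v) (Sum.inr i) = 0 := by
  constructor
  · intro i hi
    simp only [Matrix.mulVec, dotProduct, Fintype.sum_sum_type, hv.2, mul_zero,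
      Finset.sum_const_zero, add_zero]
    refine Finset.sum_eq_zero fun j _ => ?_
    by_cases hj : (k : ℕ) < j
    · simp [hv.1 j hj]
    · rw [hA.2 i j (by rw [Fin.lt_def]; omega), zero_mul]
  · intro i
    simp [Matrix.mulVec, dotProduct, Fintype.sum_sum_type, hv.2, hA.1]

theorem mem_of_shape {A : Matrix.symplecticGroup (Fin m) F} (h : Shape A.1) (h' : Shape (A⁻¹).1) :
    A ∈ bor F m := by
  refine Subgroup.mem_iInf.2 fun k v => ⟨maps_of_shape h k v, fun hv => ?_⟩
  have := maps_of_shape h' k _ hv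
  erw [CL.Symp.sp_inv_mulVec_mulVec] at this
  exact this

/-- The upper left block. -/
def blk (F : Type*) [Field F] (m : ℕ) : bor F m →* Matrix (Fin m) (Fin m) F where
  toFun A := A.1.1.toBlocks₁₁
  map_one' := by
    ext i j
    simp [Matrix.toBlocks₁₁, Matrix.one_apply]
  map_mul' A B := by
    ext i j
    simp [Matrix.toBlocks₁₁, Matrix.mul_apply, Fintype.sum_sum_type, (shape_of_mem B.2).1]

theorem card_ker [Finite F] :
    Nat.card (blk F m).toHomUnits.ker = Nat.card F ^ (m * (m + 1) / 2) := by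
  have hA := CL.Symp.form_isAlt (l := Fin m) (F := F)
  have hB := CL.Symp.form_nondegenerate (l := Fin m) (F := F)
  have hr : Module.finrank F (lag F m) = m := by rw [(lagEquiv F m).finrank_eq]; simp
  have h := CL.Symp.card_fix_isotropic hB hA 0 m (lag F m) (lag_le F m) hr (by simp [two_mul])
  simp only [mul_zero, add_zero, ne_eq, OfNat.ofNat_ne_zero, not_false_eq_true, zero_pow,
    Finset.range_zero, Finset.prod_empty, mul_one] at h
  rw [← h]
  have hfix : ∀ A : Matrix.symplecticGroup (Fin m) F,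
      CL.Symp.spEquiv (Fin m) F A ∈ CL.Symp.fix (CL.Symp.form (Fin m) F) (lag F m) →
      ∀ (i : Fin m ⊕ Fin m) (j : Fin m), A.1 i (Sum.inl j) =
        (Pi.single (Sum.inl j) 1 : Fin m ⊕ Fin m → F) i := by
    intro A h i j
    have := congrFun (h (Pi.single (Sum.inl j) 1) (fun i => by simp)) i
    simpa using this
  have hsh : ∀ A : Matrix.symplecticGroup (Fin m) F,
      CL.Symp.spEquiv (Fin m) F A ∈ CL.Symp.fix (CL.Symp.form (Fin m) F) (lag F m) →
      Shape A.1 := fun A h =>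
    ⟨fun i j => by simp [hfix A h], fun i j hij => by simp [hfix A h, hij.ne']⟩
  refine Nat.card_congr (Equiv.ofBijective
    (fun A => ⟨CL.Symp.spEquiv (Fin m) F A.1.1, fun v hv => ?_⟩) ⟨fun A B e => ?_, fun g => ?_⟩)
  · have h1 : A.1.1.1.toBlocks₁₁ = 1 := congrArg Units.val A.2
    have h2 : ∀ i j, A.1.1.1 (Sum.inl i) (Sum.inl j) = if i = j then 1 else 0 := fun i j =>
      (congrFun (congrFun h1 i) j).trans (Matrix.one_apply)
    rw [CL.Symp.spEquiv_apply]
    ext (i | i)
    · simp [Matrix.mulVec, dotProduct, Fintype.sum_sum_type, hv _, h2]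
    · simp [Matrix.mulVec, dotProduct, Fintype.sum_sum_type, hv _, (shape_of_mem A.1.2).1]
  · exact Subtype.ext (Subtype.ext ((CL.Symp.spEquiv (Fin m) F).injective (congrArg Subtype.val e)))
  · obtain ⟨A, hA⟩ := (CL.Symp.spEquiv (Fin m) F).surjective g.1
    have h1 : CL.Symp.spEquiv (Fin m) F A ∈ CL.Symp.fix (CL.Symp.form (Fin m) F) (lag F m) :=
      hA ▸ g.2
    refine ⟨⟨⟨A, mem_of_shape (hsh A h1) (hsh A⁻¹ (by rw [map_inv]; exact inv_mem h1))⟩, ?_⟩,
      Subtype.ext hA⟩
    apply Units.ext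
    ext i j
    have := hfix A h1 (Sum.inl i) j
    simpa [blk, Matrix.toBlocks₁₁, Pi.single_apply, Matrix.one_apply] using this

theorem mem_range_iff (g : Matrix.GeneralLinearGroup (Fin m) F) :
    g ∈ (blk F m).toHomUnits.range ↔ ∀ i j : Fin m, j < i → g.1 i j = 0 := by
  constructor
  · rintro ⟨A, rfl⟩
    exact (shape_of_mem A.2).2
  · intro h
    have h' : ∀ i j : Fin m, j < i → (g⁻¹).1 i j = 0 := by
      have h1 : g.1.BlockTriangular id := fun i j hij => h i j hij
      have := g.invertible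
      have h2 := Matrix.blockTriangular_inv_of_blockTriangular h1
      intro i j hij
      simpa using h2 hij
    refine ⟨⟨S0778.emb F m g, mem_of_shape ⟨fun i j => rfl, h⟩ ?_⟩, Units.ext rfl⟩
    rw [← map_inv]
    exact ⟨fun i j => rfl, h'⟩

/-- Borel subgroup of the symplectic group: the elements of Sp_2m(q) stabilising each of the totally isotropic coordinate subspaces ⟨e_0, ..., e_k⟩ (k < m) form a subgroup of order q^(m²) (q − 1)^m. -/
theorem result {F : Type*} [Field F] [Fintype F] {q : ℕ} (hF : Fintype.card F = q) (m : ℕ) : Nat.card ↥(⨅ k : Fin m, Cfsg.stabilizing (Cfsg.spToMat m F) {v : Fin m ⊕ Fin m → F | (∀ i : Fin m, (k : ℕ) < (i : ℕ) → v (Sum.inl i) = 0) ∧ ∀ i : Fin m, v (Sum.inr i) = 0}) = q ^ (m ^ 2) * (q - 1) ^ m := by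
  change Nat.card (bor F m) = _
  rw [← (blk F m).toHomUnits.ker.card_mul_index, Subgroup.index_ker, card_ker]
  have e : (blk F m).toHomUnits.range ≃ {g : Matrix.GeneralLinearGroup (Fin m) F //
      ∀ i j : Fin m, i < j → (g : Matrix (Fin m) (Fin m) F) i j = 0} :=
    { toFun := fun g => ⟨⟨g.1.1ᵀ, (g.1⁻¹).1ᵀ,
          by rw [← Matrix.transpose_mul, ← Units.val_mul, inv_mul_cancel]; simp,
          by rw [← Matrix.transpose_mul, ← Units.val_mul, mul_inv_cancel]; simp⟩,
        fun i j h => (mem_range_iff g.1).1 g.2 j i h⟩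
      invFun := fun g => ⟨⟨g.1.1ᵀ, (g.1⁻¹).1ᵀ,
          by rw [← Matrix.transpose_mul, ← Units.val_mul, inv_mul_cancel]; simp,
          by rw [← Matrix.transpose_mul, ← Units.val_mul, mul_inv_cancel]; simp⟩,
        (mem_range_iff _).2 fun i j h => g.2 j i h⟩
      left_inv := fun g => Subtype.ext (Units.ext rfl)
      right_inv := fun g => Subtype.ext (Units.ext rfl) }
  rw [Nat.card_congr e, S0769.result hF m, Nat.card_eq_fintype_card, hF, ← mul_assoc, ← pow_add]
  congr 2
  rcases m with _ | m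
  · simp
  · have h1 : (m + 1) * (m + 1 + 1) = (m + 1) * m + (m + 1) * 2 := by ring
    obtain ⟨c, hc⟩ : Even (m * (m + 1)) := Nat.even_mul_succ_self m
    have h2 : (m + 1) ^ 2 = m * (m + 1) + (m + 1) := by ring
    rw [h1, h2, Nat.add_sub_cancel, mul_comm (m + 1) m, hc]
    omega

end Cfsg.Agent.S0774
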