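import Cfsg.Statements.S0775
import Cfsg.Agent.Symp.Count

set_option autoImplicit false
open Cfsg

namespace Cfsg.Agent.S0775

/-- Maximal parabolics of the symplectic group: if W is a k-dimensional subspace of F^(2m) on which the symplectic form vanishes identically, its stabiliser in Sp_2m(q) has order q^(k(k+1)/2 + 2k(m−k)) · |Sp_(2m−2k)(q)| · |GL_k(q)|. -/
theorem result {F : Type*} [Field F] [Fintype F] {q : ℕ} (hF : Fintype.card F = q) (m k : ℕ) (hk : k ≤ m) (W : Submodule F (Fin m ⊕ Fin m → F)) (hWk : Module.finrank F W = k) (hW : ∀ u ∈ W, ∀ v ∈ W, Cfsg.sympForm m F u v = 0) : Nat.card ↥(Cfsg.stabilizing (Cfsg.spToMat m F) (W : Set (Fin m ⊕ Fin m → F))) = q ^ (k * (k + 1) / 2 + 2 * k * (m - k)) * (q ^ ((m - k) ^ 2) * ∏ i ∈ Finset.range (m - k), (q ^ (2 * (i + 1)) - 1)) * ∏ i : Fin k, (q ^ k - q ^ (i : ℕ)) := by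
  have hA := CL.Symp.form_isAlt (l := Fin m) (F := F)
  have hB := CL.Symp.form_nondegenerate (l := Fin m) (F := F)
  have hS : W ≤ (CL.Symp.form (Fin m) F).orthogonal W := fun u hu v hv => by
    have := hW v hv u hu
    rwa [CL.Symp.sympForm_eq] at this
  rw [Nat.card_congr (CL.Symp.stabilizingEquiv W).toEquiv, CL.Symp.card_stab hB hA,
    CL.Symp.card_fix_isotropic hB hA (m - k) k W hS hWk (by
      simp only [Module.finrank_fintype_fun_eq_card, Fintype.card_sum, Fintype.card_fin]
      omega),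
    CL.Symp.isom_restrict_eq_top hS, Subgroup.card_top, CL.Symp.card_linearEquiv k hWk,
    Nat.card_eq_fintype_card, hF, pow_add]
  ring

end Cfsg.Agent.S0775
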