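import Cfsg.Statements.S0776
import Cfsg.Agent.Symp.Prod

set_option autoImplicit false
open Cfsg

namespace Cfsg.Agent.S0776

/-- If W ≤ F^(2m) is a 2k-dimensional subspace on which the symplectic form is non-degenerate, then the stabiliser of W in Sp_2m(F) is isomorphic to Sp_2k(F) × Sp_(2m−2k)(F). -/
theorem result {F : Type*} [Field F] (m k : ℕ) (hk : k ≤ m) (W : Submodule F (Fin m ⊕ Fin m → F)) (hWk : Module.finrank F W = 2 * k) (hW : ∀ u ∈ W, (∀ v ∈ W, Cfsg.sympForm m F u v = 0) → u = 0) : Nonempty (↥(Cfsg.stabilizing (Cfsg.spToMat m F) (W : Set (Fin m ⊕ Fin m → F))) ≃* Matrix.symplecticGroup (Fin k) F × Matrix.symplecticGroup (Fin (m - k)) F) := by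
  have hA := CL.Symp.form_isAlt (l := Fin m) (F := F)
  have hB := CL.Symp.form_nondegenerate (l := Fin m) (F := F)
  have hd : Disjoint W ((CL.Symp.form (Fin m) F).orthogonal W) := by
    rw [Submodule.disjoint_def]
    intro u hu hu'
    refine hW u hu fun v hv => ?_
    rw [CL.Symp.sympForm_eq]
    exact hA.isRefl _ _ (hu' v hv)
  have hc := (LinearMap.BilinForm.isCompl_orthogonal_iff_disjoint hA.isRefl).2 hd
  have hW1 := LinearMap.BilinForm.nondegenerate_restrict_of_disjoint_orthogonal _ hA.isRefl hd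
  have hW2 : ((CL.Symp.form (Fin m) F).restrict
      ((CL.Symp.form (Fin m) F).orthogonal W)).Nondegenerate := by
    apply LinearMap.BilinForm.nondegenerate_restrict_of_disjoint_orthogonal _ hA.isRefl
    rw [LinearMap.BilinForm.orthogonal_orthogonal hB hA.isRefl]
    exact hd.symm
  obtain ⟨e₀⟩ := CL.Symp.nonempty_stab_equiv_prod hA.isRefl hc
  obtain ⟨e₁⟩ := CL.Symp.nonempty_isom_equiv_sp (Fin k) hW1 (CL.Symp.restrict_isAlt hA W)
    (by simpa using hWk)
  obtain ⟨e₂⟩ := CL.Symp.nonempty_isom_equiv_sp (Fin (m - k)) hW2 (CL.Symp.restrict_isAlt hA _)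
    (by
      rw [LinearMap.BilinForm.finrank_orthogonal hB, hWk]
      simp only [Module.finrank_fintype_fun_eq_card, Fintype.card_sum, Fintype.card_fin]
      omega)
  exact ⟨(CL.Symp.stabilizingEquiv W).trans (e₀.trans (e₁.prodCongr e₂))⟩

end Cfsg.Agent.S0776
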