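import Cfsg.Statements.S0777
import Cfsg.Agent.Symp.Matrix

set_option autoImplicit false
open Cfsg

namespace Cfsg.Agent.S0777

open Matrix

variable {F : Type*} [Field F] {m : ℕ}

/-- The diagonal torus. -/
abbrev tor (F : Type*) [Field F] (m : ℕ) : Subgroup (Matrix.symplecticGroup (Fin m) F) :=
  ⨅ i : Fin m ⊕ Fin m, Cfsg.stabilizing (Cfsg.spToMat m F) ((Submodule.span F {(Pi.single i (1 : F) : Fin m ⊕ Fin m → F)} : Submodule F (Fin m ⊕ Fin m → F)) : Set (Fin m ⊕ Fin m → F))

theorem mem_span_single {ι : Type*} [DecidableEq ι] (j : ι) (v : ι → F) :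
    v ∈ Submodule.span F {(Pi.single j 1 : ι → F)} ↔ ∀ i, i ≠ j → v i = 0 := by
  rw [Submodule.mem_span_singleton]
  constructor
  · rintro ⟨c, rfl⟩ i hi
    simp [hi]
  · intro h
    refine ⟨v j, ?_⟩
    ext i
    by_cases hi : i = j
    · simp [hi]
    · simp [hi, h i hi]

theorem col_ne_zero (A : Matrix.symplecticGroup (Fin m) F) (j : Fin m ⊕ Fin m) :
    ∃ i, A.1 i j ≠ 0 := by
  by_contra h
  push Not at h
  have h1 : A.1 *ᵥ Pi.single j 1 = 0 := by ext i; simp [h]
  have := CL.Symp.sp_inv_mulVec_mulVec A (Pi.single j 1)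
  rw [h1, Matrix.mulVec_zero] at this
  simpa using congrFun this j

theorem mem_tor_iff (A : Matrix.symplecticGroup (Fin m) F) :
    A ∈ tor F m ↔ ∀ i j, i ≠ j → A.1 i j = 0 := by
  rw [Subgroup.mem_iInf]
  constructor
  · intro h i j hij
    have := (h j (Pi.single j 1)).1 (Submodule.mem_span_singleton_self _)
    simpa using (mem_span_single j _).1 this i hij
  · intro h j v
    change v ∈ Submodule.span F _ ↔ A.1 *ᵥ v ∈ Submodule.span F _
    rw [mem_span_single, mem_span_single]
    refine forall₂_congr fun i _ => ?_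
    have h1 : (A.1 *ᵥ v) i = A.1 i i * v i := by
      rw [Matrix.mulVec, dotProduct, Finset.sum_eq_single i]
      · intro k _ hk
        rw [h i k hk.symm, zero_mul]
      · simp
    have h2 : A.1 i i ≠ 0 := by
      obtain ⟨k, hk⟩ := col_ne_zero A i
      have : k = i := by
        by_contra hne
        exact hk (h k i hne)
      rwa [this] at hk
    simp [h1, h2]

/-- The torus element with given entries. -/
def torElt (c : Fin m → Fˣ) : Matrix.symplecticGroup (Fin m) F :=
  ⟨Matrix.diagonal (Sum.elim (fun i => (c i : F)) (fun i => ((c i)⁻¹ : Fˣ))), by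
    rw [← Matrix.fromBlocks_diagonal, SymplecticGroup.fromBlocks_mem_iff]
    simp⟩

theorem torElt_mem (c : Fin m → Fˣ) : torElt c ∈ tor F m :=
  (mem_tor_iff _).2 fun _ _ h => Matrix.diagonal_apply_ne _ h

theorem card_tor [Fintype F] : Nat.card (tor F m) = (Fintype.card F - 1) ^ m := by
  classical
  have : Nat.card (Fin m → Fˣ) = (Fintype.card F - 1) ^ m := by
    simp [Nat.card_eq_fintype_card, Fintype.card_units]
  rw [← this]
  symm
  refine Nat.card_congr (Equiv.ofBijective (fun c => ⟨torElt c, torElt_mem c⟩) ⟨?_, ?_⟩)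
  · intro c d h
    ext i
    have := congrArg (fun A : tor F m => A.1.1 (Sum.inl i) (Sum.inl i)) h
    simpa [torElt] using this
  · rintro ⟨A, hA⟩
    rw [mem_tor_iff] at hA
    have h1 : ∀ i, A.1 (Sum.inl i) (Sum.inl i) * A.1 (Sum.inr i) (Sum.inr i) = 1 := fun i => by
      have := CL.Symp.sp_form A (Pi.single (Sum.inr i) 1) (Pi.single (Sum.inl i) 1)
      rw [CL.Symp.form_single_inr, CL.Symp.form_eq_sum, Finset.sum_eq_single i] at this
      · simpa [hA, mul_comm] using this
      · intro k _ hk
        simp [hA, hk]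
      · simp
    refine ⟨fun i => Units.mkOfMulEqOne _ _ (h1 i), Subtype.ext (Subtype.ext ?_)⟩
    ext i j
    by_cases hij : i = j
    · subst hij
      rcases i with i | i
      · simp [torElt]
      · simp only [torElt, Matrix.diagonal_apply_eq, Sum.elim_inr]
        rfl
    · rw [hA i j hij]
      exact Matrix.diagonal_apply_ne _ hij

/-- Monomial matrices. -/
def Mono (A : Matrix.symplecticGroup (Fin m) F) : Prop :=
  ∀ j, ∃ k, ∀ i, i ≠ k → A.1 i j = 0

theorem exists_torElt_ne [Fintype F] (hq : 4 ≤ Fintype.card F) {i k : Fin m ⊕ Fin m} (h : i ≠ k) :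
    ∃ c : Fin m → Fˣ, (torElt c).1 i i ≠ (torElt c).1 k k := by
  classical
  obtain ⟨a, ha1, ha2⟩ : ∃ a : Fˣ, a ≠ 1 ∧ a ≠ -1 := by
    by_contra hc
    push Not at hc
    have : (Finset.univ : Finset Fˣ) ⊆ {1, -1} := fun a _ => by
      by_cases h1 : a = 1
      · simp [h1]
      · simp [hc a h1]
    have h2 := (Finset.card_le_card this).trans Finset.card_le_two
    rw [Finset.card_univ, Fintype.card_units] at h2
    omega
  have h1 : (a : F) ≠ 1 := fun e => ha1 (Units.ext e)
  have h2 : (a : F) ≠ (a : F)⁻¹ := fun e => by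
    have : (a : F) * a = 1 := by
      nth_rewrite 2 [e]
      exact mul_inv_cancel₀ a.ne_zero
    rcases mul_self_eq_one_iff.1 this with h | h
    · exact h1 h
    · exact ha2 (Units.ext h)
  rcases i with i | i <;> rcases k with k | k
  · have : k ≠ i := fun e => h (by rw [e])
    exact ⟨Pi.mulSingle i a, by simpa [torElt, this] using h1⟩
  · refine ⟨Pi.mulSingle i a, ?_⟩
    by_cases e : k = i
    · simpa [torElt, e] using h2
    · simpa [torElt, e] using h1
  · refine ⟨Pi.mulSingle k a, ?_⟩
    by_cases e : i = k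
    · simpa [torElt, e] using h2.symm
    · simpa [torElt, e] using h1.symm
  · have : k ≠ i := fun e => h (by rw [e])
    exact ⟨Pi.mulSingle i a, by simpa [torElt, this] using h1⟩

theorem mono_of_mem [Fintype F] (hq : 4 ≤ Fintype.card F) {A : Matrix.symplecticGroup (Fin m) F}
    (hA : A ∈ Subgroup.normalizer (tor F m : Set (Matrix.symplecticGroup (Fin m) F))) :
    Mono A := by
  intro j
  obtain ⟨k, hk⟩ := col_ne_zero A j
  refine ⟨k, fun i hi => ?_⟩
  by_contra hne
  obtain ⟨c, hc⟩ := exists_torElt_ne (F := F) hq hi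
  have h1 : A⁻¹ * torElt c * A ∈ tor F m := by
    have := (Subgroup.mem_normalizer_iff''.1 hA (torElt c)).1 (torElt_mem c)
    exact this
  rw [mem_tor_iff] at h1
  have h2 : (torElt c * A).1 = (A * (A⁻¹ * torElt c * A)).1 := by
    congr 1; group
  have h3 : ∀ i, (torElt c).1 i i * A.1 i j = A.1 i j * (A⁻¹ * torElt c * A).1 j j := fun i => by
    have := congrFun (congrFun h2 i) j
    rw [Submonoid.coe_mul, Submonoid.coe_mul _ A, Matrix.mul_apply, Matrix.mul_apply,
      Finset.sum_eq_single i, Finset.sum_eq_single j] at this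
    · exact this
    · intro b _ hb
      rw [h1 b j hb, mul_zero]
    · simp
    · intro b _ hb
      rw [(mem_tor_iff _).1 (torElt_mem c) i b hb.symm, zero_mul]
    · simp
  apply hc
  have e1 := h3 i
  have e2 := h3 k
  rw [mul_comm] at e1 e2
  rw [mul_left_cancel₀ hne e1, mul_left_cancel₀ hk e2]

theorem conj_mem_of_mono {A : Matrix.symplecticGroup (Fin m) F} (hA : Mono A)
    {t : Matrix.symplecticGroup (Fin m) F} (ht : t ∈ tor F m) : A⁻¹ * t * A ∈ tor F m := by
  rw [mem_tor_iff] at ht ⊢
  intro i j hij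
  obtain ⟨k, hk⟩ := hA j
  have h1 : (t * A).1 *ᵥ Pi.single j 1 = t.1 k k • (A.1 *ᵥ Pi.single j 1) := by
    ext a
    simp only [Submonoid.coe_mul, Matrix.mulVec_single_one, Matrix.col_apply, Pi.smul_apply,
      smul_eq_mul, Matrix.mul_apply]
    rw [Finset.sum_eq_single a]
    · by_cases hak : a = k
      · rw [hak]
      · simp [hk a hak]
    · intro b _ hb
      rw [ht a b hb.symm, zero_mul]
    · simp
  have h2 : (A⁻¹ * t * A).1 *ᵥ Pi.single j 1 = t.1 k k • Pi.single j 1 := by
    rw [mul_assoc, Submonoid.coe_mul, ← Matrix.mulVec_mulVec, h1, Matrix.mulVec_smul,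
      CL.Symp.sp_inv_mulVec_mulVec]
  simpa [hij] using congrFun h2 i

theorem mem_of_mono [Finite F] {A : Matrix.symplecticGroup (Fin m) F} (hA : Mono A) :
    A ∈ Subgroup.normalizer (tor F m : Set (Matrix.symplecticGroup (Fin m) F)) := by
  rw [← inv_mem_iff]
  apply Subgroup.mem_normalizer_fintype
  intro t ht
  simpa using conj_mem_of_mono hA ht

/-- The row of the non-zero entry in column `j`. -/
noncomputable def idx (A : Matrix.symplecticGroup (Fin m) F) (j : Fin m ⊕ Fin m) : Fin m ⊕ Fin m :=
  (col_ne_zero A j).choose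

theorem idx_ne (A : Matrix.symplecticGroup (Fin m) F) (j : Fin m ⊕ Fin m) : A.1 (idx A j) j ≠ 0 :=
  (col_ne_zero A j).choose_spec

theorem eq_idx {A : Matrix.symplecticGroup (Fin m) F} (hA : Mono A) {i j : Fin m ⊕ Fin m}
    (h : A.1 i j ≠ 0) : idx A j = i := by
  obtain ⟨k, hk⟩ := hA j
  have h1 : i = k := by by_contra hne; exact h (hk i hne)
  have h2 : idx A j = k := by by_contra hne; exact idx_ne A j (hk _ hne)
  rw [h1, h2]

/-- The permutation of the coordinate lines. -/
noncomputable def perm [Fintype F] (hq : 4 ≤ Fintype.card F) (m : ℕ) :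
    Subgroup.normalizer (tor F m : Set (Matrix.symplecticGroup (Fin m) F)) →*
      Equiv.Perm (Fin m ⊕ Fin m) :=
  MonoidHom.toHomPerm
    { toFun := fun A => idx A.1
      map_one' := by
        funext j
        change idx 1 j = j
        exact eq_idx (mono_of_mem hq (one_mem _)) (by simp)
      map_mul' := fun A B => by
        funext j
        refine eq_idx (mono_of_mem hq (A * B).2) ?_
        change (A.1.1 * B.1.1) (idx A.1 (idx B.1 j)) j ≠ 0
        rw [Matrix.mul_apply, Finset.sum_eq_single (idx B.1 j)]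
        · exact mul_ne_zero (idx_ne _ _) (idx_ne _ _)
        · intro b _ hb
          have : B.1.1 b j = 0 := by
            by_contra hne
            exact hb (eq_idx (mono_of_mem hq B.2) hne).symm
          rw [this, mul_zero]
        · simp }

theorem perm_apply [Fintype F] (hq : 4 ≤ Fintype.card F)
    (A : Subgroup.normalizer (tor F m : Set (Matrix.symplecticGroup (Fin m) F))) (j : Fin m ⊕ Fin m) :
    perm hq m A j = idx A.1 j := rfl

theorem ker_perm [Fintype F] (hq : 4 ≤ Fintype.card F) :
    (perm hq m).ker = (tor F m).subgroupOf _ := by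
  ext A
  rw [MonoidHom.mem_ker, Subgroup.mem_subgroupOf, mem_tor_iff]
  constructor
  · intro h i j hij
    by_contra hne
    have h1 : idx A.1 j = j := congrArg (fun σ : Equiv.Perm _ => σ j) h
    exact hij ((eq_idx (mono_of_mem hq A.2) hne).symm.trans h1)
  · intro h
    ext j : 1
    by_contra hne
    exact idx_ne A.1 j (h _ _ hne)

theorem form_single_single (i j : Fin m ⊕ Fin m) :
    CL.Symp.form (Fin m) F (Pi.single i 1) (Pi.single j 1) ≠ 0 ↔ j = i.swap := by
  rcases i with i | i <;> rcases j with j | j <;>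
    simp [CL.Symp.form_single_inl, CL.Symp.form_single_inr, Pi.single_apply, eq_comm]

theorem range_perm [Fintype F] (hq : 4 ≤ Fintype.card F) :
    (perm hq m).range = Subgroup.centralizer {Equiv.sumComm (Fin m) (Fin m)} := by
  ext σ
  rw [Subgroup.mem_centralizer_singleton_iff]
  constructor
  · rintro ⟨A, rfl⟩
    ext j : 1
    have hm := mono_of_mem hq A.2
    have hcol : ∀ j, A.1.1 *ᵥ Pi.single j 1 = A.1.1 (idx A.1 j) j • Pi.single (idx A.1 j) 1 := by
      intro j
      ext i
      by_cases hi : i = idx A.1 j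
      · simp [hi]
      · have : A.1.1 i j = 0 := by
          by_contra hne
          exact hi (eq_idx hm hne).symm
        simp [hi, this]
    have h1 := (form_single_single (F := F) j j.swap).2 rfl
    rw [← CL.Symp.sp_form A.1, hcol, hcol] at h1
    simp only [map_smul, LinearMap.smul_apply, smul_eq_mul, ne_eq, mul_eq_zero, not_or] at h1
    exact (form_single_single _ _).1 h1.2.2
  · intro hσ
    have hσ' : ∀ j, σ j.swap = (σ j).swap := fun j => congrArg (fun τ : Equiv.Perm _ => τ j) hσ
    let e : Fin m ⊕ Fin m → (Fin m ⊕ Fin m → F) := fun i => Pi.single i 1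
    have he : LinearIndependent F e := by
      have := (Pi.basisFun F (Fin m ⊕ Fin m)).linearIndependent
      rwa [show ⇑(Pi.basisFun F (Fin m ⊕ Fin m)) = e from funext fun i => by simp [e]] at this
    let B := CL.Symp.form (Fin m) F
    have hB : ∀ i j, B (e i) (e j) ≠ 0 ↔ j = i.swap := form_single_single
    have hB0 : ∀ i j, j ≠ i.swap → B (e i) (e j) = 0 := fun i j h => by
      by_contra hne; exact h ((hB i j).1 hne)
    have hne : ∀ i, B (e (σ (Sum.inr i))) (e (σ (Sum.inl i))) ≠ 0 := fun i =>
      (hB _ _).2 (hσ' (Sum.inr i))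
    let c : Fin m ⊕ Fin m → Fˣ := Sum.elim (fun i => (Units.mk0 _ (hne i))⁻¹) (fun _ => 1)
    have hy : LinearIndependent F (c • (e ∘ σ)) := (he.comp σ σ.injective).units_smul c
    obtain ⟨A, hA⟩ := CL.Symp.sp_witt_family he hy (by
      intro i j
      by_cases hij : j = i.swap
      · subst hij
        rcases i with i | i
        · have := hne i
          rw [CL.Symp.alt_swap CL.Symp.form_isAlt, CL.Symp.alt_swap CL.Symp.form_isAlt (e _)]
          congr 1
          simp only [Pi.smul_apply', Function.comp_apply, Units.smul_def, map_smul,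
            LinearMap.smul_apply, smul_eq_mul, Sum.swap_inl]
          rw [show CL.Symp.form (Fin m) F (e (Sum.inr i)) (e (Sum.inl i)) = 1 by
            simp [e, CL.Symp.form_single_inr]]
          simp only [c, Sum.elim_inl, Sum.elim_inr, Units.val_inv_eq_inv_val, Units.val_mk0,
            Units.val_one, one_mul]
          exact inv_mul_cancel₀ this
        · have := hne i
          simp only [Pi.smul_apply', Function.comp_apply, Units.smul_def, map_smul,
            LinearMap.smul_apply, smul_eq_mul, Sum.swap_inr]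
          rw [show CL.Symp.form (Fin m) F (e (Sum.inr i)) (e (Sum.inl i)) = 1 by
            simp [e, CL.Symp.form_single_inr]]
          simp only [c, Sum.elim_inl, Sum.elim_inr, Units.val_inv_eq_inv_val, Units.val_mk0,
            Units.val_one, one_mul]
          exact inv_mul_cancel₀ this
      · have h1 : B (e (σ i)) (e (σ j)) = 0 := hB0 _ _ fun h => hij (σ.injective (by rw [h, hσ']))
        have h2 : B (e i) (e j) = 0 := hB0 _ _ hij
        simp only [Pi.smul_apply', Function.comp_apply, Units.smul_def, map_smul,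
          LinearMap.smul_apply, smul_eq_mul]
        change _ * (_ * B _ _) = B _ _
        rw [h1, h2, mul_zero, mul_zero])
    have hA' : ∀ i j, A.1 i j = if i = σ j then (c j : F) else 0 := fun i j => by
      have := congrFun (hA j) i
      simpa [e, Units.smul_def, Pi.single_apply] using this
    have hm : Mono A := fun j => ⟨σ j, fun i hi => by simp [hA', hi]⟩
    refine ⟨⟨A, mem_of_mono hm⟩, ?_⟩
    ext j : 1
    exact eq_idx hm (by simp [hA'])

theorem card_centralizer_swap (m : ℕ) :
    Nat.card (Subgroup.centralizer {Equiv.sumComm (Fin m) (Fin m)}) = 2 ^ m * m.factorial := by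
  have h2 : (Equiv.sumComm (Fin m) (Fin m) : Equiv.Perm _) ^ 2 = 1 := by
    ext x; simp [pow_two]
  have hs : Equiv.Perm.support (Equiv.sumComm (Fin m) (Fin m)) = Finset.univ := by
    ext x; rcases x with x | x <;> simp
  have h3 := Equiv.Perm.cycleType_of_pow_prime_eq_one h2
  have h4 := Equiv.Perm.sum_cycleType (Equiv.sumComm (Fin m) (Fin m))
  rw [hs] at h4
  have h5 : (Equiv.Perm.cycleType (Equiv.sumComm (Fin m) (Fin m))).card = m := by
    rw [h3] at h4
    simp at h4
    omega
  rw [h5] at h3
  rw [Equiv.Perm.nat_card_centralizer, h4, h3]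
  rcases m with _ | m
  · simp
  · rw [Multiset.toFinset_replicate, if_neg (Nat.succ_ne_zero m), Finset.prod_singleton,
      Multiset.count_replicate_self]
    simp [pow_succ, mul_comm]

/-- Weyl group of type C_m: for q ≥ 4 the diagonal matrices of Sp_2m(q) form a torus T ≅ (C_(q−1))^m (the elements stabilising every coordinate axis), and the normaliser of T in Sp_2m(q) has order 2^m · m! · (q − 1)^m. -/
theorem result {F : Type*} [Field F] [Fintype F] {q : ℕ} (hF : Fintype.card F = q) (hq : 4 ≤ q) (m : ℕ) : Nat.card ↥(Subgroup.normalizer (⨅ i : Fin m ⊕ Fin m, Cfsg.stabilizing (Cfsg.spToMat m F) ((Submodule.span F {(Pi.single i (1 : F) : Fin m ⊕ Fin m → F)} : Submodule F (Fin m ⊕ Fin m → F)) : Set (Fin m ⊕ Fin m → F)) : Set (Matrix.symplecticGroup (Fin m) F))) = 2 ^ m * Nat.factorial m * (q - 1) ^ m := by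
  subst hF
  have := card_tor (F := F) (m := m)
  rw [Set.iInf_eq_iInter, ← Subgroup.coe_iInf]
  change Nat.card (Subgroup.normalizer (tor F m : Set (Matrix.symplecticGroup (Fin m) F))) = _
  rw [← (perm hq m).ker.card_mul_index, Subgroup.index_ker, range_perm, card_centralizer_swap,
    ker_perm, Nat.card_congr (Subgroup.subgroupOfEquivOfLe Subgroup.le_normalizer).toEquiv, this]
  ring

end Cfsg.Agent.S0777
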