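import Cfsg.Agent.Base
import Cfsg.Statements.S0779
import Cfsg.Agent.Unitary.Simple

set_option autoImplicit false
open Cfsg

namespace Cfsg.Agent.S0779

/-- Unitary transvections: let |F| = q², h the standard Hermitian form Σ x_i y_i^q and v ≠ 0 with h(v, v) = 0. The linear map x ↦ x + c h(x, v) v is an isometry of h if and only if c = 0 or c^(q−1) = −1. -/
theorem result {F : Type*} [Field F] [Fintype F] {q : ℕ} (hF : Fintype.card F = q ^ 2) (n : ℕ) (v : Fin n → F) (hv : v ≠ 0) (hv0 : Cfsg.hermForm n F q v v = 0) (c : F) : (∀ x y : Fin n → F, Cfsg.hermForm n F q ((Cfsg.unitaryTransvection n q v c).mulVec x) ((Cfsg.unitaryTransvection n q v c).mulVec y) = Cfsg.hermForm n F q x y) ↔ (c = 0 ∨ c ^ (q - 1) = -1) := by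
  obtain ⟨σ, hσ⟩ := CL.Herm.exists_conj' hF
  have H := hσ.isHerm_std (Fin n)
  rw [hσ.hermForm_eq] at hv0
  have key : ∀ x, (Cfsg.unitaryTransvection n q v c).mulVec x =
      x + (c * CL.Herm.stdForm σ (Fin n) v x) • v := fun x => by
    ext i
    simp [Cfsg.unitaryTransvection, Matrix.add_mulVec, Matrix.smul_mulVec, Matrix.vecMulVec_mulVec,
      CL.Herm.stdForm_apply, hσ.apply, dotProduct, mul_comm, mul_left_comm]
  have h2 := hσ.two_le
  have hc : c + σ c = c * (1 + c ^ (q - 1)) := by
    rw [hσ.apply, mul_add, mul_one, ← pow_succ']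
    congr 2
    omega
  have hiff : (c = 0 ∨ c ^ (q - 1) = -1) ↔ c + σ c = 0 := by
    rw [hc, mul_eq_zero, add_eq_zero_iff_neg_eq, eq_comm (a := (-1 : F))]
  rw [hiff]
  simp only [hσ.hermForm_eq, key]
  obtain ⟨g, hg⟩ := CL.Herm.exists_isTv' hv0 c
  constructor
  · intro h
    obtain ⟨s, -, -, hs⟩ := H.exists_partner' H.nd_top trivial hv hv0
    have := h s s
    simp only [map_add, LinearMap.add_apply, LinearMap.map_smulₛₗ, LinearMap.smul_apply,
      smul_eq_mul, RingHom.id_apply, hv0, hs, H.eq_one_symm hs, mul_one] at this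
    linear_combination this
  · intro h x y
    rw [← hg, ← hg]
    exact hg.mem_UG H (by rw [h, hv0]; simp) y x

end Cfsg.Agent.S0779
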