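import Cfsg.Agent.Base
import Cfsg.Statements.S0781
import Cfsg.Agent.Unitary.Simple

set_option autoImplicit false
open Cfsg

namespace Cfsg.Agent.S0781

/-- In SU_n(q) with n ≥ 4, or n = 3 and q > 2, every element whose matrix is a unitary transvection x ↦ x + c h(x, v) v (v isotropic) is a commutator ⁅B, C⁆ of two elements of SU_n(q). -/
theorem result {F : Type*} [Field F] [Fintype F] {q : ℕ} (hF : Fintype.card F = q ^ 2) (n : ℕ) (hn : 4 ≤ n ∨ (n = 3 ∧ 3 ≤ q)) (A : ↥(Cfsg.SU n F q)) (v : Fin n → F) (c : F) (hv0 : Cfsg.hermForm n F q v v = 0) (hA : ((A : Matrix.SpecialLinearGroup (Fin n) F) : Matrix (Fin n) (Fin n) F) = Cfsg.unitaryTransvection n q v c) : A ∈ commutatorSet ↥(Cfsg.SU n F q) := by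
  obtain ⟨σ, hσ⟩ := CL.Herm.exists_conj' hF
  have H := hσ.isHerm_std (Fin n)
  rw [hσ.hermForm_eq] at hv0
  have ht := (hσ.isTv_suHom_iff A v c).2 hA
  by_cases hv : v = 0
  · have : A = 1 := CL.Herm.suHom_injective (by
      rw [map_one]
      exact ht.unique (hv ▸ CL.Herm.IsTv.one' c))
    rw [this]
    exact one_mem_commutatorSet _
  have hc : c + σ c = 0 := by
    obtain ⟨s, -, -, hs⟩ := H.exists_partner' H.nd_top trivial hv hv0
    have := CL.Herm.SUG_le_UG (hσ.suEquiv n A).2 s s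
    rw [hσ.coe_suEquiv, ht s] at this
    simp only [map_add, LinearMap.add_apply, LinearMap.map_smulₛₗ, LinearMap.smul_apply,
      smul_eq_mul, RingHom.id_apply, hv0, hs, H.eq_one_symm hs, mul_one] at this
    linear_combination this
  obtain ⟨a, ha, b, hb, h⟩ := H.exists_commutator_eq (by simp; omega) hv0 hc ht
  obtain ⟨a', ha'⟩ := (hσ.suEquiv n).surjective ⟨a, ha⟩
  obtain ⟨b', hb'⟩ := (hσ.suEquiv n).surjective ⟨b, hb⟩
  have ha'' : CL.Herm.suHom n F q a' = a := congrArg Subtype.val ha'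
  have hb'' : CL.Herm.suHom n F q b' = b := congrArg Subtype.val hb'
  refine ⟨a', b', CL.Herm.suHom_injective ?_⟩
  rw [h, commutatorElement_def, map_mul, map_mul, map_mul, map_inv, map_inv, ha'', hb'']

end Cfsg.Agent.S0781
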