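import Cfsg.Agent.Base
import Cfsg.Statements.S0782
import Cfsg.Agent.Unitary.Stab

set_option autoImplicit false
open Cfsg

namespace Cfsg.Agent.S0782

/-- Maximal parabolics of SU_n(q): if W is a k-dimensional subspace of F^n (n ≥ 1, |F| = q²) on which the Hermitian form vanishes, then (q + 1) times the order of its stabiliser in SU_n(q) equals q^(k(2n−3k)) · |GL_k(q²)| · |GU_(n−2k)(q)|, where |GU_m(q)| = q^(m(m−1)/2) Π_(i=1..m) (q^i − (−1)^i). -/
theorem result {F : Type*} [Field F] [Fintype F] {q : ℕ} (hF : Fintype.card F = q ^ 2) (n k : ℕ) (hn : 1 ≤ n) (hk : 2 * k ≤ n) (W : Submodule F (Fin n → F)) (hWk : Module.finrank F W = k) (hW : ∀ u ∈ W, ∀ v ∈ W, Cfsg.hermForm n F q u v = 0) : (q + 1) * Nat.card ↥((Cfsg.stabilizing (Cfsg.slToMat n F) (W : Set (Fin n → F))).subgroupOf (Cfsg.SU n F q)) = q ^ (k * (2 * n - 3 * k)) * (∏ i : Fin k, ((q ^ 2) ^ k - (q ^ 2) ^ (i : ℕ))) * (q ^ ((n - 2 * k) * ((n - 2 * k) - 1) /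 2) * ∏ i ∈ Finset.range (n - 2 * k), (if Even i then q ^ (i + 1) + 1 else q ^ (i + 1) - 1)) := by
  obtain ⟨σ, hσ⟩ := CL.Herm.exists_conj' hF
  have H := hσ.isHerm_std (Fin n)
  have hW' : W ≤ CL.Herm.perp (CL.Herm.stdForm σ (Fin n)) W := fun v hv u hu => by
    rw [← hσ.hermForm_eq]
    exact hW v hv u hu
  have h1 := H.card_inf_SUG (G := CL.Herm.UG _ ⊓ CL.Herm.stabG W) inf_le_left
    fun d hd => H.exists_stabG_det (by simpa using hn) hW' hd
  rw [← inf_assoc, inf_eq_left.2 CL.Herm.SUG_le_UG, ← hσ.map_suHom_stabilizing,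
    Subgroup.card_map_of_injective CL.Herm.suHom_injective,
    H.card_UG_inf_stabG_iso hW' hWk (m := n - 2 * k) (by simp; omega)] at h1
  rw [h1, show 2 * n - 3 * k = k + 2 * (n - 2 * k) by omega]
  rfl

end Cfsg.Agent.S0782
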