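import Cfsg.Agent.Base
import Cfsg.Statements.S0783
import Cfsg.Agent.Unitary.Simple

set_option autoImplicit false
open Cfsg

namespace Cfsg.Agent.S0783

/-- PGU_n(q)/PSU_n(q) is cyclic of order (n, q+1): for n ≥ 2 and |F| = q² there is a surjective homomorphism from GU_n(q) onto the cyclic group of order gcd(n, q + 1) whose kernel is generated by the determinant-one elements together with the centre. -/
theorem result {F : Type*} [Field F] [Fintype F] {q : ℕ} (hF : Fintype.card F = q ^ 2) (n : ℕ) (hn : 2 ≤ n) : ∃ φ : ↥(Cfsg.GU n F q) →* Multiplicative (ZMod (Nat.gcd n (q + 1))), Function.Surjective φ ∧ φ.ker = (Matrix.GeneralLinearGroup.det : Matrix.GeneralLinearGroup (Fin n) F →* Fˣ).ker.subgroupOf (Cfsg.GU n F q) ⊔ Subgroup.center ↥(Cfsg.GU n F q) := by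
  obtain ⟨σ, hσ⟩ := CL.Herm.exists_conj' hF
  have H := hσ.isHerm_std (Fin n)
  have hn' : 2 ≤ Module.finrank F (Fin n → F) := by simpa using hn
  have : Nontrivial (Fin n → F) := Module.nontrivial_of_finrank_pos (R := F) (by omega)
  let e := hσ.guEquiv n
  have hdet : ∀ g : Cfsg.GU n F q, CL.Herm.detU _ (e g) = Matrix.GeneralLinearGroup.det g.1 :=
    fun g => CL.Herm.linearEquiv_det_glEquiv g.1
  have hcen : ∀ g : Cfsg.GU n F q, g ∈ Subgroup.center (Cfsg.GU n F q) ↔
      ∃ u : Fˣ, (e g : (Fin n → F) ≃ₗ[F] (Fin n → F)) = CL.Herm.scalarAut _ u := fun g => by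
    rw [← H.mem_center_UG hn', Subgroup.mem_center_iff, Subgroup.mem_center_iff]
    refine ⟨fun h y => ?_, fun h y => e.injective (by simpa using h (e y))⟩
    obtain ⟨y, rfl⟩ := e.surjective y
    rw [← map_mul, ← map_mul, h]
  have hr := H.range_detU (by omega)
  let C := rootsOfUnity (q + 1) F
  let D : Cfsg.GU n F q →* C := ((CL.Herm.detU _).comp e.toMonoidHom).codRestrict C
    fun g => by
      rw [show C = _ from hr.symm]
      exact ⟨e g, rfl⟩
  have hD : Function.Surjective D := fun c => by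
    obtain ⟨g, hg⟩ : c.1 ∈ (CL.Herm.detU (CL.Herm.stdForm σ (Fin n))).range := hr ▸ c.2
    obtain ⟨g, rfl⟩ := e.surjective g
    exact ⟨g, Subtype.ext hg⟩
  let P := (powMonoidHom n : C →* C).range
  have hcard : Nat.card (C ⧸ P) = Nat.card (Multiplicative (ZMod (Nat.gcd n (q + 1)))) := by
    rw [← Subgroup.index_eq_card, IsCyclic.index_powMonoidHom_range,
      hσ.card_rootsOfUnity_of_dvd (dvd_refl _), Nat.card_congr Multiplicative.toAdd, Nat.card_zmod,
      Nat.gcd_comm]
  have : IsCyclic (C ⧸ P) := isCyclic_of_surjective _ (QuotientGroup.mk'_surjective P)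
  let i := mulEquivOfCyclicCardEq hcard
  refine ⟨i.toMonoidHom.comp ((QuotientGroup.mk' P).comp D),
    i.surjective.comp ((QuotientGroup.mk'_surjective P).comp hD), ?_⟩
  ext g
  have h1 : g ∈ (i.toMonoidHom.comp ((QuotientGroup.mk' P).comp D)).ker ↔ D g ∈ P := by
    simp [MonoidHom.mem_ker]
  rw [h1, sup_comm, Subgroup.mem_sup_of_normal_left]
  constructor
  · rintro ⟨a, ha⟩
    obtain ⟨z, hz⟩ := e.surjective ⟨CL.Herm.scalarAut _ a.1, H.scalarAut_mem_UG.2 a.2⟩
    refine ⟨z, (hcen z).2 ⟨a.1, congrArg Subtype.val hz⟩, z⁻¹ * g, ?_, by simp⟩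
    have h2 : CL.Herm.detU _ (e g) = a.1 ^ n := (congrArg Subtype.val ha).symm
    change Matrix.GeneralLinearGroup.det (z⁻¹ * g).1 = 1
    rw [← hdet, map_mul, map_mul, map_inv, map_inv, h2, hz, CL.Herm.detU_apply,
      CL.Herm.det_scalarAut]
    simp
  · rintro ⟨z, hz, s, hs, rfl⟩
    obtain ⟨u, hu⟩ := (hcen z).1 hz
    refine ⟨⟨u, H.scalarAut_mem_UG.1 (hu ▸ (e z).2)⟩, Subtype.ext ?_⟩
    have h2 : Matrix.GeneralLinearGroup.det s.1 = 1 := hs
    change u ^ n = CL.Herm.detU _ (e (z * s))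
    rw [map_mul, map_mul, hdet s, h2, CL.Herm.detU_apply, hu, CL.Herm.det_scalarAut]
    simp

end Cfsg.Agent.S0783
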