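import Cfsg.Statements.S0785
import Cfsg.Agent.Orth.Bridge

set_option autoImplicit false
open Cfsg

namespace Cfsg.Agent.S0785

/-- det(I) = {±1}: for a quadratic form on F^n whose polar form is non-degenerate, every element of the isometry group has determinant 1 or −1, and as soon as Q takes a non-zero value some isometry has determinant −1. -/
theorem result {F : Type*} [Field F] {n : ℕ} (Q : QuadraticForm F (Fin n → F)) (hQ : (QuadraticMap.polarBilin Q).Nondegenerate) : (∀ g : ↥(Cfsg.isometryGroup F ⇑Q), ((g : Matrix.GeneralLinearGroup (Fin n) F) : Matrix (Fin n) (Fin n) F).det = 1 ∨ ((g : Matrix.GeneralLinearGroup (Fin n) F) : Matrix (Fin n) (Fin n) F).det = -1) ∧ ((∃ v, Q v ≠ 0) → ∃ g : ↥(Cfsg.isometryGroup F ⇑Q), ((g : Matrix.GeneralLinearGroup (Fin n) F) : Matrix (Fin n) (Fin n) F).det = -1) := by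
  refine ⟨fun g => ?_, fun ⟨v, hv⟩ => ⟨(CL.Orth.bridge Q).symm (CL.Orth.refl Q v), ?_⟩⟩
  · rw [← CL.Orth.det_bridge]
    set k := CL.Orth.bridge Q g
    have hB : LinearMap.BilinForm.comp (QuadraticMap.polarBilin Q)
        (k.1 : (Fin n → F) →ₗ[F] (Fin n → F)) (k.1 : (Fin n → F) →ₗ[F] (Fin n → F))
        = QuadraticMap.polarBilin Q := by
      refine LinearMap.ext₂ fun x y => ?_
      exact CL.Orth.O_polar k x y
    have h1 := congrArg Matrix.det (LinearMap.BilinForm.toMatrix_comp (Pi.basisFun F (Fin n))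
      (Pi.basisFun F (Fin n)) (QuadraticMap.polarBilin Q)
      (k.1 : (Fin n → F) →ₗ[F] (Fin n → F)) (k.1 : (Fin n → F) →ₗ[F] (Fin n → F)))
    rw [hB, Matrix.det_mul, Matrix.det_mul, Matrix.det_transpose, LinearMap.det_toMatrix] at h1
    have h0 := (LinearMap.BilinForm.nondegenerate_iff_det_ne_zero (Pi.basisFun F (Fin n))).1 hQ
    refine mul_self_eq_one_iff.1 (mul_left_cancel₀ h0 ?_)
    linear_combination -h1
  · rw [← CL.Orth.det_bridge, MulEquiv.apply_symm_apply, CL.Orth.det_refl hv]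

end Cfsg.Agent.S0785
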