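import Cfsg.Statements.S0787
import Cfsg.Agent.QuadF.OrthCor

set_option autoImplicit false
open Cfsg

namespace Cfsg.Agent.S0787

/-- Existence and uniqueness of Ω: if F is finite, n ≥ 2, Q is a quadratic form on F^n with non-degenerate polar form and (|F|, n) ≠ (2, 4), then the group of isometries of determinant one has a unique subgroup of index 2. -/
theorem result {F : Type*} [Field F] [Fintype F] {n : ℕ} (hn : 2 ≤ n) (Q : QuadraticForm F (Fin n → F)) (hQ : (QuadraticMap.polarBilin Q).Nondegenerate) (h : Fintype.card F ≠ 2 ∨ n ≠ 4) : ∃! H : Subgroup ↥(Cfsg.specialIsometryGroup F ⇑Q), H.index = 2 := by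
  have hT : CL.Orth.Tame Q := CL.Orth.tame_of_card hQ (by simpa using h)
  set S := Cfsg.specialIsometryGroup F ⇑Q with hS
  have hmemS : ∀ g, g ∈ S ↔ LinearMap.det ((CL.Orth.bridge Q g).1 :
      (Fin n → F) →ₗ[F] (Fin n → F)) = 1 := fun g => by
    rw [CL.Orth.det_bridge, hS, Cfsg.specialIsometryGroup, MonoidHom.mem_ker, ← Units.val_eq_one]
    rfl
  have hSN : S.Normal := by rw [hS, Cfsg.specialIsometryGroup]; infer_instance
  have hle : Cfsg.Omega F ⇑Q ≤ S := by
    rw [hS, Cfsg.specialIsometryGroup]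
    exact Abelianization.commutator_subset_ker _
  have hidx : ((Cfsg.Omega F ⇑Q).subgroupOf S).index = 2 := by
    have h1 := Subgroup.relIndex_mul_index hle
    by_cases h2 : (2 : F) = 0
    · have : S = ⊤ := by
        rw [eq_top_iff]
        intro g _
        rw [hmemS, CL.Orth.det_eq_dsign hQ hT]
        rcases Int.units_eq_one_or (CL.Orth.dsign (CL.Orth.bridge Q g)) with h | h <;> rw [h]
        · simp
        · simp only [Units.val_neg, Units.val_one, Int.cast_neg, Int.cast_one]
          linear_combination -h2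
      rw [CL.Orth.index_Omega, CL.Orth.index_commutator_even h2 hQ hT (by simp; omega), this,
        Subgroup.index_top, mul_one] at h1
      rw [this]; exact h1
    · have h3 : S.index = 2 := by
        have : S = ((CL.Orth.dickson hQ hT).comp (CL.Orth.bridge Q : ↥(Cfsg.isometryGroup F ⇑Q) →* CL.Orth.O Q)).ker := by
          ext g
          rw [hmemS, CL.QuadF.det_eq_one_iff_dsign h2 hQ]
          rfl
        rw [this, Subgroup.index_ker]
        have hn1 : Nontrivial (Fin n → F) := by
          have : Nonempty (Fin n) := ⟨⟨0, by omega⟩⟩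
          infer_instance
        obtain ⟨v, hv⟩ := CL.QuadF.exists_nonsingular hQ
        have : ((CL.Orth.dickson hQ hT).comp (CL.Orth.bridge Q : ↥(Cfsg.isometryGroup F ⇑Q) →* CL.Orth.O Q)).range = ⊤ := by
          rw [eq_top_iff]
          intro x _
          rcases Int.units_eq_one_or x with rfl | rfl
          · exact Subgroup.one_mem _
          · exact ⟨(CL.Orth.bridge Q).symm (CL.Orth.refl Q v), by
              simp [CL.Orth.dickson_refl hQ hT hv]⟩
        rw [this]
        simp
      rw [CL.Orth.index_Omega, CL.Orth.index_commutator_odd h2 hQ (by simpa using hn), h3] at h1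
      change (Cfsg.Omega F ⇑Q).relIndex S = 2
      omega
  refine ⟨_, hidx, fun H hH => ?_⟩
  -- the subgroup generated by squares of elements of `S`
  let K : Subgroup (CL.Orth.O Q) :=
    Subgroup.closure {k | ∃ g ∈ S, k = CL.Orth.bridge Q (g * g)}
  have hKN : K.Normal := by
    refine ⟨fun k hk x => ?_⟩
    have : K ≤ K.comap (MulAut.conj x).toMonoidHom := by
      rw [Subgroup.closure_le]
      rintro _ ⟨g, hg, rfl⟩
      obtain ⟨y, rfl⟩ := (CL.Orth.bridge Q).surjective x
      refine Subgroup.subset_closure ⟨y * g * y⁻¹, hSN.conj_mem g hg y, ?_⟩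
      simp [mul_assoc]
    exact this hk
  have hcK := CL.QuadF.commutator_le_of_sq_mem hQ hT K (fun u v hu hv =>
    Subgroup.subset_closure ⟨(CL.Orth.bridge Q).symm (CL.Orth.refl Q u * CL.Orth.refl Q v), by
      rw [hmemS, MulEquiv.apply_symm_apply]
      change LinearMap.det (((CL.Orth.refl Q u).1 : (Fin n → F) →ₗ[F] (Fin n → F)) *
        ((CL.Orth.refl Q v).1 : (Fin n → F) →ₗ[F] (Fin n → F))) = 1
      rw [map_mul, CL.Orth.det_refl hu, CL.Orth.det_refl hv]
      simp, by simp⟩)
  have hKH : K ≤ (H.map S.subtype).map (CL.Orth.bridge Q : ↥(Cfsg.isometryGroup F ⇑Q) →* CL.Orth.O Q) := by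
    rw [Subgroup.closure_le]
    rintro _ ⟨g, hg, rfl⟩
    exact ⟨g * g, ⟨⟨g, hg⟩ * ⟨g, hg⟩, Subgroup.mul_self_mem_of_index_two hH _, rfl⟩, rfl⟩
  have hle2 : (Cfsg.Omega F ⇑Q).subgroupOf S ≤ H := by
    intro g hg
    obtain ⟨_, ⟨k, hk, rfl⟩, hk'⟩ := hKH (hcK ((CL.Orth.bridge_mem_commutator _).2 hg))
    have : k = g := Subtype.ext ((CL.Orth.bridge Q).injective hk')
    exact this ▸ hk
  have h4 := Subgroup.relIndex_mul_index hle2
  rw [hidx, hH] at h4
  exact le_antisymm (Subgroup.relIndex_eq_one.1 (by omega)) hle2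

end Cfsg.Agent.S0787
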