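import Cfsg.Statements.S0792
import Cfsg.Agent.QuadF.OrthCor

set_option autoImplicit false
open Cfsg

namespace Cfsg.Agent.S0792

/-- For q odd and Q with non-degenerate polar form on F^n, the determinant-one isometries form the subgroup generated by all products r_u r_v of two reflections (Q(u), Q(v) ≠ 0). -/
theorem result {F : Type*} [Field F] [Fintype F] (h2 : (2 : F) ≠ 0) {n : ℕ} (Q : QuadraticForm F (Fin n → F)) (hQ : (QuadraticMap.polarBilin Q).Nondegenerate) : Cfsg.specialIsometryGroup F ⇑Q = Subgroup.closure {g : ↥(Cfsg.isometryGroup F ⇑Q) | ∃ u v : Fin n → F, Q u ≠ 0 ∧ Q v ≠ 0 ∧ ((g : Matrix.GeneralLinearGroup (Fin n) F) : Matrix (Fin n) (Fin n) F) = Cfsg.reflectionMatrix ⇑Q u * Cfsg.reflectionMatrix ⇑Q v} := by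
  have h1 := CL.QuadF.closure_preimage_mulEquiv (CL.Orth.bridge Q)
    {g : CL.Orth.O Q | ∃ u v, Q u ≠ 0 ∧ Q v ≠ 0 ∧ g = CL.Orth.refl Q u * CL.Orth.refl Q v}
  have h3 : (CL.Orth.bridge Q) ⁻¹'
      {g : CL.Orth.O Q | ∃ u v, Q u ≠ 0 ∧ Q v ≠ 0 ∧ g = CL.Orth.refl Q u * CL.Orth.refl Q v}
      = {g : ↥(Cfsg.isometryGroup F ⇑Q) | ∃ u v : Fin n → F, Q u ≠ 0 ∧ Q v ≠ 0 ∧
        ((g : Matrix.GeneralLinearGroup (Fin n) F) : Matrix (Fin n) (Fin n) F)
          = Cfsg.reflectionMatrix ⇑Q u * Cfsg.reflectionMatrix ⇑Q v} := by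
    ext g
    simp only [Set.mem_ofPred_eq, Set.mem_preimage]
    refine exists₂_congr fun u v => and_congr_right fun _ => and_congr_right fun _ => ?_
    refine CL.Orth.bridge_eq_iff g _ _ fun x => ?_
    rw [← Matrix.mulVec_mulVec, CL.Orth.reflectionMatrix_mulVec, CL.Orth.reflectionMatrix_mulVec,
      CL.Orth.O_mul_apply]
  rw [← h3, h1]
  ext g
  rw [Subgroup.mem_comap, MonoidHom.coe_coe,
    CL.QuadF.mem_closure_two_refl_iff hQ (CL.Orth.tame_of_two_ne_zero h2 hQ),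
    ← CL.QuadF.det_eq_one_iff_dsign h2 hQ, CL.Orth.det_bridge, Cfsg.specialIsometryGroup,
    MonoidHom.mem_ker, ← Units.val_eq_one]
  rfl

end Cfsg.Agent.S0792
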