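import Cfsg.Statements.S0795
import Cfsg.Agent.QuadF.OrthCor

set_option autoImplicit false
open Cfsg

namespace Cfsg.Agent.S0795

/-- Generation of Ω by root elements: for q odd, n ≥ 5 and Q with non-degenerate polar form on F^n, the commutator subgroup of the isometry group equals the subgroup generated by the isometries whose matrices are Siegel transformations T_(u,v)(c) with u, v singular and orthogonal. -/
theorem result {F : Type*} [Field F] [Fintype F] (h2 : (2 : F) ≠ 0) {n : ℕ} (hn : 5 ≤ n) (Q : QuadraticForm F (Fin n → F)) (hQ : (QuadraticMap.polarBilin Q).Nondegenerate) : Cfsg.Omega F ⇑Q = Subgroup.closure {g : ↥(Cfsg.isometryGroup F ⇑Q) | ∃ (u v : Fin n → F) (c : F), Q u = 0 ∧ Q v = 0 ∧ QuadraticMap.polar ⇑Q u v = 0 ∧ ((g : Matrix.GeneralLinearGroup (Fin n) F) : Matrix (Fin n) (Fin n) F) = Cfsg.siegelMatrix ⇑Q u v c} := by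
  have h5 : 5 ≤ Module.finrank F (Fin n → F) := by simpa using hn
  have h1 := CL.QuadF.closure_preimage_mulEquiv (CL.Orth.bridge Q)
    {g : CL.Orth.O Q | ∃ u w, Q u = 0 ∧ Q w = 0 ∧ QuadraticMap.polar Q u w = 0 ∧
      g = CL.Orth.eich Q u w}
  obtain ⟨p, hp, hp0⟩ := CL.QuadF.exists_singular Q (by omega)
  rw [← CL.QuadF.E_eq_closure_siegel hQ h5,
    CL.Orth.E_eq_commutator hQ (CL.Orth.tame_of_two_ne_zero h2 hQ) hp0 hp (by omega)] at h1
  have h3 : Cfsg.Omega F ⇑Q = (commutator (CL.Orth.O Q)).comap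
      (CL.Orth.bridge Q : _ →* CL.Orth.O Q) := by
    ext g
    exact (CL.Orth.bridge_mem_commutator g).symm
  rw [h3, ← h1]
  congr 1
  ext g
  simp only [Set.mem_ofPred_eq, Set.mem_preimage]
  constructor
  · rintro ⟨u, w, hu, hw, huw, h⟩
    exact ⟨u, w, 1, hu, hw, huw, (CL.Orth.bridge_eq_eich_iff g hu hw huw 1).1 (by rwa [one_smul])⟩
  · rintro ⟨u, w, c, hu, hw, huw, h⟩
    exact ⟨u, c • w, hu, by rw [CL.QuadF.map_smul_sq, hw, mul_zero],
      by rw [QuadraticMap.polar_smul_right, huw, smul_zero],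
      (CL.Orth.bridge_eq_eich_iff g hu hw huw c).2 h⟩

end Cfsg.Agent.S0795
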