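import Cfsg.Agent.Base
import Cfsg.Statements.S0796
-- import your own Cfsg.Agent.* helpers here

set_option autoImplicit false
open Cfsg

namespace Cfsg.Agent.S0796

/-- If G is finite and acts faithfully and primitively on X, H is the stabiliser of a point, A is a normal subgroup of H whose normal closure in G is G, then for every non-trivial normal subgroup K of G the quotient G ⧸ K is isomorphic to A ⧸ B for some normal subgroup B of A. -/
theorem result {G X : Type*} [Group G] [Finite G] [MulAction G X] [FaithfulSMul G X] (hprim : MulAction.IsPreprimitive G X) (x : X) (A : Subgroup G) (hA : A ≤ MulAction.stabilizer G x) (hAn : (A.subgroupOf (MulAction.stabilizer G x)).Normal) (hgen : Subgroup.normalClosure (A : Set G) = ⊤) (K : Subgroup G) [K.Normal] (hK : K ≠ ⊥) : ∃ (B : Subgroup A) (_ : B.Normal), Nonempty (G ⧸ K ≃* A ⧸ B) := by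
  classical
  -- `K` is transitive
  have hKt : MulAction.IsPretransitive K X := by
    apply hprim.isQuasiPreprimitive.isPretransitive_of_normal
    intro h
    apply hK
    rw [eq_bot_iff]
    intro k hk
    rw [Subgroup.mem_bot]
    apply (FaithfulSMul.eq_of_smul_eq_smul (α := X))
    intro y
    have hy : y ∈ MulAction.fixedPoints K X := h ▸ Set.mem_univ y
    simpa using hy ⟨k, hk⟩
  -- `A ⊔ K` is normal
  have hAK : (A ⊔ K).Normal := by
    constructor
    intro n hn g
    obtain ⟨k, hk⟩ := hKt.exists_smul_eq x (g • x)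
    have hk' : ((k : G)⁻¹ * g) ∈ MulAction.stabilizer G x := by
      rw [MulAction.mem_stabilizer_iff, mul_smul, ← hk]
      exact inv_smul_smul (k : G) x
    have hn' : n ∈ ((A ⊔ K : Subgroup G) : Set G) := hn
    rw [Subgroup.mul_normal] at hn'
    obtain ⟨a, ha, k', hk'', rfl⟩ := hn'
    set h : G := (k : G)⁻¹ * g with hh
    have hg : g = k * h := by simp [hh]
    have h1 : h * a * h⁻¹ ∈ A := by
      have := hAn.conj_mem ⟨a, hA ha⟩ ha ⟨h, hk'⟩
      simpa [Subgroup.mem_subgroupOf] using this
    have h2 : h * k' * h⁻¹ ∈ K := Subgroup.Normal.conj_mem inferInstance _ hk'' _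
    have : g * (a * k') * g⁻¹ = k * ((h * a * h⁻¹) * (h * k' * h⁻¹)) * (k : G)⁻¹ := by
      rw [hg]; group
    change g * (a * k') * g⁻¹ ∈ _
    rw [this]
    exact mul_mem (mul_mem (Subgroup.mem_sup_right k.2)
      (mul_mem (Subgroup.mem_sup_left h1) (Subgroup.mem_sup_right h2)))
      (inv_mem (Subgroup.mem_sup_right k.2))
  have htop : A ⊔ K = ⊤ := by
    rw [eq_top_iff, ← hgen]
    exact Subgroup.normalClosure_le_normal (fun a ha => Subgroup.mem_sup_left ha)
  let φ : A →* G ⧸ K := (QuotientGroup.mk' K).comp A.subtype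
  have hφ : Function.Surjective φ := by
    intro q
    obtain ⟨g, rfl⟩ := QuotientGroup.mk_surjective q
    have hg : g ∈ ((A ⊔ K : Subgroup G) : Set G) := by rw [htop]; exact Subgroup.mem_top g
    rw [Subgroup.mul_normal] at hg
    obtain ⟨a, ha, k, hk, rfl⟩ := hg
    refine ⟨⟨a, ha⟩, ?_⟩
    simp only [φ, MonoidHom.comp_apply, Subgroup.coe_subtype, QuotientGroup.mk'_apply]
    rw [QuotientGroup.eq]
    simpa using hk
  exact ⟨φ.ker, inferInstance, ⟨(QuotientGroup.quotientKerEquivOfSurjective φ hφ).symm⟩⟩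

end Cfsg.Agent.S0796
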