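import Cfsg.Statements.S0802
import Cfsg.Agent.Base
import Cfsg.Agent.PSL2.Platonic

set_option autoImplicit false
open Cfsg

namespace Cfsg.Agent.S0802

/-- PSL_2(p^n) has a subgroup isomorphic to A_4 if and only if it is not the case that p = 2 and n is odd. -/
theorem result {F : Type*} [Field F] [Fintype F] (p n : ℕ) [Fact p.Prime] [CharP F p] (hF : Fintype.card F = p ^ n) : (∃ H : Subgroup (Matrix.ProjectiveSpecialLinearGroup (Fin 2) F), Nonempty (H ≃* alternatingGroup (Fin 4))) ↔ ¬ (p = 2 ∧ Odd n) := by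
  constructor
  · rintro ⟨H, ⟨e⟩⟩ ⟨rfl, k, rfl⟩
    have h := CL.PSL2.three_dvd_of_A4 e
    have h1 : 2 ^ (2 * k + 1) % 3 = 2 := by
      rw [pow_succ, pow_mul, Nat.mul_mod, Nat.pow_mod]; simp
    rw [← hF] at h1
    have h2 := Nat.prime_three.dvd_mul.1 h
    generalize Fintype.card F = q at h1 h2
    omega
  · intro h
    refine CL.PSL2.exists_subgroup_A4 ?_
    by_cases hp : p = 2
    · subst hp
      obtain ⟨k, rfl⟩ : Even n := by simpa using h
      have h1 : 2 ^ (k + k) % 3 = 1 := by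
        rw [← two_mul, pow_mul, Nat.pow_mod]; simp
      exact Or.inr (CL.PSL2.exists_cube_root (by rw [hF]; omega))
    · exact Or.inl (hF ▸ ((Fact.out : p.Prime).odd_of_ne_two hp).pow)

end Cfsg.Agent.S0802
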