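import Cfsg.Statements.S0805
import Cfsg.Agent.Base
import Cfsg.Agent.PSL2.Subfield

set_option autoImplicit false
open Cfsg

namespace Cfsg.Agent.S0805

/-- Subfield subgroups: let F be a finite field of odd order q and K a finite field with |K|^m = q, m ≥ 1. Then PSL_2(F) has a subgroup isomorphic to PSL_2(K), and has a subgroup isomorphic to PGL_2(K) if and only if m is even. -/
theorem result {F K : Type*} [Field F] [Fintype F] [Field K] [Fintype K] {q : ℕ} (hF : Fintype.card F = q) (hodd : Odd q) (m : ℕ) (hm : 1 ≤ m) (hK : Fintype.card K ^ m = q) : (∃ H : Subgroup (Matrix.ProjectiveSpecialLinearGroup (Fin 2) F), Nonempty (H ≃* Matrix.ProjectiveSpecialLinearGroup (Fin 2) K)) ∧ ((∃ H : Subgroup (Matrix.ProjectiveSpecialLinearGroup (Fin 2) F), Nonempty (H ≃* Matrix.ProjGenLinGroup (Fin 2) K)) ↔ Even m) := by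
  subst hF
  obtain ⟨f⟩ := CL.PSL2.nonempty_ringHom_of_card_pow hK
  refine ⟨CL.PSL2.exists_subgroup_PSL_of_ringHom f, ?_, fun h =>
    CL.PSL2.exists_subgroup_PGL_of_isSquare f (CL.PSL2.isSquare_of_card_pow h hK f)⟩
  rintro ⟨H, ⟨e⟩⟩
  by_contra hm'
  have h1 := Nat.mul_dvd_mul_left 2 H.card_subgroup_dvd_card
  rw [CL.PSL2.card_PSL_of_odd hodd, Nat.card_congr e.toEquiv, CL.PSL2.card_PGL, ← hK] at h1
  rw [← hK, Nat.odd_pow_iff (by omega)] at hodd
  exact CL.PSL2.not_dvd_of_odd_pow hodd (Nat.not_even_iff_odd.1 hm') Fintype.one_lt_card h1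

end Cfsg.Agent.S0805
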