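import Cfsg.Statements.S0808
import Cfsg.Agent.Base
import Cfsg.Agent.PSL2.Invol

set_option autoImplicit false
open Cfsg

namespace Cfsg.Agent.S0808

/-- Conjugacy classes of four-groups in PSL_2(q), q odd: if q ≡ 3 or 5 (mod 8) all Klein four-subgroups are conjugate; if q ≡ 1 or 7 (mod 8) there are two Klein four-subgroups which are not conjugate, and every Klein four-subgroup is conjugate to one of them. -/
theorem result {F : Type*} [Field F] [Fintype F] {q : ℕ} (hF : Fintype.card F = q) (hodd : Odd q) : ((q % 8 = 3 ∨ q % 8 = 5) → ∀ V W : Subgroup (Matrix.ProjectiveSpecialLinearGroup (Fin 2) F), IsKleinFour V → IsKleinFour W → ∃ g : Matrix.ProjectiveSpecialLinearGroup (Fin 2) F, W = V.map (MulAut.conj g).toMonoidHom) ∧ ((q % 8 = 1 ∨ q % 8 = 7) → ∃ V₁ V₂ : Subgroup (Matrix.ProjectiveSpecialLinearGroup (Fin 2) F), IsKleinFour V₁ ∧ IsKleinFour V₂ ∧ (¬ ∃ g : Matrix.ProjectiveSpecialLinearGroup (Fin 2) F, V₂ = V₁.map (MulAut.conj g).toMonoidHom)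 ∧ ∀ W : Subgroup (Matrix.ProjectiveSpecialLinearGroup (Fin 2) F), IsKleinFour W → (∃ g : Matrix.ProjectiveSpecialLinearGroup (Fin 2) F, W = V₁.map (MulAut.conj g).toMonoidHom) ∨ (∃ g : Matrix.ProjectiveSpecialLinearGroup (Fin 2) F, W = V₂.map (MulAut.conj g).toMonoidHom)) := by
  subst hF
  obtain ⟨t, ht⟩ := CL.PSL2.exists_orderOf_eq_two hodd
  have hc := fun x hx => CL.PSL2.isConj_of_orderOf_eq_two hodd (s := x) hx ht
  refine ⟨fun h V W hV hW => ?_, fun h => ?_⟩
  · obtain ⟨T, D, hT⟩ := CL.PSL2.exists_dihCent hodd t ht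
    refine D.conj_of_odd hc ?_ hV hW
    rw [hT]
    split_ifs <;> omega
  · refine CL.PSL2.exists_two_classes ?_ ht hc (CL.PSL2.exists_dihCent hodd)
    split_ifs <;> omega

end Cfsg.Agent.S0808
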