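import Cfsg.Statements.S0814
import Cfsg.Agent.Symp.Graph
import Cfsg.Agent.Symp.AutSemi
import Cfsg.Agent.SpG.Congr
import Cfsg.Agent.S0246
import Cfsg.Agent.S0270

set_option autoImplicit false
open Cfsg

namespace Cfsg.Agent.S0814

/-- |Aut(PSp_2m(q))| = gcd(2, q−1) · f · |PSp_2m(q)| for q = p^f, m ≥ 2, (m, q) ≠ (2, 2), with an extra factor 2 exactly when m = 2 and p = 2. -/
theorem result {F : Type*} [Field F] [Fintype F] (p f : ℕ) [Fact p.Prime] (hf : 1 ≤ f) (hF : Fintype.card F = p ^ f) (m : ℕ) (hm : 2 ≤ m) (h22 : m = 2 → 3 ≤ p ^ f) : Nat.card (MulAut (Cfsg.PSp m F)) = (if m = 2 ∧ p = 2 then 2 else 1) * Nat.gcd 2 (p ^ f - 1) * f * Nat.card (Cfsg.PSp m F) := by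
  have : CharP F p := CL.AutPerm.charP_of_card hF
  let e : Cfsg.PSp m F ≃* CL.Symp.PIsom (CL.Symp.form (Fin m) F) :=
    CL.SpG.quotCenterCongr (CL.Symp.spEquiv (Fin m) F)
  have h1 : Nat.card (Matrix.symplecticGroup (Fin m) F) =
      Nat.gcd 2 (p ^ f - 1) * Nat.card (Cfsg.PSp m F) := by
    rw [← S0246.result hF m (by omega), ← Subgroup.card_mul_index (Subgroup.center _)]
    rfl
  have h2 : (CL.AutGen.geomAut (CL.Symp.PIsom (CL.Symp.form (Fin m) F))
      (Projectivization F (Fin m ⊕ Fin m → F))).index = if m = 2 ∧ p = 2 then 2 else 1 := by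
    split_ifs with h
    · obtain ⟨rfl, rfl⟩ := h
      have := S0270.result (F := F) 2 le_rfl (fun h => hF ▸ h22 h)
      have := e.symm.isSimpleGroup
      exact CL.Symp.index_geomAut_four
    · have : Nonempty (Fin m) := ⟨⟨0, by omega⟩⟩
      rw [CL.Symp.geomAut_eq_top p, Subgroup.index_top]
      simp only [Module.finrank_fintype_fun_eq_card, Fintype.card_sum, Fintype.card_fin]
      omega
  rw [Nat.card_congr (MulAut.congr e).toEquiv, ← Subgroup.card_mul_index (CL.AutGen.geomAut _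
    (Projectivization F (Fin m ⊕ Fin m → F))), h2, CL.Symp.card_geomAut p (by simpa using hm),
    CL.AutPerm.card_ringAut hF, h1]
  ring

end Cfsg.Agent.S0814
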