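import Cfsg.Statements.S0816
import Cfsg.Agent.Base
import Cfsg.Agent.AutO.Card

set_option autoImplicit false
open Cfsg

namespace Cfsg.Agent.S0816

/-- |Aut(PΩ_(2m+1)(q))| = 2 f · |PΩ_(2m+1)(q)| for q = p^f odd and m ≥ 3 (for the form quadFormOdd). -/
theorem result {F : Type*} [Field F] [Fintype F] (p f : ℕ) [Fact p.Prime] (hf : 1 ≤ f) (hF : Fintype.card F = p ^ f) (hodd : Odd p) (m : ℕ) (hm : 3 ≤ m) : Nat.card (MulAut (Cfsg.POmega F (Cfsg.quadFormOdd m F))) = 2 * f * Nat.card (Cfsg.POmega F (Cfsg.quadFormOdd m F)) := by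
  have := CL.AutPerm.charP_of_card hF
  have h2 : (2 : F) ≠ 0 := fun h => by
    rw [(CL.AutO.eq_two_iff F p).2 h] at hodd
    exact absurd hodd (by decide)
  have hQ := CL.Orth.qOdd_nondegenerate h2 m
  have hd := CL.Orth.finrank_odd (F := F) m
  have h1 := CL.AutO.card_mulAut_odd h2 hQ (by omega) (by rw [hd]; exact odd_two_mul_add_one m)
    fun σ => CL.AutO.exists_gam σ (LinearEquiv.refl _ _) fun x => by
      rw [CL.Orth.coe_qOdd, ← CL.QuadF.coe_qOdd]
      simp [CL.QuadF.qOdd_apply]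
  rw [CL.AutO.range_Phi_eq_top hQ (by omega) (by omega), Subgroup.index_top,
    CL.AutO.card_O_eq hQ (by omega) (A := False) (B := False) (by simp [h2])
      (fun _ => by simp [CL.Orth.negO_not_mem_commutator_qOdd h2 m]),
    CL.AutPerm.card_ringAut hF, ← CL.AutO.card_mulAut_pomega hQ (by omega),
    CL.Orth.coe_qOdd] at h1
  simp only [if_false] at h1
  linarith

end Cfsg.Agent.S0816
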