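import Cfsg.Statements.S0817
import Cfsg.Agent.Base
import Cfsg.Agent.AutO.Card
import Cfsg.Agent.AutO.Triality

set_option autoImplicit false
open Cfsg

namespace Cfsg.Agent.S0817

/-- |Aut(PΩ⁺_2m(q))| for q = p^f, m ≥ 4: |PΩ⁺_2m(q)| times f, times 3 when m = 4, times 2 if p = 2, and times 8 or 4 if p is odd according as m(q−1)/2 is even or odd. -/
theorem result {F : Type*} [Field F] [Fintype F] (p f : ℕ) [Fact p.Prime] (hf : 1 ≤ f) (hF : Fintype.card F = p ^ f) (m : ℕ) (hm : 4 ≤ m) : Nat.card (MulAut (Cfsg.POmega F (Cfsg.quadFormPlus m F))) = (if m = 4 then 3 else 1) * (if p = 2 then 2 else (if Even (m * (p ^ f - 1) / 2) then 8 else 4)) * f * Nat.card (Cfsg.POmega F (Cfsg.quadFormPlus m F)) := by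
  have := CL.AutPerm.charP_of_card hF
  have hq : Nat.card F = p ^ f := by rw [Nat.card_eq_fintype_card, hF]
  have hQ := CL.Orth.qPlus_nondegenerate (F := F) m
  have hd := CL.Orth.finrank_plus (F := F) m
  have h1 := CL.AutO.card_mulAut_even hQ (by omega) hd
    fun σ => CL.AutO.exists_gam σ (LinearEquiv.refl _ _) fun x => by
      rw [CL.Orth.coe_qPlus, ← CL.QuadF.coe_qPlus]
      simp [CL.QuadF.qPlus_apply]
  have h2 : (CL.AutO.Phi (CL.Orth.qPlus m F)).range.index = if m = 4 then 3 else 1 := by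
    split_ifs with h
    · subst h
      obtain ⟨τ, h3, u, w, h⟩ := CL.AutO.exists_triality' _ (CL.Orth.coe_qPlus (F := F) 4)
      exact CL.AutO.index_range_Phi_eq_three hQ (by omega) h3 h
    · rw [CL.AutO.range_Phi_eq_top hQ (by omega) (by omega), Subgroup.index_top]
  rw [h2, CL.AutO.card_O_eq hQ (by omega) (A := p = 2) (B := Even (m * (p ^ f - 1) / 2))
      (CL.AutO.eq_two_iff F p) (fun h2 => by
        rw [CL.Orth.negO_mem_commutator_qPlus h2 m, ← hq,
          CL.AutO.even_half_iff (CL.Orth.card_mod_four_of_two_ne_zero h2)]),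
    CL.AutPerm.card_ringAut hF, ← CL.AutO.card_mulAut_pomega hQ (by omega),
    CL.Orth.coe_qPlus] at h1
  rw [h1]
  ring

end Cfsg.Agent.S0817
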