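import Cfsg.Statements.S0818
import Cfsg.Agent.Base
import Cfsg.Agent.AutO.Card

set_option autoImplicit false
open Cfsg

namespace Cfsg.Agent.S0818

/-- |Aut(PΩ⁻_2m(q))| for q = p^f, m ≥ 4 (form quadFormMinus (m−1) with anisotropic binary part): |PΩ⁻_2m(q)| times f, times 2 if p = 2, and times 4 or 8 if p is odd according as m(q−1)/2 is even or odd. -/
theorem result {F : Type*} [Field F] [Fintype F] (p f : ℕ) [Fact p.Prime] (hf : 1 ≤ f) (hF : Fintype.card F = p ^ f) (m : ℕ) (hm : 4 ≤ m) (a b : F) (hab : ∀ z₁ z₂ : F, z₁ ^ 2 + a * z₁ * z₂ + b * z₂ ^ 2 = 0 → z₁ = 0 ∧ z₂ = 0) : Nat.card (MulAut (Cfsg.POmega F (Cfsg.quadFormMinus (m - 1) F a b))) = (if p = 2 then 2 else (if Even (m * (p ^ f - 1) / 2) then 4 else 8)) * f * Nat.card (Cfsg.POmega F (Cfsg.quadFormMinus (m - 1) F a b)) := by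
  have := CL.AutPerm.charP_of_card hF
  obtain ⟨n, rfl⟩ : ∃ n, m = n + 1 := ⟨m - 1, by omega⟩
  rw [Nat.add_sub_cancel]
  have hq : Nat.card F = p ^ f := by rw [Nat.card_eq_fintype_card, hF]
  have hQQ : CL.Orth.qMinus n F a b = CL.QuadF.qMinus n F a b :=
    DFunLike.coe_injective ((CL.Orth.coe_qMinus n a b).trans (CL.QuadF.coe_qMinus n F a b).symm)
  have hQ := CL.Orth.qMinus_nondegenerate n (CL.Orth.disc_ne_zero hab)
  have hd := CL.Orth.finrank_minus (F := F) n
  have hno := CL.QuadF.not_exists_ts_qMinus n hab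
  rw [← hQQ] at hno
  have h1 := CL.AutO.card_mulAut_even hQ (by omega) (m := n + 1) hd fun σ => by
    obtain ⟨e, he⟩ := CL.QuadF.exists_equiv_minus hQ hd hno (a := σ a) (b := σ b) fun z₁ z₂ h => by
      have := hab (σ.symm z₁) (σ.symm z₂) (σ.injective (by simpa using h))
      simpa using this
    refine CL.AutO.exists_gam σ e fun x => ?_
    rw [he, hQQ]
    simp [CL.QuadF.qMinus_apply]
  rw [CL.AutO.range_Phi_eq_top hQ (by omega) (fun h => by
      obtain rfl : n = 3 := by omega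
      exact hno), Subgroup.index_top,
    CL.AutO.card_O_eq hQ (by omega) (A := p = 2) (B := ¬ Even ((n + 1) * (p ^ f - 1) / 2))
      (CL.AutO.eq_two_iff F p) (fun h2 => by
        rw [CL.Orth.negO_mem_commutator_qMinus h2 hab n, ← hq,
          CL.AutO.even_half_iff (CL.Orth.card_mod_four_of_two_ne_zero h2)]
        rcases CL.Orth.pow_mod_four_cases h2 (n + 1) with h | h <;> omega),
    CL.AutPerm.card_ringAut hF, ← CL.AutO.card_mulAut_pomega hQ (by omega),
    CL.Orth.coe_qMinus] at h1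
  rw [h1, ite_not]
  ring

end Cfsg.Agent.S0818
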