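import Cfsg.Agent.Base
import Cfsg.Statements.S0819
import Cfsg.Agent.GLn.Conj

set_option autoImplicit false
open Cfsg

namespace Cfsg.Agent.S0819

open scoped IsMulCommutative

theorem aux {R : Type*} [CommRing R] (h2 : (2 : R) = 0) (w x t s : R) (hw : w ^ 2 + w + 1 = 0)
    (ht : t = 0 ∨ t = 1 ∨ t = w ∨ t = w + 1) (hs : s = 0 ∨ s = 1 ∨ s = w ∨ s = w + 1)
    (h : x ^ 3 = t * x ^ 2 + s * x + 1) :
    x ^ 12 = 1 ∨ x ^ 21 = 1 ∨ x ^ 5 = 1 ∨ x ^ 5 = w ∨ x ^ 5 = w + 1 := by
  rcases ht with rfl | rfl | rfl | rfl <;> rcases hs with rfl | rfl | hs | hs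
  all_goals first
    | (left; grind)
    | (right; left; grind)
    | (right; right; left; grind)
    | (right; right; right; left; grind)
    | (right; right; right; right; grind)

/-- No element of PSL_3(4) has order 15. -/
theorem result {F : Type*} [Field F] [Fintype F] (hF : Fintype.card F = 4) (g : Matrix.ProjectiveSpecialLinearGroup (Fin 3) F) : orderOf g ≠ 15 := by
  classical
  obtain ⟨h2, w, hw, hall⟩ := CL.GLn.field_four hF
  obtain ⟨A, rfl⟩ := QuotientGroup.mk_surjective g
  set M : Matrix (Fin 3) (Fin 3) F := A.1 with hM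
  have hdet : M.det = 1 := A.2
  set t : F := M 0 0 + M 1 1 + M 2 2 with ht
  set s : F := -(M 0 0 * M 1 1 - M 0 1 * M 1 0 + M 0 0 * M 2 2 - M 0 2 * M 2 0 + M 1 1 * M 2 2 -
    M 1 2 * M 2 1) with hs
  have hch : M ^ 3 = t • M ^ 2 + s • M + 1 := by
    rw [Matrix.det_fin_three] at hdet
    ext i j
    fin_cases i <;> fin_cases j <;>
      simp [pow_succ, Matrix.mul_apply, Fin.sum_univ_three, ht, hs] <;>
      first | ring1 | linear_combination hdet
  let R := Algebra.adjoin F ({M} : Set (Matrix (Fin 3) (Fin 3) F))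
  let x : R := ⟨M, Algebra.self_mem_adjoin_singleton F M⟩
  have hx : x ^ 3 = algebraMap F R t * x ^ 2 + algebraMap F R s * x + 1 := by
    apply Subtype.ext
    simpa [x, ← Algebra.smul_def] using hch
  have hcases : ∀ y : F, algebraMap F R y = 0 ∨ algebraMap F R y = 1 ∨
      algebraMap F R y = algebraMap F R w ∨ algebraMap F R y = algebraMap F R w + 1 := by
    intro y
    rcases hall y with rfl | rfl | rfl | rfl <;> simp
  have key := aux (R := R) (by rw [← map_ofNat (algebraMap F R) 2, h2, map_zero])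
    (algebraMap F R w) x _ _
    (by rw [← map_pow, ← map_one (algebraMap F R), ← map_add, ← map_add, hw, map_zero])
    (hcases t) (hcases s) hx
  have hsc : ∀ (k : ℕ) (d : F), x ^ k = algebraMap F R d →
      (A : Matrix.ProjectiveSpecialLinearGroup (Fin 3) F) ^ k = 1 := by
    intro k d h
    have h1 : M ^ k = Matrix.scalar (Fin 3) d := congrArg Subtype.val h
    rw [← QuotientGroup.mk_pow, QuotientGroup.eq_one_iff, Matrix.SpecialLinearGroup.mem_center_iff]
    refine ⟨d, ?_, h1.symm⟩
    have := congrArg Matrix.det h1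
    rw [Matrix.det_pow, hdet, one_pow] at this
    simpa using this.symm
  intro h15
  have hd : ∀ k : ℕ, (A : Matrix.ProjectiveSpecialLinearGroup (Fin 3) F) ^ k = 1 → 15 ∣ k :=
    fun k hk => h15 ▸ orderOf_dvd_of_pow_eq_one hk
  rcases key with h | h | h | h | h
  · exact absurd (hd _ (hsc _ 1 (by simpa using h))) (by norm_num)
  · exact absurd (hd _ (hsc _ 1 (by simpa using h))) (by norm_num)
  · exact absurd (hd _ (hsc _ 1 (by simpa using h))) (by norm_num)
  · exact absurd (hd _ (hsc _ w h)) (by norm_num)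
  · exact absurd (hd _ (hsc _ (w + 1) (by simpa using h))) (by norm_num)

end Cfsg.Agent.S0819
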