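import Cfsg.Agent.Base
import Cfsg.Statements.S0820
import Cfsg.Agent.GLn.Conj

set_option autoImplicit false
open Cfsg

namespace Cfsg.Agent.S0820

theorem aux {F : Type*} [Field F] (h2 : (2 : F) = 0)
    (x : Matrix.ProjectiveSpecialLinearGroup (Fin 3) F) (hx : orderOf x = 2) :
    ∃ (v w : Fin 3 → F) (h : w ⬝ᵥ v = 0), v ≠ 0 ∧ w ≠ 0 ∧
      x = (CL.GLn.tv v w h : Matrix.SpecialLinearGroup (Fin 3) F) := by
  obtain ⟨A, rfl⟩ := QuotientGroup.mk_surjective x
  have h1 : A ^ 2 ∈ Subgroup.center (Matrix.SpecialLinearGroup (Fin 3) F) := by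
    rw [← QuotientGroup.eq_one_iff, QuotientGroup.mk_pow, ← hx, pow_orderOf_eq_one]
  -- `B = A ^ 3` has the same image and square `1`
  have hB : ((A ^ 3 : Matrix.SpecialLinearGroup (Fin 3) F) :
      Matrix.ProjectiveSpecialLinearGroup (Fin 3) F) = A := by
    rw [pow_succ, QuotientGroup.mk_mul, (QuotientGroup.eq_one_iff _).2 h1, one_mul]
  obtain ⟨c, hc, hcA⟩ := Matrix.SpecialLinearGroup.mem_center_iff.1 h1
  set B := A ^ 3 with hBdef
  have hB2 : (B : Matrix (Fin 3) (Fin 3) F) * B = 1 := by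
    have : (B : Matrix (Fin 3) (Fin 3) F) * B = ((A ^ 2 : Matrix.SpecialLinearGroup (Fin 3) F) :
      Matrix (Fin 3) (Fin 3) F) ^ 3 := by
      simp only [hBdef, Matrix.SpecialLinearGroup.coe_pow, ← pow_add, ← pow_mul]
    rw [this, ← hcA, ← map_pow]
    simp only [Fintype.card_fin] at hc
    rw [hc, map_one]
  have h2' : (2 : Matrix (Fin 3) (Fin 3) F) = 0 := by
    rw [← map_ofNat (algebraMap F (Matrix (Fin 3) (Fin 3) F)) 2, h2, map_zero]
  have hsq : ((B : Matrix (Fin 3) (Fin 3) F) - 1) * ((B : Matrix (Fin 3) (Fin 3) F) - 1) = 0 := by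
    have : ((B : Matrix (Fin 3) (Fin 3) F) - 1) * ((B : Matrix (Fin 3) (Fin 3) F) - 1) =
        (B : Matrix (Fin 3) (Fin 3) F) * B - 1 + 2 * (1 - B) := by noncomm_ring
    rw [this, hB2, h2']; simp
  have hrank := Matrix.rank_add_rank_le_card_of_mul_eq_zero hsq
  have hne : ((B : Matrix (Fin 3) (Fin 3) F) - 1).rank ≠ 0 := by
    intro h0
    have h3 : (B : Matrix (Fin 3) (Fin 3) F) - 1 = 0 := by
      rw [Matrix.rank_eq_finrank_span_cols, Submodule.finrank_eq_zero, Submodule.span_eq_bot] at h0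
      ext i j
      exact congrFun (h0 _ ⟨j, rfl⟩) i
    have h4 : B = 1 := Subtype.ext (sub_eq_zero.1 h3)
    rw [← hB, h4] at hx
    simp at hx
  obtain ⟨v, w, h, hv, hw, hBt⟩ := CL.GLn.exists_eq_tv_of_isTransvection (t := B)
    ⟨by simp only [Fintype.card_fin] at hrank; omega, hsq⟩
  exact ⟨v, w, h, hv, hw, by rw [← hB, hBt]⟩

/-- Any two elements of order 2 of PSL_3(4) are conjugate. -/
theorem result {F : Type*} [Field F] [Fintype F] (hF : Fintype.card F = 4) (x y : Matrix.ProjectiveSpecialLinearGroup (Fin 3) F) (hx : orderOf x = 2) (hy : orderOf y = 2) : IsConj x y := by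
  obtain ⟨h2, -⟩ := CL.GLn.field_four hF
  obtain ⟨v, w, h, hv, hw, rfl⟩ := aux h2 x hx
  obtain ⟨v', w', h', hv', hw', rfl⟩ := aux h2 y hy
  exact (QuotientGroup.mk' _).map_isConj (CL.GLn.isConj_tv (by simp) hv hw hv' hw' h h')

end Cfsg.Agent.S0820
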