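import Cfsg.Statements.S0821
import Cfsg.Agent.AutO.Parab
import Cfsg.Agent.Orth.Order
import Cfsg.Agent.Symp.AutOdd
import Cfsg.Agent.SpG.Congr

set_option autoImplicit false
open Cfsg

namespace Cfsg.Agent.S0821

open CL.Orth CL.AutO CL.Symp Module
open scoped LinearAlgebra.Projectivization

theorem card_singPts_mul_le {F V : Type*} [Field F] [AddCommGroup V] [Module F V] [Finite F]
    [Finite V] (Q : QuadraticForm F V) :
    Nat.card (singPts Q) * (Nat.card F - 1) ≤ Nat.card {x // Q x = 0} - 1 := by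
  rw [← ncard_singular_ne_zero, ← Nat.card_units, ← Nat.card_prod, ← Nat.card_coe_set_eq]
  refine Nat.card_le_card_of_injective (fun x => ⟨(x.2 : F) • x.1.1.rep, ?_, ?_⟩) ?_
  · rw [Q_smul, show Q x.1.1.rep = 0 from x.1.2, mul_zero]
  · exact smul_ne_zero x.2.ne_zero x.1.1.rep_nonzero
  · rintro ⟨x, a⟩ ⟨y, b⟩ h
    have h1 : (a : F) • x.1.rep = (b : F) • y.1.rep := congrArg Subtype.val h
    have h2 : x = y := by
      apply Subtype.ext
      rw [← x.1.mk_rep, ← y.1.mk_rep, Projectivization.mk_eq_mk_iff']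
      exact ⟨(a : F)⁻¹ * b, by rw [mul_smul, ← h1, smul_smul, inv_mul_cancel₀ a.ne_zero, one_smul]⟩
    subst h2
    rw [Units.ext (smul_left_injective F x.1.rep_nonzero h1)]

/-- A subgroup of the projective symplectic group in odd characteristic and dimension at least five which
normalises a non-trivial `p`-subgroup and has index at most the number of points has a non-abelian normal
`p`-subgroup. -/
theorem not_comm {F V : Type*} [Field F] [AddCommGroup V] [Module F V] [Finite F]
    [FiniteDimensional F V] {B : LinearMap.BilinForm F V} [h : IsSymp B] (p : ℕ) [Fact p.Prime]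
    [CharP F p] (h2 : (2 : F) ≠ 0) (h5 : 5 ≤ finrank F V) {H N : Subgroup (PIsom B)}
    (hN : NormalIn N H) (hp : IsPGroup p N) (hN0 : N ≠ ⊥) (hi : H.index ≤ Nat.card (ℙ F V))
    (hc : ∀ N : Subgroup (PIsom B), NormalIn N H → IsPGroup p N → ∀ x ∈ N, ∀ y ∈ N,
      x * y = y * x) : False := by
  have : Finite V := Module.finite_of_finite F
  have : Finite (V ≃ₗ[F] V) := Finite.of_injective _ DFunLike.coe_injective
  have hp2 : p ≠ 2 := by
    rintro rfl
    exact h2 (CharP.cast_eq_zero F 2)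
  obtain ⟨W, hW0, hW, hle⟩ := exists_isotropic_stab (B := B) p (H := H) hp hN0
    (fun g hg t ht => by simpa using hN.2 _ (H.inv_mem hg) t ht)
  have hcard : ∀ y : ℙ F V, Nat.card (MulAction.stabilizer (PIsom B) y) ≤ Nat.card H := fun y => by
    have h1 := Subgroup.card_mul_index (MulAction.stabilizer (PIsom B) y)
    rw [MulAction.index_stabilizer_of_transitive, ← Subgroup.card_mul_index H] at h1
    have h3 : 0 < Nat.card (ℙ F V) := Nat.card_pos_iff.2 ⟨⟨y⟩, inferInstance⟩
    exact Nat.le_of_mul_le_mul_right (h1.le.trans (Nat.mul_le_mul_left _ hi)) h3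
  obtain ⟨v, hvW, hv⟩ := Submodule.exists_mem_ne_zero_of_ne_bot hW0
  have h1 : finrank F W = 1 := by
    rcases finrank_of_card_le hW hW0 (Projectivization.mk F v hv)
      ((hcard _).trans (Subgroup.card_le_of_le hle)) with h1 | h1
    · exact h1
    · omega
  have hWv : W = (Projectivization.mk F v hv).submodule := by
    symm
    apply Submodule.eq_of_le_of_finrank_eq
    · rwa [Projectivization.submodule_mk, Submodule.span_singleton_le_iff_mem]
    · rw [h1, Projectivization.finrank_submodule]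
  rw [hWv, ← stabilizer_eq_pstab] at hle
  have hH := Subgroup.eq_of_le_of_card_ge hle (hcard _)
  obtain ⟨a, ha, b, hb, hab⟩ := exists_not_commute_heis (B := B) h2 (by omega) hv
  have hP : IsPGroup p (heis B v) := fun A =>
    ⟨1, Subtype.ext (by simpa using heis_pow_char p hp2 hv A.2)⟩
  refine hab (hc ((heis B v).map (QuotientGroup.mk' _)) ⟨?_, ?_⟩ (hP.map _) _ ⟨a, ha, rfl⟩ _
    ⟨b, hb, rfl⟩)
  · rw [hH]
    rintro _ ⟨A, hA, rfl⟩
    exact (isom_smul_mk_eq_iff A hv).2 ⟨1, by simp [hA.1]⟩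
  · rw [hH]
    rintro g hg _ ⟨A, hA, rfl⟩
    have hg' := inv_mem hg
    induction g using QuotientGroup.induction_on with | _ g =>
    obtain ⟨c, hc⟩ := (isom_smul_mk_eq_iff g⁻¹ hv).1 hg'
    have hc0 : c ≠ 0 := by
      rintro rfl
      simp [hv] at hc
    exact ⟨_, conj_mem_heis hc hc0 hA, by simp⟩

/-- PSp_2m(q) ≇ PΩ_(2m+1)(q) for q odd and m ≥ 3 (they have the same order). -/
theorem result {F : Type*} [Field F] [Fintype F] (hodd : Odd (Fintype.card F)) (m : ℕ) (hm : 3 ≤ m) : IsEmpty (Cfsg.PSp m F ≃* Cfsg.POmega F (Cfsg.quadFormOdd m F)) := by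
  refine ⟨fun e => ?_⟩
  obtain ⟨p, hp⟩ := CharP.exists F
  have : Fact p.Prime := ⟨CharP.char_is_prime F p⟩
  have h2 : (2 : F) ≠ 0 := two_ne_zero_of_odd_card hodd
  have hQ := qOdd_nondegenerate h2 m
  have h5 : 5 ≤ finrank F (Unit ⊕ (Fin m ⊕ Fin m) → F) := by rw [finrank_odd]; omega
  obtain ⟨u, hu, hu0⟩ := exists_singular_qOdd (F := F) (m := m) (by omega)
  have hE := E_eq_commutator_of_five hQ h5 hu hu0
  have hZ := center_E_eq_bot hQ (by omega) hu hu0
    (Or.inr (hE ▸ negO_not_mem_commutator_qOdd h2 m))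
  let e1 : E (qOdd m F) ≃* Cfsg.POmega F (Cfsg.quadFormOdd m F) :=
    ((QuotientGroup.quotientBot.symm.trans (QuotientGroup.quotientMulEquivOfEq hZ.symm)).trans
      (quotCenterCongr (MulEquiv.subgroupCongr hE))).trans (pomegaEquiv (qOdd m F)).symm
  let e2 : Cfsg.PSp m F ≃* PIsom (form (Fin m) F) :=
    CL.SpG.quotCenterCongr (spEquiv (Fin m) F)
  let φ : E (qOdd m F) ≃* PIsom (form (Fin m) F) := (e1.trans e.symm).trans e2
  have := finite_E (qOdd m F)
  have hd := (pdata_stabE_span hQ h5 (indexTwo_qOdd (by omega)) p hu hu0).map_equiv φ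
  have hne : QE (qOdd m F) u ≠ ⊥ := by
    obtain ⟨w, hw1, hw2⟩ := exists_nonsingular_orth hQ (by omega) hu hu0
    intro e
    have : eE (qOdd m F) u w ∈ (⊥ : Subgroup (E (qOdd m F))) := e ▸ eE_mem_QE u w
    rw [Subgroup.mem_bot, eE_eq_one_iff hQ hu hu0 hw1] at this
    obtain ⟨c, rfl⟩ := Submodule.mem_span_singleton.1 this
    exact hw2 (by rw [Q_smul, hu, mul_zero])
  refine not_comm p h2 (by rw [finrank_plus]; omega) ((QE_normalIn hu0).map φ.toMonoidHom)
    ((QE_isPGroup p u).map _)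
    (fun h => hne ((Subgroup.map_eq_bot_iff_of_injective _ φ.injective).1 h)) ?_ hd.comm
  rw [Subgroup.index_map_of_bijective φ.bijective, index_stabE_span hQ (by omega) hu hu0]
  have h3 := card_singPts_mul_le (qOdd m F)
  have h4 : Nat.card {x // qOdd m F x = 0} = Nat.card (Fin m ⊕ Fin m → F) := by
    rw [card_zero_congr (oddIso m F), Module.natCard_eq_pow_finrank (K := F) (V := Fin m ⊕ Fin m → F),
      finrank_plus]
    exact_mod_cast card_zero_odd (F := F) m
  rw [h4, Projectivization.card F (Fin m ⊕ Fin m → F)] at h3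
  have h6 : 1 < Nat.card F := Finite.one_lt_card
  exact Nat.le_of_mul_le_mul_right h3 (by omega)

end Cfsg.Agent.S0821
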