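import Cfsg.Agent.Base
import Cfsg.Statements.S0822
import Cfsg.Agent.S0245
import Cfsg.Agent.S0246
import Cfsg.Agent.S0280
import Cfsg.Agent.S0764
import Cfsg.Agent.S0765
import Cfsg.Agent.SmallIso.U42Data
import Cfsg.Agent.Auto.ACL_SmallIso_U42_F3_add_9ed75d
import Cfsg.Agent.Auto.ACL_SmallIso_U42_F4_add_1c9b02
import Cfsg.Agent.Auto.ACL_SmallIso_U42_F4_mul_79f52e
import Cfsg.Agent.Auto.ACL_SmallIso_U42_F3_mul_80ba2d
import Cfsg.Agent.Auto.ACL_SmallIso_U42_symp3_95c583
import Cfsg.Agent.Auto.ACL_SmallIso_U42_refl4_043486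
import Cfsg.Agent.Auto.ACL_SmallIso_U42_herm4_2fab7a
import Cfsg.Agent.Auto.ACL_SmallIso_U42_add4_4fe82f
import Cfsg.Agent.Auto.ACL_SmallIso_U42_smul4_b780b1
import Cfsg.Agent.Auto.ACL_SmallIso_U42_tv3_439187
import Cfsg.Agent.Auto.ACL_SmallIso_U42_smul3_cf7737
import Cfsg.Agent.Auto.ACL_SmallIso_U42_add3_4e47c2

set_option autoImplicit false
open Cfsg
open scoped Matrix

namespace Cfsg.Agent.S0822

open CL.SmallIso.U42

section F4side

variable {F : Type*} [Field F] (ω : F)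

/-- the embedding of the model -/
def e4 : F4 → F
  | .z => 0
  | .o => 1
  | .w => ω
  | .v => ω + 1

def eU (x : V4 F4) : Fin 4 → F := ![e4 ω x.a, e4 ω x.b, e4 ω x.c, e4 ω x.d]

variable {ω}

theorem e4_add (h2 : (2 : F) = 0) (a b : F4) : e4 ω (a.add b) = e4 ω a + e4 ω b := by
  cases a <;> cases b <;> simp only [F4.add, e4] <;> grind

theorem e4_mul (h2 : (2 : F) = 0) (hω : ω ^ 2 = ω + 1) (a b : F4) :
    e4 ω (a.mul b) = e4 ω a * e4 ω b := by
  cases a <;> cases b <;> simp only [F4.mul, e4] <;> grind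

theorem e4_inj (h2 : (2 : F) = 0) (hω : ω ^ 2 = ω + 1) : Function.Injective (e4 ω) := by
  intro a b h
  cases a <;> cases b <;> simp only [e4] at h <;> first | rfl | (exfalso; grind)

theorem e4_surj [Fintype F] (hF : Fintype.card F = 4) (h2 : (2 : F) = 0) (hω : ω ^ 2 = ω + 1)
    (x : F) : ∃ a, e4 ω a = x := by
  have h := FiniteField.pow_card x
  rw [hF] at h
  have : x * (x - 1) * (x - ω) * (x - (ω + 1)) = 0 := by grind
  rcases mul_eq_zero.1 this with h | h
  · rcases mul_eq_zero.1 h with h | h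
    · rcases mul_eq_zero.1 h with h | h
      · exact ⟨.z, h.symm⟩
      · exact ⟨.o, (sub_eq_zero.1 h).symm⟩
    · exact ⟨.w, (sub_eq_zero.1 h).symm⟩
  · exact ⟨.v, (sub_eq_zero.1 h).symm⟩

theorem eU_inj (h2 : (2 : F) = 0) (hω : ω ^ 2 = ω + 1) : Function.Injective (eU ω) := by
  intro x y h
  have h0 := e4_inj h2 hω (congrFun h 0)
  have h1 := e4_inj h2 hω (congrFun h 1)
  have h2' := e4_inj h2 hω (congrFun h 2)
  have h3 := e4_inj h2 hω (congrFun h 3)
  cases x; cases y
  simp_all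

theorem eU_smul (h2 : (2 : F) = 0) (hω : ω ^ 2 = ω + 1) (l : F4) (x : V4 F4) :
    eU ω (smul4 l x) = e4 ω l • eU ω x := by
  ext i
  fin_cases i <;> simp [eU, smul4, e4_mul h2 hω]

theorem eU_add (h2 : (2 : F) = 0) (x y : V4 F4) : eU ω (add4 x y) = eU ω x + eU ω y := by
  ext i
  fin_cases i <;> simp [eU, add4, e4_add h2]

theorem e4_herm (h2 : (2 : F) = 0) (hω : ω ^ 2 = ω + 1) (x u : V4 F4) :
    e4 ω (herm4 x u) = hermForm 4 F 2 (eU ω x) (eU ω u) := by
  simp [herm4, hermForm, Fin.sum_univ_four, eU, e4_add h2, e4_mul h2 hω, sq]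

theorem ut_mulVec (u x : Fin 4 → F) (c : F) :
    unitaryTransvection 4 2 u c *ᵥ x = x + (c * hermForm 4 F 2 x u) • u := by
  ext i
  simp only [unitaryTransvection, Matrix.add_mulVec, Matrix.one_mulVec, Matrix.smul_mulVec,
    Matrix.vecMulVec_mulVec, hermForm, Pi.add_apply, Pi.smul_apply, smul_eq_mul, dotProduct,
    MulOpposite.smul_eq_mul_unop, MulOpposite.unop_op]
  rw [mul_assoc, mul_comm (u i)]
  congr 3
  exact Finset.sum_congr rfl fun j _ => mul_comm _ _

theorem eU_refl (h2 : (2 : F) = 0) (hω : ω ^ 2 = ω + 1) (u x : V4 F4) :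
    eU ω (refl4 u x) = unitaryTransvection 4 2 (eU ω u) (ω + 1) *ᵥ eU ω x := by
  rw [ut_mulVec, refl4, eU_add h2, eU_smul h2 hω, e4_mul h2 hω, e4_herm h2 hω]
  rfl

/-- the determinant one multiple of the quasi-reflection in `u` -/
theorem exists_refl [Fintype F] (hF : Fintype.card F = 4) (h2 : (2 : F) = 0) (hω : ω ^ 2 = ω + 1)
    (u : Fin 4 → F) (hu : hermForm 4 F 2 u u = 1) : ∃ a : SU 4 F 2,
      ((a : Matrix.SpecialLinearGroup (Fin 4) F) : Matrix (Fin 4) (Fin 4) F) =
        (ω + 1) • unitaryTransvection 4 2 u (ω + 1) := by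
  have h4 : ∀ x : F, x ^ 4 = x := fun x => by
    have h := FiniteField.pow_card x
    rwa [hF] at h
  have hdet : ((ω + 1) • unitaryTransvection 4 2 u (ω + 1)).det = 1 := by
    rw [Matrix.det_smul, unitaryTransvection, ← Matrix.smul_vecMulVec,
      Matrix.vecMulVec_eq Unit, Matrix.det_one_add_replicateCol_mul_replicateRow]
    have : (fun j => u j ^ 2) ⬝ᵥ ((ω + 1) • u) = (ω + 1) * hermForm 4 F 2 u u := by
      simp only [dotProduct, hermForm, Finset.mul_sum, Pi.smul_apply, smul_eq_mul]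
      exact Finset.sum_congr rfl fun j _ => by ring
    rw [this, hu]
    simp only [Fintype.card_fin]
    grind
  refine ⟨⟨⟨_, hdet⟩, ?_⟩, rfl⟩
  intro x y
  change hermForm 4 F 2 (((ω + 1) • unitaryTransvection 4 2 u (ω + 1)) *ᵥ x)
    (((ω + 1) • unitaryTransvection 4 2 u (ω + 1)) *ᵥ y) = _
  rw [Matrix.smul_mulVec, Matrix.smul_mulVec, ut_mulVec, ut_mulVec]
  have hyu : hermForm 4 F 2 y u ^ 2 = hermForm 4 F 2 u y := by
    simp only [hermForm, Fin.sum_univ_four]
    have := h4 (u 0); have := h4 (u 1); have := h4 (u 2); have := h4 (u 3)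
    grind
  have key : ∀ (a b c d : F) , hermForm 4 F 2 (a • (x + b • u)) (c • (y + d • u)) =
      a * c ^ 2 * (hermForm 4 F 2 x y + d ^ 2 * hermForm 4 F 2 x u + b * hermForm 4 F 2 u y +
        b * d ^ 2 * hermForm 4 F 2 u u) := by
    intro a b c d
    simp only [hermForm, Fin.sum_univ_four, Pi.smul_apply, Pi.add_apply, smul_eq_mul]
    grind
  rw [key, hu, mul_pow, hyu]
  grind

end F4side

section F3side

variable (K : Type*) [Field K]

def e3 : F3 → K
  | .z => 0
  | .o => 1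
  | .t => 2

def eP (x : V4 F3) : Fin 2 ⊕ Fin 2 → K :=
  Sum.elim ![e3 K x.a, e3 K x.b] ![e3 K x.c, e3 K x.d]

variable {K}

theorem e3_add (h3 : (3 : K) = 0) (a b : F3) : e3 K (a.add b) = e3 K a + e3 K b := by
  cases a <;> cases b <;> simp only [F3.add, e3] <;> grind

theorem e3_mul (h3 : (3 : K) = 0) (a b : F3) : e3 K (a.mul b) = e3 K a * e3 K b := by
  cases a <;> cases b <;> simp only [F3.mul, e3] <;> grind

theorem e3_inj (h3 : (3 : K) = 0) : Function.Injective (e3 K) := by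
  intro a b h
  have h1 : (1 : K) ≠ 0 := one_ne_zero
  have h2 : (2 : K) ≠ 0 := fun e => h1 (by linear_combination h3 - e)
  cases a <;> cases b <;> simp only [e3] at h <;> first | rfl | (exfalso; grind)

theorem e3_surj [Fintype K] (hK : Fintype.card K = 3) (h3 : (3 : K) = 0) (x : K) :
    ∃ a, e3 K a = x := by
  have h := FiniteField.pow_card x
  rw [hK] at h
  have : x * (x - 1) * (x - 2) = 0 := by grind
  rcases mul_eq_zero.1 this with h | h
  · rcases mul_eq_zero.1 h with h | h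
    · exact ⟨.z, h.symm⟩
    · exact ⟨.o, (sub_eq_zero.1 h).symm⟩
  · exact ⟨.t, (sub_eq_zero.1 h).symm⟩

theorem eP_inj (h3 : (3 : K) = 0) : Function.Injective (eP K) := by
  intro x y h
  have h0 := e3_inj h3 (congrFun h (.inl 0))
  have h1 := e3_inj h3 (congrFun h (.inl 1))
  have h2' := e3_inj h3 (congrFun h (.inr 0))
  have h3' := e3_inj h3 (congrFun h (.inr 1))
  cases x; cases y
  simp_all

theorem eP_smul (h3 : (3 : K) = 0) (l : F3) (x : V4 F3) :
    eP K (smul3 l x) = e3 K l • eP K x := by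
  ext i
  rcases i with i | i <;> fin_cases i <;> simp [eP, smul3, e3_mul h3]

theorem eP_add (h3 : (3 : K) = 0) (x y : V4 F3) : eP K (add3 x y) = eP K x + eP K y := by
  ext i
  rcases i with i | i <;> fin_cases i <;> simp [eP, add3, e3_add h3]

theorem sympForm_two (x u : Fin 2 ⊕ Fin 2 → K) : sympForm 2 K x u =
    x (.inr 0) * u (.inl 0) + x (.inr 1) * u (.inl 1) - x (.inl 0) * u (.inr 0)
      - x (.inl 1) * u (.inr 1) := by
  simp [sympForm, Matrix.J, dotProduct, Matrix.mulVec, Fintype.sum_sum_type, Fin.sum_univ_two,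
    Matrix.one_apply]
  ring

theorem e3_symp (h3 : (3 : K) = 0) (x u : V4 F3) :
    e3 K (symp3 x u) = sympForm 2 K (eP K x) (eP K u) := by
  rw [sympForm_two]
  simp only [symp3, e3_add h3, e3_mul h3, eP]
  simp [e3]
  grind

theorem st_mulVec (u x : Fin 2 ⊕ Fin 2 → K) (c : K) :
    sympTransvection 2 u c *ᵥ x = x + (c * sympForm 2 K x u) • u := by
  ext i
  simp only [sympTransvection, Matrix.add_mulVec, Matrix.one_mulVec, Matrix.smul_mulVec,
    Matrix.vecMulVec_mulVec, sympForm, Pi.add_apply, Pi.smul_apply, smul_eq_mul,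
    MulOpposite.smul_eq_mul_unop, MulOpposite.unop_op]
  rw [mul_assoc, mul_comm (u i), dotProduct_comm]

theorem eP_tv (h3 : (3 : K) = 0) (u x : V4 F3) :
    eP K (tv3 u x) = sympTransvection 2 (eP K u) 1 *ᵥ eP K x := by
  rw [st_mulVec, tv3, eP_add h3, eP_smul h3, e3_symp h3, one_mul]

theorem eP_surj [Fintype K] (hK : Fintype.card K = 3) (h3 : (3 : K) = 0)
    (p : Fin 2 ⊕ Fin 2 → K) : ∃ y ∈ L, ∃ m : K, p = m • eP K y.2 := by
  obtain ⟨a, ha⟩ := e3_surj hK h3 (p (.inl 0))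
  obtain ⟨b, hb⟩ := e3_surj hK h3 (p (.inl 1))
  obtain ⟨c, hc⟩ := e3_surj hK h3 (p (.inr 0))
  obtain ⟨d, hd⟩ := e3_surj hK h3 (p (.inr 1))
  have hp : p = eP K ⟨a, b, c, d⟩ := by
    ext i
    rcases i with i | i <;> fin_cases i <;> simp [eP, ha, hb, hc, hd]
  have hm : ∀ a : F3, a ∈ [F3.z, .o, .t] := fun a => by cases a <;> simp
  obtain ⟨y, hy, h⟩ := check_surj3 a (hm a) b (hm b) c (hm c) d (hm d)
  refine ⟨y, hy, ?_⟩
  rcases h with h | h | h <;> exact ⟨_, by rw [hp, h, eP_smul h3]⟩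

end F3side

section main

variable {F K : Type*} [Field F] [Field K]

/-- the correspondence of points -/
def Rel (ω : F) (u : Fin 4 → F) (p : Fin 2 ⊕ Fin 2 → K) : Prop :=
  ∃ x ∈ L, ∃ (l : F) (m : K), l ≠ 0 ∧ m ≠ 0 ∧ u = l • eU ω x.1 ∧ p = m • eP K x.2

theorem Rel.smul {ω : F} {u : Fin 4 → F} {p : Fin 2 ⊕ Fin 2 → K} (h : Rel ω u p) {l : F} {m : K}
    (hl : l ≠ 0) (hm : m ≠ 0) : Rel ω (l • u) (m • p) := by
  obtain ⟨x, hx, l', m', hl', hm', rfl, rfl⟩ := h
  exact ⟨x, hx, l * l', m * m', mul_ne_zero hl hl', mul_ne_zero hm hm', by rw [smul_smul],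
    by rw [smul_smul]⟩

theorem rel_base (ω : F) {x : V4 F4 × V4 F3} (hx : x ∈ L) : Rel ω (eU ω x.1) (eP K x.2) :=
  ⟨x, hx, 1, 1, one_ne_zero, one_ne_zero, by simp, by simp⟩

theorem rel_iff [Fintype F] [Fintype K] (hF : Fintype.card F = 4) (hK : Fintype.card K = 3)
    {ω : F} (h2 : (2 : F) = 0) (hω : ω ^ 2 = ω + 1) (h3 : (3 : K) = 0)
    {x : V4 F4 × V4 F3} (hx : x ∈ L) {u : Fin 4 → F} {p : Fin 2 ⊕ Fin 2 → K} (h : Rel ω u p) :
    (∃ l : F, u = l • eU ω x.1) ↔ ∃ m : K, p = m • eP K x.2 := by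
  obtain ⟨y, hy, l', m', hl', hm', rfl, rfl⟩ := h
  constructor
  · rintro ⟨l, h⟩
    obtain ⟨a, ha⟩ := e4_surj hF h2 hω (l'⁻¹ * l)
    have h1 : eU ω y.1 = eU ω (smul4 a x.1) := by
      rw [eU_smul h2 hω, ha, mul_smul, ← h, smul_smul, inv_mul_cancel₀ hl', one_smul]
    have h1 := eU_inj h2 hω h1
    have : y = x := check_inj4 y hy x hx (by cases a <;> simp [h1])
    exact ⟨m', by rw [this]⟩
  · rintro ⟨m, h⟩
    obtain ⟨a, ha⟩ := e3_surj hK h3 (m'⁻¹ * m)
    have h1 : eP K y.2 = eP K (smul3 a x.2) := by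
      rw [eP_smul h3, ha, mul_smul, ← h, smul_smul, inv_mul_cancel₀ hm', one_smul]
    have h1 := eP_inj h3 h1
    have : y = x := check_inj3 y hy x hx (by cases a <;> simp [h1])
    exact ⟨l', by rw [this]⟩

/-- matrix of an element of `SU` -/
abbrev mU (a : SU 4 F 2) : Matrix (Fin 4) (Fin 4) F :=
  ((a : Matrix.SpecialLinearGroup (Fin 4) F) : Matrix (Fin 4) (Fin 4) F)

/-- the submonoid of pairs preserving the correspondence -/
def H0 (K : Type*) [Field K] (ω : F) :
    Submonoid (SU 4 F 2 × Matrix.symplecticGroup (Fin 2) K) where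
  carrier := {g | ∀ u p, Rel ω u p →
    Rel ω (mU g.1 *ᵥ u) ((g.2 : Matrix (Fin 2 ⊕ Fin 2) (Fin 2 ⊕ Fin 2) K) *ᵥ p)}
  one_mem' := by
    intro u p h
    simpa [mU] using h
  mul_mem' := by
    intro a b ha hb u p h
    have := ha _ _ (hb u p h)
    simpa [mU] using this

/-- the subgroup of pairs preserving the correspondence -/
def H (K : Type*) [Field K] [Finite F] [Finite K] (ω : F) :
    Subgroup (SU 4 F 2 × Matrix.symplecticGroup (Fin 2) K) :=
  { H0 K ω with
    inv_mem' := fun {a} ha => by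
      have h := (H0 K ω).pow_mem ha (orderOf a - 1)
      have : a ^ (orderOf a - 1) = a⁻¹ := by
        rw [eq_inv_iff_mul_eq_one, ← pow_succ, Nat.sub_add_cancel (orderOf_pos a),
          pow_orderOf_eq_one]
      rw [this] at h
      exact h }

theorem diag_of_eig {ι R : Type*} [Fintype ι] [DecidableEq ι] [Field R] (M : Matrix ι ι R)
    (h : ∀ i, ∃ l : R, M *ᵥ Pi.single i 1 = l • (Pi.single i 1 : ι → R)) :
    ∃ d : ι → R, M = Matrix.diagonal d := by
  choose d hd using h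
  refine ⟨d, ?_⟩
  ext i j
  have := congrFun (hd j) i
  rw [Matrix.mulVec_single_one] at this
  simp only [Matrix.col_apply, Pi.smul_apply, Pi.single_apply, smul_eq_mul, mul_ite, mul_one,
    mul_zero] at this
  rw [this, Matrix.diagonal_apply]
  split_ifs with h
  · rw [h]
  · rfl

theorem central_U {ω : F} (a : SU 4 F 2) (h : ∀ x ∈ L, ∃ l : F, mU a *ᵥ eU ω x.1 = l • eU ω x.1) :
    a ∈ Subgroup.center (SU 4 F 2) := by
  obtain ⟨d, hd⟩ := diag_of_eig (mU a) (by
    intro i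
    fin_cases i
    · convert h (⟨.o, .z, .z, .z⟩, ⟨.z, .z, .o, .t⟩) (by decide) <;>
        (ext j; fin_cases j <;> simp [eU, e4])
    · convert h (⟨.z, .o, .z, .z⟩, ⟨.z, .z, .o, .o⟩) (by decide) <;>
        (ext j; fin_cases j <;> simp [eU, e4])
    · convert h (⟨.z, .z, .o, .z⟩, ⟨.z, .z, .o, .z⟩) (by decide) <;>
        (ext j; fin_cases j <;> simp [eU, e4])
    · convert h (⟨.z, .z, .z, .o⟩, ⟨.z, .z, .z, .o⟩) (by decide) <;>
        (ext j; fin_cases j <;> simp [eU, e4]))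
  obtain ⟨l1, h1⟩ := h (⟨.o, .o, .o, .z⟩, ⟨.o, .z, .z, .z⟩) (by decide)
  obtain ⟨l2, h2⟩ := h (⟨.z, .o, .o, .o⟩, ⟨.o, .o, .z, .z⟩) (by decide)
  rw [hd] at h1 h2
  have a0 := congrFun h1 0
  have a1 := congrFun h1 1
  have a2 := congrFun h1 2
  have b2 := congrFun h2 2
  have b3 := congrFun h2 3
  simp [Matrix.mulVec_diagonal, eU, e4] at a0 a1 a2 b2 b3
  have hs : mU a = l1 • 1 := by
    rw [hd]
    ext i j
    fin_cases i <;> fin_cases j <;> simp [a0, a1, a2, b3, ← b2]
  rw [Subgroup.mem_center_iff]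
  intro g
  apply Subtype.ext
  apply Subtype.ext
  change mU g * mU a = mU a * mU g
  simp [hs]

theorem central_P (b : Matrix.symplecticGroup (Fin 2) K)
    (h : ∀ p, ∃ m : K, (b : Matrix (Fin 2 ⊕ Fin 2) (Fin 2 ⊕ Fin 2) K) *ᵥ p = m • p) :
    b ∈ Subgroup.center (Matrix.symplecticGroup (Fin 2) K) := by
  obtain ⟨d, hd⟩ := diag_of_eig _ (fun i => h (Pi.single i 1))
  obtain ⟨m, hm⟩ := h (fun _ => 1)
  have hs : (b : Matrix (Fin 2 ⊕ Fin 2) (Fin 2 ⊕ Fin 2) K) = m • 1 := by
    rw [hd] at hm ⊢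
    have : ∀ i, d i = m := fun i => by
      simpa [Matrix.mulVec_diagonal] using congrFun hm i
    ext i j
    simp [Matrix.diagonal_apply, Matrix.one_apply, this]
  rw [Subgroup.mem_center_iff]
  intro g
  apply Subtype.ext
  simp [hs]

end main

/-- PSU_4(2) ≅ PSp_4(3): with |F| = 4 and |K| = 3, the projective special unitary group of the standard Hermitian form on F^4 is isomorphic to PSp_4(K). -/
theorem result {F K : Type*} [Field F] [Fintype F] [Field K] [Fintype K] (hF : Fintype.card F = 4) (hK : Fintype.card K = 3) : Nonempty (Cfsg.PSU 4 F 2 ≃* Cfsg.PSp 2 K) := by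
  have h2 : (2 : F) = 0 := by
    have h := FiniteField.cast_card_eq_zero F
    rw [hF] at h
    have : (2 : F) ^ 2 = 0 := by rw [← h]; norm_num
    exact pow_eq_zero_iff (two_ne_zero) |>.1 this
  have h3 : (3 : K) = 0 := by
    have h := FiniteField.cast_card_eq_zero K
    rw [hK] at h
    exact_mod_cast h
  obtain ⟨ω, hω⟩ : ∃ ω : F, ω ^ 2 = ω + 1 := by
    classical
    obtain ⟨ω, h⟩ : ∃ ω : F, ω ∉ ({0, 1} : Finset F) := by
      by_contra hh
      push Not at hh
      have h1 : (Finset.univ : Finset F) ⊆ {0, 1} := fun k _ => hh k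
      have h2 := Finset.card_le_card h1
      have h3 : ({0, 1} : Finset F).card ≤ 2 := Finset.card_le_two
      rw [Finset.card_univ] at h2
      omega
    simp only [Finset.mem_insert, Finset.mem_singleton, not_or] at h
    have h4 := FiniteField.pow_card ω
    rw [hF] at h4
    have : ω * (ω - 1) * (ω ^ 2 - (ω + 1)) = 0 := by grind
    rcases mul_eq_zero.1 this with h5 | h5
    · rcases mul_eq_zero.1 h5 with h5 | h5
      · exact absurd h5 h.1
      · exact absurd (sub_eq_zero.1 h5) h.2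
    · exact ⟨ω, sub_eq_zero.1 h5⟩
  have hω0 : ω ≠ 0 := by rintro rfl; simp at hω
  have hω1 : ω + 1 ≠ 0 := by rw [← hω]; exact pow_ne_zero _ hω0
  have h2K : (2 : K) ≠ 0 := fun e => one_ne_zero (α := K) (by linear_combination h3 - e)
  have hnorm : ∀ x ∈ L, hermForm 4 F 2 (eU ω x.1) (eU ω x.1) = 1 := by
    intro x hx
    rw [← e4_herm h2 hω, check_norm x hx]
    rfl
  -- the generators
  have hgen : ∀ x ∈ L, ∃ a : SU 4 F 2, mU a = (ω + 1) • unitaryTransvection 4 2 (eU ω x.1) (ω + 1) ∧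
      (a, (⟨_, S0764.result 2 (eP K x.2) 1⟩ : Matrix.symplecticGroup (Fin 2) K)) ∈ H K ω := by
    intro x hx
    obtain ⟨a, ha⟩ := exists_refl hF h2 hω _ (hnorm x hx)
    refine ⟨a, ha, ?_⟩
    rintro u p ⟨y, hy, l, m, hl, hm, rfl, rfl⟩
    rw [Matrix.mulVec_smul, Matrix.mulVec_smul]
    refine Rel.smul ?_ hl hm
    change Rel ω (mU a *ᵥ _) (sympTransvection 2 (eP K x.2) 1 *ᵥ _)
    rw [show mU a = _ from ha, Matrix.smul_mulVec, ← eU_refl h2 hω, ← eP_tv h3]
    obtain ⟨z, hz, hz3, hz4⟩ := check_act x hx y hy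
    obtain ⟨m', hm', e3'⟩ : ∃ m' : K, m' ≠ 0 ∧ eP K (tv3 x.2 y.2) = m' • eP K z.2 := by
      rcases hz3 with h | h
      · exact ⟨1, one_ne_zero, by rw [h, one_smul]⟩
      · exact ⟨2, h2K, by rw [h, eP_smul h3]; rfl⟩
    obtain ⟨l', hl', e4'⟩ : ∃ l' : F, l' ≠ 0 ∧ eU ω (refl4 x.1 y.1) = l' • eU ω z.1 := by
      rcases hz4 with h | h | h
      · exact ⟨1, one_ne_zero, by rw [h, one_smul]⟩
      · exact ⟨ω, hω0, by rw [h, eU_smul h2 hω]; rfl⟩
      · exact ⟨ω + 1, hω1, by rw [h, eU_smul h2 hω]; rfl⟩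
    rw [e3', e4', smul_smul]
    exact (rel_base ω hz).smul (mul_ne_zero hω1 hl') hm'
  let π1 : H K ω →* PSU 4 F 2 :=
    (QuotientGroup.mk' _).comp ((MonoidHom.fst _ _).comp (H K ω).subtype)
  let p2 : H K ω →* Matrix.symplecticGroup (Fin 2) K := (MonoidHom.snd _ _).comp (H K ω).subtype
  let π2 : H K ω →* PSp 2 K := (QuotientGroup.mk' _).comp p2
  have hp2 : Function.Surjective p2 := by
    rw [← MonoidHom.range_eq_top, eq_top_iff, ← S0765.result (F := K) 2, Subgroup.closure_le]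
    rintro A ⟨w, c, hA⟩
    obtain ⟨y, hy, m, rfl⟩ := eP_surj hK h3 w
    obtain ⟨a, -, ha⟩ := hgen y hy
    have hT : (⟨_, S0764.result 2 (eP K y.2) 1⟩ : Matrix.symplecticGroup (Fin 2) K) ∈ p2.range :=
      ⟨⟨_, ha⟩, rfl⟩
    have hsym : sympForm 2 K (eP K y.2) (eP K y.2) = 0 := by rw [sympForm_two]; ring
    have hA' : ∀ x, (A : Matrix (Fin 2 ⊕ Fin 2) (Fin 2 ⊕ Fin 2) K) *ᵥ x =
        x + (c * m ^ 2 * sympForm 2 K x (eP K y.2)) • eP K y.2 := by
      intro x
      rw [hA, st_mulVec, smul_smul]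
      congr 2
      simp only [sympForm_two, Pi.smul_apply, smul_eq_mul]
      ring
    obtain ⟨s, ht⟩ := e3_surj hK h3 (c * m ^ 2)
    have hext : ∀ B C : Matrix.symplecticGroup (Fin 2) K,
        (∀ x, (B : Matrix (Fin 2 ⊕ Fin 2) (Fin 2 ⊕ Fin 2) K) *ᵥ x =
          (C : Matrix (Fin 2 ⊕ Fin 2) (Fin 2 ⊕ Fin 2) K) *ᵥ x) → B = C := by
      intro B C h
      apply Subtype.ext
      apply Matrix.toLin'.injective
      exact LinearMap.ext h
    rw [← ht] at hA'
    cases s
    · have : A = 1 := hext _ _ (fun x => by simp [hA', e3])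
      rw [this]
      exact one_mem _
    · have : A = ⟨_, S0764.result 2 (eP K y.2) 1⟩ := by
        refine hext _ _ (fun x => ?_)
        rw [hA']
        exact (st_mulVec _ _ 1).symm
      rw [this]
      exact hT
    · suffices h : A = ⟨_, S0764.result 2 (eP K y.2) 1⟩ * ⟨_, S0764.result 2 (eP K y.2) 1⟩ by
        rw [h]
        exact p2.range.mul_mem hT hT
      refine hext _ _ (fun x => ?_)
      rw [hA', Submonoid.coe_mul, ← Matrix.mulVec_mulVec, st_mulVec, st_mulVec]
      have : sympForm 2 K (x + (1 * sympForm 2 K x (eP K y.2)) • eP K y.2) (eP K y.2) =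
          sympForm 2 K x (eP K y.2) := by
        simp only [sympForm_two, Pi.add_apply, Pi.smul_apply, smul_eq_mul]
        ring
      rw [this, add_assoc, ← add_smul]
      congr 2
      simp only [e3]
      ring
  have hπ2 : Function.Surjective π2 := (QuotientGroup.mk'_surjective _).comp hp2
  have hker : π1.ker = π2.ker := by
    ext ⟨⟨a, b⟩, hab⟩
    change (QuotientGroup.mk a = 1) ↔ (QuotientGroup.mk b = 1)
    rw [QuotientGroup.eq_one_iff, QuotientGroup.eq_one_iff]
    constructor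
    · intro ha
      apply central_P
      intro p
      obtain ⟨y, hy, m, rfl⟩ := eP_surj hK h3 p
      obtain ⟨a', ha', -⟩ := hgen y hy
      have hc : mU a' * mU a = mU a * mU a' :=
        congrArg mU (Subgroup.mem_center_iff.1 ha a')
      have hc' := congrArg (fun M => M *ᵥ eU ω y.1) hc
      simp only [← Matrix.mulVec_mulVec, ha', Matrix.smul_mulVec, Matrix.mulVec_smul, ut_mulVec,
        Matrix.mulVec_add, hnorm y hy, mul_one] at hc'
      have hc'' := add_left_cancel (smul_right_injective _ hω1 hc')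
      rw [mul_smul] at hc''
      have hc3 := smul_right_injective _ hω1 hc''
      obtain ⟨m', hm'⟩ := (rel_iff hF hK h2 hω h3 hy (hab _ _ (rel_base ω hy))).1 ⟨_, hc3.symm⟩
      refine ⟨m', ?_⟩
      rw [Matrix.mulVec_smul, smul_comm]
      exact congrArg _ hm'
    · intro hb
      apply central_U (ω := ω)
      intro y hy
      apply (rel_iff hF hK h2 hω h3 hy (hab _ _ (rel_base ω hy))).2
      have hc := congrArg Subtype.val (Subgroup.mem_center_iff.1 hb ⟨_, S0764.result 2 (eP K y.2) 1⟩)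
      obtain ⟨x, hx⟩ : ∃ x, sympForm 2 K x (eP K y.2) = 1 := by
        by_contra hh
        push Not at hh
        have h0 : ∀ x, sympForm 2 K x (eP K y.2) = 0 := by
          intro x
          by_contra h0
          apply hh ((sympForm 2 K x (eP K y.2))⁻¹ • x)
          have : ∀ t : K, sympForm 2 K (t • x) (eP K y.2) = t * sympForm 2 K x (eP K y.2) := by
            intro t
            simp only [sympForm_two, Pi.smul_apply, smul_eq_mul]
            ring
          rw [this, inv_mul_cancel₀ h0]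
        have e1 := h0 (Pi.single (.inl 0) 1)
        have e2 := h0 (Pi.single (.inl 1) 1)
        have e3' := h0 (Pi.single (.inr 0) 1)
        have e4' := h0 (Pi.single (.inr 1) 1)
        simp [sympForm_two] at e1 e2 e3' e4'
        have hz : ∀ z : V4 F3, eP K y.2 = eP K (smul3 .z z) := by
          intro z
          rw [eP_smul h3]
          ext i
          rcases i with i | i <;> fin_cases i <;> simp [e1, e2, e3', e4', e3]
        have ha := check_inj3 y hy (⟨.z, .z, .z, .o⟩, ⟨.z, .z, .z, .o⟩) (by decide)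
          (Or.inl (eP_inj h3 (hz _)))
        have hb := check_inj3 y hy (⟨.z, .z, .o, .z⟩, ⟨.z, .z, .o, .z⟩) (by decide)
          (Or.inl (eP_inj h3 (hz _)))
        rw [ha] at hb
        exact absurd hb (by decide)
      have hc' := congrArg (fun M => M *ᵥ x) hc
      simp only [Submonoid.coe_mul, ← Matrix.mulVec_mulVec, st_mulVec, Matrix.mulVec_add,
        hx, mul_one, one_smul, one_mul] at hc'
      exact ⟨_, (add_left_cancel hc').symm⟩
  let e2 : (H K ω ⧸ π1.ker) ≃* PSp 2 K :=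
    (QuotientGroup.quotientMulEquivOfEq hker).trans
      (QuotientGroup.quotientKerEquivOfSurjective π2 hπ2)
  let f : PSp 2 K →* PSU 4 F 2 := (QuotientGroup.kerLift π1).comp e2.symm.toMonoidHom
  have hf : Function.Injective f := (QuotientGroup.kerLift_injective π1).comp e2.symm.injective
  have hcU : Nat.card (PSU 4 F 2) = 25920 := by
    have := S0280.result (F := F) (q := 2) (by rw [hF]; rfl) 4 (by norm_num)
    generalize Nat.card (PSU 4 F 2) = N at this ⊢
    have h4 : ∏ i ∈ Finset.range 4, (if Even i then 2 ^ (i + 1) + 1 else 2 ^ (i + 1) - 1) = 1215 := by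
      decide
    rw [h4] at this
    norm_num at this
    omega
  have hcP : Nat.card (PSp 2 K) = 25920 := by
    have h1 := S0245.result hK 2
    have h2 := S0246.result hK 2 (by norm_num)
    have h3 := Subgroup.card_eq_card_quotient_mul_card_subgroup
      (Subgroup.center (Matrix.symplecticGroup (Fin 2) K))
    rw [h1, h2] at h3
    simp [Finset.prod_range_succ] at h3
    change Nat.card (Matrix.symplecticGroup (Fin 2) K ⧸ _) = _
    omega
  have : Finite (PSU 4 F 2) := Nat.finite_of_card_ne_zero (by rw [hcU]; norm_num)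
  exact ⟨(MulEquiv.ofBijective f
    ((Nat.bijective_iff_injective_and_card f).2 ⟨hf, hcP.trans hcU.symm⟩)).symm⟩

end Cfsg.Agent.S0822
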