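import Cfsg.Agent.Base
import Cfsg.Statements.S0823
import Cfsg.Agent.S0286
import Cfsg.Agent.SmallIso.Compress

set_option autoImplicit false
open Cfsg
open scoped Matrix

namespace Cfsg.Agent.S0823

open CL.SmallIso

variable {F : Type*} [Field F]

/-- columns: a basis of the sum-zero vectors -/
def matB (F : Type*) [Field F] : Matrix (Fin 4) (Unit ⊕ (Fin 1 ⊕ Fin 1)) F :=
  Matrix.of fun i j => Sum.elim (fun _ => (![0,0,1,2] : Fin 4 → F) i)
    (Sum.elim (fun _ => (![0,1,1,1] : Fin 4 → F) i) (fun _ => (![2,0,2,2] : Fin 4 → F) i)) j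

def matA (F : Type*) [Field F] : Matrix (Unit ⊕ (Fin 1 ⊕ Fin 1)) (Fin 4) F :=
  Matrix.of fun j i => Sum.elim (fun _ => (![0,0,2,1] : Fin 4 → F) i)
    (Sum.elim (fun _ => (![2,0,2,2] : Fin 4 → F) i) (fun _ => (![0,1,1,1] : Fin 4 → F) i)) j

theorem B_mulVec (x : Unit ⊕ (Fin 1 ⊕ Fin 1) → F) : matB F *ᵥ x =
    ![2 * x (.inr (.inr 0)), x (.inr (.inl 0)),
      x (.inl ()) + x (.inr (.inl 0)) + 2 * x (.inr (.inr 0)),
      2 * x (.inl ()) + x (.inr (.inl 0)) + 2 * x (.inr (.inr 0))] := by
  ext i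
  fin_cases i <;>
    simp [matB, Matrix.mulVec, dotProduct, Fintype.sum_sum_type] <;> ring

theorem A_mulVec (v : Fin 4 → F) : matA F *ᵥ v =
    Sum.elim (fun _ => 2 * v 2 + v 3)
      (Sum.elim (fun _ => 2 * v 0 + 2 * v 2 + 2 * v 3) (fun _ => v 1 + v 2 + v 3)) := by
  ext j
  rcases j with j | j | j <;>
    simp [matA, Matrix.mulVec, dotProduct, Fin.sum_univ_four]

theorem BA (h3 : (3 : F) = 0) (v : Fin 4 → F) (hv : ∑ i, v i = 0) :
    matB F *ᵥ (matA F *ᵥ v) = v := by
  rw [Fin.sum_univ_four] at hv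
  rw [B_mulVec, A_mulVec]
  ext i
  fin_cases i <;> simp <;> grind

theorem perm_eq_one {κ : Type} [Fintype κ] [DecidableEq κ] (hκ : 3 ≤ Fintype.card κ)
    (σ : Equiv.Perm κ) (c : F)
    (h : ∀ i j : κ, ∀ k, c * (Pi.single i (1 : F) - Pi.single j (1 : F) : κ → F) (σ⁻¹ k) =
        (Pi.single i (1 : F) - Pi.single j (1 : F) : κ → F) k) : σ = 1 := by
  have : ∀ i, σ⁻¹ i = i := by
    intro i
    by_contra hi
    have : ∃ k, k ∉ ({i, σ⁻¹ i} : Finset κ) := by
      by_contra hh
      push Not at hh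
      have h1 : (Finset.univ : Finset κ) ⊆ {i, σ⁻¹ i} := fun k _ => hh k
      have h2 := Finset.card_le_card h1
      have h3 : ({i, σ⁻¹ i} : Finset κ).card ≤ 2 := Finset.card_le_two
      rw [Finset.card_univ] at h2
      omega
    obtain ⟨k, hk⟩ := this
    simp only [Finset.mem_insert, Finset.mem_singleton, not_or] at hk
    have := h i k i
    simp only [Pi.sub_apply, Pi.single_apply, hi, Ne.symm hk.1, Ne.symm hk.2, if_false, if_true,
      sub_zero, mul_zero] at this
    exact zero_ne_one this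
  have h1 : σ⁻¹ = 1 := Equiv.ext this
  simpa using h1

/-- SO_3(3) ≅ S_4: the determinant-one isometries of the form x_0² + x_1y_1 over the field with 3 elements form a group isomorphic to the symmetric group on 4 letters. -/
theorem result {F : Type*} [Field F] [Fintype F] (hF : Fintype.card F = 3) : Nonempty (↥(Cfsg.specialIsometryGroup F (Cfsg.quadFormOdd 1 F)) ≃* Equiv.Perm (Fin 4)) := by
  have h3 := three_eq_zero_of_card_three hF
  have hsq : ∀ x : F, x ≠ 0 → x ^ 2 = 1 := fun x hx => by
    have := FiniteField.pow_card_sub_one_eq_one x hx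
    rwa [hF] at this
  have hAB : matA F * matB F = 1 := by
    apply Matrix.toLin'.injective
    apply LinearMap.ext
    intro x
    simp only [Matrix.toLin'_apply, ← Matrix.mulVec_mulVec, Matrix.one_mulVec]
    rw [A_mulVec, B_mulVec]
    ext j
    rcases j with j | j | j
    · simp; grind
    · fin_cases j; simp; grind
    · fin_cases j; simp; grind
  have hsumB : ∀ x, ∑ i, (matB F *ᵥ x) i = 0 := by
    intro x
    rw [B_mulVec, Fin.sum_univ_four]
    simp
    grind
  have hsum : ∀ (σ : Equiv.Perm (Fin 4)) (v : Fin 4 → F),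
      ∑ i, (Matrix.permMatrixHom (R := F) σ *ᵥ v) i = ∑ i, v i := by
    intro σ v
    rw [permMatrixHom_mulVec]
    exact Equiv.sum_comp σ⁻¹ v
  obtain ⟨f0, hf0⟩ := exists_compress (Matrix.permMatrixHom (R := F) (n := Fin 4)) (matA F) (matB F)
    (quadFormOdd 1 F) (fun v => 2 * ∑ i, v i ^ 2) hAB
    (by
      intro x
      rw [B_mulVec, quadFormOdd, Fin.sum_univ_four]
      simp
      grind)
    (by
      intro σ v
      rw [permMatrixHom_mulVec]
      exact congrArg (2 * ·) (Equiv.sum_comp σ⁻¹ (fun i => v i ^ 2)))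
    (by
      intro σ x
      have hs := (hsum σ (matB F *ᵥ x)).trans (hsumB x)
      exact ⟨0, by rw [BA h3 _ hs, add_zero], by simp, by simp⟩)
  let ι := Unit ⊕ (Fin 1 ⊕ Fin 1)
  have hι : ι = (Unit ⊕ (Fin 1 ⊕ Fin 1)) := rfl
  let O := isometryGroup F (quadFormOdd 1 F)
  have hO : O = isometryGroup F (quadFormOdd 1 F) := rfl
  let d : O →* Fˣ := Matrix.GeneralLinearGroup.det.comp O.subtype
  have hd : ∀ g : O, ((d g : Fˣ) : F) = ((g : Matrix.GeneralLinearGroup ι F) : Matrix ι ι F).det :=
    fun g => rfl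
  have hsc : ∀ c : Fˣ, Matrix.GeneralLinearGroup.scalar ι c ∈ O := by
    intro c
    rw [hO, mem_isometryGroup_iff]
    intro v
    have : ((Matrix.GeneralLinearGroup.scalar ι c : Matrix.GeneralLinearGroup ι F) :
      Matrix ι ι F) *ᵥ v = (c : F) • v := by
      ext i
      simp [Matrix.GeneralLinearGroup.scalar, Matrix.mulVec_diagonal]
    rw [this]
    simp only [quadFormOdd, Pi.smul_apply, smul_eq_mul, Finset.univ_unique, Finset.sum_singleton]
    have := hsq c c.ne_zero
    linear_combination (v (Sum.inl ()) ^ 2 + v (Sum.inr (Sum.inl default)) *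
      v (Sum.inr (Sum.inr default))) * this
  let s : Fˣ →* O := (Matrix.GeneralLinearGroup.scalar ι).codRestrict O hsc
  have hs : ∀ c : Fˣ, ((s c : Matrix.GeneralLinearGroup ι F) : Matrix ι ι F) = (c : F) • 1 := by
    intro c
    change ((Matrix.GeneralLinearGroup.scalar ι c : Matrix.GeneralLinearGroup ι F) :
      Matrix ι ι F) = _
    ext i j
    simp [Matrix.GeneralLinearGroup.scalar, Matrix.diagonal_apply, Matrix.one_apply]
  have hcomm : ∀ (c : Fˣ) (g : O), s c * g = g * s c := by
    intro c g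
    apply Subtype.ext
    apply Units.ext
    simp [hs]
  have hds : ∀ c : Fˣ, d (s c) = c := by
    intro c
    apply Units.ext
    rw [hd, hs, Matrix.det_smul, Matrix.det_one, mul_one]
    have : Fintype.card ι = 3 := by simp [hι]
    rw [this, pow_succ, hsq c c.ne_zero, one_mul]
  let f1 : Equiv.Perm (Fin 4) →* O :=
    { toFun := fun σ => s (d (f0 σ)) * f0 σ
      map_one' := by simp
      map_mul' := fun σ τ => by
        simp only [map_mul, mul_assoc]
        rw [← mul_assoc (f0 σ), ← hcomm, mul_assoc] }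
  have hmem : ∀ σ, f1 σ ∈ specialIsometryGroup F (quadFormOdd 1 F) := by
    intro σ
    change d (s (d (f0 σ)) * f0 σ) = 1
    rw [map_mul, hds, ← sq]
    apply Units.ext
    simpa using hsq _ (d (f0 σ)).ne_zero
  let f := f1.codRestrict _ hmem
  have hinj : Function.Injective f := by
    rw [injective_iff_map_eq_one]
    intro σ hσ
    have h0 : s (d (f0 σ)) * f0 σ = 1 := congrArg Subtype.val hσ
    generalize d (f0 σ) = c at h0
    have h1 : (c : F) • (matA F * Matrix.permMatrixHom (R := F) σ * matB F) = 1 := by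
      rw [← hf0]
      have := congrArg (fun g : O => ((g : Matrix.GeneralLinearGroup ι F) : Matrix ι ι F)) h0
      simpa [hs] using this
    apply perm_eq_one (F := F) (by simp) σ c
    intro i j
    set v : Fin 4 → F := Pi.single i 1 - Pi.single j 1 with hv
    have hv0 : ∑ k, v k = 0 := by simp [hv, Finset.sum_sub_distrib]
    have e1 := BA h3 v hv0
    have e2 := BA h3 _ ((hsum σ v).trans hv0)
    have e3 : (c : F) • (matA F *ᵥ (Matrix.permMatrixHom (R := F) σ *ᵥ (matB F *ᵥ (matA F *ᵥ v)))) =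
        matA F *ᵥ v := by
      rw [Matrix.mulVec_mulVec, Matrix.mulVec_mulVec, ← Matrix.smul_mulVec, h1, Matrix.one_mulVec]
    rw [e1] at e3
    have e4 := congrArg (fun w => matB F *ᵥ w) e3
    simp only [Matrix.mulVec_smul] at e4
    rw [e2, e1, permMatrixHom_mulVec] at e4
    intro k
    exact congrFun e4 k
  have hcardO : Nat.card O = 48 := by
    rw [hO, Cfsg.Agent.S0286.result hF (by decide) 1]
    simp
  have hsurj : Function.Surjective d := fun c => ⟨s c, hds c⟩
  have hker : Nat.card (specialIsometryGroup F (quadFormOdd 1 F)) = 24 := by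
    have h1 := d.ker.card_mul_index
    rw [Subgroup.index_ker, MonoidHom.range_eq_top.2 hsurj, Subgroup.card_top, Nat.card_units,
      Nat.card_eq_fintype_card (α := F), hF, hcardO] at h1
    change Nat.card d.ker = 24
    omega
  have hcard : Nat.card (Equiv.Perm (Fin 4)) =
      Nat.card (specialIsometryGroup F (quadFormOdd 1 F)) := by
    rw [hker, Nat.card_eq_fintype_card, Fintype.card_perm]
    simp [Nat.factorial]
  have : Finite (specialIsometryGroup F (quadFormOdd 1 F)) := inferInstance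
  exact ⟨(MulEquiv.ofBijective f ((Nat.bijective_iff_injective_and_card f).2 ⟨hinj, hcard⟩)).symm⟩

end Cfsg.Agent.S0823
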