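import Cfsg.Agent.Base
import Cfsg.Statements.S0824
import Cfsg.Agent.S0288
import Cfsg.Agent.SmallIso.Compress

set_option autoImplicit false
open Cfsg
open scoped Matrix

namespace Cfsg.Agent.S0824

open CL.SmallIso

variable {F : Type*} [Field F]

/-- columns: a basis of the even-weight vectors -/
def matB (F : Type*) [Field F] : Matrix (Fin 5) ((Fin 1 ⊕ Fin 1) ⊕ Fin 2) F :=
  Matrix.of fun i j => Sum.elim
    (Sum.elim (fun _ => (![0,1,1,1,1] : Fin 5 → F) i) (fun _ => (![1,0,1,1,1] : Fin 5 → F) i))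
    (fun j => (![![0,0,0,1,1], ![0,0,1,0,1]] : Fin 2 → Fin 5 → F) j i) j

def matA (F : Type*) [Field F] : Matrix ((Fin 1 ⊕ Fin 1) ⊕ Fin 2) (Fin 5) F :=
  Matrix.of fun j i => Sum.elim
    (Sum.elim (fun _ => (![1,0,1,1,1] : Fin 5 → F) i) (fun _ => (![0,1,1,1,1] : Fin 5 → F) i))
    (fun j => (![![0,0,1,0,1], ![0,0,0,1,1]] : Fin 2 → Fin 5 → F) j i) j

theorem B_mulVec (x : (Fin 1 ⊕ Fin 1) ⊕ Fin 2 → F) : matB F *ᵥ x =
    ![x (.inl (.inr 0)), x (.inl (.inl 0)), x (.inl (.inl 0)) + x (.inl (.inr 0)) + x (.inr 1),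
      x (.inl (.inl 0)) + x (.inl (.inr 0)) + x (.inr 0),
      x (.inl (.inl 0)) + x (.inl (.inr 0)) + x (.inr 0) + x (.inr 1)] := by
  ext i
  fin_cases i <;>
    simp [matB, Matrix.mulVec, dotProduct, Fintype.sum_sum_type, Fin.sum_univ_two] <;> ring

theorem A_mulVec (v : Fin 5 → F) : matA F *ᵥ v =
    Sum.elim (Sum.elim (fun _ => v 0 + v 2 + v 3 + v 4) (fun _ => v 1 + v 2 + v 3 + v 4))
      ![v 2 + v 4, v 3 + v 4] := by
  ext j
  rcases j with (j | j) | j <;> fin_cases j <;>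
    simp [matA, Matrix.mulVec, dotProduct, Fin.sum_univ_five]

theorem e2_five (v : Fin 5 → F) : e2 v =
    v 0 * (v 1 + v 2 + v 3 + v 4) + v 1 * (v 2 + v 3 + v 4)
    + v 2 * (v 3 + v 4) + v 3 * v 4 := by
  rw [e2_eq]
  simp only [Fin.sum_univ_five]
  simp (config := {decide := true}) only [if_true, if_false]
  ring

theorem BA (h2 : (2 : F) = 0) (v : Fin 5 → F) (hv : ∑ i, v i = 0) :
    matB F *ᵥ (matA F *ᵥ v) = v := by
  have : CharP F 2 := CharTwo.of_one_ne_zero_of_two_eq_zero one_ne_zero h2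
  rw [Fin.sum_univ_five] at hv
  have h4 : v 4 = v 0 + v 1 + v 2 + v 3 := by
    linear_combination hv - (v 0 + v 1 + v 2 + v 3) * h2
  rw [B_mulVec, A_mulVec]
  ext i
  fin_cases i <;> simp [h4] <;> ring_nf <;> reduce_mod_char!

/-- O⁻_4(2) ≅ S_5: the isometry group of the form x y + z_1² + z_1 z_2 + z_2² over the field with 2 elements is isomorphic to the symmetric group on 5 letters. -/
theorem result {F : Type*} [Field F] [Fintype F] (hF : Fintype.card F = 2) : Nonempty (↥(Cfsg.isometryGroup F (Cfsg.quadFormMinus 1 F 1 1)) ≃* Equiv.Perm (Fin 5)) := by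
  have h2 := two_eq_zero_of_card_two hF
  have : CharP F 2 := CharTwo.of_one_ne_zero_of_two_eq_zero one_ne_zero h2
  have hAB : matA F * matB F = 1 := by
    apply Matrix.toLin'.injective
    apply LinearMap.ext
    intro x
    simp only [Matrix.toLin'_apply, ← Matrix.mulVec_mulVec, Matrix.one_mulVec]
    rw [A_mulVec, B_mulVec]
    ext j
    rcases j with (j | j) | j <;> fin_cases j <;> simp <;> ring_nf <;> reduce_mod_char!
  have hsumB : ∀ x, ∑ i, (matB F *ᵥ x) i = 0 := by
    intro x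
    rw [B_mulVec, Fin.sum_univ_five]
    simp
    ring_nf
    reduce_mod_char!
  have hsum : ∀ (σ : Equiv.Perm (Fin 5)) (v : Fin 5 → F),
      ∑ i, (Matrix.permMatrixHom (R := F) σ *ᵥ v) i = ∑ i, v i := by
    intro σ v
    rw [permMatrixHom_mulVec]
    exact Equiv.sum_comp σ⁻¹ v
  obtain ⟨f, hf⟩ := exists_compress (Matrix.permMatrixHom (R := F) (n := Fin 5)) (matA F) (matB F)
    (quadFormMinus 1 F 1 1) e2 hAB
    (by
      intro x
      rw [e2_five, B_mulVec, quadFormMinus]
      simp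
      ring_nf
      reduce_mod_char!)
    (by
      intro σ v
      rw [permMatrixHom_mulVec]
      exact e2_perm σ⁻¹ v)
    (by
      intro σ x
      have hs := (hsum σ (matB F *ᵥ x)).trans (hsumB x)
      exact ⟨0, by rw [BA h2 _ hs, add_zero], by simp, by simp⟩)
  have hinj : Function.Injective f := by
    rw [injective_iff_map_eq_one]
    intro σ hσ
    have h1 : matA F * Matrix.permMatrixHom (R := F) σ * matB F = 1 := by
      rw [← hf, hσ]; rfl
    apply perm_eq_one_of_pairs (F := F) (by simp) σ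
    intro i j _
    set v : Fin 5 → F := Pi.single i 1 - Pi.single j 1 with hv
    have hv0 : ∑ k, v k = 0 := by simp [hv, Finset.sum_sub_distrib]
    have e1 := BA h2 v hv0
    have e2 := BA h2 _ ((hsum σ v).trans hv0)
    have e3 : matA F *ᵥ (Matrix.permMatrixHom (R := F) σ *ᵥ (matB F *ᵥ (matA F *ᵥ v))) =
        matA F *ᵥ v := by
      rw [Matrix.mulVec_mulVec, Matrix.mulVec_mulVec, h1, Matrix.one_mulVec]
    rw [e1] at e3
    rw [e3, e1, permMatrixHom_mulVec] at e2
    refine ⟨0, fun k => ?_⟩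
    rw [add_zero]
    exact (congrFun e2 k).symm
  have hab : ∀ z₁ z₂ : F, z₁ ^ 2 + 1 * z₁ * z₂ + 1 * z₂ ^ 2 = 0 → z₁ = 0 ∧ z₂ = 0 := by
    intro z₁ z₂ h
    rcases eq_zero_or_one_of_card_two hF z₁ with rfl | rfl <;>
      rcases eq_zero_or_one_of_card_two hF z₂ with rfl | rfl
    · exact ⟨rfl, rfl⟩
    · simp at h
    · simp at h
    · exfalso
      have : (1 : F) = 0 := by linear_combination h - h2
      exact one_ne_zero this
  have hcard : Nat.card (Equiv.Perm (Fin 5)) =
      Nat.card (isometryGroup F (quadFormMinus 1 F 1 1)) := by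
    have := Cfsg.Agent.S0288.result hF 2 (by norm_num) 1 1 hab
    rw [show (2 - 1 : ℕ) = 1 from rfl] at this
    erw [this]
    rw [Nat.card_eq_fintype_card, Fintype.card_perm]
    simp [Nat.factorial]
  have : Finite (isometryGroup F (quadFormMinus 1 F 1 1)) := inferInstance
  exact ⟨(MulEquiv.ofBijective f ((Nat.bijective_iff_injective_and_card f).2 ⟨hinj, hcard⟩)).symm⟩

end Cfsg.Agent.S0824
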