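import Cfsg.Agent.Base
import Cfsg.Statements.S0825
import Cfsg.Agent.S0287
import Cfsg.Agent.SmallIso.Compress

set_option autoImplicit false
open Cfsg
open scoped Matrix

namespace Cfsg.Agent.S0825

open CL.SmallIso

variable {F : Type*} [Field F]

/-- columns: a hyperbolic basis of the even-weight vectors modulo the all-one vector -/
def matB (F : Type*) [Field F] : Matrix (Fin 8) (Fin 3 ⊕ Fin 3) F :=
  Matrix.of fun i j => Sum.elim
    (fun j => (![![1,1,1,1,0,0,0,0], ![1,1,0,0,1,1,0,0], ![1,0,1,0,1,0,1,0]] : Fin 3 → Fin 8 → F) j i)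
    (fun j => (![![0,0,0,1,1,1,1,0], ![0,0,1,1,1,0,0,1], ![0,1,1,0,1,0,1,0]] : Fin 3 → Fin 8 → F) j i) j

def matA (F : Type*) [Field F] : Matrix (Fin 3 ⊕ Fin 3) (Fin 8) F :=
  Matrix.of fun j i => matB F i j.swap

theorem B_mulVec (x : Fin 3 ⊕ Fin 3 → F) : matB F *ᵥ x =
    ![x (.inl 0) + x (.inl 1) + x (.inl 2), x (.inl 0) + x (.inl 1) + x (.inr 2),
      x (.inl 0) + x (.inl 2) + x (.inr 1) + x (.inr 2), x (.inl 0) + x (.inr 0) + x (.inr 1),
      x (.inl 1) + x (.inl 2) + x (.inr 0) + x (.inr 1) + x (.inr 2), x (.inl 1) + x (.inr 0),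
      x (.inl 2) + x (.inr 0) + x (.inr 2), x (.inr 1)] := by
  ext i
  fin_cases i <;>
    simp [matB, Matrix.mulVec, dotProduct, Fintype.sum_sum_type, Fin.sum_univ_three] <;> ring

theorem A_mulVec (v : Fin 8 → F) : matA F *ᵥ v =
    Sum.elim ![v 3 + v 4 + v 5 + v 6, v 2 + v 3 + v 4 + v 7, v 1 + v 2 + v 4 + v 6]
      ![v 0 + v 1 + v 2 + v 3, v 0 + v 1 + v 4 + v 5, v 0 + v 2 + v 4 + v 6] := by
  ext j
  rcases j with j | j <;> fin_cases j <;>
    simp [matA, matB, Matrix.mulVec, dotProduct, Fin.sum_univ_eight]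

theorem e2_eight (v : Fin 8 → F) : e2 v =
    v 0 * (v 1 + v 2 + v 3 + v 4 + v 5 + v 6 + v 7) + v 1 * (v 2 + v 3 + v 4 + v 5 + v 6 + v 7)
    + v 2 * (v 3 + v 4 + v 5 + v 6 + v 7) + v 3 * (v 4 + v 5 + v 6 + v 7) + v 4 * (v 5 + v 6 + v 7)
    + v 5 * (v 6 + v 7) + v 6 * v 7 := by
  rw [e2_eq]
  simp only [Fin.sum_univ_eight]
  simp (config := {decide := true}) only [if_true, if_false]
  ring

theorem BA (h2 : (2 : F) = 0) (v : Fin 8 → F) (hv : ∑ i, v i = 0) :
    matB F *ᵥ (matA F *ᵥ v) = v + fun _ => v 0 + v 1 + v 4 + v 5 + v 7 := by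
  have : CharP F 2 := CharTwo.of_one_ne_zero_of_two_eq_zero one_ne_zero h2
  rw [Fin.sum_univ_eight] at hv
  have h7 : v 7 = v 0 + v 1 + v 2 + v 3 + v 4 + v 5 + v 6 := by
    linear_combination hv - (v 0 + v 1 + v 2 + v 3 + v 4 + v 5 + v 6) * h2
  rw [B_mulVec, A_mulVec]
  ext i
  fin_cases i <;> simp [h7] <;> ring_nf <;> reduce_mod_char!

/-- O⁺_6(2) ≅ S_8: the isometry group of the hyperbolic form x_1y_1 + x_2y_2 + x_3y_3 over the field with 2 elements is isomorphic to the symmetric group on 8 letters. -/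
theorem result {F : Type*} [Field F] [Fintype F] (hF : Fintype.card F = 2) : Nonempty (↥(Cfsg.isometryGroup F (Cfsg.quadFormPlus 3 F)) ≃* Equiv.Perm (Fin 8)) := by
  have h2 := two_eq_zero_of_card_two hF
  have : CharP F 2 := CharTwo.of_one_ne_zero_of_two_eq_zero one_ne_zero h2
  have hAB : matA F * matB F = 1 := by
    apply Matrix.toLin'.injective
    apply LinearMap.ext
    intro x
    simp only [Matrix.toLin'_apply, ← Matrix.mulVec_mulVec, Matrix.one_mulVec]
    rw [A_mulVec, B_mulVec]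
    ext j
    rcases j with j | j <;> fin_cases j <;> simp <;> ring_nf <;> reduce_mod_char!
  have hsumB : ∀ x, ∑ i, (matB F *ᵥ x) i = 0 := by
    intro x
    rw [B_mulVec, Fin.sum_univ_eight]
    simp
    ring_nf
    reduce_mod_char!
  have hsum : ∀ (σ : Equiv.Perm (Fin 8)) (v : Fin 8 → F),
      ∑ i, (Matrix.permMatrixHom (R := F) σ *ᵥ v) i = ∑ i, v i := by
    intro σ v
    rw [permMatrixHom_mulVec]
    exact Equiv.sum_comp σ⁻¹ v
  have hA1 : ∀ c : F, matA F *ᵥ (fun _ => c) = 0 := by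
    intro c
    rw [A_mulVec]
    ext j
    rcases j with j | j <;> fin_cases j <;> simp <;> ring_nf <;> reduce_mod_char!
  obtain ⟨f, hf⟩ := exists_compress (Matrix.permMatrixHom (R := F) (n := Fin 8)) (matA F) (matB F)
    (quadFormPlus 3 F) e2 hAB
    (by
      intro x
      rw [e2_eight, B_mulVec, quadFormPlus, Fin.sum_univ_three]
      simp
      ring_nf
      reduce_mod_char!)
    (by
      intro σ v
      rw [permMatrixHom_mulVec]
      exact e2_perm σ⁻¹ v)
    (by
      intro σ x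
      have hs := (hsum σ (matB F *ᵥ x)).trans (hsumB x)
      refine ⟨_, BA h2 _ hs, ?_, ?_⟩
      · intro τ
        rw [permMatrixHom_mulVec]
        exact hA1 _
      · generalize Matrix.permMatrixHom (R := F) σ *ᵥ (matB F *ᵥ x) = v at hs
        generalize v 0 + v 1 + v 4 + v 5 + v 7 = c
        rw [Fin.sum_univ_eight] at hs
        rw [e2_eight, e2_eight]
        simp only [Pi.add_apply]
        linear_combination (7 * c) * hs + 14 * c ^ 2 * h2)
  have hinj : Function.Injective f := by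
    rw [injective_iff_map_eq_one]
    intro σ hσ
    have h1 : matA F * Matrix.permMatrixHom (R := F) σ * matB F = 1 := by
      rw [← hf, hσ]; rfl
    apply perm_eq_one_of_pairs (F := F) (by simp) σ
    intro i j _
    set v : Fin 8 → F := Pi.single i 1 - Pi.single j 1 with hv
    have hv0 : ∑ k, v k = 0 := by simp [hv, Finset.sum_sub_distrib]
    have e1 := BA h2 v hv0
    have e2 := BA h2 _ ((hsum σ v).trans hv0)
    have e3 : matA F *ᵥ (Matrix.permMatrixHom (R := F) σ *ᵥ (matB F *ᵥ (matA F *ᵥ v))) =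
        matA F *ᵥ v := by
      rw [Matrix.mulVec_mulVec, Matrix.mulVec_mulVec, h1, Matrix.one_mulVec]
    have e4 : ∀ c : F, matA F *ᵥ (Matrix.permMatrixHom (R := F) σ *ᵥ (fun _ => c)) = 0 := by
      intro c
      rw [permMatrixHom_mulVec]
      exact hA1 c
    rw [e1, Matrix.mulVec_add, Matrix.mulVec_add, e4, add_zero] at e3
    rw [e3, e1] at e2
    generalize v 0 + v 1 + v 4 + v 5 + v 7 = c at e2
    obtain ⟨d, e5⟩ : ∃ d : F, v + (fun _ => c) = Matrix.permMatrixHom (R := F) σ *ᵥ v + fun _ => d :=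
      ⟨_, e2⟩
    rw [permMatrixHom_mulVec] at e5
    refine ⟨c - d, fun k => ?_⟩
    have := congrFun e5 k
    simp only [Pi.add_apply] at this
    linear_combination -this
  have hcard : Nat.card (Equiv.Perm (Fin 8)) = Nat.card (isometryGroup F (quadFormPlus 3 F)) := by
    rw [Cfsg.Agent.S0287.result hF 3 (by norm_num), Nat.card_eq_fintype_card, Fintype.card_perm]
    simp [Finset.prod_range_succ, Nat.factorial]
  have : Finite (isometryGroup F (quadFormPlus 3 F)) := inferInstance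
  exact ⟨(MulEquiv.ofBijective f ((Nat.bijective_iff_injective_and_card f).2 ⟨hinj, hcard⟩)).symm⟩

end Cfsg.Agent.S0825
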