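import Cfsg.Agent.Base
import Cfsg.Statements.S0827
import Cfsg.Agent.Unitary.Simple
import Cfsg.Agent.Unitary.Stab
import Cfsg.Agent.Solv.FrobeniusThm
import Cfsg.Agent.Solv.Quaternion
import Cfsg.Agent.S0282

set_option autoImplicit false
open Cfsg

namespace Cfsg.Agent.S0827

open CL.Herm Module

theorem of_malnormal {G : Type*} [Group G] (hG : Nat.card G = 72) (H : Subgroup G)
    (hH : CL.Frob.IsMalnormal H) (e : H ≃* QuaternionGroup 2) :
    ∃ (N : Subgroup G) (_ : N.Normal), Nat.card N = 9 ∧ (∀ x ∈ N, x ^ 3 = 1) ∧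
      Nonempty (G ⧸ N ≃* QuaternionGroup 2) := by
  have : Finite G := Nat.finite_of_card_ne_zero (by omega)
  obtain ⟨N, -, hN, hc⟩ := hH.exists_normal_complement
  have h8 : Nat.card H = 8 := by
    rw [Nat.card_congr e.toEquiv, Nat.card_eq_fintype_card, QuaternionGroup.card]
  have h9 : Nat.card N = 9 := by
    have := hc.card_mul_card
    rw [h8, hG] at this
    omega
  have : Fact (Nat.Prime 3) := ⟨Nat.prime_three⟩
  have hcomm := (IsPGroup.isMulCommutative_of_card_eq_prime_sq (p := 3) (G := N) h9).is_comm.comm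
  let K : Subgroup G :=
    { carrier := {z | z ∈ N ∧ z ^ 3 = 1}
      mul_mem' := fun {a b} ha hb => ⟨N.mul_mem ha.1 hb.1, by
        have : Commute a b := congrArg Subtype.val (hcomm ⟨a, ha.1⟩ ⟨b, hb.1⟩)
        rw [this.mul_pow, ha.2, hb.2, one_mul]⟩
      one_mem' := ⟨N.one_mem, one_pow 3⟩
      inv_mem' := fun {a} ha => ⟨N.inv_mem ha.1, by rw [inv_pow, ha.2, inv_one]⟩ }
  have hKN : K ≤ N := fun _ h => h.1
  have hKn : K.Normal := ⟨fun a ha g => ⟨hN.conj_mem a ha.1 g, by rw [conj_pow, ha.2]; simp⟩⟩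
  have hmod := CL.Frob.card_modEq_one_of_fpf (A := H) (K := K) Subgroup.le_normalizer_of_normal
    fun a ha ha1 => eq_bot_iff.2 ((inf_le_inf_right _ hKN).trans
      ((CL.Frob.isMalnormal_iff_fpf hc).1 hH a ha ha1).le)
  have hdvd : Nat.card K ∣ 9 := h9 ▸ Subgroup.card_dvd_of_le hKN
  have hne : Nat.card K ≠ 1 := by
    obtain ⟨x, hx⟩ := exists_prime_orderOf_dvd_card' (G := N) 3 (by rw [h9]; norm_num)
    rw [ne_eq, Subgroup.card_eq_one, Subgroup.eq_bot_iff_forall]
    intro h
    have h1 : x = 1 := Subtype.ext (h x ⟨x.2, congrArg Subtype.val (hx ▸ pow_orderOf_eq_one x)⟩)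
    rw [h1, orderOf_one] at hx
    omega
  have hK9 : Nat.card K = 9 := by
    rw [h8, Nat.ModEq] at hmod
    have := Nat.le_of_dvd (by norm_num) hdvd
    omega
  have hKN' : K = N := Subgroup.eq_of_le_of_card_ge hKN (by omega)
  exact ⟨N, hN, h9, fun x hx => (hKN'.ge hx).2, ⟨hc.symm.QuotientMulEquiv.trans e⟩⟩

variable {F V : Type*} [Field F] [AddCommGroup V] [Module F V] {σ : F →+* F}
  {B : V →ₛₗ[σ] V →ₗ[F] F} [FiniteDimensional F V]

theorem exists_malnormal (H : IsHerm 2 B) (h3 : finrank F V = 3) :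
    ∃ K : Subgroup (SUG B ⧸ Subgroup.center (SUG B)), CL.Frob.IsMalnormal K ∧
      Nonempty (K ≃* QuaternionGroup 2) := by
  have : Nontrivial V := Module.nontrivial_of_finrank_pos (R := F) (by omega)
  have hfin := H.conj.finite
  have hnorm : ∀ a : F, a ≠ 0 → a * σ a = 1 := fun a ha => by
    have := Fintype.ofFinite F
    have h1 := FiniteField.pow_card_sub_one_eq_one a ha
    rw [← Nat.card_eq_fintype_card, H.conj.card] at h1
    rw [H.conj.norm_eq]
    exact h1
  have hsc : ∀ a : Fˣ, scalarAut V a ∈ SUG B := fun a => by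
    rw [H.scalarAut_mem_SUG, h3]
    exact H.conj.mem_rootsOfUnity.2 (hnorm a a.ne_zero)
  have h11 : (1 : F) + 1 = 0 := by
    by_contra h
    have h1 := hnorm _ h
    have h2 := hnorm (-1) (by simp)
    obtain ⟨δ, hδ0, hδ⟩ := H.conj.exists_skew
    have h3 := hnorm δ hδ0
    have h4 : (1 + 1 + 1 : F) = 0 := by
      simp only [map_add, map_one] at h1
      linear_combination h1
    have h5 : δ ^ 2 = -δ := by rw [← H.conj.apply, hδ]
    have h6 : δ = -1 := mul_left_cancel₀ hδ0 (by linear_combination h5)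
    rw [h6] at hδ
    simp only [map_neg, map_one, neg_neg] at hδ
    exact h (by linear_combination -hδ)
  obtain ⟨p, -, hp0, hp⟩ := H.exists_isotropic H.nd_top (by simp [h3])
  obtain ⟨s, -, hs, hps⟩ := H.exists_partner' H.nd_top trivial hp0 hp
  obtain ⟨e, -, he, hpe, -⟩ := H.exists_unit_perp_pair H.nd_top (by simp [h3]) trivial trivial
    hp (by rw [hps]; exact one_ne_zero)
  have hep := H.eq_zero_symm hpe
  -- an element fixing two isotropic points is scalar
  have hfix2 : ∀ g ∈ SUG B, ∀ x y : V, B x x = 0 → B y y = 0 → x ≠ 0 → y ∉ F ∙ x → g x ∈ F ∙ x →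
      g y ∈ F ∙ y → ∃ u : Fˣ, g = scalarAut V u := by
    intro g hg x y hx hy hx0 hyx hgx hgy
    have hxy : B x y ≠ 0 := by
      intro hxy
      have h1 : (F ∙ x) ⊔ (F ∙ y) ≤ perp B ((F ∙ x) ⊔ (F ∙ y)) := by
        simp [perp_sup, mem_perp_span_singleton, hx, hy, hxy, H.eq_zero_symm hxy]
      have h2 := H.finrank_perp_add ((F ∙ x) ⊔ (F ∙ y))
      have h4 := Submodule.finrank_mono h1
      rw [Submodule.finrank_sup_span_singleton hyx, finrank_span_singleton hx0] at h2 h4
      omega
    obtain ⟨a, ha⟩ := Submodule.mem_span_singleton.1 hgx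
    obtain ⟨b, hb⟩ := Submodule.mem_span_singleton.1 hgy
    have hab : σ a * b = 1 := by
      have := SUG_le_UG hg x y
      rw [← ha, ← hb] at this
      simp only [LinearMap.map_smulₛₗ, LinearMap.smul_apply, smul_eq_mul,
        RingHom.id_apply] at this
      exact mul_right_cancel₀ hxy (by linear_combination this)
    have ha0 : a ≠ 0 := by
      rintro rfl
      simp at hab
    have hba : b = a := mul_left_cancel₀ ((map_ne_zero σ).2 ha0)
      (by rw [hab, mul_comm, hnorm a ha0])
    refine ⟨Units.mk0 a ha0, ?_⟩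
    have hg' : (scalarAut V (Units.mk0 a ha0))⁻¹ * g ∈ SUG B := mul_mem (inv_mem (hsc _)) hg
    have hfx : (scalarAut V (Units.mk0 a ha0))⁻¹ * g ∈ fixG (Submodule.span F {x, y}) := by
      rw [mem_fixG_span]
      rintro z (rfl | rfl)
      · simp [← map_inv, scalarAut_apply, ← ha, smul_smul, ha0]
      · simp [← map_inv, scalarAut_apply, ← hb, hba, smul_smul, ha0]
    have hdim := H.finrank_perp_add (Submodule.span F {x, y})
    rw [IsHerm.finrank_span_pair hx hxy] at hdim
    have hcard := H.card_inf_SUG (G := UG B ⊓ fixG (Submodule.span F {x, y})) inf_le_left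
      fun d hd => by
        obtain ⟨e, -, he, hxe, hye⟩ := H.exists_unit_perp_pair H.nd_top (by simp [h3]) trivial
          trivial hx hxy
        obtain ⟨k, hk, hk1, hk2⟩ := H.exists_quasiRefl he hd
        refine ⟨k, ⟨hk, mem_fixG_span.2 ?_⟩, hk2⟩
        rintro z (rfl | rfl)
        · exact hk1.apply_of_orth (H.eq_zero_symm hxe)
        · exact hk1.apply_of_orth (H.eq_zero_symm hye)
    rw [H.card_fix_nd 1 (H.nd_span_pair hx hxy) (by rw [IsHerm.finrank_span_pair hx hxy, h3]),
      show guOrder 2 1 = 3 by decide] at hcard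
    have hbot : SUG B ⊓ (UG B ⊓ fixG (Submodule.span F {x, y})) = ⊥ :=
      Subgroup.card_eq_one.1 (by omega)
    have : (scalarAut V (Units.mk0 a ha0))⁻¹ * g = 1 :=
      Subgroup.mem_bot.1 (hbot ▸ ⟨hg', SUG_le_UG hg', hfx⟩)
    exact (inv_mul_eq_one.1 this).symm
  let Q : Subgroup (V ≃ₗ[F] V) := SUG B ⊓ (UG B ⊓ fixG (F ∙ p))
  have hQ : Nat.card Q = 8 := by
    have hcard := H.card_inf_SUG (G := UG B ⊓ fixG (F ∙ p)) inf_le_left fun d hd => by
      obtain ⟨k, hk, hk1, hk2⟩ := H.exists_quasiRefl he hd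
      exact ⟨k, ⟨hk, mem_fixG_span.2 (by rintro z rfl; exact hk1.apply_of_orth hep)⟩, hk2⟩
    have h1 := H.card_fix_iso 1 1 (R := F ∙ p) nd_bot
      ((Submodule.span_singleton_le_iff_mem _ _).2 (mem_perp_span_singleton.2 hp))
      (by rw [perp_bot]; exact le_top) (finrank_span_singleton hp0) (by simp [h3])
    rw [sup_bot_eq, show guOrder 2 1 = 3 by decide] at h1
    rw [h1] at hcard
    change 3 * Nat.card Q = 24 at hcard
    omega
  have hmemQ : ∀ g ∈ SUG B, g p = p → g ∈ Q := fun g hg h =>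
    ⟨hg, SUG_le_UG hg, mem_fixG_span.2 (by rintro z rfl; exact h)⟩
  have hQp : ∀ g ∈ Q, g p = p := fun g hg => mem_fixG_span.1 hg.2.2 p rfl
  let π : Q →* SUG B ⧸ Subgroup.center (SUG B) :=
    (QuotientGroup.mk' _).comp (Subgroup.inclusion inf_le_left)
  have hπ : Function.Injective π := by
    rw [injective_iff_map_eq_one]
    intro g hg
    obtain ⟨u, hu⟩ := (H.mem_center_SUG (by omega)).1 ((QuotientGroup.eq_one_iff _).1 hg)
    have h1 : (g : V ≃ₗ[F] V) = scalarAut V u := hu
    have h2 := hQp g g.2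
    rw [h1, scalarAut_apply] at h2
    have h4 : u = 1 := Units.ext (smul_left_injective F hp0 (h2.trans (one_smul F p).symm))
    exact Subtype.ext (by rw [h1, h4, map_one]; rfl)
  refine ⟨π.range, ?_, ?_⟩
  · rintro g _ ⟨x, rfl⟩ ⟨y, hy⟩ hx1
    obtain ⟨g, rfl⟩ := QuotientGroup.mk_surjective g
    have h1 : (Subgroup.inclusion inf_le_left y)⁻¹ *
        (g * Subgroup.inclusion inf_le_left x * g⁻¹) ∈ Subgroup.center (SUG B) :=
      QuotientGroup.eq.1 hy
    obtain ⟨u, hu⟩ := (H.mem_center_SUG (by omega)).1 h1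
    have h2 : (g : V ≃ₗ[F] V) * x * (g : V ≃ₗ[F] V)⁻¹ = y * scalarAut V u := by
      rw [← hu]
      simp
    by_cases hgp : (g : V ≃ₗ[F] V) p ∈ F ∙ p
    · obtain ⟨a, ha⟩ := Submodule.mem_span_singleton.1 hgp
      have ha0 : a ≠ 0 := by
        rintro rfl
        exact hp0 ((g : V ≃ₗ[F] V).injective (by simp [← ha]))
      refine ⟨⟨g * (scalarAut V (Units.mk0 a ha0))⁻¹, hmemQ _ (mul_mem g.2 (inv_mem (hsc _))) (by
        simp [← map_inv, scalarAut_apply, ← ha, smul_smul, ha0])⟩, QuotientGroup.eq.2 ?_⟩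
      refine (H.mem_center_SUG (by omega)).2 ⟨Units.mk0 a ha0, ?_⟩
      simp
    · exfalso
      obtain ⟨v, hv⟩ := hfix2 _ (mul_mem (mul_mem g.2 x.2.1) (inv_mem g.2)) p ((g : V ≃ₗ[F] V) p)
        hp (by rw [SUG_le_UG g.2, hp]) hp0 hgp (by
          rw [h2, LinearEquiv.mul_apply, scalarAut_apply, map_smul, hQp y y.2]
          exact Submodule.smul_mem _ _ (Submodule.mem_span_singleton_self _))
        (by simp [hQp x x.2])
      apply hx1
      refine (QuotientGroup.eq_one_iff _).2 ((H.mem_center_SUG (by omega)).2 ⟨v, ?_⟩)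
      change (x : V ≃ₗ[F] V) = _
      rw [mul_inv_eq_iff_eq_mul, ← scalarAut_comm] at hv
      exact mul_left_cancel hv
  · suffices h : Nonempty (Q ≃* QuaternionGroup 2) from
      ⟨(MonoidHom.ofInjective hπ).symm.trans h.some⟩
    obtain ⟨ω, hω⟩ := H.conj.exists_trace_one
    have hω0 : ω ≠ 0 := by
      rintro rfl
      simp at hω
    have hσω : σ ω = 1 + ω := by linear_combination hω - ω * h11
    have hωn := hnorm ω hω0
    obtain ⟨a, ha⟩ := H.exists_isEich (p := p) (w := e) (c := ω) hp hpe (by rw [he, hω])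
    obtain ⟨b, hb⟩ := H.exists_isEich (p := p) (w := ω • e) (c := ω) hp (by simp [hpe])
      (by rw [IsHerm.smul_smul_self, hωn, he, hω, one_mul])
    have h2e : ∀ x : V, x + x = 0 := fun x => by rw [← one_smul F x, ← add_smul, h11, zero_smul]
    have haa : IsEich B p 0 1 (a * a) := by
      have := ha.mul H ha
      rwa [h2e, he, show ω + ω + 1 = 1 by linear_combination ω * h11] at this
    have hbb : IsEich B p 0 1 (b * b) := by
      have := hb.mul H hb
      rwa [h2e, IsHerm.smul_smul_self, hωn, he,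
        show ω + ω + 1 * 1 = 1 by linear_combination ω * h11] at this
    have haa1 : a * a ≠ 1 := fun h => by
      have := haa.eq s
      rw [h, hps] at this
      simp [eq_sub_iff_add_eq] at this
      exact hp0 this
    have ha4 : a * a * (a * a) = 1 := by
      have := haa.mul H haa
      rw [add_zero, h11, map_zero, add_zero] at this
      exact this.unique (IsEich.one hp)
    have hba : b * a = a⁻¹ * b := by
      have h1 := hb.mul H ha
      have h2 := (ha.inv H).mul H hb
      rw [show -e + ω • e = ω • e + e by linear_combination (norm := module) -h2e e] at h2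
      refine h1.unique ?_
      convert h2 using 1
      simp only [map_neg, LinearMap.neg_apply, LinearMap.map_smulₛₗ, LinearMap.smul_apply,
        smul_eq_mul, RingHom.id_apply, he, hσω]
      linear_combination ω * h11
    let A : Q := ⟨a, hmemQ a (ha.mem_SUG H) (ha.apply_self H)⟩
    let C : Q := ⟨b, hmemQ b (hb.mem_SUG H) (hb.apply_self H)⟩
    have hA : orderOf A = 2 * 2 := by
      have : Fact (Nat.Prime 2) := ⟨Nat.prime_two⟩
      refine orderOf_eq_prime_pow (p := 2) (n := 1) (fun h => haa1 ?_) (Subtype.ext ?_)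
      · simpa [sq] using congrArg Subtype.val h
      · simpa [pow_succ, mul_assoc] using ha4
    have hC : C ^ 2 = A ^ 2 := Subtype.ext (by simpa [sq] using hbb.unique haa)
    have hCA : C * A * C⁻¹ = A⁻¹ := by
      rw [mul_inv_eq_iff_eq_mul]
      exact Subtype.ext hba
    have hnot : C ∉ Subgroup.zpowers A := by
      rintro ⟨k, hk⟩
      have h1 : C * A = A * C := by
        rw [← hk]
        exact (Commute.refl A).zpow_left k
      rw [h1, mul_inv_cancel_right] at hCA
      apply haa1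
      exact congrArg Subtype.val (mul_eq_one_iff_eq_inv.2 hCA)
    have hinj := CL.quaternionHom_injective A C hA hC hCA hnot
    have : Finite Q := Nat.finite_of_card_ne_zero (by omega)
    exact ⟨(MulEquiv.ofBijective _ (hinj.bijective_of_nat_card_le (by
      rw [hQ, Nat.card_eq_fintype_card, QuaternionGroup.card]))).symm⟩

/-- U_3(2) ≅ 3².Q_8: PSU_3(2) (form over the field with 4 elements) has a normal subgroup N which is elementary abelian of order 9 such that the quotient by N is isomorphic to the quaternion group of order 8. -/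
theorem result {F : Type*} [Field F] [Fintype F] (hF : Fintype.card F = 4) : ∃ (N : Subgroup (Cfsg.PSU 3 F 2)) (_ : N.Normal), Nat.card N = 9 ∧ (∀ x ∈ N, x ^ 3 = 1) ∧ Nonempty (Cfsg.PSU 3 F 2 ⧸ N ≃* QuaternionGroup 2) := by
  obtain ⟨σ, hσ⟩ := exists_conj' (q := 2) hF
  obtain ⟨K, hK, ⟨e⟩⟩ := exists_malnormal (hσ.isHerm_std (Fin 3)) (by simp)
  let φ := quotientCenterCongr (hσ.suEquiv 3)
  refine of_malnormal (Cfsg.Agent.S0282.result hF).1 (K.comap φ.toMonoidHom)
    (hK.comap _ φ.injective) (((φ.subgroupMap _).trans (MulEquiv.subgroupCongr ?_)).trans e)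
  exact Subgroup.map_comap_eq_self_of_surjective φ.surjective K

end Cfsg.Agent.S0827
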