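import Cfsg.Statements.S0828
import Cfsg.Agent.Symp.Count

set_option autoImplicit false
open Cfsg

namespace Cfsg.Agent.S0828

open Module

/-- Double counting. -/
theorem card_mul_eq {α β : Type*} [Finite α] [Finite β] (r : α → β → Prop) {m n : ℕ}
    (hm : ∀ a, Nat.card {b // r a b} = m) (hn : ∀ b, Nat.card {a // r a b} = n) :
    Nat.card α * m = Nat.card β * n := by
  have := Fintype.ofFinite α
  have := Fintype.ofFinite β
  have e : (Σ a, {b // r a b}) ≃ (Σ b, {a // r a b}) :=
    { toFun := fun x => ⟨x.2.1, x.1, x.2.2⟩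
      invFun := fun x => ⟨x.2.1, x.1, x.2.2⟩
      left_inv := fun _ => rfl
      right_inv := fun _ => rfl }
  have h := Nat.card_congr e
  rw [Nat.card_sigma, Nat.card_sigma] at h
  simpa [hm, hn] using h

variable {F V : Type*} [Field F] [AddCommGroup V] [Module F V] [FiniteDimensional F V] [Finite F]

theorem card_sdiff {S T : Submodule F V} (h : S ≤ T) :
    Nat.card {x : V // x ∈ T ∧ x ∉ S} = Nat.card F ^ finrank F T - Nat.card F ^ finrank F S := by
  have : Finite V := Module.finite_of_finite F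
  rw [← CL.Symp.card_submodule, ← CL.Symp.card_submodule]
  exact Set.ncard_sdiff h

theorem card_lines_through {B : LinearMap.BilinForm F V} (hB : B.Nondegenerate) (hA : B.IsAlt)
    (hV : finrank F V = 4) (v : V) (hv : v ≠ 0) :
    Nat.card {W : Submodule F V // finrank F W = 2 ∧ v ∈ W ∧ ∀ u ∈ W, ∀ w ∈ W, B u w = 0} =
      Nat.card F + 1 := by
  have : Finite V := Module.finite_of_finite F
  set L := Submodule.span F {v} with hL
  have hL1 : finrank F L = 1 := finrank_span_singleton hv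
  have hLle : L ≤ B.orthogonal L := by
    intro u hu w hw
    obtain ⟨c, rfl⟩ := Submodule.mem_span_singleton.1 hu
    obtain ⟨d, rfl⟩ := Submodule.mem_span_singleton.1 hw
    simp [hA.self_eq_zero]
  have hvL : v ∈ L := Submodule.mem_span_singleton_self v
  have h := card_mul_eq
    (α := {W : Submodule F V // finrank F W = 2 ∧ v ∈ W ∧ ∀ u ∈ W, ∀ w ∈ W, B u w = 0})
    (β := {x : V // x ∈ B.orthogonal L ∧ x ∉ L}) (fun W x => x.1 ∈ W.1)
    (m := Nat.card F ^ 2 - Nat.card F ^ 1) (n := 1) (fun W => by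
      have hle : L ≤ W.1 := (Submodule.span_singleton_le_iff_mem _ _).2 W.2.2.1
      have := card_sdiff hle
      rw [W.2.1, hL1] at this
      rw [← this]
      exact Nat.card_congr
        { toFun := fun x => ⟨x.1.1, x.2, x.1.2.2⟩
          invFun := fun x => ⟨⟨x.1, fun w hw => W.2.2.2 w (hle hw) x x.2.1, x.2.2⟩, x.2.1⟩
          left_inv := fun _ => rfl
          right_inv := fun _ => rfl })
    (fun x => by
      have h2 : finrank F ↥(L ⊔ Submodule.span F {x.1}) = 2 := by
        rw [CL.Symp.finrank_sup_span_singleton x.2.2, hL1]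
      rw [Nat.card_eq_one_iff_exists]
      refine ⟨⟨⟨L ⊔ Submodule.span F {x.1}, h2, Submodule.mem_sup_left hvL, ?_⟩,
        Submodule.mem_sup_right (Submodule.mem_span_singleton_self _)⟩, fun W => ?_⟩
      · intro u hu w hw
        obtain ⟨a, ha, b, hb, rfl⟩ := Submodule.mem_sup.1 hu
        obtain ⟨c, rfl⟩ := Submodule.mem_span_singleton.1 hb
        obtain ⟨a', ha', b', hb', rfl⟩ := Submodule.mem_sup.1 hw
        obtain ⟨c', rfl⟩ := Submodule.mem_span_singleton.1 hb'
        have h1 : B a a' = 0 := hLle ha' a ha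
        have h2 : B a x = 0 := x.2.1 a ha
        have h3 : B x a' = 0 := hA.isRefl _ _ (x.2.1 a' ha')
        simp [h1, h2, h3, hA.self_eq_zero]
      · apply Subtype.ext
        apply Subtype.ext
        symm
        apply Submodule.eq_of_le_of_finrank_eq
        · exact sup_le ((Submodule.span_singleton_le_iff_mem _ _).2 W.1.2.2.1)
            ((Submodule.span_singleton_le_iff_mem _ _).2 W.2)
        · rw [h2, W.1.2.1])
  rw [card_sdiff hLle, LinearMap.BilinForm.finrank_orthogonal hB, hL1, hV] at h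
  have hq : 1 < Nat.card F := Finite.one_lt_card
  obtain ⟨r, hr⟩ : ∃ r, Nat.card F = r + 2 := ⟨Nat.card F - 2, by omega⟩
  rw [hr] at h ⊢
  have e1 : (r + 2) ^ 2 - (r + 2) ^ 1 = (r + 2) * (r + 1) := by
    apply Nat.sub_eq_of_eq_add; ring
  have e2 : ((r + 2) ^ (4 - 1) - (r + 2) ^ 1) * 1 = (r + 2 + 1) * ((r + 2) * (r + 1)) := by
    rw [mul_one]; apply Nat.sub_eq_of_eq_add; ring
  rw [e1, e2] at h
  exact Nat.eq_of_mul_eq_mul_right (by positivity) h

theorem card_lines {B : LinearMap.BilinForm F V} (hB : B.Nondegenerate) (hA : B.IsAlt)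
    (hV : finrank F V = 4) :
    Nat.card {W : Submodule F V // finrank F W = 2 ∧ ∀ u ∈ W, ∀ w ∈ W, B u w = 0} =
      (Nat.card F + 1) * (Nat.card F ^ 2 + 1) := by
  have : Finite V := Module.finite_of_finite F
  have h := card_mul_eq
    (α := {W : Submodule F V // finrank F W = 2 ∧ ∀ u ∈ W, ∀ w ∈ W, B u w = 0})
    (β := {x : V // x ∈ (⊤ : Submodule F V) ∧ x ∉ (⊥ : Submodule F V)}) (fun W x => x.1 ∈ W.1)
    (m := Nat.card F ^ 2 - Nat.card F ^ 0) (n := Nat.card F + 1) (fun W => by
      have := card_sdiff (bot_le : ⊥ ≤ W.1)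
      rw [W.2.1, finrank_bot] at this
      rw [← this]
      exact Nat.card_congr
        { toFun := fun x => ⟨x.1.1, x.2, x.1.2.2⟩
          invFun := fun x => ⟨⟨x.1, trivial, x.2.2⟩, x.2.1⟩
          left_inv := fun _ => rfl
          right_inv := fun _ => rfl })
    (fun x => by
      rw [← card_lines_through hB hA hV x.1 (by simpa using x.2.2)]
      exact Nat.card_congr
        { toFun := fun W => ⟨W.1.1, W.1.2.1, W.2, W.1.2.2⟩
          invFun := fun W => ⟨⟨W.1, W.2.1, W.2.2.2⟩, W.2.2.1⟩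
          left_inv := fun _ => rfl
          right_inv := fun _ => rfl })
  rw [card_sdiff bot_le, finrank_top, finrank_bot, hV] at h
  have hq : 1 < Nat.card F := Finite.one_lt_card
  obtain ⟨r, hr⟩ : ∃ r, Nat.card F = r + 2 := ⟨Nat.card F - 2, by omega⟩
  rw [hr] at h ⊢
  have e1 : (r + 2) ^ 2 - (r + 2) ^ 0 = (r + 3) * (r + 1) := by
    apply Nat.sub_eq_of_eq_add; ring
  have e2 : ((r + 2) ^ 4 - (r + 2) ^ 0) * (r + 2 + 1) =
      (r + 2 + 1) * ((r + 2) ^ 2 + 1) * ((r + 3) * (r + 1)) := by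
    have : (r + 2) ^ 4 - (r + 2) ^ 0 = ((r + 2) ^ 2 + 1) * ((r + 3) * (r + 1)) := by
      apply Nat.sub_eq_of_eq_add; ring
    rw [this]; ring
  rw [e1, e2] at h
  exact Nat.eq_of_mul_eq_mul_right (by positivity) h

/-- The symplectic generalised quadrangle over a field with q elements: the number of 2-dimensional subspaces of F^4 on which the symplectic form vanishes is (q + 1)(q² + 1), and every non-zero vector lies in exactly q + 1 of them. -/
theorem result {F : Type*} [Field F] [Fintype F] {q : ℕ} (hF : Fintype.card F = q) : Nat.card {W : Submodule F (Fin 2 ⊕ Fin 2 → F) // Module.finrank F W = 2 ∧ ∀ u ∈ W, ∀ v ∈ W, Cfsg.sympForm 2 F u v = 0} = (q + 1) * (q ^ 2 + 1) ∧ ∀ v : Fin 2 ⊕ Fin 2 → F, v ≠ 0 → Nat.card {W : Submodule F (Fin 2 ⊕ Fin 2 → F) // Module.finrank F W = 2 ∧ v ∈ W ∧ ∀ u ∈ W, ∀ w ∈ W, Cfsg.sympForm 2 F u w = 0} = q + 1 := by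
  have hA := CL.Symp.form_isAlt (l := Fin 2) (F := F)
  have hB := CL.Symp.form_nondegenerate (l := Fin 2) (F := F)
  have hq : Nat.card F = q := by rw [Nat.card_eq_fintype_card, hF]
  simp only [CL.Symp.sympForm_eq, ← hq]
  exact ⟨card_lines hB hA (by simp), card_lines_through hB hA (by simp)⟩

end Cfsg.Agent.S0828
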