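import Cfsg.Agent.Base
import Cfsg.Statements.S0830
import Cfsg.Agent.Unitary.Stab

set_option autoImplicit false
open Cfsg

namespace Cfsg.Agent.S0830

/-- The unitary quadrangle of PSU_5(q): with |F| = q², the number of 2-dimensional subspaces of F^5 on which the Hermitian form vanishes is (q³ + 1)(q⁵ + 1). -/
theorem result {F : Type*} [Field F] [Fintype F] {q : ℕ} (hF : Fintype.card F = q ^ 2) : Nat.card {W : Submodule F (Fin 5 → F) // Module.finrank F W = 2 ∧ ∀ u ∈ W, ∀ v ∈ W, Cfsg.hermForm 5 F q u v = 0} = (q ^ 3 + 1) * (q ^ 5 + 1) := by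
  obtain ⟨σ, hσ⟩ := CL.Herm.exists_conj' hF
  have H := hσ.isHerm_std (Fin 5)
  have h := H.card_totally_isotropic (k := 2) (m := 1) (by simp)
  have e : Nat.card {W : Submodule F (Fin 5 → F) // Module.finrank F W = 2 ∧
      ∀ u ∈ W, ∀ v ∈ W, Cfsg.hermForm 5 F q u v = 0} = Nat.card {W : Submodule F (Fin 5 → F) //
      Module.finrank F W = 2 ∧ W ≤ CL.Herm.perp (CL.Herm.stdForm σ (Fin 5)) W} :=
    Nat.card_congr (Equiv.subtypeEquivRight fun W => by
      simp only [hσ.hermForm_eq]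
      rfl)
  rw [e]
  have h2 := hσ.two_le
  have hq : ∀ i : ℕ, 1 ≤ q ^ i := fun i => Nat.one_le_pow _ _ (by omega)
  have hq' : q ^ 2 ≤ q ^ (2 * 2) := Nat.pow_le_pow_right (by omega) (by norm_num)
  have hpos := CL.Herm.guOrder_pos h2 (2 * 2 + 1)
  rw [← h] at hpos
  apply Nat.eq_of_mul_eq_mul_right (Nat.pos_of_mul_pos_left hpos)
  rw [h]
  simp only [CL.Herm.guOrder, Finset.prod_range_succ, Fin.prod_univ_two]
  norm_num
  simp only [← pow_mul]
  zify [hq, hq']
  ring

end Cfsg.Agent.S0830
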