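import Cfsg.Statements.S0833
import Cfsg.Agent.QuadF.Disc

set_option autoImplicit false
open Cfsg

namespace Cfsg.Agent.S0833

theorem exists_lagrangian {F U : Type*} [Field F] [AddCommGroup U] [Module F U]
    [FiniteDimensional F U] (B : LinearMap.BilinForm F U) (h : B.Nondegenerate) (hA : B.IsAlt)
    (k : ℕ) (hU : Module.finrank F U = 2 * k) :
    ∃ X : Submodule F U, Module.finrank F X = k ∧ ∀ x ∈ X, ∀ y ∈ X, B x y = 0 := by
  let S : Set ℕ := {n | ∃ W : Submodule F U, (∀ x ∈ W, ∀ y ∈ W, B x y = 0) ∧ Module.finrank F W = n}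
  have hne : S.Nonempty := ⟨_, ⊥, by simp, rfl⟩
  have hbdd : BddAbove S := ⟨Module.finrank F U, by rintro _ ⟨W, -, rfl⟩; exact W.finrank_le⟩
  obtain ⟨W, hW, hd⟩ := Nat.sSup_mem hne hbdd
  have hmax : ∀ X : Submodule F U, (∀ x ∈ X, ∀ y ∈ X, B x y = 0) →
      Module.finrank F X ≤ Module.finrank F W := fun X hX => hd ▸ le_csSup hbdd ⟨X, hX, rfl⟩
  have heq : B.orthogonal W = W := by
    refine le_antisymm (fun v hv => ?_) (fun y hy x hx => hW x hx y hy)
    have hv' : ∀ x ∈ W, B x v = 0 := hv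
    have h1 := hmax (W ⊔ F ∙ v) (by
      intro x hx y hy
      obtain ⟨a, ha, a', ha', rfl⟩ := Submodule.mem_sup.1 hx
      obtain ⟨b, hb, b', hb', rfl⟩ := Submodule.mem_sup.1 hy
      obtain ⟨s, rfl⟩ := Submodule.mem_span_singleton.1 ha'
      obtain ⟨t, rfl⟩ := Submodule.mem_span_singleton.1 hb'
      simp [hW a ha b hb, hv' a ha, hA.isRefl _ _ (hv' b hb), hA v])
    have h2 : W = W ⊔ F ∙ v := Submodule.eq_of_le_of_finrank_le le_sup_left h1
    rw [h2]
    exact Submodule.mem_sup_right (Submodule.mem_span_singleton_self v)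
  have h3 := LinearMap.BilinForm.finrank_orthogonal h W
  rw [heq] at h3
  exact ⟨W, by omega, hW⟩

/-- If B₁, B₂ are non-degenerate alternating forms on U (dim 2k) and W (dim 2l), then B₁ ⊗ B₂ on U ⊗ W is symmetric, non-degenerate, and vanishes identically on some subspace of dimension 2kl (half of dim U ⊗ W). -/
theorem result {F U W : Type*} [Field F] [Fintype F] [AddCommGroup U] [Module F U] [FiniteDimensional F U] [AddCommGroup W] [Module F W] [FiniteDimensional F W] (B₁ : LinearMap.BilinForm F U) (B₂ : LinearMap.BilinForm F W) (h₁ : B₁.Nondegenerate) (h₂ : B₂.Nondegenerate) (hA₁ : B₁.IsAlt) (hA₂ : B₂.IsAlt) (k l : ℕ) (hU : Module.finrank F U = 2 * k) (hW : Module.finrank F W = 2 * l) : (B₁.tmul B₂).IsSymm ∧ (B₁.tmul B₂).Nondegenerate ∧ (∃ X : Submodule F (TensorProduct F U W), Module.finrank F X = 2 * k * l ∧ ∀ x ∈ X, ∀ y ∈ X, (B₁.tmul B₂) x y = 0) := by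
  refine ⟨?_, CL.QuadF.nondeg_tmul h₁ h₂, ?_⟩
  · rw [LinearMap.isSymm_iff_eq_flip]
    refine TensorProduct.ext' fun x₁ x₂ => TensorProduct.ext' fun y₁ y₂ => ?_
    simp [← hA₁.neg_eq x₁ y₁, ← hA₂.neg_eq x₂ y₂]
  · obtain ⟨X, hX, hX0⟩ := exists_lagrangian B₁ h₁ hA₁ k hU
    refine ⟨LinearMap.range (X.subtype.rTensor W), ?_, ?_⟩
    · rw [LinearMap.finrank_range_of_inj
        (Module.Flat.rTensor_preserves_injective_linearMap _ X.injective_subtype),
        Module.finrank_tensorProduct, hX, hW]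
      ring
    · rintro _ ⟨x, rfl⟩ _ ⟨y, rfl⟩
      induction x using TensorProduct.induction_on with
      | zero => simp
      | add a b ha hb => simp only [map_add, LinearMap.add_apply, ha, hb, add_zero]
      | tmul a b =>
        induction y using TensorProduct.induction_on with
        | zero => simp
        | add c d hc hd => simp only [map_add, hc, hd, add_zero]
        | tmul c d => simp [hX0 a a.2 c c.2]

end Cfsg.Agent.S0833
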