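import Cfsg.Agent.Base
import Cfsg.Statements.S0837
import Cfsg.Agent.Unitary.Stab

set_option autoImplicit false
open Cfsg

namespace Cfsg.Agent.S0837

/-- If W ≤ F^n (|F| = q²) is a k-dimensional subspace on which the Hermitian form Σ x_i y_i^q is non-degenerate, then the stabiliser of W in GU_n(q) is isomorphic to GU_k(q) × GU_(n−k)(q). -/
theorem result {F : Type*} [Field F] [Fintype F] {q : ℕ} (hF : Fintype.card F = q ^ 2) (n k : ℕ) (hk : k ≤ n) (W : Submodule F (Fin n → F)) (hWk : Module.finrank F W = k) (hW : ∀ u ∈ W, (∀ v ∈ W, Cfsg.hermForm n F q u v = 0) → u = 0) : Nonempty (↥((Cfsg.stabilizing (Cfsg.glToMat (Fin n) F) (W : Set (Fin n → F))).subgroupOf (Cfsg.GU n F q)) ≃* ↥(Cfsg.GU k F q) × ↥(Cfsg.GU (n - k) F q)) := by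
  obtain ⟨σ, hσ⟩ := CL.Herm.exists_conj' hF
  have H := hσ.isHerm_std (Fin n)
  have hW' : CL.Herm.Nd (CL.Herm.stdForm σ (Fin n)) W := fun u hu h => hW u hu fun v hv => by
    rw [hσ.hermForm_eq]
    exact H.eq_zero_symm (h v hv)
  obtain ⟨e1⟩ := H.nonempty_stabG_equiv_prod hW'
  obtain ⟨e2⟩ := (H.restrict hW').nonempty_UG_equiv_GU hWk
  obtain ⟨e3⟩ := (H.restrict (H.nd_perp hW')).nonempty_UG_equiv_GU (n := n - k)
    (by rw [H.finrank_perp, hWk]; simp)
  exact ⟨((Subgroup.equivMapOfInjective _ _ CL.Herm.guHom_injective).trans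
    (MulEquiv.subgroupCongr (hσ.map_guHom_stabilizing W))).trans (e1.trans (e2.prodCongr e3))⟩

end Cfsg.Agent.S0837
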