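import Cfsg.Agent.Base
import Cfsg.Statements.S0839
import Cfsg.Agent.GLn.Stab

set_option autoImplicit false
open Cfsg

namespace Cfsg.Agent.S0839

/-- Every transvection t ∈ SL_(n+2)(F) (rank(t − 1) = 1, (t − 1)² = 0) is conjugate in SL_(n+2)(F) to 1 + v·e_0ᵀ for some column vector v with v_0 = 0 (the group A of matrices that are the identity except in the first column below the diagonal); the dimension is written n + 2 ≥ 2. -/
theorem result {F : Type*} [Field F] (n : ℕ) (t : Matrix.SpecialLinearGroup (Fin (n + 2)) F) (ht : Cfsg.IsTransvection (t : Matrix (Fin (n + 2)) (Fin (n + 2)) F)) : ∃ (g : Matrix.SpecialLinearGroup (Fin (n + 2)) F) (v : Fin (n + 2) → F), v 0 = 0 ∧ ((g⁻¹ * t * g : Matrix.SpecialLinearGroup (Fin (n + 2)) F) : Matrix (Fin (n + 2)) (Fin (n + 2)) F) = 1 + Matrix.vecMulVec v (Pi.single 0 1) := by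
  obtain ⟨h1, h2⟩ := ht
  obtain ⟨a, b, ha, hb, hab⟩ := CL.GLn.exists_eq_vecMulVec_of_rank_eq_one h1
  have hba : b ⬝ᵥ a = 0 := by
    rw [hab, CL.GLn.vecMulVec_mul_vecMulVec', smul_eq_zero] at h2
    exact h2.resolve_right (Matrix.vecMulVec_ne_zero ha hb)
  obtain ⟨g, hg⟩ := CL.GLn.exists_SL_mulVec_eq (u := b) (v := Pi.single 0 1) hb (by simp)
  have ht' : (t : Matrix (Fin (n + 2)) (Fin (n + 2)) F) = 1 + Matrix.vecMulVec a b := by
    rw [← hab]; simp
  have hb' : Matrix.vecMul b (g.transpose : Matrix (Fin (n + 2)) (Fin (n + 2)) F) =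
      Pi.single 0 1 := by
    rw [Matrix.SpecialLinearGroup.coe_transpose, Matrix.vecMul_transpose, hg]
  have hinv : ((g.transpose : Matrix.SpecialLinearGroup (Fin (n + 2)) F) :
      Matrix (Fin (n + 2)) (Fin (n + 2)) F) * (g.transpose⁻¹ :
        Matrix.SpecialLinearGroup (Fin (n + 2)) F) = 1 := by
    rw [← Matrix.SpecialLinearGroup.coe_mul, mul_inv_cancel]; rfl
  have hinv' : ((g.transpose⁻¹ : Matrix.SpecialLinearGroup (Fin (n + 2)) F) :
      Matrix (Fin (n + 2)) (Fin (n + 2)) F) * (g.transpose :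
        Matrix.SpecialLinearGroup (Fin (n + 2)) F) = 1 := by
    rw [← Matrix.SpecialLinearGroup.coe_mul, inv_mul_cancel]; rfl
  refine ⟨g.transpose, Matrix.mulVec (g.transpose⁻¹ :
        Matrix.SpecialLinearGroup (Fin (n + 2)) F).1 a, ?_, ?_⟩
  · have : (Pi.single 0 1 : Fin (n + 2) → F) ⬝ᵥ Matrix.mulVec (g.transpose⁻¹ :
        Matrix.SpecialLinearGroup (Fin (n + 2)) F).1 a = 0 := by
      rw [← hb', ← Matrix.dotProduct_mulVec, Matrix.mulVec_mulVec, hinv, Matrix.one_mulVec, hba]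
    simpa using this
  · rw [Matrix.SpecialLinearGroup.coe_mul, Matrix.SpecialLinearGroup.coe_mul, ht', mul_add,
      add_mul, mul_one, hinv', Matrix.mul_vecMulVec, Matrix.vecMulVec_mul, hb']

end Cfsg.Agent.S0839
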