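import Cfsg.Statements.S0841
import Cfsg.Agent.Base

set_option autoImplicit false
open Cfsg

namespace Cfsg.Agent.S0841

/-- If the commutator subgroup of G lies in the centre, then for all x, y in G and every natural number n one has (x * y) ^ n = x ^ n * y ^ n * c ^ (n * (n - 1) / 2) with c = y⁻¹ * x⁻¹ * y * x. -/
theorem result {G : Type*} [Group G] (hG : commutator G ≤ Subgroup.center G) (x y : G) (n : ℕ) : (x * y) ^ n = x ^ n * y ^ n * (y⁻¹ * x⁻¹ * y * x) ^ (n * (n - 1) / 2) := by
  have hc : ∀ a b : G, ∀ g : G, g * (a⁻¹ * b⁻¹ * a * b) = (a⁻¹ * b⁻¹ * a * b) * g := by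
    intro a b g
    have : a⁻¹ * b⁻¹ * a⁻¹⁻¹ * b⁻¹⁻¹ ∈ commutator G :=
      Subgroup.commutator_mem_commutator (Subgroup.mem_top _) (Subgroup.mem_top _)
    have h2 := Subgroup.mem_center_iff.1 (hG this) g
    simpa using h2
  have hcc : ∀ g : G, Commute g (y⁻¹ * x⁻¹ * y * x) := fun g => hc y x g
  have h1 : y * x = x * y * (y⁻¹ * x⁻¹ * y * x) := by group
  generalize y⁻¹ * x⁻¹ * y * x = c at hcc h1
  have h2 : ∀ k : ℕ, y ^ k * x = x * y ^ k * c ^ k := by
    intro k
    induction k with
    | zero => simp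
    | succ k ih =>
      rw [pow_succ, mul_assoc, h1, ← mul_assoc, ← mul_assoc, ih, pow_succ c]
      have := ((hcc y).pow_right k).eq
      simp only [mul_assoc]
      rw [← mul_assoc (c ^ k), ← this, mul_assoc]
  induction n with
  | zero => simp
  | succ n ih =>
    have e : (n + 1) * (n + 1 - 1) / 2 = n * (n - 1) / 2 + n := by
      rw [← Nat.choose_two_right, ← Nat.choose_two_right, Nat.choose_succ_succ' n 1]
      simp [add_comm]
    rw [pow_succ, ih, e, pow_add c, pow_succ x, pow_succ y]
    have h3 := ((hcc (x * y)).pow_right (n * (n - 1) / 2)).eq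
    rw [mul_assoc (x ^ n * y ^ n), ← h3]
    have h4 : y ^ n * (x * y) = x * (y ^ n * y) * c ^ n := by
      rw [← mul_assoc, h2 n]
      have := ((hcc y).pow_right n).eq
      simp only [mul_assoc]
      rw [this]
    calc x ^ n * y ^ n * (x * y * c ^ (n * (n - 1) / 2))
        = x ^ n * (y ^ n * (x * y)) * c ^ (n * (n - 1) / 2) := by simp only [mul_assoc]
      _ = _ := by
        rw [h4]
        have := ((Commute.refl c).pow_pow n (n * (n - 1) / 2)).eq
        simp only [mul_assoc]
        rw [this]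

end Cfsg.Agent.S0841
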