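import Cfsg.Statements.S0842
import Cfsg.Agent.BS.QuatSylow

set_option autoImplicit false
open Cfsg

namespace Cfsg.Agent.S0842

/-- Suppose a Sylow 2-subgroup S of the finite group G is generalized quaternion of order at least 16, and let D be the commutator subgroup of S, C its centralizer and N its normalizer in G. Then there is a subgroup K of odd order, contained in C and normalized by N, with K ⊔ S = N and K ⊔ (S ⊓ C) = C, and C has index 2 in N. -/
theorem result {G : Type*} [Group G] [Finite G] (S : Sylow 2 G) (n : ℕ) (e : (S : Subgroup G) ≃* QuaternionGroup (2 ^ (n + 2))) (D : Subgroup G) (hD : D = ⁅(S : Subgroup G), (S : Subgroup G)⁆) : ∃ K : Subgroup G, Odd (Nat.card K) ∧ K ≤ Subgroup.centralizer (D : Set G) ∧ Subgroup.normalizer (D : Set G) ≤ Subgroup.normalizer (K : Set G) ∧ K ⊔ (S : Subgroup G) = Subgroup.normalizer (D : Set G) ∧ K ⊔ ((S : Subgroup G) ⊓ Subgroup.centralizer (D : Set G)) = Subgroup.centralizer (D : Set G) ∧ ((Subgroup.centralizer (D : Set G)).subgroupOf (Subgroup.normalizer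 (D : Set G))).index = 2 := by
  have : Fact (Nat.Prime 2) := ⟨Nat.prime_two⟩
  obtain ⟨a, x, h⟩ := CL.BS.exists_quatData _ (by positivity) e
  rw [h.commutator_eq] at hD
  subst hD
  obtain ⟨P, hP⟩ := h.exists_sylow_centralizer
  obtain ⟨τ, hτ, hodd⟩ := CL.BS.exists_hom_of_isCyclic_sylow P (by rw [hP]; infer_instance)
  generalize τ.ker = K at hτ hodd
  let C := Subgroup.centralizer (Subgroup.zpowers (a ^ 2) : Set G)
  have hmem : ∀ g : G, g ∈ K.map C.subtype ↔ g ∈ C ∧ Odd (orderOf g) := by
    intro g
    constructor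
    · rintro ⟨c, hc, rfl⟩
      exact ⟨c.2, by simpa using (hodd c).1 hc⟩
    · rintro ⟨h1, h2⟩
      exact ⟨⟨g, h1⟩, (hodd _).2 (by simpa using h2), rfl⟩
  have hsup : K.map C.subtype ⊔ ((S : Subgroup G) ⊓ C) = C := by
    have h1 := congrArg (Subgroup.map C.subtype) hτ.sup_eq_top
    rw [Subgroup.map_sup, hP, MonoidHom.map_zpowers, ← MonoidHom.range_eq_map,
      Subgroup.range_subtype] at h1
    rw [h.inf_centralizer]
    exact h1
  have hle : K.map C.subtype ≤ C := Subgroup.map_subtype_le _
  refine ⟨K.map C.subtype, ?_, hle, ?_, ?_, hsup, h.relIndex_centralizer⟩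
  · rw [Subgroup.card_map_of_injective C.subtype_injective, ← hτ.index_eq_card,
      ← Nat.not_even_iff_odd, even_iff_two_dvd]
    exact P.not_dvd_index
  · rw [Subgroup.le_normalizer_iff]
    intro g hg k hk
    rw [hmem] at hk ⊢
    exact ⟨CL.BS.conj_mem_centralizer_of_mem_normalizer hg hk.1, by
      rw [CL.BS.orderOf_conj']; exact hk.2⟩
  · apply le_antisymm
    · exact sup_le (hle.trans (Subgroup.centralizer_le_normalizer _)) h.sylow_le_normalizer
    · intro g hg
      obtain ⟨c, hc, s, hs, rfl⟩ := h.exists_mul_of_mem_normalizer hg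
      refine Subgroup.mul_mem _ ?_ (Subgroup.mem_sup_right hs)
      have : C ≤ K.map C.subtype ⊔ (S : Subgroup G) :=
        hsup.ge.trans (sup_le_sup_left inf_le_left _)
      exact this hc

end Cfsg.Agent.S0842
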