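import Cfsg.Statements.S0848
import Cfsg.Agent.BS.Sixteen
import Cfsg.Agent.Char.Orth

set_option autoImplicit false
open Cfsg

namespace Cfsg.Agent.S0848

open CL.Char CL.BS Subgroup

/-- Thompson's transfer lemma in permutation form. -/
theorem exists_conj_mem_of_perfect {G : Type*} [Group G] [Finite G] (hperf : commutator G = ⊤)
    (M : Subgroup G) {k : ℕ} (hk : Odd k) (hM : M.index = 2 * k) {u : G} (hu : u ^ 2 = 1) :
    ∃ g : G, g⁻¹ * u * g ∈ M := by
  classical
  by_contra hcon
  push Not at hcon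
  have := Fintype.ofFinite (G ⧸ M)
  let φ : G →* ℤˣ := Equiv.Perm.sign.comp (MulAction.toPermHom G (G ⧸ M))
  have h1 : φ u = 1 := by
    have := Abelianization.commutator_subset_ker φ
    rw [hperf] at this
    exact this (mem_top u)
  have h2 : (MulAction.toPermHom G (G ⧸ M) u) ^ 2 = 1 := by rw [← map_pow, hu, map_one]
  have h3 := Equiv.Perm.sign_of_pow_two_eq_one h2
  have h4 : IsEmpty (Function.fixedPoints (MulAction.toPermHom G (G ⧸ M) u)) := by
    refine ⟨fun ⟨q, hq⟩ => ?_⟩
    obtain ⟨g, rfl⟩ := QuotientGroup.mk_surjective q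
    have : ((u * g : G) : G ⧸ M) = g := hq
    rw [eq_comm, QuotientGroup.eq, ← mul_assoc] at this
    exact hcon g this
  rw [Fintype.card_eq_zero (α := Function.fixedPoints _), Nat.sub_zero, ← Nat.card_eq_fintype_card, ← index_eq_card, hM,
    Nat.mul_div_cancel_left _ two_pos, hk.neg_one_pow] at h3
  exact absurd (h1.symm.trans h3) (by decide)

theorem int_of_sq_eq_one {G : Type*} [Group G] [Finite G] {χ : G → ℂ} (hχ : IsCharacter G χ)
    {t : G} (ht : orderOf t = 2) : ∃ b : ℤ, χ t = b := by
  obtain ⟨s, -, h1, h2, -⟩ := char_exists_eigenvalues_nat hχ t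
  rw [h2]
  rw [ht] at h1
  clear h2
  induction s using Multiset.induction_on with
  | empty => exact ⟨0, by simp⟩
  | cons z s ih =>
    obtain ⟨b, hb⟩ := ih fun ζ hζ => h1 ζ (Multiset.mem_cons_of_mem hζ)
    rw [Multiset.sum_cons, hb]
    rcases sq_eq_one_iff.1 (h1 z (Multiset.mem_cons_self _ _)) with rfl | rfl
    · exact ⟨1 + b, by push_cast; rfl⟩
    · exact ⟨-1 + b, by push_cast; rfl⟩

theorem arith (k d : ℕ) (b : ℤ) (hk : Odd k) (hd : 0 < d) (hb : 1 + (b - 3) ^ 2 + b ^ 2 ≤ 8)
    (h : (k : ℤ) * (d * (d + 1) + b ^ 2 * (d + 1) - d * (b - 3) ^ 2) = 32 * d * (d + 1)) :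
    k = 21 ∨ k = 45 := by
  have hb1 : 1 ≤ b := by nlinarith
  have hb2 : b ≤ 2 := by nlinarith
  obtain ⟨j, rfl⟩ := hk
  interval_cases b
  · obtain ⟨e, rfl⟩ : ∃ e, d = e + 1 := ⟨d - 1, by omega⟩
    have h1 : (2 * j + 1) * e ^ 2 = 32 * (e + 1) * (e + 2) := by
      zify
      push_cast at h
      linear_combination h
    have h2 : e ∣ 64 := by
      have : e ∣ 32 * (e + 1) * (e + 2) := h1 ▸ Dvd.dvd.mul_left (dvd_pow_self e two_ne_zero) _
      have h3 : 32 * (e + 1) * (e + 2) = e * (32 * e + 96) + 64 := by ring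
      rw [h3] at this
      exact (Nat.dvd_add_right (Dvd.intro _ rfl)).1 this
    have h3 := Nat.le_of_dvd (by norm_num) h2
    interval_cases e <;> omega
  · have h1 : (2 * j + 1) * (d + 2) ^ 2 = 32 * d * (d + 1) := by
      zify
      push_cast at h
      linear_combination h
    have h2 : d + 2 ∣ 64 := by
      have : d + 2 ∣ 32 * d * (d + 1) :=
        h1 ▸ Dvd.dvd.mul_left (dvd_pow_self (d + 2) two_ne_zero) _
      have h3 : 32 * d * (d + 1) + (d + 2) * 96 = (d + 2) * (32 * (d + 2)) + 64 := by ring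
      have h4 : d + 2 ∣ 32 * d * (d + 1) + (d + 2) * 96 := dvd_add this (Dvd.intro _ rfl)
      rw [h3] at h4
      exact (Nat.dvd_add_right (Dvd.intro _ rfl)).1 h4
    have h3 := Nat.le_of_dvd (by norm_num) h2
    have h4 : d ≤ 62 := by omega
    interval_cases d <;> omega

theorem sum_class_indFun {G : Type*} [Group G] [Fintype G] (C : Subgroup G) (α : C → ℂ) (a b : G)
    [DecidablePred (IsConj a)] [DecidablePred (IsConj b)] :
    ∑ x with IsConj a x, ∑ y with IsConj b y, indFun C α (x * y) =
      (C.index : ℂ) * ∑ x with IsConj a x, ∑ y with IsConj b y, extendByZero C α (x * y) := by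
  have h1 : ∀ h : G, ∑ x with IsConj a x, ∑ y with IsConj b y, extendByZero C α (h * (x * y) * h⁻¹)
      = ∑ x with IsConj a x, ∑ y with IsConj b y, extendByZero C α (x * y) := by
    intro h
    have e1 : ∀ w y : G, IsConj w (h * y * h⁻¹) ↔ IsConj w y := fun w y => by
      have : IsConj y (h * y * h⁻¹) := isConj_iff.2 ⟨h, rfl⟩
      exact ⟨fun h => h.trans this.symm, fun h => h.trans this⟩
    simp only [Finset.sum_filter]
    refine Fintype.sum_equiv (MulAut.conj h).toEquiv _ _ fun x => ?_
    simp only [MulEquiv.toEquiv_eq_coe, EquivLike.coe_coe, MulAut.conj_apply, e1]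
    congr 1
    refine Fintype.sum_equiv (MulAut.conj h).toEquiv _ _ fun y => ?_
    simp only [MulEquiv.toEquiv_eq_coe, EquivLike.coe_coe, MulAut.conj_apply, e1, conj_mul]
  simp only [indFun_apply', ← Finset.mul_sum]
  rw [Finset.sum_congr rfl fun x _ => Finset.sum_comm, Finset.sum_comm]
  simp only [h1, Finset.sum_const, Finset.card_univ, nsmul_eq_mul, ← Nat.card_eq_fintype_card]
  rw [← C.card_mul_index]
  have := natCard_cast_ne_zero C
  push_cast
  field_simp


/-- If a finite group equals its own commutator subgroup and contains an involution whose centralizer is isomorphic to the dihedral group of order 8, then the group has order 168 or 360. -/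
theorem result {G : Type*} [Group G] [Finite G] (hperf : commutator G = ⊤) (t : G) (ht : orderOf t = 2) (e : Subgroup.centralizer ({t} : Set G) ≃* DihedralGroup 4) : Nat.card G = 168 ∨ Nat.card G = 360 := by
  classical
  have := Fintype.ofFinite G
  have : Fact (Nat.Prime 2) := ⟨Nat.prime_two⟩
  set D := centralizer ({t} : Set G) with hD
  let f : DihedralGroup 4 →* G := D.subtype.comp e.symm.toMonoidHom
  have hf : Function.Injective f := D.subtype_injective.comp e.symm.injective
  have hfD : ∀ q, f q ∈ D := fun q => (e.symm q).2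
  have hsurj : ∀ s ∈ D, ∃ q, f q = s := fun s hs => ⟨e ⟨s, hs⟩, by simp [f]⟩
  have hcardD : Nat.card D = 8 := by rw [Nat.card_congr e.toEquiv, DihedralGroup.nat_card]
  have ht1 : t ≠ 1 := by rintro rfl; simp at ht
  have hcent : ∀ z ∈ D, z ≠ 1 → (∀ d ∈ D, d * z = z * d) → z = f (.r 2) := by
    intro z hz hz1 hc
    obtain ⟨q, rfl⟩ := hsurj z hz
    have h1 : ∀ d, d * q = q * d := fun d => hf (by rw [map_mul, map_mul, hc _ (hfD d)])
    have h2 : q ≠ 1 := by rintro rfl; exact hz1 (map_one f)
    congr 1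
    clear hz hz1 hc
    revert q
    decide
  have htf : t = f (.r 2) :=
    hcent t (mem_centralizer_singleton_iff.2 rfl) ht1 fun d hd => mem_centralizer_singleton_iff.1 hd
  -- `D` is a Sylow 2-subgroup
  have hD2 : IsPGroup 2 D := IsPGroup.of_card (n := 3) hcardD
  obtain ⟨P, hP⟩ := hD2.exists_le_sylow
  have hPD : (P : Subgroup G) = D := by
    refine le_antisymm ?_ hP
    have : Nontrivial P := ⟨⟨⟨t, hP (mem_centralizer_singleton_iff.2 rfl)⟩, 1,
      fun h => ht1 (congrArg Subtype.val h)⟩⟩
    have := P.2.center_nontrivial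
    obtain ⟨⟨z, hz⟩, hz1⟩ := exists_ne (1 : center P)
    have hzc : ∀ d ∈ (P : Subgroup G), d * z = z * d := fun d hd =>
      congrArg Subtype.val (mem_center_iff.1 hz ⟨d, hd⟩)
    have h1 : (z : G) = t := by
      rw [htf]
      refine hcent z (mem_centralizer_singleton_iff.2
        (hzc t (hP (mem_centralizer_singleton_iff.2 rfl))).symm) (fun h => hz1 ?_)
        fun d hd => hzc d (hP hd)
      exact Subtype.ext (Subtype.ext h)
    intro d hd
    rw [mem_centralizer_singleton_iff, ← h1]
    exact hzc d hd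
  have hodd : Odd D.index := by
    rw [← hPD, ← Nat.not_even_iff_odd, even_iff_two_dvd]
    exact P.not_dvd_index
  set k := D.index with hk
  have hG : Nat.card G = 8 * k := by rw [← hcardD, card_mul_index]
  -- the cyclic subgroup of order 4
  set m := f (.r 1) with hm
  set s := f (.sr 0) with hs
  have hmo : orderOf m = 4 := by rw [orderOf_injective f hf, DihedralGroup.orderOf_r_one]
  set M := zpowers m with hM
  have hMmem : ∀ g, g ∈ M ↔ ∃ i, f (.r i) = g := by
    intro g
    constructor
    · intro hg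
      obtain ⟨j, rfl⟩ := mem_zpowers_iff.1 hg
      exact ⟨j, by rw [← map_zpow, DihedralGroup.r_one_zpow]⟩
    · rintro ⟨i, rfl⟩
      rw [← ZMod.natCast_zmod_val i, ← DihedralGroup.r_one_pow, map_pow]
      exact npow_mem_zpowers _ _
  have hsM : ∀ g, s⁻¹ * g ∈ M ↔ ∃ i, f (.sr i) = g := by
    intro g
    rw [hMmem]
    refine exists_congr fun i => ?_
    rw [eq_inv_mul_iff_mul_eq, ← map_mul]
    simp
  have hDcases : ∀ g ∈ D, g ∈ M ∨ s⁻¹ * g ∈ M := by
    intro g hg
    obtain ⟨i | i, rfl⟩ := hsurj g hg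
    · exact Or.inl ((hMmem _).2 ⟨i, rfl⟩)
    · exact Or.inr ((hsM _).2 ⟨i, rfl⟩)
  have hcardM : Nat.card M = 4 := by rw [Nat.card_zpowers, hmo]
  have hMidx : M.index = 2 * k := by
    have := M.card_mul_index
    rw [hcardM, hG] at this
    omega
  have hMinv : ∀ u ∈ M, orderOf u = 2 → u = t := by
    intro u hu ho
    obtain ⟨i, rfl⟩ := (hMmem u).1 hu
    rw [orderOf_injective f hf, orderOf_eq_iff two_pos] at ho
    rw [htf]
    congr 1
    clear hu
    revert i
    decide
  have hconj : ∀ u, orderOf u = 2 → IsConj t u := by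
    intro u hu
    obtain ⟨g, hg⟩ := exists_conj_mem_of_perfect hperf M hodd hMidx
      (u := u) (by rw [← hu, pow_orderOf_eq_one])
    have := hMinv _ hg (by simpa using (orderOf_conj' g⁻¹ u).trans hu)
    exact isConj_iff.2 ⟨g, by rw [← this]; group⟩
  have hconj' : ∀ u, IsConj t u → orderOf u = 2 := by
    intro u hu
    obtain ⟨g, rfl⟩ := isConj_iff.1 hu
    rw [orderOf_conj', ht]
  -- trivial intersection
  have hpow : ∀ y ∈ M, y ≠ 1 → y = t ∨ (y ≠ t ∧ y ^ 2 = t) := by
    intro y hy hy1
    obtain ⟨i, rfl⟩ := (hMmem y).1 hy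
    rw [htf, ← map_pow, hf.eq_iff, hf.eq_iff, Ne, hf.eq_iff]
    rw [Ne, map_eq_one_iff f hf] at hy1
    clear hy
    revert i
    decide
  have hTI : ∀ y ∈ M, ∀ h : G, h⁻¹ * y * h ∈ M → y ≠ 1 → h ∈ D := by
    intro y hy h hh hy1
    have ht2 : t ^ 2 = 1 := by rw [← ht, pow_orderOf_eq_one]
    have hsq : (h⁻¹ * y * h) ^ 2 = h⁻¹ * y ^ 2 * h := by simp [sq, mul_assoc]
    have key : h⁻¹ * t * h = t := by
      rcases hpow y hy hy1 with h1 | ⟨-, h1⟩
      · rw [← h1]
        refine (hMinv _ hh ?_).trans h1.symm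
        rw [h1]
        simpa using (orderOf_conj' h⁻¹ t).trans ht
      · rw [h1] at hsq
        rw [← hsq]
        refine hMinv _ (pow_mem hh 2) ?_
        rw [hsq]
        simpa using (orderOf_conj' h⁻¹ t).trans ht
    rw [mem_centralizer_singleton_iff]
    calc h * t = h * (h⁻¹ * t * h) := by rw [key]
      _ = t * h := by group
  have hsnM : s ∉ M := by
    rw [hMmem]
    rintro ⟨i, hi⟩
    cases hf hi
  have hsm : s⁻¹ * m * s = m⁻¹ := by
    rw [hs, hm, ← map_inv, ← map_inv, ← map_mul, ← map_mul]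
    congr 1
  have hsC : ∀ c ∈ M, s⁻¹ * c * s ∈ M := by
    intro c hc
    obtain ⟨i, rfl⟩ := (hMmem c).1 hc
    refine (hMmem _).2 ⟨-i, ?_⟩
    rw [hs, ← map_inv, ← map_mul, ← map_mul]
    simp
  let i : ℂˣ := Units.mk0 Complex.I Complex.I_ne_zero
  have hi4 : i ^ 4 = 1 := by ext; simp [i]
  have hgen : ∀ u : M, u ∈ zpowers (⟨m, mem_zpowers m⟩ : M) := fun u => by
    obtain ⟨j, hj⟩ := mem_zpowers_iff.1 u.2
    exact mem_zpowers_iff.2 ⟨j, Subtype.ext hj⟩
  have hi : orderOf i ∣ orderOf (⟨m, mem_zpowers m⟩ : M) := by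
    rw [Subgroup.orderOf_mk, hmo]
    exact orderOf_dvd_of_pow_eq_one hi4
  let lam : M →* ℂˣ := monoidHomOfForallMemZpowers hgen hi
  have hl : (lam ⟨m, mem_zpowers m⟩ : ℂ) = Complex.I := by simp [lam, i]
  have ha' : conjHom _ s hsC ⟨m, mem_zpowers m⟩ = ⟨m, mem_zpowers m⟩⁻¹ := Subtype.ext hsm
  have hl' : ((lam.comp (conjHom _ s hsC)) ⟨m, mem_zpowers m⟩ : ℂ) = -Complex.I := by
    rw [MonoidHom.comp_apply, ha', map_inv, Units.val_inv_eq_inv_val, hl, Complex.inv_I]
  have hlam1 : lam ≠ 1 := by
    intro h1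
    rw [h1] at hl
    have := congrArg Complex.re hl
    simp at this
  obtain ⟨χ₁, χ₂, k1, k2, k3, k4, k5, k6, k7⟩ := exists_pair_of_linear M hsnM
    hsC lam hlam1 (by
      intro h1
      rw [h1] at hl'
      have := congrArg Complex.re hl'
      simp at this) (by
      intro h1
      rw [← h1, hl] at hl'
      have := congrArg Complex.im hl'
      norm_num at this) (by
      intro y g hg hne
      refine hDcases g (hTI y y.2 g hg fun h1 => hne ?_)
      have : (⟨g⁻¹ * y * g, hg⟩ : M) = 1 := Subtype.ext (by simp [h1])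
      rw [this, map_one])
  have htm : t = m ^ 2 := by rw [htf, hm, ← map_pow]; rfl
  have e1 : χ₁ 1 = χ₂ 1 + 1 := by
    have := k6 1
    rw [indFun_one] at this
    simp only [map_one, Units.val_one, sub_self, mul_zero] at this
    linear_combination this
  have et : χ₁ t = χ₂ t - 3 := by
    have := k7 (⟨m, mem_zpowers m⟩ ^ 2)
    have e : (⟨s⁻¹ * ((⟨m, mem_zpowers m⟩ ^ 2 : M) : G) * s, hsC _ (Subtype.prop _)⟩ : M) =
        conjHom _ s hsC (⟨m, mem_zpowers m⟩ ^ 2) := rfl
    rw [e, ← MonoidHom.comp_apply, map_pow, map_pow, Units.val_pow_eq_pow_val,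
      Units.val_pow_eq_pow_val, hl, hl', neg_sq, Complex.I_sq] at this
    simp only [SubmonoidClass.mk_pow] at this
    rw [htm]
    linear_combination this
  -- counting pairs of involutions
  set α : M → ℂ := fun c => (lam c : ℂ) - 1 with hα
  have hsumα : ∑ g, extendByZero M α g = -4 := by
    rw [sum_extendByZero, Finset.sum_sub_distrib]
    have := sum_hom_units_eq_zero ((Units.coeHom ℂ).comp lam)
      (fun h => hlam1 (MonoidHom.ext fun c => Units.ext (DFunLike.congr_fun h c)))
    simp only [MonoidHom.comp_apply, Units.coeHom_apply] at this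
    rw [this]
    simp [← Nat.card_eq_fintype_card, hcardM]
  have hcount : ∑ x with IsConj t x, ∑ y with IsConj t y, extendByZero M α (x * y) = -16 := by
    have h1 : ∀ x y : G, (if IsConj t x then if IsConj t y then extendByZero M α (x * y) else 0
        else 0) = if s⁻¹ * x ∈ M then extendByZero M α (x * y) else 0 := by
      intro x y
      by_cases h0 : extendByZero M α (x * y) = 0
      · simp [h0]
      have hxy : x * y ∈ M := by
        by_contra h2
        exact h0 (extendByZero_of_not_mem M α h2)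
      have hxy1 : x * y ≠ 1 := by
        intro h2
        apply h0
        rw [h2, extendByZero_of_mem M α M.one_mem]
        have : (⟨1, M.one_mem⟩ : M) = 1 := rfl
        simp [hα, this]
      have hinv : ∀ w, s⁻¹ * w ∈ M → IsConj t w := by
        intro w hw
        obtain ⟨j, rfl⟩ := (hsM w).1 hw
        exact hconj _ (by rw [orderOf_injective f hf, DihedralGroup.orderOf_sr])
      by_cases h2 : s⁻¹ * x ∈ M
      · have h3 : s⁻¹ * y ∈ M := by
          obtain ⟨j, rfl⟩ := (hsM x).1 h2
          obtain ⟨l, hl⟩ := (hMmem _).1 hxy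
          refine (hsM y).2 ⟨j + l, ?_⟩
          rw [← inv_mul_eq_iff_eq_mul, ← map_inv, ← map_mul] at hl
          simpa using hl
        rw [if_pos (hinv x h2), if_pos (hinv y h3), if_pos h2]
      · rw [if_neg h2]
        split_ifs with h3 h4
        · exfalso
          have hx2 : x * x = 1 := by rw [← sq, ← hconj' x h3, pow_orderOf_eq_one]
          have hy2 : y * y = 1 := by rw [← sq, ← hconj' y h4, pow_orderOf_eq_one]
          have h5 : x⁻¹ * (x * y) * x = (x * y)⁻¹ := by
            rw [mul_inv_rev, inv_mul_cancel_left, inv_eq_of_mul_eq_one_right hx2,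
              inv_eq_of_mul_eq_one_right hy2]
          have h6 := hTI _ hxy x (h5 ▸ M.inv_mem hxy) hxy1
          have h7 := (hDcases x h6).resolve_right h2
          have h8 := (M.mul_mem_cancel_left h7).1 hxy
          apply hxy1
          rw [hMinv y h8 (hconj' y h4), ← hMinv x h7 (hconj' x h3), hx2]
        · rfl
        · rfl
    have h2 : ∀ x : G, ∑ y, extendByZero M α (x * y) = -4 := fun x => by
      rw [← hsumα]
      exact Fintype.sum_equiv (Equiv.mulLeft x) _ _ fun y => rfl
    have h3 : ∀ x : G, (if IsConj t x then ∑ y, (if IsConj t y then extendByZero M α (x * y)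
        else 0) else 0) = extendByZero M (fun _ => -4) (s⁻¹ * x) := by
      intro x
      have : (if IsConj t x then ∑ y, (if IsConj t y then extendByZero M α (x * y)
        else 0) else 0) = ∑ y, (if IsConj t x then if IsConj t y then extendByZero M α (x * y)
          else 0 else 0) := by split_ifs <;> simp
      rw [this]
      simp only [h1, extendByZero_apply M (fun _ => -4)]
      split_ifs
      · exact h2 x
      · simp
    simp only [Finset.sum_filter, h3]
    rw [Fintype.sum_equiv (Equiv.mulLeft s⁻¹) (fun x => extendByZero M (fun _ => -4) (s⁻¹ * x))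
      (extendByZero M (fun _ => -4)) fun y => rfl,
      sum_extendByZero]
    simp only [Finset.sum_const, Finset.card_univ, ← Nat.card_eq_fintype_card, hcardM]
    norm_num
  have hmain := sum_class_indFun M α t t
  rw [hcount, hMidx] at hmain
  simp only [← k6, Finset.sum_sub_distrib] at hmain
  have hone := irr_sum_class_mul_class (G := G) irr_one t t
  rw [irr_sum_class_mul_class k1, irr_sum_class_mul_class k2, hone, card_isConj_eq_index,
    ← hk, e1, et] at hmain
  obtain ⟨d, hd, hd'⟩ := irr_apply_one k2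
  obtain ⟨b, hb⟩ := int_of_sq_eq_one (irr_isCharacter k2) ht
  have hbound : 1 + (b - 3) ^ 2 + b ^ 2 ≤ 8 := by
    have h1 := sum_irr_norm_sq t
    rw [hcardD] at h1
    have h2 := Finset.sum_le_sum_of_subset_of_nonneg
      (f := fun χ : IrrCharacter G => ‖(χ : G → ℂ) t‖ ^ 2)
      (Finset.subset_univ {irrOne G, ⟨χ₁, k1⟩, ⟨χ₂, k2⟩}) fun _ _ _ => by positivity
    rw [h1, Finset.sum_insert, Finset.sum_pair] at h2
    · simp only [irrOne_apply, et, hb, norm_one] at h2
      have h3 : ((b : ℂ) - 3) = ((b - 3 : ℤ) : ℂ) := by push_cast; rfl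
      rw [h3, Complex.norm_intCast, Complex.norm_intCast, sq_abs, sq_abs] at h2
      have : ((1 + (b - 3) ^ 2 + b ^ 2 : ℤ) : ℝ) ≤ (8 : ℤ) := by push_cast at h2 ⊢; linarith
      exact_mod_cast this
    · exact fun h => k5 (congrArg Subtype.val h)
    · simp only [Finset.mem_insert, Finset.mem_singleton, not_or]
      exact ⟨fun h => k3 (congrArg Subtype.val h).symm, fun h => k4 (congrArg Subtype.val h).symm⟩
  rw [hd', hb] at hmain
  have hk0 : (k : ℂ) ≠ 0 := Nat.cast_ne_zero.2 hodd.pos.ne'
  have hd0 : (d : ℂ) ≠ 0 := Nat.cast_ne_zero.2 hd.ne'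
  have hd1 : (d : ℂ) + 1 ≠ 0 := by exact_mod_cast Nat.succ_ne_zero d
  have heq : (k : ℂ) * (d * (d + 1) + b ^ 2 * (d + 1) - d * (b - 3) ^ 2) = 32 * d * (d + 1) := by
    push_cast at hmain
    field_simp at hmain
    linear_combination -hmain
  rcases arith k d b hodd hd hbound (by exact_mod_cast heq) with h | h <;> omega

end Cfsg.Agent.S0848
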