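import Cfsg.Statements.S0849
import Cfsg.Agent.Base

set_option autoImplicit false
open Cfsg

namespace Cfsg.Agent.S0849

/-- Let H be a subgroup of a finite group G and S a subset of H that is mapped to itself under conjugation by H, is disjoint from its conjugate by any element outside H, and is closed under inverses. Let φ be a class function of H vanishing on H away from S, and let u, v be involutions of G. Then the sum of the induced function of φ over all products a * b with a conjugate to u and b conjugate to v equals the index of H times the sum of φ (a * b) over such pairs with a and b in H. -/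
theorem result {G : Type*} [Group G] [Fintype G] (H : Subgroup G) (S : Set G) (hSH : S ⊆ H) (hHS : ∀ h ∈ H, ∀ s ∈ S, h * s * h⁻¹ ∈ S) (hTI : ∀ g : G, g ∉ H → ∀ s ∈ S, g * s * g⁻¹ ∉ S) (hinv : ∀ s ∈ S, s⁻¹ ∈ S) (φ : H → ℂ) (hφ : Cfsg.IsClassFunction H φ) (hφS : ∀ x : H, (x : G) ∉ S → φ x = 0) (u v : G) (hu : orderOf u = 2) (hv : orderOf v = 2) : ∑ᶠ p ∈ {p : G × G | IsConj u p.1 ∧ IsConj v p.2}, Cfsg.indFun H φ (p.1 * p.2) = (H.index : ℂ) * ∑ᶠ p ∈ {p : H × H | IsConj u (p.1 : G) ∧ IsConj v (p.2 : G)}, φ (p.1 * p.2) := by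
  classical
  have hco : ∀ x : H, Cfsg.extendByZero H φ x = φ x := fun x =>
    Subtype.val_injective.extend_apply _ _ x
  have hno : ∀ g : G, g ∉ H → Cfsg.extendByZero H φ g = 0 := fun g hg => by
    unfold Cfsg.extendByZero
    rw [Function.extend_apply' _ _ _ (by rintro ⟨x, rfl⟩; exact hg x.2)]
    rfl
  rw [finsum_mem_def, finsum_mem_def, finsum_eq_sum_of_fintype, finsum_eq_sum_of_fintype]
  set F : G × G → ℂ := fun p => if IsConj u p.1 ∧ IsConj v p.2 then
    Cfsg.extendByZero H φ (p.1 * p.2) else 0 with hF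
  have h1 : ∀ x : G, ∑ p : G × G, (if IsConj u p.1 ∧ IsConj v p.2 then
      Cfsg.extendByZero H φ (x⁻¹ * (p.1 * p.2) * x) else 0) = ∑ p, F p := by
    intro x
    refine Fintype.sum_equiv (Equiv.prodCongr (MulAut.conj x⁻¹).toEquiv (MulAut.conj x⁻¹).toEquiv)
      _ _ fun p => ?_
    have e1 : ∀ w y : G, IsConj w (x⁻¹ * y * x) ↔ IsConj w y := fun w y => by
      have : IsConj y (x⁻¹ * y * x) := isConj_iff.2 ⟨x⁻¹, by simp⟩
      exact ⟨fun h => h.trans this.symm, fun h => h.trans this⟩
    simp only [hF, Equiv.prodCongr_apply, Prod.map_fst, Prod.map_snd, MulEquiv.toEquiv_eq_coe,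
      EquivLike.coe_coe, MulAut.conj_apply, inv_inv, e1]
    congr 2
    group
  have h2 : ∑ p : G × G, Set.indicator {p : G × G | IsConj u p.1 ∧ IsConj v p.2}
      (fun p => Cfsg.indFun H φ (p.1 * p.2)) p = (H.index : ℂ) * ∑ p, F p := by
    have : ∀ p : G × G, Set.indicator {p : G × G | IsConj u p.1 ∧ IsConj v p.2}
        (fun p => Cfsg.indFun H φ (p.1 * p.2)) p = (Nat.card H : ℂ)⁻¹ * ∑ x : G,
          (if IsConj u p.1 ∧ IsConj v p.2 then
            Cfsg.extendByZero H φ (x⁻¹ * (p.1 * p.2) * x) else 0) := by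
      intro p
      rw [Set.indicator_apply]
      simp only [Set.mem_ofPred_eq]
      split_ifs
      · rfl
      · simp
    simp_rw [this]
    rw [← Finset.mul_sum, Finset.sum_comm]
    simp_rw [h1]
    rw [Finset.sum_const, Finset.card_univ, nsmul_eq_mul, ← mul_assoc, ← Nat.card_eq_fintype_card,
      ← H.card_mul_index]
    have : (Nat.card H : ℂ) ≠ 0 := Nat.cast_ne_zero.2 Nat.card_pos.ne'
    push_cast
    field_simp
  rw [h2]
  congr 1
  symm
  refine Finset.sum_of_injOn (fun p : H × H => ((p.1 : G), (p.2 : G))) ?_ (by simp) ?_ ?_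
  · rintro ⟨p1, p2⟩ - ⟨q1, q2⟩ - hpq
    simp only [Prod.mk.injEq] at hpq
    exact Prod.ext (Subtype.ext hpq.1) (Subtype.ext hpq.2)
  · rintro ⟨a, b⟩ - hab
    simp only [hF]
    split_ifs with hc
    · by_contra hne
      have hab' : a * b ∈ H := by
        by_contra h3
        exact hne (hno _ h3)
      have hS : a * b ∈ S := by
        by_contra h3
        exact hne ((hco ⟨a * b, hab'⟩).trans (hφS _ h3))
      have sq : ∀ w y : G, orderOf w = 2 → IsConj w y → y⁻¹ = y := by
        intro w y hw hy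
        obtain ⟨c, rfl⟩ := isConj_iff.1 hy
        have : w * w = 1 := by rw [← sq, ← hw, pow_orderOf_eq_one]
        apply inv_eq_of_mul_eq_one_right
        calc c * w * c⁻¹ * (c * w * c⁻¹) = c * (w * w) * c⁻¹ := by group
          _ = 1 := by rw [this]; group
      have ha := sq u a hu hc.1
      have hb := sq v b hv hc.2
      have haH : a ∈ H := by
        by_contra h3
        apply hTI a h3 _ hS
        have := hinv _ hS
        rw [mul_inv_rev, hb] at this
        have h4 : a * (a * b) = b := by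
          nth_rewrite 1 [← ha]
          rw [inv_mul_cancel_left]
        rwa [h4]
      have hbH : b ∈ H := (H.mul_mem_cancel_left haH).1 hab'
      exact hab ⟨(⟨a, haH⟩, ⟨b, hbH⟩), by simp, rfl⟩
    · rfl
  · rintro ⟨a, b⟩ -
    rw [Set.indicator_apply]
    simp only [hF, Set.mem_ofPred_eq]
    split_ifs
    · exact (hco (a * b)).symm
    · rfl

end Cfsg.Agent.S0849
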