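import Cfsg.Statements.S0850
import Cfsg.Agent.BS.TIFN

set_option autoImplicit false
open Cfsg CL.Char CL.TIFN

namespace Cfsg.Agent.S0850

/-- Let K be a subgroup of the finite group G that meets each conjugate by an element outside its normalizer N trivially, is properly contained in N, and contains the centralizer of each of its non-identity elements (a T.I. subgroup with Frobenius normalizer). Then no element of N outside K is conjugate in G to an element of K, and for every class function ϑ of N that vanishes on N away from K and at the identity, the function induced from ϑ to G agrees with ϑ on all of N. -/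
theorem result {G : Type*} [Group G] [Fintype G] (K : Subgroup G) (hTI : ∀ g : G, g ∉ Subgroup.normalizer (K : Set G) → ∀ k ∈ K, g * k * g⁻¹ ∈ K → k = 1) (hlt : K < Subgroup.normalizer (K : Set G)) (hC : ∀ k ∈ K, k ≠ 1 → Subgroup.centralizer ({k} : Set G) ≤ K) : (∀ x ∈ Subgroup.normalizer (K : Set G), x ∉ K → ∀ g : G, g * x * g⁻¹ ∉ K) ∧ ∀ (ϑ : Subgroup.normalizer (K : Set G) → ℂ), Cfsg.IsClassFunction (Subgroup.normalizer (K : Set G)) ϑ → (∀ x : Subgroup.normalizer (K : Set G), (x : G) ∉ K → ϑ x = 0) → ϑ 1 = 0 → ∀ x : Subgroup.normalizer (K : Set G), Cfsg.indFun (Subgroup.normalizer (K : Set G)) ϑ x = ϑ x := by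
  have hnorm : ∀ g ∈ Subgroup.normalizer (K : Set G), ∀ x : G, g * x * g⁻¹ ∈ K ↔ x ∈ K :=
    fun g hg x => (Subgroup.mem_normalizer_iff.1 hg x).symm
  have h1 : ∀ x ∈ Subgroup.normalizer (K : Set G), x ∉ K → ∀ g : G, g * x * g⁻¹ ∉ K := by
    intro x hx hxK g hg
    have hx1 : x ≠ 1 := fun h => hxK (h ▸ K.one_mem)
    -- some power of `x` has prime order `p`, and lies outside `K`
    obtain ⟨p, hp, hpx⟩ := Nat.exists_prime_and_dvd
      (fun h => hx1 (orderOf_eq_one_iff.1 h) : orderOf x ≠ 1)
    have : Fact p.Prime := ⟨hp⟩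
    obtain ⟨m, hm⟩ := hpx
    have hm0 : m ≠ 0 := by
      rintro rfl
      exact (orderOf_pos x).ne' (by simpa using hm)
    have hy : orderOf (x ^ m) = p := by
      rw [orderOf_pow' x hm0, hm, Nat.gcd_eq_right (Dvd.intro_left p rfl),
        Nat.mul_div_cancel _ (Nat.pos_of_ne_zero hm0)]
    have hy1 : x ^ m ≠ 1 := fun h => hp.one_lt.ne' (by rw [← hy, h, orderOf_one])
    have hyK : x ^ m ∉ K := by
      intro h
      refine hxK (hC _ h hy1 ?_)
      rw [Subgroup.mem_centralizer_singleton_iff]
      group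
    have hyN : x ^ m ∈ Subgroup.normalizer (K : Set G) := Subgroup.pow_mem _ hx m
    have hgy : g * x ^ m * g⁻¹ ∈ K := by
      rw [← conj_pow]; exact K.pow_mem hg m
    -- `p` divides the order of `K`
    have hpK : p ∣ Nat.card K := by
      have h2 : orderOf (⟨g * x ^ m * g⁻¹, hgy⟩ : K) = p := by
        rw [← Subgroup.orderOf_coe, ← hy]
        exact (MulAut.conj g).orderOf_eq (x ^ m)
      exact h2 ▸ orderOf_dvd_natCard _
    -- the group generated by `y = x ^ m` fixes a non-trivial element of `K`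
    let P := Subgroup.zpowers (x ^ m)
    have hP : IsPGroup p P := IsPGroup.of_card (n := 1) (by rw [Nat.card_zpowers, hy, pow_one])
    have hPN : ∀ a : P, (a : G) ∈ Subgroup.normalizer (K : Set G) :=
      fun a => (Subgroup.zpowers_le.2 hyN) a.2
    let act : MulAction P K :=
      { smul := fun a k => ⟨a * k * (a : G)⁻¹, (hnorm _ (hPN a) _).2 k.2⟩
        one_smul := fun k => Subtype.ext (show ((1 : P) : G) * k * ((1 : P) : G)⁻¹ = k by simp)
        mul_smul := fun a b k => Subtype.ext
          (show ((a * b : P) : G) * k * ((a * b : P) : G)⁻¹ =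
            a * (b * k * (b : G)⁻¹) * (a : G)⁻¹ by simp [mul_assoc]) }
    have hone : (1 : K) ∈ MulAction.fixedPoints P K := fun a =>
      Subtype.ext (show (a : G) * ((1 : K) : G) * (a : G)⁻¹ = ((1 : K) : G) by simp)
    obtain ⟨k, hk, hk1⟩ := hP.exists_fixed_point_of_prime_dvd_card_of_fixed_point K hpK hone
    have h3 : x ^ m * k * (x ^ m)⁻¹ = k :=
      congrArg Subtype.val (hk ⟨x ^ m, Subgroup.mem_zpowers _⟩)
    refine hk1 (Subtype.ext (eq_one_of_comm_of_not_mem K hC hyK k k.2 ?_)).symm
    exact (mul_inv_eq_iff_eq_mul.1 h3).symm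
  refine ⟨h1, fun ϑ hϑ hK h0 x => ?_⟩
  refine indFun_apply_eq_of_forall_not_mem _ hϑ x (fun g hg h => ?_)
  by_cases hgx : g * x * g⁻¹ ∈ K
  · have hxK : (x : G) ∈ K := by
      by_contra hxK
      exact h1 x x.2 hxK g hgx
    have hx1 := hTI g hg x hxK hgx
    rw [← h0]
    congr 1
    exact Subtype.ext (by simp [hx1])
  · exact hK _ hgx

end Cfsg.Agent.S0850
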