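import Cfsg.Statements.S0852
import Cfsg.Agent.BS.TIFN

set_option autoImplicit false
open Cfsg CL.Char CL.TIFN

namespace Cfsg.Agent.S0852

/-- Let K be a subgroup of the finite group G that meets each conjugate by an element outside its normalizer N trivially, is properly contained in N, and contains the centralizer of each of its non-identity elements (a T.I. subgroup with Frobenius normalizer). Let S be the set of irreducible characters of N taking at some element of K a value different from their degree, suppose S has at least two members, and let star be a linear isometry on the integer span of S into the generalized characters of G that agrees with induction on the members vanishing at the identity (so S is coherent, with star as the extending isometry). Then an irreducible character ψ of G is of the form star χ or -star χ for some χ in S if and only if ψ is not constant on the non-identity elements of K. -/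
theorem result {G : Type*} [Group G] [Fintype G] (K : Subgroup G) (hTI : ∀ g : G, g ∉ Subgroup.normalizer (K : Set G) → ∀ k ∈ K, g * k * g⁻¹ ∈ K → k = 1) (hlt : K < Subgroup.normalizer (K : Set G)) (hC : ∀ k ∈ K, k ≠ 1 → Subgroup.centralizer ({k} : Set G) ≤ K) [Fintype ↥(Subgroup.normalizer (K : Set G))] (S : Set (↥(Subgroup.normalizer (K : Set G)) → ℂ)) (hS : S = {χ : ↥(Subgroup.normalizer (K : Set G)) → ℂ | Cfsg.IsIrrCharacter ↥(Subgroup.normalizer (K : Set G)) χ ∧ ∃ k : ↥(Subgroup.normalizer (K : Set G)), (k : G) ∈ K ∧ χ k ≠ χ 1}) (htwo : ∃ χ ∈ S, ∃ ξ ∈ S, χ ≠ ξ) (star : (↥(Subgroup.normalizer (K : Set G)) → ℂ) → (G → ℂ)) (hstar : Cfsg.IsLinearIsometryOn (Cfsg.zspan S) star) (hext : ∀ α ∈ Cfsg.zspanOn S ({1}ᶜ : Set ↥(Subgroup.normalizer (K : Set G))), star α = Cfsg.indFun (Subgroup.normalizer (K : Set G)) α) (ψ : G → ℂ) (hψ : Cfsg.IsIrrCharacter G ψ) : (∃ χ ∈ S, ψ = star χ ∨ ψ = -star χ) ↔ ∃ a ∈ K, ∃ b ∈ K, a ≠ 1 ∧ b ≠ 1 ∧ ψ a ≠ ψ b := by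
  have hC' := centralizer_le_subgroupOf K (Subgroup.normalizer (K : Set G)) hC
  have hmem : ∀ χ, χ ∈ S ↔ IsIrrCharacter _ χ ∧
      ∃ k ∈ K.subgroupOf (Subgroup.normalizer (K : Set G)), χ k ≠ χ 1 := by
    intro χ; rw [hS]; rfl
  have hψc := irr_isClassFunction hψ
  have hrec : ∀ χ ∈ S, ∀ ξ ∈ S,
      classInner (fun x : Subgroup.normalizer (K : Set G) => ψ x) (ξ 1 • χ - χ 1 • ξ) =
        classInner ψ (star (ξ 1 • χ - χ 1 • ξ)) := by
    intro χ hχ ξ hξ
    rw [hext _ (cross_mem_zspanOn hχ hξ (irr_isCharacter ((hmem χ).1 hχ).1)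
      (irr_isCharacter ((hmem ξ).1 hξ).1)), classInner_indFun_right _ _ hψc]
  constructor
  · rintro ⟨χ, hχ, hψχ⟩
    by_contra hcon
    push Not at hcon
    obtain ⟨ξ, hξ, hne⟩ : ∃ ξ ∈ S, χ ≠ ξ := by
      obtain ⟨χ₁, h₁, χ₂, h₂, hne⟩ := htwo
      by_cases h : χ = χ₁
      · exact ⟨χ₂, h₂, h ▸ hne⟩
      · exact ⟨χ₁, h₁, h⟩
    obtain ⟨hχi, hχK⟩ := (hmem χ).1 hχ
    obtain ⟨hξi, hξK⟩ := (hmem ξ).1 hξ
    obtain ⟨k₀, hk₀, hk₁⟩ := hχK
    have hk₂ : (k₀ : G) ≠ 1 := fun h => hk₁ (by rw [show k₀ = 1 from Subtype.ext h])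
    have h0 := classInner_cross_eq_zero_of_const _ hC' hχi ⟨k₀, hk₀, hk₁⟩ hξi hξK
      (ψ := fun x : Subgroup.normalizer (K : Set G) => ψ x) (c := ψ k₀)
      (fun k hk hk1 => hcon k hk k₀ hk₀ (fun h => hk1 (Subtype.ext h)) hk₂)
    have h1 : classInner (star χ) (star (ξ 1 • χ - χ 1 • ξ)) = ξ 1 := by
      rw [hstar.2.2.1 _ (Submodule.subset_span hχ) _
        (cross_mem_zspanOn hχ hξ (irr_isCharacter hχi) (irr_isCharacter hξi)).1,
        classInner_sub_right, classInner_smul_right, classInner_smul_right, irr_inner_self hχi,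
        irr_inner_of_ne hχi hξi hne, irr_conj_apply_one hξi]
      simp
    rw [hrec χ hχ ξ hξ] at h0
    rcases hψχ with h | h
    · rw [h, h1] at h0
      exact irr_apply_one_ne_zero hξi h0
    · rw [h, classInner_neg_left, h1, neg_eq_zero] at h0
      exact irr_apply_one_ne_zero hξi h0
  · rintro ⟨a, ha, b, hb, ha1, hb1, hab⟩
    by_contra hcon
    have hzero : ∀ χ ∈ S, classInner ψ (star χ) = 0 := by
      intro χ hχ
      by_contra h
      rcases exists_irr_map hstar hχ ((hmem χ).1 hχ).1 with h1 | h1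
      · exact hcon ⟨χ, hχ, Or.inl (irr_eq_of_inner_ne_zero hψ h1 h)⟩
      · refine hcon ⟨χ, hχ, Or.inr (irr_eq_of_inner_ne_zero hψ h1 ?_)⟩
        rwa [classInner_neg_right, neg_ne_zero]
    refine hab (apply_eq_of_inner_cross (K.subgroupOf (Subgroup.normalizer (K : Set G)))
      (ψ := fun x : Subgroup.normalizer (K : Set G) => ψ x) (classFun_restrict hψc _) ?_
      (a := ⟨a, Subgroup.le_normalizer ha⟩) (b := ⟨b, Subgroup.le_normalizer hb⟩) ha
      (fun h => ha1 (congrArg Subtype.val h)) hb (fun h => hb1 (congrArg Subtype.val h)))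
    intro χ ξ hχ hχK hξ hξK
    have hχS := (hmem χ).2 ⟨hχ, hχK⟩
    have hξS := (hmem ξ).2 ⟨hξ, hξK⟩
    rw [hrec χ hχS ξ hξS, map_cross hstar hχS hξS (irr_isCharacter hχ) (irr_isCharacter hξ),
      classInner_sub_right, classInner_smul_right, classInner_smul_right, hzero χ hχS,
      hzero ξ hξS]
    simp

end Cfsg.Agent.S0852
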