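import Cfsg.Statements.S0853
import Cfsg.Agent.BS.TIFN

set_option autoImplicit false
open Cfsg CL.Char CL.TIFN

namespace Cfsg.Agent.S0853

/-- Let K be a subgroup of the finite group G that meets each conjugate by an element outside its normalizer N trivially, is properly contained in N, and contains the centralizer of each of its non-identity elements (a T.I. subgroup with Frobenius normalizer). Let S be the set of irreducible characters of N taking at some element of K a value different from their degree, suppose S has at least two members, and let star be a linear isometry on the integer span of S into the generalized characters of G that agrees with induction on the members vanishing at the identity (so S is coherent, with star as the extending isometry). Then there is a single integer m such that star χ k - χ k = m * χ 1 / e for every χ in S and every non-identity element k of K, where e is the index of K in N. -/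
theorem result {G : Type*} [Group G] [Fintype G] (K : Subgroup G) (hTI : ∀ g : G, g ∉ Subgroup.normalizer (K : Set G) → ∀ k ∈ K, g * k * g⁻¹ ∈ K → k = 1) (hlt : K < Subgroup.normalizer (K : Set G)) (hC : ∀ k ∈ K, k ≠ 1 → Subgroup.centralizer ({k} : Set G) ≤ K) [Fintype ↥(Subgroup.normalizer (K : Set G))] (S : Set (↥(Subgroup.normalizer (K : Set G)) → ℂ)) (hS : S = {χ : ↥(Subgroup.normalizer (K : Set G)) → ℂ | Cfsg.IsIrrCharacter ↥(Subgroup.normalizer (K : Set G)) χ ∧ ∃ k : ↥(Subgroup.normalizer (K : Set G)), (k : G) ∈ K ∧ χ k ≠ χ 1}) (htwo : ∃ χ ∈ S, ∃ ξ ∈ S, χ ≠ ξ) (star : (↥(Subgroup.normalizer (K : Set G)) → ℂ) → (G → ℂ)) (hstar : Cfsg.IsLinearIsometryOn (Cfsg.zspan S) star) (hext : ∀ α ∈ Cfsg.zspanOn S ({1}ᶜ : Set ↥(Subgroup.normalizer (K : Set G))), star α = Cfsg.indFun (Subgroup.normalizer (K : Set G)) α) : ∃ m : ℤ, ∀ χ ∈ S, ∀ k : ↥(Subgroup.normalizer (K : Set G)), (k : G) ∈ K → k ≠ 1 → star χ k - χ k = (m : ℂ) * χ 1 / ((K.subgroupOf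 (Subgroup.normalizer (K : Set G))).index : ℂ) := by
  classical
  have hC' := centralizer_le_subgroupOf K (Subgroup.normalizer (K : Set G)) hC
  let N := Subgroup.normalizer (K : Set G)
  let K' := K.subgroupOf N
  have hmem : ∀ χ, χ ∈ S ↔ IsIrrCharacter _ χ ∧ ∃ k ∈ K', χ k ≠ χ 1 := by
    intro χ; rw [hS]; rfl
  have hspan : ∀ χ ∈ S, χ ∈ zspan S := fun χ hχ => Submodule.subset_span hχ
  -- the differences `δ χ`
  let δ : (N → ℂ) → N → ℂ := fun χ => (fun x : N => star χ x) - χ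
  have hδgen : ∀ χ ∈ S, IsGeneralizedCharacter N (δ χ) := fun χ hχ =>
    gen_sub (gen_restrict (hstar.2.2.2 χ (hspan χ hχ)) N) (gen_of_irr ((hmem χ).1 hχ).1)
  have hconst : ∀ χ ∈ S, ∀ a ∈ K', a ≠ 1 → ∀ b ∈ K', b ≠ 1 → δ χ a = δ χ b := by
    intro χ hχ a ha ha1 b hb hb1
    refine apply_eq_of_inner_cross K' (gen_isClassFunction (hδgen χ hχ)) ?_ ha ha1 hb hb1
    intro φ ξ hφ hφK hξ hξK
    have hφS := (hmem φ).2 ⟨hφ, hφK⟩
    have hξS := (hmem ξ).2 ⟨hξ, hξK⟩
    have hα := cross_mem_zspanOn hφS hξS (irr_isCharacter hφ) (irr_isCharacter hξ)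
    rw [classInner_sub_left, ← classInner_indFun_right _ _
      (gen_isClassFunction (hstar.2.2.2 χ (hspan χ hχ))), ← hext _ hα,
      hstar.2.2.1 _ (hspan χ hχ) _ hα.1, sub_self]
  have hcross : ∀ χ ∈ S, ∀ ξ ∈ S, ∀ k ∈ K', k ≠ 1 → ξ 1 * δ χ k = χ 1 * δ ξ k := by
    intro χ hχ ξ hξ k hk hk1
    obtain ⟨hχi, hχK⟩ := (hmem χ).1 hχ
    obtain ⟨hξi, hξK⟩ := (hmem ξ).1 hξ
    have hα := cross_mem_zspanOn hχ hξ (irr_isCharacter hχi) (irr_isCharacter hξi)
    have h1 := congrFun (hext _ hα) k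
    rw [map_cross hstar hχ hξ (irr_isCharacter hχi) (irr_isCharacter hξi),
      indFun_apply_of_TI N (K : Set G) hTI
        (classFun_sub (classFun_smul _ (irr_isClassFunction hχi))
          (classFun_smul _ (irr_isClassFunction hξi)))
        (fun x hx => cross_apply_eq_zero K' hC' hχi hχK hξi hξK hx) k hk hk1] at h1
    simp only [Pi.sub_apply, Pi.smul_apply, smul_eq_mul] at h1
    simp only [δ, Pi.sub_apply]
    linear_combination h1
  obtain ⟨χ₀, hχ₀, -⟩ := htwo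
  obtain ⟨hχ₀i, k₀, hk₀, hk₁⟩ := (hmem χ₀).1 hχ₀
  have hk₂ : k₀ ≠ 1 := fun h => hk₁ (by rw [h])
  have hne := irr_apply_one_ne_zero hχ₀i
  have he : (K'.index : ℂ) ≠ 0 := Nat.cast_ne_zero.2 Subgroup.index_ne_zero_of_finite
  obtain ⟨μ, hμ⟩ : ∃ μ : ℂ, μ = δ χ₀ k₀ / χ₀ 1 := ⟨_, rfl⟩
  have hδ : ∀ χ ∈ S, ∀ k ∈ K', k ≠ 1 → δ χ k = μ * χ 1 := by
    intro χ hχ k hk hk1
    rw [hconst χ hχ k hk hk1 k₀ hk₀ hk₂, hμ]
    have := hcross χ hχ χ₀ hχ₀ k₀ hk₀ hk₂
    field_simp
    linear_combination this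
  have hint : IsIntegral ℤ (μ * K'.index) := by
    have h1 := sum_mul_eq_neg_index K' hk₀ hk₂
    have h2 : μ * K'.index = -∑ χ ∈ Finset.univ.filter
        (fun χ : IrrCharacter N => ∃ k ∈ K', χ.1 k ≠ χ.1 1), δ χ.1 k₀ * χ.1 k₀ := by
      rw [← neg_neg (K'.index : ℂ), ← h1, mul_neg, Finset.mul_sum]
      congr 1
      refine Finset.sum_congr rfl fun χ hχ => ?_
      rw [hδ χ.1 ((hmem _).2 ⟨χ.2, (Finset.mem_filter.1 hχ).2⟩) k₀ hk₀ hk₂, mul_assoc]
    rw [h2]
    refine IsIntegral.neg (IsIntegral.sum _ fun χ hχ => ?_)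
    exact (gen_isIntegral (hδgen _ ((hmem _).2 ⟨χ.2, (Finset.mem_filter.1 hχ).2⟩)) _).mul
      (char_isIntegral (irr_isCharacter χ.2) _)
  obtain ⟨m, hm⟩ := exists_int_of_isIntegral_of_rat hint (by
    obtain ⟨n, hn⟩ := exists_int_of_const K' (hδgen χ₀ hχ₀) hk₀ hk₂
      (fun k hk hk1 => hconst χ₀ hχ₀ k hk hk1 k₀ hk₀ hk₂)
    obtain ⟨d, -, hd⟩ := irr_apply_one hχ₀i
    exact ⟨n / d * K'.index, by rw [hμ, hn, hd]; push_cast; ring⟩)
  refine ⟨m, fun χ hχ k hk hk1 => ?_⟩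
  have := hδ χ hχ k hk hk1
  simp only [δ, Pi.sub_apply] at this
  rw [this, ← hm]
  change _ = _ / (K'.index : ℂ)
  field_simp

end Cfsg.Agent.S0853
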