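import Cfsg.Statements.S0855
import Cfsg.Agent.Base
import Cfsg.Agent.Char.Extraspecial
import Cfsg.Agent.Char.Clifford

set_option autoImplicit false
open Cfsg

namespace Cfsg.Agent.S0855

open CL.Char

universe u

theorem exists_normal {G : Type u} [Group G] [Finite G] {p : ℕ} (hp : p.Prime)
    (h : p ∣ (commutator G).index) :
    ∃ N : Subgroup G, N.Normal ∧ N ≠ ⊤ ∧ (∀ x, x ^ p ∈ N) ∧ ∃ k, N.index = p ^ k := by
  have := Fact.mk hp
  rw [← card_linear] at h
  obtain ⟨lam, hlam⟩ := exists_prime_orderOf_dvd_card' p h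
  have hpow : ∀ x, x ^ p ∈ lam.ker := by
    intro x
    rw [MonoidHom.mem_ker, map_pow, ← MonoidHom.pow_apply, ← hlam, pow_orderOf_eq_one]
    rfl
  refine ⟨lam.ker, inferInstance, ?_, hpow, ?_⟩
  · intro ht
    have : lam = 1 := by
      ext x
      have : x ∈ lam.ker := ht ▸ Subgroup.mem_top x
      rw [MonoidHom.mem_ker] at this
      simp [this]
    rw [this, orderOf_one] at hlam
    exact hp.one_lt.ne hlam
  · have hP : IsPGroup p (G ⧸ lam.ker) := by
      intro q
      obtain ⟨x, rfl⟩ := QuotientGroup.mk_surjective q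
      refine ⟨1, ?_⟩
      rw [pow_one, ← QuotientGroup.mk_pow, QuotientGroup.eq_one_iff]
      exact hpow x
    exact IsPGroup.iff_card.1 hP

theorem aux {p : ℕ} (hp : p.Prime) : ∀ (n : ℕ) (G : Type u) [Group G] [Finite G],
    Nat.card G = n → (∀ χ : G → ℂ, IsIrrCharacter G χ → ∃ k, deg χ = p ^ k) →
    ∃ A : Subgroup G, (∀ x, x ∈ A ↔ Nat.Coprime (orderOf x) p) ∧
      (∀ a ∈ A, ∀ b ∈ A, a * b = b * a) ∧ Nat.Coprime (Nat.card A) p ∧
      ∃ k : ℕ, A.index = p ^ k := by
  intro n
  induction n using Nat.strong_induction_on with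
  | _ n ih =>
  intro G _ _ hn h
  classical
  have := Fintype.ofFinite G
  by_cases hd : p ∣ Nat.card G
  · obtain ⟨N, hN, hNt, hpow, j, hj⟩ := exists_normal hp
      (dvd_index_commutator_of_forall_dvd_deg hd fun χ hχ h1 => by
        obtain ⟨k, hk⟩ := h χ hχ
        rcases Nat.eq_zero_or_pos k with rfl | hk0
        · exact absurd (by rw [← irr_cast_deg hχ, hk]; simp) h1
        · rw [hk]; exact dvd_pow_self p hk0.ne')
    have hlt : Nat.card N < n := by
      rw [← hn]
      have h1 := N.card_mul_index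
      have h2 : N.index ≠ 1 := fun h => hNt (Subgroup.index_eq_one.1 h)
      have h3 : N.index ≠ 0 := Subgroup.index_ne_zero_of_finite
      have h4 : 0 < Nat.card N := Nat.card_pos
      have h5 : 2 ≤ N.index := by omega
      nlinarith
    obtain ⟨A, hA, hab, hcop, k, hk⟩ := ih _ hlt N rfl fun θ hθ => by
      obtain ⟨χ, hχ, hin⟩ := exists_irr_over N hθ
      obtain ⟨e, -, he, -⟩ := clifford_nat N hχ hθ hin
      have h1 := clifford_apply_one N hχ hθ hin
      rw [he, ← irr_cast_deg hχ, ← irr_cast_deg hθ] at h1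
      have h2 : deg χ = e * (inertia N θ).index * deg θ := by exact_mod_cast h1
      obtain ⟨k, hk⟩ := h χ hχ
      have h3 : deg θ ∣ p ^ k := by rw [← hk, h2]; exact Dvd.intro_left _ rfl
      obtain ⟨i, -, hi⟩ := (Nat.dvd_prime_pow hp).1 h3
      exact ⟨i, hi⟩
    refine ⟨A.map N.subtype, fun x => ⟨?_, fun hx => ?_⟩, ?_, ?_, ?_⟩
    · rintro ⟨y, hy, rfl⟩
      have := (hA y).1 hy
      rwa [← Subgroup.orderOf_coe] at this
    · have hxN : x ∈ N := by
        have h1 : x ^ p ∈ N := hpow x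
        have h2 : x ∈ Subgroup.zpowers (x ^ p) := mem_zpowers_pow_iff.2 (Nat.Coprime.symm hx)
        exact (Subgroup.zpowers_le.2 h1) h2
      exact ⟨⟨x, hxN⟩, (hA _).2 (by rwa [← Subgroup.orderOf_coe]), rfl⟩
    · rintro _ ⟨a, ha, rfl⟩ _ ⟨b, hb, rfl⟩
      rw [← map_mul, hab a ha b hb, map_mul]
    · rwa [Subgroup.card_map_of_injective N.subtype_injective]
    · refine ⟨k + j, ?_⟩
      rw [Subgroup.index_map_subtype, hk, hj, pow_add]
  · have hb : commutator G = ⊥ := commutator_eq_bot_of_forall_linear fun χ hχ => by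
      obtain ⟨k, hk⟩ := h χ hχ
      rcases Nat.eq_zero_or_pos k with rfl | hk0
      · rw [← irr_cast_deg hχ, hk]; simp
      · exact absurd ((dvd_pow_self p hk0.ne').trans (hk ▸ irr_deg_dvd_card hχ)) hd
    have hcop : Nat.Coprime (Nat.card G) p := ((Nat.Prime.coprime_iff_not_dvd hp).2 hd).symm
    refine ⟨⊤, fun x => ⟨fun _ => hcop.coprime_dvd_left (orderOf_dvd_natCard x),
      fun _ => trivial⟩, fun a _ b _ => ?_, by rwa [Subgroup.card_top], 0, by simp⟩
    have : a * b * a⁻¹ * b⁻¹ ∈ commutator G :=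
      Subgroup.commutator_mem_commutator (Subgroup.mem_top a) (Subgroup.mem_top b)
    rw [hb, Subgroup.mem_bot] at this
    calc a * b = (a * b * a⁻¹ * b⁻¹) * (b * a) := by group
      _ = b * a := by rw [this, one_mul]

/-- For a finite group G and a prime p: every irreducible character of G has degree a power of p if and only if G has an abelian normal subgroup whose order is prime to p and whose index is a power of p. -/
theorem result {G : Type*} [Group G] [Finite G] (p : ℕ) (hp : p.Prime) : (∀ χ : Cfsg.IrrCharacter G, ∃ k : ℕ, (χ : G → ℂ) 1 = (p : ℂ) ^ k) ↔ ∃ A : Subgroup G, A.Normal ∧ (∀ a ∈ A, ∀ b ∈ A, a * b = b * a) ∧ Nat.Coprime (Nat.card A) p ∧ ∃ k : ℕ, A.index = p ^ k := by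
  constructor
  · intro h
    obtain ⟨A, hA, h2⟩ := aux hp _ G rfl fun χ hχ => by
      obtain ⟨k, hk⟩ := h ⟨χ, hχ⟩
      exact ⟨k, deg_eq_of_apply_one (by exact_mod_cast hk)⟩
    refine ⟨A, ⟨fun x hx g => (hA _).2 ?_⟩, h2⟩
    have : orderOf (g * x * g⁻¹) = orderOf x := by
      simpa using (MulAut.conj g).orderOf_eq x
    rw [this]
    exact (hA x).1 hx
  · rintro ⟨A, hA, hab, -, k, hk⟩ χ
    have := irr_deg_dvd_index_of_comm χ.2 A hab
    rw [hk] at this
    obtain ⟨i, -, hi⟩ := (Nat.dvd_prime_pow hp).1 this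
    exact ⟨i, by rw [← irr_cast_deg χ.2, hi]; push_cast; rfl⟩

end Cfsg.Agent.S0855
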