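import Cfsg.Statements.S0858
import Cfsg.Agent.Char.Primitive

set_option autoImplicit false
open Cfsg

namespace Cfsg.Agent.S0858

open CL.Char

/-- Let N be a normal subgroup of the finite group G with G / N solvable, and suppose that for every subgroup H containing N and all subgroups L < K between N and H that are normal in H with no subgroup normal in H strictly between them, the index of L in K is not a perfect square. Then every irreducible character χ of G is induced from an irreducible character ψ of some subgroup H containing N such that the restriction of ψ to N is irreducible. -/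
theorem result {G : Type*} [Group G] [Fintype G] (N : Subgroup G) [N.Normal] (hsolv : Group.IsSolvable (G ⧸ N)) (hchief : ∀ (H K L : Subgroup G), N ≤ L → L < K → K ≤ H → (∀ h ∈ H, ∀ k ∈ K, h * k * h⁻¹ ∈ K) → (∀ h ∈ H, ∀ l ∈ L, h * l * h⁻¹ ∈ L) → (∀ M : Subgroup G, L ≤ M → M ≤ K → (∀ h ∈ H, ∀ m ∈ M, h * m * h⁻¹ ∈ M) → M = L ∨ M = K) → ¬ IsSquare (L.relIndex K)) (χ : G → ℂ) (hχ : Cfsg.IsIrrCharacter G χ) : ∃ (H : Subgroup G) (hNH : N ≤ H) (ψ : H → ℂ), Cfsg.IsIrrCharacter H ψ ∧ Cfsg.indFun H ψ = χ ∧ Cfsg.IsIrrCharacter N (fun n : N => ψ ⟨(n : G), hNH n.2⟩) := by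
  classical
  obtain ⟨H, hNH, ψ, hψ, h1, h2⟩ := exists_isPrimitiveOver N hχ
  refine ⟨H, hNH, ψ, hψ, h1, irr_ofSubgroupOf hNH (f := fun n : N.subgroupOf H => ψ n) ?_⟩
  refine h2.irr_res (isSolvable_quotient_subgroupOf N H hsolv) (fun L K hNL hch => ?_) hψ
  have hn : ∀ M : Subgroup H, M.Normal → ∀ h ∈ H, ∀ k ∈ M.map H.subtype,
      h * k * h⁻¹ ∈ M.map H.subtype := by
    rintro M hM h hh _ ⟨k, hk, rfl⟩
    exact ⟨_, hM.conj_mem k hk ⟨h, hh⟩, rfl⟩
  rw [← Subgroup.relIndex_map_map_of_injective L K H.subtype_injective]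
  refine hchief H (K.map H.subtype) (L.map H.subtype) (fun n hn => ⟨⟨n, hNH hn⟩, hNL hn, rfl⟩)
    ((Subgroup.map_lt_map_iff_of_injective H.subtype_injective).2 hch.lt) (Subgroup.map_subtype_le K)
    (hn K hch.normal_right) (hn L hch.normal_left) fun M hLM hMK hM => ?_
  have hMH : M ≤ H := hMK.trans (Subgroup.map_subtype_le K)
  have hMn : (M.subgroupOf H).Normal := ⟨fun m hm h => hM h h.2 m hm⟩
  rcases hch.eq_or_eq (M.subgroupOf H) hMn (Subgroup.map_le_iff_le_comap.1 hLM)
    (fun m hm => by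
      obtain ⟨k, hk, hkm⟩ := hMK hm
      rwa [← Subtype.ext hkm]) with h3 | h3
  · left
    rw [← h3, Subgroup.map_subgroupOf_eq_of_le hMH]
  · right
    rw [← h3, Subgroup.map_subgroupOf_eq_of_le hMH]

end Cfsg.Agent.S0858
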