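import Cfsg.Statements.S0859
import Cfsg.Agent.Char.Primitive

set_option autoImplicit false
open Cfsg

namespace Cfsg.Agent.S0859

open CL.Char

/-- Let G be a finite solvable group and N a normal subgroup such that for every prime p every Sylow p-subgroup of N is abelian. Suppose every irreducible character of G is induced from an irreducible character of some subgroup containing N whose restriction to N is irreducible. Then every irreducible character of G is induced from a character of degree 1 of some subgroup. -/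
theorem result {G : Type*} [Group G] [Fintype G] [Group.IsSolvable G] (N : Subgroup G) [N.Normal] (hab : ∀ (p : ℕ) [Fact p.Prime] (P : Sylow p N), ∀ a ∈ P, ∀ b ∈ P, a * b = b * a) (hrel : ∀ χ : G → ℂ, Cfsg.IsIrrCharacter G χ → ∃ (H : Subgroup G) (hNH : N ≤ H) (ψ : H → ℂ), Cfsg.IsIrrCharacter H ψ ∧ Cfsg.indFun H ψ = χ ∧ Cfsg.IsIrrCharacter N (fun n : N => ψ ⟨(n : G), hNH n.2⟩)) (χ : G → ℂ) (hχ : Cfsg.IsIrrCharacter G χ) : ∃ (U : Subgroup G) (lam : U → ℂ), Cfsg.IsCharacter U lam ∧ lam 1 = 1 ∧ Cfsg.indFun U lam = χ := by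
  classical
  obtain ⟨H, hNH, ψ, hψ, h1, h2⟩ := hrel χ hχ
  obtain ⟨U, -, θ, hθ, h3, h4⟩ := exists_isPrimitiveOver (⊥ : Subgroup H) hψ
  have h5 : IsIrrCharacter (N.subgroupOf H) (fun n : N.subgroupOf H => indFun U θ n) := by
    rw [h3]
    exact irr_toSubgroupOf hNH h2
  have h6 := irr_res_inf_of_indFun (irr_isCharacter hθ) h5
  have h7 : IsIrrCharacter ((N.subgroupOf H ⊓ U).subgroupOf U)
      (fun m : (N.subgroupOf H ⊓ U).subgroupOf U => θ m) := irr_toSubgroupOf inf_le_right h6
  have hn : ((N.subgroupOf H ⊓ U).subgroupOf U).Normal := by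
    rw [Subgroup.inf_subgroupOf_right]
    infer_instance
  have h8 : θ 1 = 1 := by
    refine apply_one_eq_one_of_irr_res_of_le_charCenter (irr_isCharacter hθ)
      (le_charCenter_of_forall_isHomog (fun p hp Q hQ hQp a ha b hb => ?_) (irr_isCharacter hθ)
        fun A hA => h4.isHomog hθ (by simp)) h7
    have := Fact.mk hp
    let f : U →* G := H.subtype.comp U.subtype
    have hf : ∀ x ∈ Q, f x ∈ N := fun x hx => (hQ hx).1
    have hQ' : IsPGroup p ((Q.map f).subgroupOf N) := (hQp.map f).comap_subtype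
    obtain ⟨P, hP⟩ := hQ'.exists_le_sylow
    have h9 := hab p P ⟨f a, hf a ha⟩ (hP (Subgroup.mem_map_of_mem f ha)) ⟨f b, hf b hb⟩
      (hP (Subgroup.mem_map_of_mem f hb))
    have h10 : f a * f b = f b * f a := congrArg Subtype.val h9
    exact Subtype.ext (Subtype.ext h10)
  refine ⟨U.map H.subtype, _, char_comp (irr_isCharacter hθ)
    (U.equivMapOfInjective H.subtype H.subtype_injective).symm.toMonoidHom, by simpa using h8, ?_⟩
  rw [← h1, ← h3]
  exact (indFun_indFun_map H U θ).symm

end Cfsg.Agent.S0859
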