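import Cfsg.Statements.S0861
import Cfsg.Agent.Base
import Cfsg.Agent.Char.Ito
import Cfsg.Agent.Char.Congr
import Cfsg.Agent.Char.Inflate

set_option autoImplicit false
open Cfsg

namespace Cfsg.Agent.S0861

open CL.Char

/-- Let P be a normal abelian Sylow p-subgroup of the finite group G and suppose some element g of P has centralizer exactly P. Then the number of irreducible characters of G is at most the order of P, and if equality holds then G / P is abelian (the commutator subgroup lies in P). -/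
theorem result {G : Type*} [Group G] [Finite G] (p : ℕ) [Fact p.Prime] (P : Sylow p G) [(P : Subgroup G).Normal] (hab : ∀ a ∈ P, ∀ b ∈ P, a * b = b * a) (g : G) (hg : g ∈ P) (hC : Subgroup.centralizer ({g} : Set G) = P) : Nat.card (Cfsg.IrrCharacter G) ≤ Nat.card P ∧ (Nat.card (Cfsg.IrrCharacter G) = Nat.card P → commutator G ≤ P) := by
  classical
  have := Fintype.ofFinite G
  have hp : p.Prime := Fact.out
  have hne : ∀ χ : IrrCharacter G, (χ : G → ℂ) g ≠ 0 := by
    intro χ h0
    obtain ⟨a, ha⟩ := P.isPGroup' ⟨g, hg⟩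
    have ha' : g ^ p ^ a = 1 := by simpa using congrArg Subtype.val ha
    have h1 := char_prime_dvd_deg_of_eq_zero (irr_isCharacter χ.2) hp ha' h0
    exact P.not_dvd_index (h1.trans (irr_deg_dvd_index_of_comm χ.2 (P : Subgroup G) hab))
  set T : Finset G := Finset.univ.filter fun x => Subgroup.zpowers x = Subgroup.zpowers g
    with hT
  have hTm : ∀ x, x ∈ T ↔ Subgroup.zpowers x = Subgroup.zpowers g := fun x => by simp [hT]
  have hTpos : (0 : ℝ) < T.card := by
    exact_mod_cast Finset.card_pos.2 ⟨g, (hTm g).2 rfl⟩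
  have hle : ∀ χ : IrrCharacter G, (T.card : ℝ) ≤ ∑ x ∈ T, ‖(χ : G → ℂ) x‖ ^ 2 := fun χ =>
    gen_card_le_sum_norm_sq_generators (gen_of_irr χ.2) (hne χ) T hTm
  have hsum : ∑ χ : IrrCharacter G, ∑ x ∈ T, ‖(χ : G → ℂ) x‖ ^ 2
      = (T.card : ℝ) * Nat.card P := by
    rw [Finset.sum_comm, Finset.sum_congr rfl (g := fun _ => (Nat.card P : ℝ)), Finset.sum_const,
      nsmul_eq_mul]
    intro x hx
    rw [sum_irr_norm_sq]
    have : Subgroup.centralizer ({x} : Set G) = P := by
      rw [← hC, ← Subgroup.centralizer_closure, ← Subgroup.centralizer_closure ({g} : Set G),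
        ← Subgroup.zpowers_eq_closure, ← Subgroup.zpowers_eq_closure, (hTm x).1 hx]
    rw [this]
  have hconst : ∑ _χ : IrrCharacter G, (T.card : ℝ)
      = (T.card : ℝ) * Nat.card (IrrCharacter G) := by
    rw [Finset.sum_const, nsmul_eq_mul, Finset.card_univ, Nat.card_eq_fintype_card, mul_comm]
  refine ⟨?_, fun heq y hy => ?_⟩
  · have h1 : ∑ _χ : IrrCharacter G, (T.card : ℝ)
        ≤ ∑ χ : IrrCharacter G, ∑ x ∈ T, ‖(χ : G → ℂ) x‖ ^ 2 :=
      Finset.sum_le_sum fun χ _ => hle χ
    rw [hconst, hsum] at h1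
    exact_mod_cast le_of_mul_le_mul_left h1 hTpos
  · by_contra hyP
    obtain ⟨χ, hχ, hker, hy1⟩ := exists_irr_ker_apply_ne (P : Subgroup G) hyP
    have h1 : ∑ _χ : IrrCharacter G, (T.card : ℝ)
        = ∑ χ : IrrCharacter G, ∑ x ∈ T, ‖(χ : G → ℂ) x‖ ^ 2 := by
      rw [hconst, hsum, heq]
    have h2 := (Finset.sum_eq_sum_iff_of_le fun χ _ => hle χ).1 h1 ⟨χ, hχ⟩ (Finset.mem_univ _)
    rw [Finset.sum_congr rfl (g := fun _ => ((deg χ : ℝ)) ^ 2), Finset.sum_const,
      nsmul_eq_mul] at h2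
    · have h3 : ((deg χ : ℝ)) ^ 2 = 1 := by
        have := mul_left_cancel₀ hTpos.ne' (show (T.card : ℝ) * 1 = T.card * (deg χ : ℝ) ^ 2 by
          rw [mul_one]; exact h2)
        exact this.symm
      have h4 : deg χ = 1 := by
        have : deg χ ^ 2 = 1 := by exact_mod_cast h3
        exact (Nat.pow_eq_one.1 this).resolve_right two_ne_zero
      have h5 : χ 1 = 1 := by rw [← irr_cast_deg hχ, h4]; simp
      exact hy1 (apply_eq_of_mem_charKer ((irr_apply_one_eq_one_iff hχ).1 h5 hy))
    · intro x hx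
      have hxP : x ∈ (P : Subgroup G) := by
        have : x ∈ Subgroup.zpowers g := (hTm x).1 hx ▸ Subgroup.mem_zpowers x
        exact (Subgroup.zpowers_le.2 hg) this
      show ‖χ x‖ ^ 2 = _
      rw [hker x hxP, ← irr_cast_deg hχ, Complex.norm_natCast]

end Cfsg.Agent.S0861
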