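import Cfsg.Agent.Base
import Cfsg.Statements.S0869

set_option autoImplicit false
open Cfsg

namespace Cfsg.Agent.S0869

theorem one_sub_prod_mem {S ι : Type*} (R : AddSubgroup (S → ℤ))
    (hmul : ∀ f ∈ R, ∀ g ∈ R, f * g ∈ R) (s : Finset ι) (f : ι → S → ℤ)
    (hf : ∀ i, f i ∈ R) : 1 - ∏ i ∈ s, (1 - f i) ∈ R := by
  classical
  induction s using Finset.induction_on with
  | empty => simp
  | insert a s ha ih =>
    rw [Finset.prod_insert ha]
    have : 1 - (1 - f a) * ∏ i ∈ s, (1 - f i) =
        (1 - ∏ i ∈ s, (1 - f i)) + (f a - f a * (1 - ∏ i ∈ s, (1 - f i))) := by ring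
    rw [this]
    exact R.add_mem ih (R.sub_mem (hf a) (hmul _ (hf a) _ ih))

/-- Let S be a nonempty finite type and R an additive subgroup of the integer-valued functions on S that is closed under pointwise multiplication. If the constant function 1 is not in R, then there exist a point x of S and a prime p such that p divides f x for every f in R. -/
theorem result {S : Type*} [Finite S] [Nonempty S] (R : AddSubgroup (S → ℤ)) (hmul : ∀ f ∈ R, ∀ g ∈ R, f * g ∈ R) (h1 : (1 : S → ℤ) ∉ R) : ∃ (x : S) (p : ℕ), p.Prime ∧ ∀ f ∈ R, (p : ℤ) ∣ f x := by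
  classical
  have := Fintype.ofFinite S
  by_contra hcon
  push Not at hcon
  have key : ∀ x : S, ∃ f ∈ R, f x = 1 := by
    intro x
    let I : AddSubgroup ℤ := R.map (Pi.evalAddMonoidHom (fun _ : S => ℤ) x)
    obtain ⟨n, hn⟩ := Int.subgroup_cyclic I
    have hnI : n ∈ I := by rw [hn]; exact AddSubgroup.subset_closure rfl
    by_cases h : n.natAbs = 1
    · have h1I : (1 : ℤ) ∈ I := by
        rcases Int.natAbs_eq_iff.mp h with h | h
        · rw [h] at hnI; simpa using hnI
        · rw [h] at hnI; simpa using I.neg_mem hnI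
      obtain ⟨f, hf, hfx⟩ := h1I
      exact ⟨f, hf, hfx⟩
    · obtain ⟨p, hp, hpn⟩ := Nat.exists_prime_and_dvd h
      obtain ⟨f, hf, hfx⟩ := hcon x p hp
      exfalso
      apply hfx
      have : f x ∈ I := ⟨f, hf, rfl⟩
      rw [hn, AddSubgroup.mem_closure_singleton] at this
      obtain ⟨k, hk⟩ := this
      rw [← hk, smul_eq_mul]
      exact Dvd.dvd.mul_left (Int.natCast_dvd.mpr hpn) k
  choose f hf hfx using key
  have h := one_sub_prod_mem R hmul Finset.univ f hf
  have h0 : ∏ i, (1 - f i) = 0 := by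
    funext x
    rw [Finset.prod_apply]
    exact Finset.prod_eq_zero (Finset.mem_univ x) (by simp [hfx])
  rw [h0, sub_zero] at h
  exact h1 h

end Cfsg.Agent.S0869
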