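import Cfsg.Agent.Base
import Cfsg.Agent.Char.Rep
import Cfsg.Statements.S0873

set_option autoImplicit false
open Cfsg

namespace Cfsg.Agent.S0873

/-- Let C be a normal subgroup of the finite group G of order prime to p and P a p-subgroup with C ⊔ P = G. Let λ be a character of C of degree 1 invariant under conjugation by G and equal to 1 at every element of C centralized by P. Then λ is identically 1. -/
theorem result {G : Type*} [Group G] [Finite G] (p : ℕ) [Fact p.Prime] (C P : Subgroup G) [hC : C.Normal] (hP : IsPGroup p P) (hcop : Nat.Coprime (Nat.card C) p) (hCP : C ⊔ P = ⊤) (lam : C → ℂ) (hlam : Cfsg.IsCharacter C lam ∧ lam 1 = 1) (hinv : ∀ (g : G) (c : C), lam ⟨g * c * g⁻¹, hC.conj_mem (c : G) c.2 g⟩ = lam c) (hker : ∀ c : C, (c : G) ∈ Subgroup.centralizer (P : Set G) → lam c = 1) : lam = fun _ => 1 := by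
  classical
  obtain ⟨f, rfl⟩ := CL.Char.char_exists_unitsHom hlam.1 hlam.2
  funext c
  let : MulAction P {d : C // f d = f c} :=
    { smul := fun g d => ⟨⟨(g : G) * d.1 * (g : G)⁻¹, hC.conj_mem _ d.1.2 _⟩, by
        exact (Units.ext (hinv g d.1)).trans d.2⟩
      one_smul := fun d => Subtype.ext (Subtype.ext (by
        change ((1 : P) : G) * _ * ((1 : P) : G)⁻¹ = _
        simp))
      mul_smul := fun g h d => Subtype.ext (Subtype.ext (by
        change ((g * h : P) : G) * _ * ((g * h : P) : G)⁻¹ =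
          (g : G) * ((h : G) * _ * (h : G)⁻¹) * (g : G)⁻¹
        simp [mul_assoc])) }
  have hcard : Nat.card {d : C // f d = f c} = Nat.card f.ker :=
    Nat.card_congr ⟨fun x => ⟨c⁻¹ * x.1, by simp [MonoidHom.mem_ker, x.2]⟩,
      fun x => ⟨c * x.1, by simp [MonoidHom.mem_ker.mp x.2]⟩, fun x => by simp, fun x => by simp⟩
  have hnd : ¬ p ∣ Nat.card {d : C // f d = f c} := by
    rw [hcard]
    intro h
    exact (Nat.Prime.coprime_iff_not_dvd Fact.out).mp hcop.symm
      (h.trans (Subgroup.card_subgroup_dvd_card f.ker))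
  obtain ⟨d, hd⟩ := hP.nonempty_fixed_point_of_prime_not_dvd_card _ hnd
  have h1 := hker d.1 (by
    rw [Subgroup.mem_centralizer_iff]
    intro g hg
    have h2 : g * d.1 * g⁻¹ = d.1 :=
      congrArg (fun x : {d : C // f d = f c} => (x.1 : G)) (hd ⟨g, hg⟩)
    rw [← mul_inv_eq_iff_eq_mul]
    exact h2)
  exact (congrArg Units.val d.2).symm.trans h1

end Cfsg.Agent.S0873
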