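import Cfsg.Agent.Base
import Cfsg.Agent.Char.BrauerSection
import Cfsg.Statements.S0875

set_option autoImplicit false
open Cfsg

namespace Cfsg.Agent.S0875

/-- Let G be a finite group of order m * n with m and n coprime, and g an element whose order is coprime to m. Every x in G factors uniquely as x = u * v with u, v commuting, the order of u coprime to n and the order of v coprime to m; let ϑ be the function on G equal to n at those x whose factor v is conjugate to g and equal to 0 elsewhere. Then ϑ is a linear combination of the irreducible characters of G with algebraic-integer coefficients. -/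
theorem result {G : Type*} [Group G] [Fintype G] (m n : ℕ) (hmn : Nat.card G = m * n) (hcop : Nat.Coprime m n) (g : G) (hg : Nat.Coprime (orderOf g) m) (ϑ : G → ℂ) (hϑ1 : ∀ x : G, (∃ v : G, IsConj v g ∧ (∃ u : G, x = u * v ∧ Commute u v ∧ Nat.Coprime (orderOf u) n ∧ Nat.Coprime (orderOf v) m)) → ϑ x = n) (hϑ0 : ∀ x : G, (¬ ∃ v : G, IsConj v g ∧ (∃ u : G, x = u * v ∧ Commute u v ∧ Nat.Coprime (orderOf u) n ∧ Nat.Coprime (orderOf v) m)) → ϑ x = 0) : ∃ c : Cfsg.IrrCharacter G → ℂ, (∀ χ, c χ ∈ Cfsg.AlgInt) ∧ ϑ = ∑ᶠ χ : Cfsg.IrrCharacter G, c χ • (χ : G → ℂ) := by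
  classical
  obtain ⟨a, b, hab⟩ := Nat.isCoprime_iff_coprime.mpr hcop
  have hx : ∀ x : G, x ^ (m * n) = 1 := fun x => hmn ▸ pow_card_eq_one'
  have hiff : ∀ x : G, (∃ v : G, IsConj v g ∧ (∃ u : G, x = u * v ∧ Commute u v ∧
      Nat.Coprime (orderOf u) n ∧ Nat.Coprime (orderOf v) m)) ↔ IsConj (x ^ (a * m)) g := by
    intro x
    constructor
    · rintro ⟨v, hv, u, rfl, huv, hu, hv'⟩
      have h1 : u ^ m = 1 := orderOf_dvd_iff_pow_eq_one.mp
        (hu.dvd_of_dvd_mul_right (hmn ▸ orderOf_dvd_natCard u))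
      have h2 : v ^ n = 1 := orderOf_dvd_iff_pow_eq_one.mp
        (hv'.dvd_of_dvd_mul_left (hmn ▸ orderOf_dvd_natCard v))
      rwa [CL.Brauer.right_eq_zpow_of_coprime huv hab h1 h2]
    · intro h
      obtain ⟨u, ⟨i, rfl⟩, v, ⟨j, rfl⟩, h1, h2, h3⟩ := CL.Brauer.exists_coprime_parts x hcop (hx x)
      have huv : Commute (x ^ i) (x ^ j) := (Commute.refl x).zpow_zpow i j
      have h4 := CL.Brauer.right_eq_zpow_of_coprime huv hab h2 h3
      rw [← h1] at h4
      refine ⟨x ^ j, h4 ▸ h, x ^ i, h1, huv,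
        Nat.Coprime.of_dvd_left (orderOf_dvd_of_pow_eq_one h2) hcop,
        Nat.Coprime.of_dvd_left (orderOf_dvd_of_pow_eq_one h3) hcop.symm⟩
  have hϑ : ϑ = CL.Brauer.sectionFun n (a * m) g := by
    funext x
    unfold CL.Brauer.sectionFun
    split_ifs with h
    · exact hϑ1 x ((hiff x).mpr h)
    · exact hϑ0 x fun h' => h ((hiff x).mp h')
  refine ⟨fun χ => classInner ϑ χ, fun χ => ?_, ?_⟩
  · rw [hϑ]
    exact CL.Brauer.sectionFun_inner_isIntegral hab hmn.dvd g (CL.Char.irr_isCharacter χ.2)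
  · rw [finsum_eq_sum_of_fintype]
    exact CL.Char.classFun_eq_sum (hϑ ▸ CL.Brauer.sectionFun_isClassFunction _ _ _)

end Cfsg.Agent.S0875
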