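import Cfsg.Agent.Base
import Cfsg.Agent.Char.BrauerSection
import Cfsg.Statements.S0876

set_option autoImplicit false
open Cfsg

namespace Cfsg.Agent.S0876

/-- Let G be a finite group, p a prime and M a maximal ideal of the ring of algebraic integers containing p. Let x, y be elements with p-parts a and b (so a⁻¹ * x and b⁻¹ * y are their p-regular parts). Then a⁻¹ * x and b⁻¹ * y are conjugate in G if and only if, for every irreducible character χ, the difference χ x - χ y lies in the local ideal at M. -/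
theorem result {G : Type*} [Group G] [Finite G] (p : ℕ) (M : Ideal Cfsg.AlgInt) (hM : Cfsg.IsPModular p M) (x y a b : G) (ha : Cfsg.IsPPart p x a) (hb : Cfsg.IsPPart p y b) : IsConj (a⁻¹ * x) (b⁻¹ * y) ↔ ∀ χ : Cfsg.IrrCharacter G, Cfsg.MemLocalIdeal M ((χ : G → ℂ) x - (χ : G → ℂ) y) := by
  obtain ⟨v, rfl, hav, ⟨k, hk⟩, hv⟩ := ha
  obtain ⟨v', rfl, hbv, ⟨k', hk'⟩, hv'⟩ := hb
  have ha' : a ^ p ^ k = 1 := hk ▸ pow_orderOf_eq_one a
  have hb' : b ^ p ^ k' = 1 := hk' ▸ pow_orderOf_eq_one b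
  rw [inv_mul_cancel_left, inv_mul_cancel_left]
  constructor
  · intro h χ
    have hχ := CL.Char.irr_isCharacter χ.2
    obtain ⟨z, hz, hz'⟩ := CL.Brauer.char_sub_mem_of_p_part hM hχ hav ha'
    obtain ⟨w, hw, hw'⟩ := CL.Brauer.char_sub_mem_of_p_part hM hχ hbv hb'
    have h1 := CL.Char.classFun_eq_of_isConj (CL.Char.char_isClassFunction hχ) h
    have h2 : (χ : G → ℂ) (a * v) - (χ : G → ℂ) (b * v') = ((z - w : AlgInt) : ℂ) := by
      push_cast
      rw [hz', hw', h1]
      ring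
    rw [h2, CL.Brauer.memLocalIdeal_iff hM]
    exact M.sub_mem hz hw
  · intro h
    refine CL.Brauer.isConj_of_forall_irr_sub_mem hM hav hbv ha' hb' hv hv' fun χ hχ => ?_
    have hχ' := CL.Char.irr_isCharacter hχ
    refine ⟨⟨χ (a * v) - χ (b * v'), (CL.Brauer.char_apply_isIntegral hχ' _).sub
      (CL.Brauer.char_apply_isIntegral hχ' _)⟩, ?_, rfl⟩
    rw [← CL.Brauer.memLocalIdeal_iff hM]
    exact h ⟨χ, hχ⟩

end Cfsg.Agent.S0876
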