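import Cfsg.Statements.S0890
import Cfsg.Agent.Char.MaxInduced

set_option autoImplicit false
open Cfsg

namespace Cfsg.Agent.S0890

open CL.Char

/-- Let L ≤ H < G with L normal in G, H a maximal subgroup and G / L solvable. Let ϑ be an irreducible character of H whose restriction to L is irreducible and whose induction χ to G is irreducible. Then there is a normal subgroup M of G containing L such that the restriction of χ to M is not a natural-number multiple of a single irreducible character of M. -/
theorem result {G : Type*} [Group G] [Fintype G] (L H : Subgroup G) [L.Normal] (hLH : L ≤ H) (hmax : IsCoatom H) (hsolv : Group.IsSolvable (G ⧸ L)) (ϑ : H → ℂ) (hϑ : Cfsg.IsIrrCharacter H ϑ) (hϑL : Cfsg.IsIrrCharacter L (fun x : L => ϑ ⟨(x : G), hLH x.2⟩)) (hind : Cfsg.IsIrrCharacter G (Cfsg.indFun H ϑ)) : ∃ M : Subgroup G, M.Normal ∧ L ≤ M ∧ ¬ ∃ (φ : M → ℂ) (e : ℕ), Cfsg.IsIrrCharacter M φ ∧ (fun m : M => Cfsg.indFun H ϑ m) = (e : ℂ) • φ := by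
  classical
  have hLC : L ≤ H.normalCore := Subgroup.normal_le_normalCore.2 hLH
  have hC : IsIrrCharacter H.normalCore (fun x : H.normalCore => ϑ ⟨x, H.normalCore_le x.2⟩) :=
    irr_of_irr_comp (char_res_le H.normalCore_le (irr_isCharacter hϑ)) (Subgroup.inclusion hLC) hϑL
  by_cases h : IsHomog H.normalCore (indFun H ϑ)
  swap
  · exact ⟨H.normalCore, inferInstance, hLC, h⟩
  have hlt : H.normalCore < ⊤ := lt_of_le_of_lt H.normalCore_le hmax.lt_top
  obtain ⟨K, -, hch⟩ := exists_isChief_above hlt
  have hs : Group.IsSolvable (G ⧸ H.normalCore) :=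
    Group.isSolvable_of_surjective
      (f := QuotientGroup.map L H.normalCore (MonoidHom.id G) (by simpa using hLC))
      (QuotientGroup.map_surjective_of_surjective _ _ _ (by
        exact QuotientGroup.mk'_surjective H.normalCore) _)
  obtain ⟨M, h1, h2, h3⟩ := exists_not_isHomog_of_isCoatom hmax H.normalCore_le
    (fun M _ hM => Subgroup.normal_le_normalCore.2 hM) hch hs (irr_isCharacter hϑ) hC
    (invChar_of_isHomog_indFun _ hϑ hC h) hind
  exact ⟨M, h1, hLC.trans (hch.le.trans h2), h3⟩

end Cfsg.Agent.S0890
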