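import Cfsg.Statements.S0892
import Cfsg.Agent.Alt.Multiplier

set_option autoImplicit false
open Cfsg

namespace Cfsg.Agent.S0892

/-- Let n ≥ 4 with n ≠ 6 and n ≠ 7, and let Γ be a finite group with a subgroup Z contained in both the centre and the commutator subgroup of Γ such that Γ / Z is isomorphic to the alternating group on n letters. Then Z has order at most 2. -/
theorem result (n : ℕ) (hn : 4 ≤ n) (h6 : n ≠ 6) (h7 : n ≠ 7) {Γ : Type*} [Group Γ] [Finite Γ] (Z : Subgroup Γ) [Z.Normal] (hZc : Z ≤ Subgroup.center Γ) (hZd : Z ≤ commutator Γ) (e : Γ ⧸ Z ≃* alternatingGroup (Fin n)) : Nat.card Z ≤ 2 := by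
  let f : Γ →* alternatingGroup (Fin n) := e.toMonoidHom.comp (QuotientGroup.mk' Z)
  have hf : Function.Surjective f := e.surjective.comp (QuotientGroup.mk'_surjective Z)
  have hker : f.ker = Z := by
    ext x
    simp [f, MonoidHom.mem_ker, QuotientGroup.eq_one_iff]
  rw [← hker] at hZc hZd ⊢
  let p : Fin n := ⟨0, by omega⟩
  let q : Fin n := ⟨1, by omega⟩
  let i : Fin n := ⟨2, by omega⟩
  have hpq : p ≠ q := by simp [p, q]
  have hpi : p ≠ i := by simp [p, i]
  have hqi : q ≠ i := by simp [q, i]
  have hcard := CL.Alt.two_mul_card_alt hpq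
  rw [CL.Alt.card_rest hpq, Fintype.card_fin] at hcard
  rcases (by omega : n = 4 ∨ n = 5 ∨ 8 ≤ n) with h | h | h
  · refine CL.Alt.card_ker_le_two_of_small f hf hZc hZd hpq hpi hqi (m := 4) ?_ (by norm_num)
    rw [h] at hcard
    simp only [Nat.factorial] at hcard
    subst h
    omega
  · refine CL.Alt.card_ker_le_two_of_small f hf hZc hZd hpq hpi hqi (m := 20) ?_ (by norm_num)
    rw [h] at hcard
    simp only [Nat.factorial] at hcard
    subst h
    omega
  · exact CL.Alt.card_ker_le_two_of_large f hf hZc hZd hpq hpi hqi (by simpa using h)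

end Cfsg.Agent.S0892
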