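import Cfsg.Statements.S0893
import Cfsg.Agent.Base
import Cfsg.Agent.Char.Extraspecial
import Cfsg.Agent.Char.InduceChar

set_option autoImplicit false
open Cfsg

namespace Cfsg.Agent.S0893

open CL.Char

/-- Let P be an extraspecial p-group of order p ^ (2 * n + 1), A an abelian subgroup of order p ^ (n + 1), and λ a character of A of degree 1 that is not identically 1 on the elements of A lying in the centre of P. Then the function induced from λ to P is an irreducible character of P and vanishes at every element outside the centre. -/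
theorem result {P : Type*} [Group P] [Fintype P] (p n : ℕ) [Fact p.Prime] (hP : Cfsg.IsExtraspecial p P) (hcard : Nat.card P = p ^ (2 * n + 1)) (A : Subgroup P) (hab : ∀ a ∈ A, ∀ b ∈ A, a * b = b * a) (hA : Nat.card A = p ^ (n + 1)) (lam : A → ℂ) (hlam : Cfsg.IsCharacter A lam ∧ lam 1 = 1) (hZ : ∃ a : A, (a : P) ∈ Subgroup.center P ∧ lam a ≠ 1) : Cfsg.IsIrrCharacter P (Cfsg.indFun A lam) ∧ ∀ x : P, x ∉ Subgroup.center P → Cfsg.indFun A lam x = 0 := by
  classical
  have hp : p.Prime := Fact.out
  obtain ⟨a, ha, hla⟩ := hZ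
  have hlirr : IsIrrCharacter A lam := irr_of_char_apply_one hlam.1 hlam.2
  obtain ⟨χ, hχ, hin⟩ := exists_irr_over A hlirr
  have h1 : χ 1 ≠ 1 := by
    intro h1
    have hr : IsIrrCharacter A (fun h : A => χ h) :=
      irr_of_char_apply_one (char_restrict (irr_isCharacter hχ) A) h1
    have he := irr_eq_of_inner_ne_zero hr hlirr hin
    apply hla
    rw [← he]
    have hk : (a : P) ∈ charKer χ := (irr_apply_one_eq_one_iff hχ).1 h1 (hP.1.2.2.symm ▸ ha)
    show χ a = 1
    rw [apply_eq_of_mem_charKer hk, h1]
  obtain ⟨hv, hd⟩ := extraspecial_irr_nonlinear hP hcard hχ h1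
  have hidx : A.index = p ^ n := by
    have h := A.card_mul_index
    rw [hA, hcard, show 2 * n + 1 = (n + 1) + n by ring, pow_add p (n + 1) n] at h
    exact Nat.eq_of_mul_eq_mul_left (pow_pos hp.pos _) h
  have he : indFun A lam = χ := by
    refine eq_of_inner_ne_zero_of_apply_one (char_indFun A hlam.1) hχ ?_ ?_
    · rw [classInner_eq_zero_comm.ne, classInner_indFun_right A lam (irr_isClassFunction hχ)]
      exact hin
    · rw [indFun_one, hlam.2, mul_one, hidx, ← irr_cast_deg hχ, hd]
  rw [he]
  exact ⟨hχ, hv⟩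

end Cfsg.Agent.S0893
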