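import Cfsg.Statements.S0894
import Cfsg.Agent.Base
import Cfsg.Agent.Char.Extraspecial

set_option autoImplicit false
open Cfsg

namespace Cfsg.Agent.S0894

open CL.Char

/-- Let P be an extraspecial p-group of order p ^ (2 * n + 1). Then every irreducible character of P has degree 1 or p ^ n, and exactly p - 1 of them have degree p ^ n. -/
theorem result {P : Type*} [Group P] [Finite P] (p n : ℕ) [Fact p.Prime] (hP : Cfsg.IsExtraspecial p P) (hcard : Nat.card P = p ^ (2 * n + 1)) : (∀ χ : Cfsg.IrrCharacter P, (χ : P → ℂ) 1 = 1 ∨ (χ : P → ℂ) 1 = (p : ℂ) ^ n) ∧ Nat.card {χ : Cfsg.IrrCharacter P // (χ : P → ℂ) 1 = (p : ℂ) ^ n} = p - 1 := by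
  classical
  have hp : p.Prime := Fact.out
  have hne : (p : ℂ) ^ n ≠ 1 := by
    have := extraspecial_pos hP hcard
    have h2 : p ^ n ≠ 1 := (Nat.one_lt_pow this.ne' hp.one_lt).ne'
    exact_mod_cast h2
  have key : ∀ χ : Cfsg.IrrCharacter P, (χ : P → ℂ) 1 ≠ 1 → (χ : P → ℂ) 1 = (p : ℂ) ^ n := by
    intro χ h1
    rw [← irr_cast_deg χ.2, (extraspecial_irr_nonlinear hP hcard χ.2 h1).2]
    push_cast; rfl
  refine ⟨fun χ => ?_, ?_⟩
  · by_cases h1 : (χ : P → ℂ) 1 = 1
    · exact Or.inl h1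
    · exact Or.inr (key χ h1)
  · rw [← extraspecial_card_nonlinear hP hcard, Nat.card_eq_fintype_card, Fintype.card_subtype]
    congr 1
    ext χ
    simp only [Finset.mem_filter, Finset.mem_univ, true_and]
    exact ⟨fun h => by rw [h]; exact hne, key χ⟩

end Cfsg.Agent.S0894
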