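import Cfsg.Agent.Base
import Cfsg.Agent.Char.BrauerDade
import Cfsg.Agent.Char.Invariant
import Cfsg.Agent.S0887
import Cfsg.Statements.S0897

set_option autoImplicit false
open Cfsg CL.Brauer CL.Char

namespace Cfsg.Agent.S0897

/-- Let N be a normal subgroup of the finite group G with the index of N a power of the prime p, and P a Sylow p-subgroup of G such that P ⊓ N lies in the centre of P and every character of degree 1 of P ⊓ N is the restriction of a character of degree 1 of P. Then every irreducible character of N invariant under conjugation by G is the restriction of an irreducible character of G. -/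
theorem result {G : Type*} [Group G] [Fintype G] (p : ℕ) [Fact p.Prime] (N : Subgroup G) [hN : N.Normal] (hind : ∃ k : ℕ, N.index = p ^ k) (P : Sylow p G) (hcent : ∀ x ∈ (P : Subgroup G) ⊓ N, ∀ y ∈ (P : Subgroup G), x * y = y * x) (hlin : ∀ lam : ↥((P : Subgroup G) ⊓ N) → ℂ, Cfsg.IsCharacter ↥((P : Subgroup G) ⊓ N) lam → lam 1 = 1 → ∃ μ : ↥(P : Subgroup G) → ℂ, Cfsg.IsCharacter ↥(P : Subgroup G) μ ∧ μ 1 = 1 ∧ ∀ x : ↥((P : Subgroup G) ⊓ N), μ ⟨(x : G), x.2.1⟩ = lam x) (ϑ : N → ℂ) (hϑ : Cfsg.IsIrrCharacter N ϑ) (hinv : ∀ (g : G) (n : N), ϑ ⟨g * n * g⁻¹, hN.conj_mem (n : G) n.2 g⟩ = ϑ n) : ∃ χ : G → ℂ, Cfsg.IsIrrCharacter G χ ∧ ∀ n : N, χ n = ϑ n := by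
  classical
  have hp : p.Prime := Fact.out
  have := Fintype.ofFinite N
  obtain ⟨E, _, φ, hE, htop, hφ, -, m, hm, hmφ⟩ := dade_elementary hp N hind hϑ hinv
  obtain ⟨k, hk⟩ := hind
  have := elementary_isNilpotent hp hE
  obtain ⟨e, n, hn, hen⟩ :=
    Nat.exists_eq_pow_mul_and_not_dvd (Nat.card_pos (α := E)).ne' p hp.ne_one
  have hcop : Nat.Coprime (p ^ e) n := ((Nat.Prime.coprime_iff_not_dvd hp).mpr hn).pow_left e
  obtain ⟨a, b, hab⟩ := Nat.isCoprime_iff_coprime.mpr hcop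
  have hab' : b * n + a * (p ^ e : ℕ) = 1 := by rw [add_comm, hab]
  let π : E →* E := partHom hab hen.dvd
  let π' : E →* E := partHom hab' (mul_comm (p ^ e) n ▸ hen.dvd)
  have hππ : ∀ x : E, π x * π' x = x := fun x => by
    change x ^ (b * n) * x ^ (a * (p ^ e : ℕ)) = x
    rw [← zpow_add, hab', zpow_one]
  have hpow : ∀ x : E, x ^ (((p ^ e * n : ℕ)) : ℤ) = 1 := fun x => by
    rw [zpow_natCast, ← hen, pow_card_eq_one']
  have hπ : ∀ x : E, π x ^ p ^ e = 1 := fun x => by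
    change (x ^ (b * n)) ^ p ^ e = 1
    rw [← zpow_natCast, ← zpow_mul, show b * n * ((p ^ e : ℕ) : ℤ) = ((p ^ e * n : ℕ) : ℤ) * b by
      push_cast; ring, zpow_mul, hpow, one_zpow]
  have hπ' : ∀ x : E, π' x ^ n = 1 := fun x => by
    change (x ^ (a * (p ^ e : ℕ))) ^ n = 1
    rw [← zpow_natCast, ← zpow_mul, show a * ((p ^ e : ℕ) : ℤ) * n = ((p ^ e * n : ℕ) : ℤ) * a by
      push_cast; ring, zpow_mul, hpow, one_zpow]
  have hmem : ∀ {H : Type _} [Group H] (K : Subgroup H) [K.Normal] (j : ℕ), K.index = p ^ j →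
      ∀ y : H, y ^ n = 1 → y ∈ K := by
    intro H _ K _ j hj y hy
    have h1 : y ∈ Subgroup.zpowers (y ^ p ^ j) := by
      rw [mem_zpowers_pow_iff]
      exact Nat.Coprime.of_dvd_right (orderOf_dvd_of_pow_eq_one hy)
        (((Nat.Prime.coprime_iff_not_dvd hp).mpr hn).pow_left j)
    exact (Subgroup.zpowers_le.mpr (hj ▸ K.pow_index_mem y)) h1
  have hπ'N : ∀ x : E, (π' x : G) ∈ N := fun x =>
    hmem N k hk _ (congrArg Subtype.val (hπ' x))
  have hπN : ∀ x : E, (x : G) ∈ N → (π x : G) ∈ N := fun x hx => N.zpow_mem hx _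
  have hπ'Z : ∀ x : E, π' x ∈ Subgroup.center E := by
    obtain ⟨z, hz, -, j, hj⟩ := hE
    have hzn : (Subgroup.zpowers z).Normal := by
      refine ⟨fun a ha g => ?_⟩
      have : a ∈ Subgroup.center E := (Subgroup.zpowers_le.mpr hz) ha
      rw [Subgroup.mem_center_iff.mp this g, mul_inv_cancel_right]
      exact ha
    exact fun x => (Subgroup.zpowers_le.mpr hz) (hmem _ j hj _ (hπ' x))
  obtain ⟨g, hg⟩ : ∃ g : G, ∀ x : E, g * π x * g⁻¹ ∈ (P : Subgroup G) := by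
    have h1 : IsPGroup p (π.range.map E.subtype) := by
      refine IsPGroup.map ?_ _
      rintro ⟨_, x, rfl⟩
      exact ⟨e, Subtype.ext (hπ x)⟩
    obtain ⟨Q, hQ⟩ := h1.exists_le_sylow
    obtain ⟨g, rfl⟩ := MulAction.exists_smul_eq G Q P
    exact ⟨g, fun x => Subgroup.smul_mem_pointwise_smul _ (MulAut.conj g) _
      (hQ ⟨π x, ⟨x, rfl⟩, rfl⟩)⟩
  have hcomm : ∀ x y : E, (x : G) ∈ N → x * y = y * x := by
    intro x y hx
    have h1 := hcent _ ⟨hg x, hN.conj_mem _ (hπN x hx) g⟩ _ (hg y)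
    have h2 : π x * π y = π y * π x := by
      apply Subtype.ext
      apply (MulAut.conj g).injective
      simpa only [Subgroup.coe_mul, map_mul, MulAut.conj_apply] using h1
    rw [← hππ (x * y), ← hππ (y * x), map_mul, map_mul, map_mul, map_mul, h2,
      Subgroup.mem_center_iff.mp (hπ'Z x) (π' y)]
  obtain ⟨f, rfl⟩ := irr_exists_unitsHom_of_comm (fun x y : ↥(E ⊓ N) => Subtype.ext
    (congrArg (fun t : E => (t : G)) (hcomm ⟨x, x.2.1⟩ ⟨y, y.2.1⟩ x.2.2))) hφ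
  let : CommGroup ↥((P : Subgroup G) ⊓ N) :=
    { (inferInstance : Group ↥((P : Subgroup G) ⊓ N)) with
      mul_comm := fun x y => Subtype.ext (hcent x x.2 y y.2.1) }
  let c : ↥((P : Subgroup G) ⊓ N) →* G :=
    (MulAut.conj g⁻¹).toMonoidHom.comp ((P : Subgroup G) ⊓ N).subtype
  let B : Subgroup ↥((P : Subgroup G) ⊓ N) := E.comap c
  let β : B →* ℂˣ := f.comp ((c.comp B.subtype).codRestrict (E ⊓ N)
    fun y => ⟨y.2, hN.conj_mem _ y.1.2.2 _⟩)
  have : NeZero (Monoid.exponent ↥((P : Subgroup G) ⊓ N) : ℂ) :=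
    ⟨Nat.cast_ne_zero.mpr Monoid.exponent_ne_zero_of_finite⟩
  obtain ⟨lam, hlam⟩ := MonoidHom.domRestrict_surjective ℂ B β
  obtain ⟨μ, hμ, hμ1, hμlam⟩ := hlin (fun x => (lam x : ℂ)) (char_unitsHom lam) (by simp)
  obtain ⟨μ', rfl⟩ := char_exists_unitsHom hμ hμ1
  let c' : E →* (P : Subgroup G) :=
    (((MulAut.conj g).toMonoidHom.comp E.subtype).comp π).codRestrict _ hg
  let d' : E →* ↥(E ⊓ N) := (E.subtype.comp π').codRestrict _ fun x => ⟨(π' x).2, hπ'N x⟩
  let φ' : E →* ℂˣ := μ'.comp c' * f.comp d'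
  have hφ' : ∀ x : ↥(E ⊓ N), φ' ⟨x, x.2.1⟩ = f x := by
    intro x
    let x' : E := ⟨x, x.2.1⟩
    let y : ↥((P : Subgroup G) ⊓ N) := ⟨_, hg x', hN.conj_mem _ (hπN x' x.2.2) g⟩
    have hy : c y = π x' := by simp [c, y, mul_assoc]
    have hyB : y ∈ B := by
      change c y ∈ E
      rw [hy]; exact (π x').2
    have h1 : μ' (c' x') = lam y := Units.ext (hμlam y)
    have h2 : lam y = β ⟨y, hyB⟩ := by rw [← hlam]; rfl
    have h3 : β ⟨y, hyB⟩ = f ⟨π x', (π x').2, hπN x' x.2.2⟩ := congrArg f (Subtype.ext hy)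
    change μ' (c' x') * f (d' x') = f x
    rw [h1, h2, h3, ← map_mul]
    exact congrArg f (Subtype.ext (congrArg (fun t : E => (t : G)) (hππ x')))
  have h1 := inner_res_indFun_mul N E (fun x => (φ' x : ℂ)) ϑ hinv
  simp only [hφ', htop, Subgroup.index_top, Nat.cast_one, one_mul] at h1
  rw [← conj_classInner (fun x : ↥(E ⊓ N) => ϑ ⟨x, x.2.2⟩), hmφ, map_natCast] at h1
  obtain ⟨w, -, hw⟩ := char_exists_eq_sum (char_ind E (char_unitsHom φ'))
  choose r hr using fun χ : IrrCharacter G =>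
    char_inner_nat (char_restrict (irr_isCharacter χ.2) N) (irr_isCharacter hϑ)
  have h2 : m = ∑ χ, w χ * r χ := by
    apply Nat.cast_injective (R := ℂ)
    have h3 : (fun x : N => indFun E (fun x => (φ' x : ℂ)) x) =
        ∑ χ : IrrCharacter G, (w χ : ℂ) • fun x : N => (χ : G → ℂ) x := by
      funext x
      rw [hw]
      simp [Finset.sum_apply]
    rw [← h1, h3, classInner_sum_left]
    simp only [classInner_smul_left, hr]
    push_cast
    rfl
  obtain ⟨χ, hχ⟩ : ∃ χ, ¬ p ∣ r χ := by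
    by_contra h
    push Not at h
    exact hm (h2 ▸ Finset.dvd_sum fun χ _ => Dvd.dvd.mul_left (h χ) _)
  have hne : classInner (fun x : N => (χ : G → ℂ) x) ϑ ≠ 0 := by
    rw [hr, Nat.cast_ne_zero]
    rintro h
    exact hχ (h ▸ dvd_zero p)
  have h3 := InvChar.res_eq_smul hinv hϑ χ.2 hne
  rw [hr] at h3
  obtain ⟨d, hd0, hd⟩ := irr_apply_one hϑ
  have h4 : (χ : G → ℂ) 1 = ((r χ * d : ℕ) : ℂ) := by
    have := congrFun h3 1
    simpa [hd] using this
  have h5 := (Cfsg.Agent.S0887.result N χ χ.2 ϑ hϑ hne _ d h4 hd).2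
  rw [Nat.mul_div_cancel _ hd0, hk] at h5
  have h6 : r χ = 1 := by
    obtain ⟨i, -, hi⟩ := (Nat.dvd_prime_pow hp).mp h5
    rcases i with _ | i
    · simpa using hi
    · exact (hχ (hi ▸ dvd_pow_self p i.succ_ne_zero)).elim
  refine ⟨χ, χ.2, fun x => ?_⟩
  simpa [h6] using congrFun h3 x

end Cfsg.Agent.S0897
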