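import Cfsg.Statements.S0898
import Cfsg.Agent.BS.AbelianBound

set_option autoImplicit false
open Cfsg CL.FTB

namespace Cfsg.Agent.S0898

/-- Let H be an abelian subgroup of the finite group G meeting the centre of G trivially, such that for every non-central g the centralizer of g has nontrivial intersection with at most one conjugate of H. Let χ be an irreducible character of G with χ h ≠ χ 1 for some h in H, and let c be the inner product of the restriction of χ to H with the principal character. Then χ(1)² > (order of H)·c²; and if in addition χ 1 ≠ 1 and no proper normal subgroup of G contains H, then (1 + χ 1)² > order of H (both sides read as real numbers). -/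
theorem result {G : Type*} [Group G] [Fintype G] (H : Subgroup G) [Fintype H] (hab : ∀ a ∈ H, ∀ b ∈ H, a * b = b * a) (hZ : H ⊓ Subgroup.center G = ⊥) (hone : ∀ g : G, g ∉ Subgroup.center G → ∀ a b : G, Subgroup.centralizer ({g} : Set G) ⊓ H.map (MulAut.conj a).toMonoidHom ≠ ⊥ → Subgroup.centralizer ({g} : Set G) ⊓ H.map (MulAut.conj b).toMonoidHom ≠ ⊥ → H.map (MulAut.conj a).toMonoidHom = H.map (MulAut.conj b).toMonoidHom) (χ : G → ℂ) (hχ : Cfsg.IsIrrCharacter G χ) (hker : ∃ h ∈ H, χ h ≠ χ 1) : (χ 1).re ^ 2 > (Nat.card H : ℝ) * (Cfsg.classInner (fun h : H => χ h) (fun _ => 1)).re ^ 2 ∧ (χ 1 ≠ 1 → (∀ M : Subgroup G, M.Normal → H ≤ M → M = ⊤) → (1 + (χ 1).re) ^ 2 > (Nat.card H : ℝ)) := by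
  have hone' : ∀ x : G, x ∉ Subgroup.center G → ∀ g : G, (∃ h ∈ H, h ≠ 1 ∧ h * x = x * h) →
      (∃ h ∈ H, h ≠ 1 ∧ h * (g * x * g⁻¹) = (g * x * g⁻¹) * h) →
      g ∈ Subgroup.normalizer (H : Set G) := by
    rintro x hx g ⟨h, hh, hh1, hc⟩ ⟨k, hk, hk1, hkc⟩
    have h1 := hone x hx 1 g⁻¹ (fun hb => hh1 (Subgroup.mem_bot.1 (hb ▸ Subgroup.mem_inf.2
        ⟨Subgroup.mem_centralizer_singleton_iff.2 hc, ⟨h, hh, by simp⟩⟩)))
      (fun hb => hk1 (by
        have h2 : g⁻¹ * k * g ∈ Subgroup.centralizer ({x} : Set G) ⊓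
            H.map (MulAut.conj g⁻¹).toMonoidHom := by
          refine Subgroup.mem_inf.2 ⟨Subgroup.mem_centralizer_singleton_iff.2 ?_, ⟨k, hk, by simp⟩⟩
          calc g⁻¹ * k * g * x = g⁻¹ * (k * (g * x * g⁻¹)) * g := by group
            _ = g⁻¹ * (g * x * g⁻¹ * k) * g := by rw [hkc]
            _ = x * (g⁻¹ * k * g) := by group
        rw [hb, Subgroup.mem_bot] at h2
        calc k = g * (g⁻¹ * k * g) * g⁻¹ := by group
          _ = 1 := by rw [h2]; group))
    rw [Subgroup.mem_normalizer_iff]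
    intro y
    constructor
    · intro hy
      have h3 : y ∈ H.map (MulAut.conj g⁻¹).toMonoidHom := h1 ▸ ⟨y, hy, by simp⟩
      obtain ⟨w, hw, rfl⟩ := h3
      simpa [mul_assoc] using hw
    · intro hy
      have h3 : y ∈ H.map (MulAut.conj (1 : G)).toMonoidHom := h1 ▸ ⟨_, hy, by simp [mul_assoc]⟩
      obtain ⟨w, hw, rfl⟩ := h3
      simpa using hw
  exact ⟨card_mul_sq_lt H hab hZ hone' hχ hker,
    fun h1 hM => card_lt_one_add_sq H hab hZ hone' hM hχ h1⟩

end Cfsg.Agent.S0898
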