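import Cfsg.Statements.S0899
import Cfsg.Agent.BS.AbelianBound
import Cfsg.Agent.BS.SmallDegree
import Cfsg.Agent.Transfer.Focal

set_option autoImplicit false
open Cfsg CL.Char CL.FTB
open scoped Pointwise

namespace Cfsg.Agent.S0899

universe u

theorem normal_of_mulEquiv {p : ℕ} [Fact p.Prime] {A B : Type*} [Group A] [Group B] [Finite A]
    (e : A ≃* B) (h : ∀ Q : Sylow p B, (Q : Subgroup B).Normal) (Q : Sylow p A) :
    (Q : Subgroup A).Normal := by
  have h1 : ((Q : Subgroup A).map e.toMonoidHom).Normal :=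
    h (Q.mapSurjective (f := e.toMonoidHom) e.surjective)
  have h2 := h1.comap e.toMonoidHom
  rwa [Subgroup.comap_map_eq_self_of_injective e.injective] at h2

theorem exists_isPGroup {p : ℕ} [Fact p.Prime] {G : Type*} [Group G] [Finite G] (H : Subgroup G)
    (h : ∀ Q : Sylow p H, (Q : Subgroup H).Normal) :
    ∃ R : Subgroup G, IsPGroup p R ∧ ∀ y ∈ H, (∃ k : ℕ, y ^ p ^ k = 1) → y ∈ R := by
  obtain ⟨Q⟩ := (inferInstance : Nonempty (Sylow p H))
  refine ⟨(Q : Subgroup H).map H.subtype, Q.isPGroup'.map _, ?_⟩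
  rintro y hy ⟨k, hk⟩
  have h1 : IsPGroup p (Subgroup.zpowers (⟨y, hy⟩ : H)) := by
    rintro ⟨_, m, rfl⟩
    refine ⟨k, Subtype.ext (Subtype.ext ?_)⟩
    simp only [SubgroupClass.coe_pow, SubgroupClass.coe_zpow, OneMemClass.coe_one]
    rw [← zpow_natCast, ← zpow_mul, mul_comm, zpow_mul, zpow_natCast, hk, one_zpow]
  obtain ⟨R, hR⟩ := h1.exists_le_sylow
  have := Sylow.unique_of_normal Q (h Q)
  rw [Subsingleton.elim R Q] at hR
  exact ⟨⟨y, hy⟩, hR (Subgroup.mem_zpowers _), rfl⟩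

theorem step {p : ℕ} [hp : Fact p.Prime] {G : Type*} [Group G] [Finite G] {χ : G → ℂ}
    (hχ : IsCharacter G χ) (hker : charKer χ = ⊥) (hdeg : deg χ + 1 < p)
    (h : (deg χ + 1) ^ 2 ≤ p ∨ p ^ 2 ∣ Nat.card G)
    (ih : ∀ H : Subgroup G, H ≠ ⊤ → ∀ Q : Sylow p H, (Q : Subgroup H).Normal)
    (P : Sylow p G) : (P : Subgroup G).Normal := by
  classical
  have := Fintype.ofFinite G
  by_contra hP
  have hkerH : ∀ H : Subgroup G, charKer (fun y : H => χ y) = ⊥ := fun H =>
    eq_bot_iff.2 fun y hy => by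
      have h3 := apply_eq_of_mem_charKer hy
      have h2 := (char_mem_charKer_iff hχ (x := y)).2 h3
      rw [hker] at h2
      exact Subgroup.mem_bot.2 (Subtype.ext (Subgroup.mem_bot.1 h2))
  have hpel : ∀ R : Subgroup G, IsPGroup p R → ∀ y ∈ R, ∃ k : ℕ, y ^ p ^ k = 1 := by
    intro R hR y hy
    obtain ⟨k, hk⟩ := hR ⟨y, hy⟩
    exact ⟨k, congrArg Subtype.val hk⟩
  -- `p`-subgroups are abelian
  have hab : ∀ R : Subgroup G, IsPGroup p R → ∀ a ∈ R, ∀ b ∈ R, a * b = b * a := by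
    intro R hR a ha b hb
    have h1 := char_commutator_le_charKer_of_deg_lt (char_restrict hχ R) (fun q hq hqR => by
      obtain ⟨k, hk⟩ := IsPGroup.iff_card.1 hR
      rw [hk] at hqR
      rw [(Nat.prime_dvd_prime_iff_eq hq hp.out).1 (hq.dvd_of_dvd_pow hqR)]
      exact (Nat.lt_succ_self _).trans hdeg)
    rw [hkerH] at h1
    have h2 := h1 (Subgroup.commutator_mem_commutator (Subgroup.mem_top (⟨a, ha⟩ : R))
      (Subgroup.mem_top (⟨b, hb⟩ : R)))
    rw [Subgroup.mem_bot, commutatorElement_eq_one_iff_mul_comm] at h2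
    exact congrArg Subtype.val h2
  have hmem : ∀ H : Subgroup G, H ≠ ⊤ → ∀ S : Sylow p G, (S : Subgroup G) ≤ H →
      ∀ y ∈ H, (∃ k : ℕ, y ^ p ^ k = 1) → y ∈ (S : Subgroup G) := by
    intro H hH S hS y hy hk
    obtain ⟨R, hR, hRy⟩ := exists_isPGroup H (ih H hH)
    rw [← S.is_maximal' hR (fun z hz => hRy z (hS hz) (hpel _ S.isPGroup' z hz))]
    exact hRy y hy hk
  have hM : ∀ M : Subgroup G, M.Normal → (P : Subgroup G) ≤ M → M = ⊤ := by
    intro M hM hPM
    by_contra hne
    refine hP ⟨fun y hy g => hmem M hne P hPM _ (hM.conj_mem y (hPM hy) g) ?_⟩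
    obtain ⟨k, hk⟩ := hpel _ P.isPGroup' y hy
    exact ⟨k, by rw [conj_pow, hk]; simp⟩
  have hPc : IsMulCommutative (P : Subgroup G) :=
    ⟨⟨fun a b => Subtype.ext (hab _ P.isPGroup' a a.2 b b.2)⟩⟩
  have hfocal := CL.Focal.inf_commutator_inf_center_eq_bot (P : Subgroup G) hPc
    P.card_coprime_index
  have hperf : commutator G = ⊤ := by
    by_contra hne
    have hnd : ¬ p ∣ Nat.card (commutator G) := by
      intro hdvd
      obtain ⟨y, hy⟩ := exists_prime_orderOf_dvd_card' p hdvd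
      obtain ⟨R, hR, hRy⟩ := exists_isPGroup _ (ih _ hne)
      -- all conjugates of `y` lie in `R`
      have hy' : (y : G) ^ p = 1 := by
        rw [← hy]; exact congrArg Subtype.val (pow_orderOf_eq_one y)
      have hconj : ∀ g : G, g * y * g⁻¹ ∈ R := fun g =>
        hRy _ ((inferInstance : (commutator G).Normal).conj_mem _ y.2 g)
          ⟨1, by rw [pow_one, conj_pow, hy']; simp⟩
      have hU : Subgroup.normalClosure {(y : G)} ≤ R := by
        rw [Subgroup.normalClosure, Subgroup.closure_le]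
        intro z hz
        obtain ⟨w, hw, hc⟩ := Group.mem_conjugatesOfSet_iff.1 hz
        obtain ⟨g, rfl⟩ := isConj_iff.1 hc
        rw [Set.mem_singleton_iff.1 hw]
        exact hconj g
      have hUp : IsPGroup p (Subgroup.normalClosure {(y : G)}) := hR.to_le hU
      have hUP : Subgroup.normalClosure {(y : G)} ≤ P := hUp.le_sylow_of_normal P
      have hyU : (y : G) ∈ Subgroup.normalClosure {(y : G)} := Subgroup.subset_normalClosure rfl
      have hC := hM (Subgroup.centralizer (Subgroup.normalClosure {(y : G)} : Set G)) inferInstance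
        (fun z hz w hw => hab _ P.isPGroup' w (hUP hw) z hz)
      have hyZ : (y : G) ∈ Subgroup.center G := Subgroup.mem_center_iff.2 fun g =>
        ((hC ▸ Subgroup.mem_top g : g ∈ Subgroup.centralizer _) y hyU).symm
      have h1 : (y : G) = 1 := Subgroup.mem_bot.1 (hfocal ▸ ⟨⟨hUP hyU, y.2⟩, hyZ⟩)
      have h2 : y = 1 := Subtype.ext h1
      rw [h2, orderOf_one] at hy
      exact hp.out.one_lt.ne hy
    have hcent : ∀ x ∈ (P : Subgroup G), ∀ y ∈ commutator G, x * y * x⁻¹ = y := by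
      intro x hx y hy
      obtain ⟨k, hk⟩ := hpel _ P.isPGroup' x hx
      have h1 := aut_eq_one_of_deg_lt hnd (MulAut.conjNormal x) (k := k)
        (by rw [← map_pow, hk, map_one]) (char_restrict hχ (commutator G)) (hkerH _)
        (fun y => char_isClassFunction hχ y x) hdeg
      exact congrArg Subtype.val (DFunLike.congr_fun h1 ⟨y, hy⟩)
    have hN : commutator G ≤ Subgroup.normalizer ((P : Subgroup G) : Set G) := by
      intro y hy
      have h1 : ∀ x ∈ (P : Subgroup G), ∀ y ∈ commutator G, y * x * y⁻¹ = x := by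
        intro x hx y hy
        have := hcent x hx y hy
        calc y * x * y⁻¹ = (x * y * x⁻¹) * x * y⁻¹ := by rw [this]
          _ = x := by group
      rw [Subgroup.mem_normalizer_iff]
      refine fun x => ⟨fun hx => (h1 x hx y hy).symm ▸ hx, fun hx => ?_⟩
      have h2 := h1 _ hx _ (Subgroup.inv_mem _ hy)
      rw [show y⁻¹ * (y * x * y⁻¹) * y⁻¹⁻¹ = x by group] at h2
      exact h2 ▸ hx
    exact hP (Subgroup.normalizer_eq_top_iff.1
      (hM _ (Subgroup.Normal.of_commutator_le G hN) Subgroup.le_normalizer))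
  have hZ : (P : Subgroup G) ⊓ Subgroup.center G = ⊥ := by
    rwa [hperf, inf_top_eq] at hfocal
  have hCne : ∀ x : G, x ∉ Subgroup.center G → Subgroup.centralizer ({x} : Set G) ≠ ⊤ := by
    intro x hx h
    exact hx (Subgroup.mem_center_iff.2 fun g =>
      Subgroup.mem_centralizer_singleton_iff.1 (h ▸ Subgroup.mem_top g))
  have hPZ : ∀ S : Sylow p G, ∀ y ∈ (S : Subgroup G), y ≠ 1 → y ∉ Subgroup.center G := by
    intro S y hy hy1 hyZ
    obtain ⟨g, rfl⟩ := MulAction.exists_smul_eq G P S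
    have h1 : g⁻¹ * y * g ∈ (P : Subgroup G) := by
      rw [Sylow.coe_subgroup_smul, Subgroup.mem_pointwise_smul_iff_inv_smul_mem] at hy
      simpa using hy
    rw [mul_assoc, ← Subgroup.mem_center_iff.1 hyZ g, inv_mul_cancel_left] at h1
    exact hy1 (Subgroup.mem_bot.1 (hZ ▸ ⟨h1, hyZ⟩))
  have hSC : ∀ S : Sylow p G, ∀ y ∈ (S : Subgroup G),
      (S : Subgroup G) ≤ Subgroup.centralizer {y} := fun S y hy z hz =>
    Subgroup.mem_centralizer_singleton_iff.2 (hab _ S.isPGroup' z hz y hy)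
  have hone : ∀ x : G, x ∉ Subgroup.center G → ∀ g : G,
      (∃ h ∈ (P : Subgroup G), h ≠ 1 ∧ h * x = x * h) →
      (∃ h ∈ (P : Subgroup G), h ≠ 1 ∧ h * (g * x * g⁻¹) = (g * x * g⁻¹) * h) →
      g ∈ Subgroup.normalizer ((P : Subgroup G) : Set G) := by
    rintro x hx g ⟨a, ha, ha1, hax⟩ ⟨b, hb, hb1, hbx⟩
    have hc : g⁻¹ * b * g ∈ ((g⁻¹ • P : Sylow p G) : Subgroup G) := by
      rw [Sylow.coe_subgroup_smul, Subgroup.mem_pointwise_smul_iff_inv_smul_mem]
      simpa [mul_assoc] using hb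
    have hc1 : g⁻¹ * b * g ≠ 1 := fun h => hb1 (by
      calc b = g * (g⁻¹ * b * g) * g⁻¹ := by group
        _ = 1 := by rw [h]; group)
    have hcx : g⁻¹ * b * g * x = x * (g⁻¹ * b * g) := by
      calc g⁻¹ * b * g * x = g⁻¹ * (b * (g * x * g⁻¹)) * g := by group
        _ = x * (g⁻¹ * b * g) := by rw [hbx]; group
    obtain ⟨R, hR, hRy⟩ := exists_isPGroup _ (ih _ (hCne x hx))
    have hac := hab R hR _ (hRy _ (Subgroup.mem_centralizer_singleton_iff.2 hcx)
      (hpel _ (g⁻¹ • P).isPGroup' _ hc)) _ (hRy _ (Subgroup.mem_centralizer_singleton_iff.2 hax)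
      (hpel _ P.isPGroup' _ ha))
    have hcP := hmem _ (hCne a (hPZ P a ha ha1)) P (hSC P a ha) _
      (Subgroup.mem_centralizer_singleton_iff.2 hac) (hpel _ (g⁻¹ • P).isPGroup' _ hc)
    have hle : ((g⁻¹ • P : Sylow p G) : Subgroup G) ≤ P := fun z hz =>
      hmem _ (hCne _ (hPZ P _ hcP hc1)) P (hSC P _ hcP) z (hSC _ _ hc hz)
        (hpel _ (g⁻¹ • P).isPGroup' z hz)
    have heq : g⁻¹ • P = P := Sylow.ext ((g⁻¹ • P).is_maximal' P.isPGroup' hle).symm
    exact (Subgroup.inv_mem_iff _).1 (Sylow.smul_eq_iff_mem_normalizer.1 heq)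
  have hP1 : (P : Subgroup G) ≠ ⊥ := fun h => hP (h ▸ inferInstance)
  have hnt : (⊥ : Subgroup G) ≠ ⊤ := fun h => hP1 (eq_bot_iff.2 (h ▸ le_top))
  obtain ⟨θ, hθ, hθ1, hθχ⟩ := exists_irr_ne_one_inner_ne_zero hχ (hker ▸ hnt)
  have hθd : θ 1 ≠ 1 := by
    intro h1
    obtain ⟨f, hf⟩ := char_exists_unitsHom (irr_isCharacter hθ) h1
    refine hθ1 (hf.trans (funext fun y => ?_))
    have h2 : y ∈ f.ker := Abelianization.commutator_subset_ker f (hperf ▸ Subgroup.mem_top y)
    rw [MonoidHom.mem_ker.1 h2, Units.val_one]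
  have hlt := card_lt_one_add_sq (P : Subgroup G) (hab _ P.isPGroup') hZ hone hM hθ hθd
  rw [← irr_cast_deg hθ, Complex.natCast_re] at hlt
  have hlt' : Nat.card P < (1 + deg θ) ^ 2 := by exact_mod_cast hlt
  have hle := deg_le_of_inner_ne_zero hχ hθ hθχ
  have h1 : (1 + deg θ) ^ 2 ≤ (deg χ + 1) ^ 2 := Nat.pow_le_pow_left (by omega) 2
  rcases h with h | h
  · obtain ⟨k, hk⟩ := IsPGroup.iff_card.1 P.isPGroup'
    have hk0 : k ≠ 0 := by
      rintro rfl
      exact hP1 (Subgroup.card_eq_one.1 (by rw [hk, pow_zero]))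
    have : p ≤ Nat.card P := hk ▸ Nat.le_self_pow hk0 p
    omega
  · have h2 := Nat.le_of_dvd Nat.card_pos (P.pow_dvd_card_of_pow_dvd_card h)
    have h3 : (deg χ + 1) ^ 2 < p ^ 2 := Nat.pow_lt_pow_left hdeg two_ne_zero
    omega

theorem main (p : ℕ) [Fact p.Prime] (m : ℕ) : ∀ {G : Type u} [Group G] [Finite G],
    Nat.card G = m → ∀ {χ : G → ℂ}, IsCharacter G χ → charKer χ = ⊥ → deg χ + 1 < p →
    ((deg χ + 1) ^ 2 ≤ p ∨ ∀ K : Subgroup G, ¬ p ^ 2 ∣ Nat.card K →
      ∀ Q : Sylow p K, (Q : Subgroup K).Normal) → ∀ P : Sylow p G, (P : Subgroup G).Normal := by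
  induction m using Nat.strong_induction_on with
  | _ m ih =>
    intro G _ _ hm χ hχ hker hdeg h P
    have hsub : ∀ H : Subgroup G, H ≠ ⊤ → ∀ Q : Sylow p H, (Q : Subgroup H).Normal := by
      intro H hH
      have hlt : Nat.card H < m := by
        rw [← hm]
        exact lt_of_le_of_ne (Subgroup.card_le_card_group H)
          (fun h => hH (Subgroup.eq_top_of_card_eq H h))
      refine ih _ hlt rfl (char_restrict hχ H) (eq_bot_iff.2 fun y hy => ?_) hdeg
        (h.imp id fun h K hK => ?_)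
      · have h3 := apply_eq_of_mem_charKer hy
        have h2 := (char_mem_charKer_iff hχ (x := y)).2 h3
        rw [hker] at h2
        exact Subgroup.mem_bot.2 (Subtype.ext (Subgroup.mem_bot.1 h2))
      · have e := K.equivMapOfInjective H.subtype Subtype.val_injective
        exact normal_of_mulEquiv e (h _ (by rwa [← Nat.card_congr e.toEquiv]))
    rcases h with h | h
    · exact step hχ hker hdeg (Or.inl h) hsub P
    · by_cases h2 : p ^ 2 ∣ Nat.card G
      · exact step hχ hker hdeg (Or.inr h2) hsub P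
      · exact normal_of_mulEquiv Subgroup.topEquiv.symm
          (h ⊤ (by rwa [Subgroup.card_top])) P

/-- Let G be a finite group with a faithful complex representation of degree n (on Fin n → ℂ) and p a prime. Suppose either that (n + 1) ^ 2 ≤ p, or that n + 1 < p and every subgroup of G whose order is not divisible by p ^ 2 has a normal Sylow p-subgroup. Then every Sylow p-subgroup of G is normal. -/
theorem result {G : Type*} [Group G] [Finite G] (n : ℕ) (ρ : Representation ℂ G (Fin n → ℂ)) (hρ : Function.Injective ρ) (p : ℕ) [Fact p.Prime] (h : (n + 1) ^ 2 ≤ p ∨ (n + 1 < p ∧ ∀ K : Subgroup G, ¬ p ^ 2 ∣ Nat.card K → ∀ Q : Sylow p K, (Q : Subgroup K).Normal)) (P : Sylow p G) : (P : Subgroup G).Normal := by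
  have hd : deg ρ.character = n := by rw [deg_character]; simp
  have hp := (Fact.out : p.Prime).one_lt
  refine main p _ rfl (isCharacter_character ρ)
    (by rw [charKer_character, (MonoidHom.ker_eq_bot_iff _).2 hρ]) ?_ ?_ P
  · rw [hd]
    rcases h with h | h
    · nlinarith
    · exact h.1
  · rw [hd]
    exact h.imp id And.right

end Cfsg.Agent.S0899
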