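import Cfsg.Statements.S0900
import Cfsg.Agent.Char.Ramified

set_option autoImplicit false
open Cfsg

namespace Cfsg.Agent.S0900

open CL.Char

/-- Let N be a normal subgroup of the finite group G, χ an irreducible character of G and ϑ an irreducible character of N having nonzero inner product with the restriction of χ. Consider: (a) the restriction of χ to N is e • ϑ for a natural number e with e ^ 2 equal to the index of N; (b) χ vanishes outside N and ϑ is invariant under conjugation by G; (c) ϑ is invariant and every irreducible character of G having nonzero inner product with the function induced from ϑ equals χ. Then (a) ↔ (b) and (a) ↔ (c). -/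
theorem result {G : Type*} [Group G] [Fintype G] (N : Subgroup G) [hN : N.Normal] [Fintype N] (χ : G → ℂ) (hχ : Cfsg.IsIrrCharacter G χ) (ϑ : N → ℂ) (hϑ : Cfsg.IsIrrCharacter N ϑ) (hcon : Cfsg.classInner (fun n : N => χ n) ϑ ≠ 0) : ((∃ e : ℕ, (fun n : N => χ n) = (e : ℂ) • ϑ ∧ e ^ 2 = N.index) ↔ ((∀ g : G, g ∉ N → χ g = 0) ∧ ∀ (g : G) (n : N), ϑ ⟨g * n * g⁻¹, hN.conj_mem (n : G) n.2 g⟩ = ϑ n)) ∧ ((∃ e : ℕ, (fun n : N => χ n) = (e : ℂ) • ϑ ∧ e ^ 2 = N.index) ↔ (∀ (g : G) (n : N), ϑ ⟨g * n * g⁻¹, hN.conj_mem (n : G) n.2 g⟩ = ϑ n ∧ ∀ ψ : G → ℂ, Cfsg.IsIrrCharacter G ψ → Cfsg.classInner (Cfsg.indFun N ϑ) ψ ≠ 0 → ψ = χ)) := by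
  have hinv : ∀ e : ℕ, (fun n : N => χ n) = (e : ℂ) • ϑ → InvChar N ϑ := by
    intro e he
    refine invChar_of_res_eq_smul (irr_isClassFunction hχ) ?_ he
    intro h
    rw [h, zero_smul] at he
    exact hcon (by rw [he, classInner_zero_left])
  refine ⟨⟨?_, ?_⟩, ⟨?_, ?_⟩⟩
  · rintro ⟨e, he, he2⟩
    exact ⟨fun g hg => vanish_of_res_eq_smul_of_sq hχ hϑ he he2 hg, hinv e he⟩
  · rintro ⟨h1, h2⟩
    obtain ⟨e, -, -, he⟩ := InvChar.exists_res_eq_smul h2 hϑ hχ hcon
    exact ⟨e, he, sq_eq_index_of_vanish hχ hϑ he h1⟩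
  · rintro ⟨e, he, he2⟩ g n
    refine ⟨hinv e he g n, fun ψ hψ h => ?_⟩
    rw [indFun_eq_smul_of_res_eq_smul_of_sq hχ hϑ he he2] at h
    exact irr_eq_of_inner_smul_ne_zero hχ hψ h
  · intro h
    have h2 : InvChar N ϑ := fun g n => (h g n).1
    obtain ⟨e, -, he1, he⟩ := h2.exists_res_eq_smul hϑ hχ hcon
    refine ⟨e, he, h2.sq_eq_index_of_indFun_eq_smul hϑ hχ ?_⟩
    have h3 := eq_smul_of_forall_inner_eq_zero (indFun_isClassFunction N ϑ) hχ (fun φ hφ hne => by
      by_contra hh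
      exact hne ((h 1 1).2 φ hφ hh))
    rw [h3, classInner_indFun_left N ϑ (irr_isClassFunction hχ), ← conj_classInner, he1,
      Complex.conj_natCast]

end Cfsg.Agent.S0900
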