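import Cfsg.Agent.Base
import Cfsg.Statements.S0901
import Cfsg.Agent.Blocks.LocalRingP

set_option autoImplicit false
open Cfsg

namespace Cfsg.Agent.S0901

open CL.Blocks

/-- Let M be a maximal ideal of the ring of algebraic integers containing the prime p, and let U be the set of complex roots of unity of order prime to p. Then reduction modulo M is injective on U, and every algebraic integer not in M is congruent modulo M to an element of U (so U maps bijectively onto the nonzero residues). -/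
theorem result (p : ℕ) [Fact p.Prime] (M : Ideal Cfsg.AlgInt) (hM : Cfsg.IsPModular p M) : (∀ ε₁ ε₂ : Cfsg.AlgInt, (∃ m : ℕ, ¬ p ∣ m ∧ (ε₁ : ℂ) ^ m = 1) → (∃ m : ℕ, ¬ p ∣ m ∧ (ε₂ : ℂ) ^ m = 1) → ε₁ - ε₂ ∈ M → ε₁ = ε₂) ∧ (∀ a : Cfsg.AlgInt, a ∉ M → ∃ ε : Cfsg.AlgInt, (∃ m : ℕ, ¬ p ∣ m ∧ (ε : ℂ) ^ m = 1) ∧ a - ε ∈ M) := by
  have := hM.2.1
  constructor
  · rintro ε₁ ε₂ ⟨m₁, hm₁, h₁⟩ ⟨m₂, hm₂, h₂⟩ h
    apply Subtype.ext
    refine eq_of_pow_eq_one_of_memLocalIdeal_sub hM (m := m₁ * m₂) ?_ ?_ ?_ ?_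
    · exact fun h => ((Nat.Prime.dvd_mul hM.1).1 h).elim hm₁ hm₂
    · rw [pow_mul, h₁, one_pow]
    · rw [mul_comm, pow_mul, h₂, one_pow]
    · exact (memLocalIdeal_algInt (a := ε₁ - ε₂)).2 h
  · intro a ha
    obtain ⟨ε, m, hm, hε, h⟩ := exists_rootOfUnity_sub_memLocalIdeal hM (memLocalRing_algInt a)
      (fun h => ha (memLocalIdeal_algInt.1 h))
    have hm0 : m ≠ 0 := by
      rintro rfl
      exact hm (dvd_zero p)
    refine ⟨⟨ε, isIntegral_of_pow_eq_one' hm0 hε⟩, ⟨m, hm, hε⟩, ?_⟩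
    exact (memLocalIdeal_algInt (M := M)).1 h

end Cfsg.Agent.S0901
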