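import Cfsg.Statements.S0904
import Cfsg.Agent.Base
import Cfsg.Agent.Blocks.DefectZero
import Cfsg.Agent.S0910

set_option autoImplicit false
open Cfsg

namespace Cfsg.Agent.S0904

open CL.Blocks CL.Char
open scoped ComplexConjugate

/-- A non-abelian simple group of order `p ^ a * q ^ b * r` has no element whose order is divisible
by both `p` and `r`. -/
theorem no_element {G : Type*} [Group G] [Finite G] [IsSimpleGroup G] {p q r a b : ℕ}
    (hp : p.Prime) (hq : q.Prime) (hr : r.Prime) (hpr : p ≠ r) (hqr : q ≠ r)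
    (hcard : Nat.card G = p ^ a * q ^ b * r) (hna : ∃ a b : G, a * b ≠ b * a) (g : G)
    (hgp : p ∣ orderOf g) (hgr : r ∣ orderOf g) : False := by
  classical
  have : Fact p.Prime := ⟨hp⟩
  obtain ⟨M, hM⟩ := exists_isPModular hp
  obtain ⟨Mq, hMq⟩ := exists_isPModular hq
  have := hM.2.1
  have := hMq.2.1
  have h0 := sum_mul_conj_eq_zero_of_regular_singular hM
    (memLocalRing_blockCoeff (isPBlock_principalBlock (M := M) (G := G))) (x := 1) (y := g)
    not_dvd_orderOf_one hgp
  rw [finsum_mem_irr_eq_sum, ← Finset.add_sum_erase _ _ (Finset.mem_univ (irrOne G)),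
    if_pos irrOne_mem_principalBlock] at h0
  simp only [irrOne_apply, map_one, mul_one] at h0
  refine not_memLocalIdeal_one (M := Mq) ?_
  rw [eq_neg_of_add_eq_zero_left h0, memLocalIdeal_neg_iff]
  refine memLocalIdeal_sum _ fun χ hχ => ?_
  split_ifs with hB
  swap
  · exact memLocalIdeal_zero
  by_cases hqχ : q ∣ charDegree (χ : G → ℂ)
  · rw [← cast_charDegree]
    exact memLocalIdeal_mul_right ((memLocalIdeal_natCast hMq).2 hqχ)
      (memLocalRing_conj_char (irr_isCharacter χ.2) g)
  have hdvd := charDegree_dvd_card χ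
  by_cases hrχ : r ∣ charDegree (χ : G → ℂ)
  · have h1 : (Nat.card G).factorization r = 1 := by
      rw [hcard, Nat.factorization_mul (by have := hp.pos; have := hq.pos; positivity) hr.ne_zero,
        Nat.factorization_mul (pow_ne_zero _ hp.ne_zero) (pow_ne_zero _ hq.ne_zero),
        hp.factorization_pow, hq.factorization_pow, hr.factorization]
      simp [hpr, hqr]
    have h2 : (charDegree (χ : G → ℂ)).factorization r = (Nat.card G).factorization r := by
      refine le_antisymm ((Nat.factorization_le_iff_dvd (charDegree_pos χ).ne'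
        Nat.card_pos.ne').2 hdvd r) ?_
      rw [h1]
      exact (hr.dvd_iff_one_le_factorization (charDegree_pos χ).ne').1 hrχ
    rw [irr_eq_zero_of_defect_zero hr h2 hgr, map_zero, mul_zero]
    exact memLocalIdeal_zero
  · exfalso
    rw [hcard] at hdvd
    have h1 := (((Nat.Prime.coprime_iff_not_dvd hr).2 hrχ).symm).dvd_of_dvd_mul_right hdvd
    have h2 := (Nat.Coprime.pow_right b
      ((Nat.Prime.coprime_iff_not_dvd hq).2 hqχ).symm).dvd_of_dvd_mul_right h1
    obtain ⟨k, -, hk⟩ := (Nat.dvd_prime_pow hp).1 h2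
    have h3 := S0910.result p M hM hna χ hB k (by rw [← cast_charDegree, hk]; simp)
    exact (Finset.mem_erase.1 hχ).1 (Subtype.ext h3)

/-- Let G be a finite simple group of order p ^ a * q ^ b * r with p, q, r distinct primes. Then every Sylow r-subgroup S of G satisfies C_G(S) = S. -/
theorem result {G : Type*} [Group G] [Finite G] [IsSimpleGroup G] (p q r a b : ℕ) (hp : p.Prime) (hq : q.Prime) [Fact r.Prime] (hpq : p ≠ q) (hpr : p ≠ r) (hqr : q ≠ r) (hcard : Nat.card G = p ^ a * q ^ b * r) (S : Sylow r G) : Subgroup.centralizer (S : Set G) = (S : Subgroup G) := by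
  have hr : r.Prime := Fact.out
  have h1 : (Nat.card G).factorization r = 1 := by
    rw [hcard, Nat.factorization_mul (by have := hp.pos; have := hq.pos; positivity) hr.ne_zero,
      Nat.factorization_mul (pow_ne_zero _ hp.ne_zero) (pow_ne_zero _ hq.ne_zero),
      hp.factorization_pow, hq.factorization_pow, hr.factorization]
    simp [hpr, hqr]
  have hS : Nat.card (S : Subgroup G) = r := by rw [S.card_eq_multiplicity, h1, pow_one]
  have hcyc : IsCyclic (S : Subgroup G) := isCyclic_of_prime_card hS
  have hSC : (S : Subgroup G) ≤ Subgroup.centralizer (S : Set G) := by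
    intro x hx y hy
    have := hcyc.isMulCommutative.1.1 (⟨y, hy⟩ : (S : Subgroup G)) ⟨x, hx⟩
    exact congrArg Subtype.val this
  have hS1 : (S : Subgroup G) ≠ ⊥ := by
    intro h
    rw [h, Subgroup.card_bot] at hS
    exact hr.one_lt.ne hS
  by_cases hna : ∃ a b : G, a * b ≠ b * a
  swap
  · push Not at hna
    have hn : (S : Subgroup G).Normal := ⟨fun x hx g => by rwa [hna g x, mul_inv_cancel_right]⟩
    have := hn.eq_bot_or_eq_top.resolve_left hS1
    exact le_antisymm (this ▸ le_top) hSC
  refine le_antisymm ?_ hSC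
  by_contra hlt
  -- a prime `t ≠ r` dividing the order of the centralizer
  let C := Subgroup.centralizer (S : Set G)
  have hrel : (S : Subgroup G).relIndex C ≠ 1 := fun h => hlt (Subgroup.relIndex_eq_one.1 h)
  obtain ⟨t, ht, htd⟩ := Nat.exists_prime_and_dvd hrel
  have htr : t ≠ r := by
    rintro rfl
    exact S.not_dvd_index (htd.trans (Subgroup.relIndex_dvd_index_of_le hSC))
  have htC : t ∣ Nat.card C := htd.trans (Subgroup.relIndex_dvd_card _ _)
  have : Fact t.Prime := ⟨ht⟩
  obtain ⟨u, hu⟩ := exists_prime_orderOf_dvd_card' t htC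
  obtain ⟨s, hs⟩ := exists_prime_orderOf_dvd_card' r (dvd_of_eq hS.symm)
  have hc : Commute (s : G) (u : G) := u.2 s s.2
  have hord : orderOf ((s : G) * u) = r * t := by
    rw [hc.orderOf_mul_eq_mul_orderOf_of_coprime, Subgroup.orderOf_coe, Subgroup.orderOf_coe, hs, hu]
    rw [Subgroup.orderOf_coe, Subgroup.orderOf_coe, hs, hu]
    exact (Nat.coprime_primes hr ht).2 htr.symm
  have htG : t ∣ p ^ a * q ^ b * r := hcard ▸ htC.trans (Subgroup.card_subgroup_dvd_card C)
  rcases (Nat.Prime.dvd_mul ht).1 htG with h | h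
  · rcases (Nat.Prime.dvd_mul ht).1 h with h | h
    · obtain rfl := (Nat.prime_dvd_prime_iff_eq ht hp).1 (ht.dvd_of_dvd_pow h)
      exact no_element hp hq hr hpr hqr hcard hna _ (hord ▸ dvd_mul_left _ _)
        (hord ▸ dvd_mul_right _ _)
    · obtain rfl := (Nat.prime_dvd_prime_iff_eq ht hq).1 (ht.dvd_of_dvd_pow h)
      exact no_element hq hp hr hqr hpr (by rw [hcard, mul_comm (p ^ a)]) hna _
        (hord ▸ dvd_mul_left _ _) (hord ▸ dvd_mul_right _ _)
  · exact htr ((Nat.prime_dvd_prime_iff_eq ht hr).1 h)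

end Cfsg.Agent.S0904
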