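import Cfsg.Statements.S0915
import Cfsg.Agent.Base
import Cfsg.Agent.Blocks.Defect
import Cfsg.Agent.Blocks.TraceOrth
import Cfsg.Agent.Blocks.PPart
import Cfsg.Agent.PLocal.PSolv

set_option autoImplicit false
open Cfsg

namespace Cfsg.Agent.S0915

/-- Let G be a finite p-solvable group with trivial largest normal subgroup of order prime to p. Then any two irreducible characters of G lie in the same block relative to every maximal ideal M of the algebraic integers containing p: G has a single p-block. -/
theorem result {G : Type*} [Group G] [Finite G] (p : ℕ) [Fact p.Prime] (M : Ideal Cfsg.AlgInt) (hM : Cfsg.IsPModular p M) (hsolv : Cfsg.IsPSolvable p G) (hcore : Cfsg.pPrimeCore p G = ⊥) (χ ψ : Cfsg.IrrCharacter G) : Cfsg.SameBlock M (χ : G → ℂ) (ψ : G → ℂ) := by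
  have := hM.2.1
  have hB := CL.Blocks.isPBlock_blockOf (M := M) χ
  have hP : IsPGroup p (pCore p G) := CL.PL.pCore_isPGroup p G
  have hC := CL.PL.centralizer_pCore_le_of_isPSolvable hsolv hcore
  set e := CL.Blocks.eK M (blockOf M (χ : G → ℂ)) with he
  have key : e = e.co 1 • 1 := by
    refine CL.Blocks.ZA.ext' fun g => ?_
    rw [CL.Blocks.ZA.co_smul]
    by_cases hg : g = 1
    · rw [hg, CL.Blocks.ZA.co_one_one, mul_one]
    · rw [CL.Blocks.ZA.co_one_of_ne hg, mul_zero]
      by_contra h
      have h1 := hC (CL.Blocks.mem_centralizer_of_co_eK_ne_zero hM hB hP h)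
      obtain ⟨k, hk⟩ := CL.Blocks.exists_orderOf_eq_pow_of_mem hP h1
      have h2 : p ∣ orderOf g := by
        rw [hk]
        refine dvd_pow_self p fun h0 => hg ?_
        rw [h0, pow_zero, orderOf_eq_one_iff] at hk
        exact hk
      apply h
      rw [he, CL.Blocks.co_eK,
        CL.Blocks.blockCoeff_eq_zero_of_dvd hM (CL.Blocks.memLocalRing_blockCoeff hB) h2,
        CL.Blocks.red_zero]
  have h1 := CL.Blocks.lamK_eK_of_mem hB (CL.Blocks.self_mem_blockOf χ)
  have h2 : CL.Blocks.lamK M ψ e = CL.Blocks.lamK M χ e := by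
    rw [key, map_smul, map_smul, map_one, map_one]
  refine CL.Blocks.mem_of_lamK_eK_ne_zero hB ?_
  rw [← he, h2, he, h1]
  exact one_ne_zero

end Cfsg.Agent.S0915
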