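import Cfsg.Agent.Base
import Cfsg.Statements.S0918
import Cfsg.Agent.Blocks.FirstMain
import Cfsg.Agent.Auto.ACL_Blocks_ZA_res_4c9b77

set_option autoImplicit false
open Cfsg

namespace Cfsg.Agent.S0918

open CL.Blocks

/-- Let P be a p-subgroup of the finite group G and H a subgroup with P·C_G(P) ≤ H ≤ N_G(P); let b be a block of H and B a block of G relative to a maximal ideal M of the algebraic integers containing p. Then b induces B if and only if, for every g ∈ G, every ξ ∈ b and every χ ∈ B, the central character of χ at g is congruent modulo the local ideal at M to the sum of ξ h / ξ 1 over the elements h of H conjugate in G to g and centralizing P. -/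
theorem result {G : Type*} [Group G] [Finite G] (p : ℕ) [Fact p.Prime] (M : Ideal Cfsg.AlgInt) (hM : Cfsg.IsPModular p M) (P H : Subgroup G) (hP : IsPGroup p P) (hPH : P ≤ H) (hCH : Subgroup.centralizer (P : Set G) ≤ H) (hHN : H ≤ Subgroup.normalizer (P : Set G)) (b : Set (Cfsg.IrrCharacter H)) (hb : Cfsg.IsPBlock M b) (B : Set (Cfsg.IrrCharacter G)) (hB : Cfsg.IsPBlock M B) : Cfsg.IsInducedBlock M H b B ↔ ∀ ξ ∈ b, ∀ χ ∈ B, ∀ g : G, Cfsg.MemLocalIdeal M (Cfsg.brauerCentralChar P H (ξ : H → ℂ) g - Cfsg.centralChar (χ : G → ℂ) g) := by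
  classical
  have := hM.2.1
  have hs := isBrauerSetup_subtype hP hCH hHN
  have hcoef : ∀ (g : G) (h : H), MemLocalRing M ((setSum ℂ
      {h : H | IsConj g (h : G) ∧ (h : G) ∈ Subgroup.centralizer (P : Set G)}).coeff h) :=
    fun g => intCoeff_setSum _
  have hcen : ∀ g : G, IsCen (setSum ℂ
      {h : H | IsConj g (h : G) ∧ (h : G) ∈ Subgroup.centralizer (P : Set G)}) := fun g =>
    isCen_setSum fun x y => by
      simp only [Set.mem_ofPred_eq, Subgroup.coe_mul, Subgroup.coe_inv, ZA.isConj_conj_iff,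
        conj_mem_centralizer_iff (hHN y.2)]
  have key : ∀ (ξ : IrrCharacter H) (g : G),
      lamK M ξ (ZA.br (kM_natCast_p hM) hs (ZA.cls _ g)) =
        red M (brauerCentralChar P H (ξ : H → ℂ) g) := by
    intro ξ g
    rw [brauerCentralChar_eq_om]
    refine lamK_eq_red_om ξ _ _ (hcen g) (hcoef g) fun h => ?_
    by_cases hh : (h : G) ∈ Subgroup.centralizer (P : Set G)
    · rw [ZA.co_br_of_mem _ hs _ hh]
      by_cases hc : IsConj g (h : G)
      · rw [coeff_setSum_of_mem (by exact ⟨hc, hh⟩), red_one]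
        exact ZA.co_cls_of_isConj hc
      · rw [coeff_setSum_of_notMem (by exact fun h' => hc h'.1), red_zero]
        exact ZA.co_cls_of_not_isConj hc
    · rw [ZA.co_br_of_not_mem _ hs _ hh, coeff_setSum_of_notMem (by exact fun h' => hh h'.2),
        red_zero]
  have hmem : ∀ (ξ : IrrCharacter H) (g : G),
      MemLocalRing M (brauerCentralChar P H (ξ : H → ℂ) g) := fun ξ g => by
    rw [brauerCentralChar_eq_om]
    exact memLocalRing_om ξ (hcen g) (hcoef g)
  rw [isInducedBlock_iff_lamK]
  simp only [hb, hB, true_and]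
  refine forall₂_congr fun ξ _ => forall₂_congr fun χ _ => ?_
  refine (indVia_iff_br hM hs (le_range_subtype hPH)).trans ⟨fun h g => ?_, fun h z => ?_⟩
  · rw [← red_eq_red_iff (hmem ξ g) (memLocalRing_centralChar χ g), ← key, h, lamK_cls]
  · have : (lamK M ξ).comp (ZA.br (kM_natCast_p hM) hs) = lamK M χ := ZA.algHom_ext fun g => by
      rw [AlgHom.comp_apply, key, lamK_cls,
        red_eq_red_iff (hmem ξ g) (memLocalRing_centralChar χ g)]
      exact h g
    rw [← this]
    rfl

end Cfsg.Agent.S0918
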