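import Cfsg.Statements.S0924
import Cfsg.Agent.Base
import Cfsg.Agent.Blocks.TraceSecond
import Cfsg.Agent.Blocks.PPart
import Cfsg.Agent.Blocks.SylowIn
import Cfsg.Agent.S0911

set_option autoImplicit false
open Cfsg

namespace Cfsg.Agent.S0924

/-- Let χ be an irreducible character of the finite group G and g ∈ G, and fix a maximal ideal M of the algebraic integers containing the prime p. If the p-part of g is contained in no defect group of the block of χ, then χ g = 0. -/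
theorem result {G : Type*} [Group G] [Finite G] (p : ℕ) [Fact p.Prime] (M : Ideal Cfsg.AlgInt) (hM : Cfsg.IsPModular p M) (χ : Cfsg.IrrCharacter G) (g x : G) (hx : Cfsg.IsPPart p g x) (hD : ∀ D : Subgroup G, Cfsg.IsDefectGroup p M (Cfsg.blockOf M (χ : G → ℂ)) D → x ∉ D) : (χ : G → ℂ) g = 0 := by
  have := hM.2.1
  have hB := CL.Blocks.isPBlock_blockOf (M := M) χ
  refine CL.Blocks.irr_eq_zero_of_blockCoeff_mem hM (CL.Blocks.memLocalRing_blockCoeff hB) hx
    (fun c hc => ?_) (CL.Blocks.self_mem_blockOf χ)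
  by_contra hunit
  obtain ⟨g₀, hg₀⟩ := CL.Blocks.exists_isDefectClass hB
  obtain ⟨D⟩ : Nonempty (Sylow p (Subgroup.centralizer ({g₀} : Set G))) := inferInstance
  obtain ⟨y, Q, hQ⟩ := (Cfsg.Agent.S0911.result p M hM _ hB g₀ hg₀ D c).1
    (CL.Blocks.memLocalRing_blockCoeff hB c) hunit
  have hxc : Subgroup.zpowers x ≤ Subgroup.centralizer ({c} : Set G) := by
    rw [Subgroup.zpowers_le, Subgroup.mem_centralizer_singleton_iff]
    exact (Subgroup.mem_centralizer_singleton_iff.1 hc).symm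
  obtain ⟨t, -, ht⟩ := (CL.Blocks.IsSylowIn.of_sylow Q).exists_le_conj
    (CL.Blocks.isPGroup_zpowers_of_orderOf (CL.Blocks.ppart_orderOf hx)) hxc
  have h1 := ht.trans (Subgroup.map_mono hQ)
  rw [CL.Blocks.map_conj_map_conj] at h1
  refine hD _ ⟨(t * y) * g₀ * (t * y)⁻¹, ?_, ?_⟩ (h1 (Subgroup.mem_zpowers x))
  · have hc' : IsConj g₀ ((t * y) * g₀ * (t * y)⁻¹) := isConj_iff.2 ⟨_, rfl⟩
    refine ⟨?_, ?_, fun ψ hψ => ?_⟩
    · rw [← CL.Blocks.blockCoeff_eq_of_isConj _ hc']; exact hg₀.1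
    · rw [← CL.Blocks.blockCoeff_eq_of_isConj _ hc']; exact hg₀.2.1
    · rw [← CL.Blocks.centralChar_eq_of_isConj (CL.Char.irr_isClassFunction ψ.2) hc']
      exact hg₀.2.2 ψ hψ
  · have h2 := (CL.Blocks.IsSylowIn.of_sylow D).map_conj (t * y)
    rw [← CL.Blocks.centralizer_singleton_conj] at h2
    obtain ⟨P, hP⟩ := h2
    exact ⟨P, hP.symm⟩

end Cfsg.Agent.S0924
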