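import Cfsg.Statements.S0928
import Cfsg.Agent.Base
import Cfsg.Agent.Blocks.HeightZero
import Cfsg.Agent.Blocks.DefectZero

set_option autoImplicit false
open Cfsg

namespace Cfsg.Agent.S0928

/-- Let χ be an irreducible character of the finite group G and p a prime. If χ g = 0 for every element g of order p, then the exponent of p in the degree χ(1) equals the exponent of p in the order of G (χ has p-defect zero). -/
theorem result {G : Type*} [Group G] [Finite G] (p : ℕ) [Fact p.Prime] (χ : Cfsg.IrrCharacter G) (hvan : ∀ g : G, orderOf g = p → (χ : G → ℂ) g = 0) : (Cfsg.charDegree (χ : G → ℂ)).factorization p = (Nat.card G).factorization p := by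
  classical
  have hp : p.Prime := Fact.out
  obtain ⟨M, hM⟩ := CL.Blocks.exists_isPModular hp
  have := hM.2.1
  have hB := CL.Blocks.isPBlock_blockOf (M := M) χ
  have hχ := CL.Blocks.self_mem_blockOf (M := M) χ
  obtain ⟨D, hD⟩ := CL.Blocks.exists_isDefectGroup p hB
  rw [← CL.Blocks.blockDefect_eq_zero_iff hM hB hχ, ← CL.Blocks.defectGroup_eq_bot_iff hM hB hD]
  by_contra hne
  have hDp := CL.Blocks.isPGroup_of_isDefectGroup hD
  have hdvd : p ∣ Nat.card D := by
    rcases hDp.card_eq_or_dvd with h | h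
    · exact (hne (Subgroup.card_eq_one.1 h)).elim
    · exact h
  obtain ⟨z, hz⟩ := exists_prime_orderOf_dvd_card' p hdvd
  have hz' : orderOf (z : G) = p := by rw [Subgroup.orderOf_coe, hz]
  have hQ : IsPGroup p (Subgroup.zpowers (z : G)) :=
    CL.Blocks.isPGroup_zpowers_of_orderOf ⟨1, by rw [hz', pow_one]⟩
  set Q := Subgroup.zpowers (z : G) with hQdef
  set C := Subgroup.centralizer (Q : Set G) with hC
  have hs := CL.Blocks.isBrauerSetup_centralizer hQ
  obtain ⟨ξ, hξ⟩ := CL.Blocks.exists_root_br hM hB hχ hD (Subgroup.zpowers_le.2 z.2) hs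
  have hY : ∀ g h : G, h * g * h⁻¹ ∈ {g : G | g ^ p = 1} ↔ g ∈ {g : G | g ^ p = 1} := by
    intro g h
    simp only [Set.mem_ofPred_eq, conj_pow, conj_eq_one_iff]
  let w : CL.Blocks.ZA (CL.Blocks.kM M) G :=
    CL.Blocks.ZA.ofIsCen (CL.Blocks.isCen_setSum (R := CL.Blocks.kM M) hY)
  have hw : ∀ g, w.co g = if g ^ p = 1 then 1 else 0 := fun g =>
    CL.Blocks.coeff_setSum (R := CL.Blocks.kM M) {g : G | g ^ p = 1} g
  have h1 : CL.Blocks.lamK M χ w = 1 := by
    have := Fintype.ofFinite G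
    have hχ1 : (χ : G → ℂ) 1 ≠ 0 := by
      rw [← CL.Blocks.cast_charDegree]
      exact_mod_cast (CL.Blocks.charDegree_pos χ).ne'
    rw [CL.Blocks.lamK_eq_red_om χ w _ (CL.Blocks.isCen_setSum (R := ℂ) hY)
      (CL.Blocks.intCoeff_setSum _) (fun g => by
        rw [hw, CL.Blocks.coeff_setSum]
        simp only [Set.mem_ofPred_eq]
        split_ifs
        · exact CL.Blocks.red_one.symm
        · exact CL.Blocks.red_zero.symm), CL.Blocks.om_apply, Finset.sum_eq_single 1]
    · rw [CL.Blocks.coeff_setSum_of_mem (by simp), one_mul, div_self hχ1, CL.Blocks.red_one]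
    · intro g _ hg
      by_cases hg' : g ^ p = 1
      · rw [hvan g (orderOf_eq_prime hg' hg), mul_zero]
      · rw [CL.Blocks.coeff_setSum_of_notMem (X := {g : G | g ^ p = 1}) hg', zero_mul]
    · simp
  have hzC : (z : G) ∈ C := by
    rintro _ ⟨n, rfl⟩
    exact (Commute.refl (z : G)).zpow_left n
  have hinv : ∀ u ∈ Subgroup.zpowers (⟨z, hzC⟩ : C), ∀ g : C,
      (CL.Blocks.ZA.br (CL.Blocks.kM_natCast_p hM) hs w).co (u * g) =
        (CL.Blocks.ZA.br (CL.Blocks.kM_natCast_p hM) hs w).co g := by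
    rintro _ ⟨n, rfl⟩ g
    rw [CL.Blocks.ZA.co_br_of_mem _ hs w (Subtype.prop _),
      CL.Blocks.ZA.co_br_of_mem _ hs w g.2, hw, hw]
    have hc : Commute ((z : G) ^ n) (g : G) := g.2 _ ⟨n, rfl⟩
    have hzp : ((z : G) ^ n) ^ p = 1 := by
      rw [← zpow_natCast, ← zpow_mul, mul_comm, zpow_mul, zpow_natCast, ← hz',
        pow_orderOf_eq_one, one_zpow]
    simp only [Subgroup.coe_subtype, Subgroup.coe_mul, SubgroupClass.coe_zpow, hc.mul_pow, hzp,
      one_mul]
    rfl
  have hzo : orderOf (⟨z, hzC⟩ : C) = p := by rw [← Subgroup.orderOf_coe]; exact hz'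
  have h0 := CL.Blocks.ZA.mul_eq_zero_of_translation (CL.Blocks.kM_natCast_p hM)
    (CL.Blocks.isPGroup_zpowers_of_orderOf ⟨1, by rw [hzo, pow_one]⟩) (by
      rw [Ne, Subgroup.zpowers_eq_bot, ← orderOf_eq_one_iff, hzo]
      exact hp.one_lt.ne') hinv hinv
  have h2 := congrArg (CL.Blocks.lamK M ξ) h0
  rw [map_mul, hξ, h1, map_zero, one_mul] at h2
  exact one_ne_zero h2

end Cfsg.Agent.S0928
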