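import Cfsg.Statements.S0931
import Cfsg.Agent.Base
import Cfsg.Agent.Blocks.HeightZero

set_option autoImplicit false
open Cfsg

namespace Cfsg.Agent.S0931

/-- Let H be a subgroup of the finite group G and fix a maximal ideal M of the algebraic integers containing the prime p. If the block b of H induces the block B of G, then b has defect 0 if and only if B has defect 0. -/
theorem result {G : Type*} [Group G] [Finite G] (p : ℕ) [Fact p.Prime] (M : Ideal Cfsg.AlgInt) (hM : Cfsg.IsPModular p M) (H : Subgroup G) (b : Set (Cfsg.IrrCharacter H)) (B : Set (Cfsg.IrrCharacter G)) (hind : Cfsg.IsInducedBlock M H b B) : Cfsg.blockDefect p b = 0 ↔ Cfsg.blockDefect p B = 0 := by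
  have := hM.2.1
  obtain ⟨D, hD⟩ := CL.Blocks.exists_isDefectGroup p hind.1
  obtain ⟨P, hP⟩ := CL.Blocks.exists_isDefectGroup p hind.2.1
  rw [← CL.Blocks.defectGroup_eq_bot_iff hM hind.1 hD,
    ← CL.Blocks.defectGroup_eq_bot_iff hM hind.2.1 hP]
  constructor
  · intro h
    by_contra hne
    have : Nontrivial P := (Subgroup.nontrivial_iff_ne_bot P).2 hne
    have hZ := (CL.Blocks.isPGroup_of_isDefectGroup hP).center_nontrivial
    obtain ⟨x, hx⟩ := exists_ne (1 : Subgroup.center P)
    obtain ⟨z, hz, hzD, -⟩ := CL.Blocks.exists_isConj_center_defect_of_isInducedBlock hM hind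
      hD hP (x := ((x : P) : G)) (x : P).2
      (fun w hw => congrArg Subtype.val (Subgroup.mem_center_iff.1 x.2 ⟨w, hw⟩))
    rw [h, Subgroup.mem_bot] at hzD
    rw [hzD, Subgroup.coe_one, isConj_one_left] at hz
    exact hx (Subtype.ext (Subtype.ext hz))
  · intro h
    obtain ⟨x, hx⟩ := CL.Blocks.exists_conj_le_of_isInducedBlock hM hind hD hP
    rw [h, le_bot_iff, Subgroup.map_eq_bot_iff_of_injective _ (MulAut.conj x).injective,
      Subgroup.map_eq_bot_iff_of_injective _ H.subtype_injective] at hx
    exact hx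

end Cfsg.Agent.S0931
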