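import Cfsg.Statements.S0940
import Cfsg.Agent.Base
import Cfsg.Agent.Blocks.Sharp
import Cfsg.Agent.Blocks.CommTrace

set_option autoImplicit false
open Cfsg

namespace Cfsg.Agent.S0940

open CL.Blocks CL.Char
open scoped MonoidAlgebra ComplexConjugate

section
variable {G : Type*} [Group G] [Finite G] {p : ℕ} {M : Ideal AlgInt}

/-- The sum of all `p`-elements. -/
noncomputable def pSum (p : ℕ) (G : Type*) [Group G] [Finite G] : ℂ[G] :=
  setSum ℂ {x : G | ∃ k : ℕ, orderOf x = p ^ k}

theorem isCen_pSum : IsCen (pSum p G) :=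
  isCen_setSum fun g h => by simp only [Set.mem_ofPred_eq, orderOf_conj_eq]

/-- The sum of the `p`-elements kills, modulo `M`, every central element whose central
characters all lie in the local ideal. -/
theorem idealCoeff_pSum_mul (hM : IsPModular p M) {n : ℂ[G]} (hn : IsCen n) (hi : IntCoeff M n)
    (h : ∀ χ : IrrCharacter G, MemLocalIdeal M (om (χ : G → ℂ) n)) :
    IdealCoeff M (pSum p G * n) := by
  classical
  have := hM.2.1
  have : Fact p.Prime := ⟨hM.1⟩
  have := Fintype.ofFinite G
  obtain ⟨P⟩ : Nonempty (Sylow p G) := inferInstance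
  intro g
  set π : G → ℂ := fun g : G => (Nat.card (MulAction.fixedBy (G ⧸ (P : Subgroup G)) g) : ℂ)
    with hπ
  have hπc : IsCharacter G π := char_fixedBy (G := G) (G ⧸ (P : Subgroup G))
  have hm : ¬ MemLocalIdeal M (((P : Subgroup G).index : ℕ) : ℂ) :=
    not_memLocalIdeal_natCast hM P.not_dvd_index
  have hreg : ∀ y : G, ¬ p ∣ orderOf y →
      π y = if y = 1 then (((P : Subgroup G).index : ℕ) : ℂ) else 0 := by
    intro y hy
    have h1 := congrArg (fun a : ℂ[G] => a.coeff y⁻¹) (sharp_perm_pgroup P.isPGroup')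
    simp only [coeff_smul_apply', coeff_one', inv_eq_one] at h1
    rw [coeff_sharp_of_not_dvd _ (by rwa [orderOf_inv]), inv_inv] at h1
    rw [hπ]
    simp only
    rw [h1]
    split_ifs <;> simp
  have hcong : ∀ x : G, MemLocalIdeal M
      (π x - (((P : Subgroup G).index : ℕ) : ℂ) * (pSum p G).coeff x⁻¹) := by
    intro x
    have h1 := char_sub_pReg_memLocalIdeal hM hπc x
    rw [hreg _ (not_dvd_orderOf_pReg x)] at h1
    rw [pSum, coeff_setSum]
    simp only [Set.mem_ofPred_eq, orderOf_inv]
    by_cases hx : ∃ k : ℕ, orderOf x = p ^ k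
    · rw [if_pos (pReg_eq_one_iff.2 hx)] at h1
      rwa [if_pos hx, mul_one]
    · rw [if_neg (fun h => hx (pReg_eq_one_iff.1 h))] at h1
      rwa [if_neg hx, mul_zero]
  have h1 : MemLocalIdeal M (ev π (n * MonoidAlgebra.single g⁻¹ 1)) := by
    obtain ⟨c, -, hc⟩ := char_exists_eq_sum hπc
    rw [hc, ev_sum_fun]
    refine memLocalIdeal_sum _ fun χ _ => ?_
    rw [ev_smul_fun, ev_mul_of_isCen χ hn, ev_single, one_mul]
    exact memLocalIdeal_mul_left (memLocalRing_natCast _)
      (memLocalIdeal_mul_right (h χ) (memLocalRing_irr χ _))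
  rw [ev_mul_single] at h1
  rw [← memLocalIdeal_mul_unit_iff (memLocalRing_natCast _) hm, coeff_mul_right, Finset.sum_mul]
  refine (memLocalIdeal_congr (memLocalIdeal_sum_sub_sum _ fun x _ => ?_)).1 h1
  have h2 := memLocalIdeal_mul_left (hi x) (hcong (x * g⁻¹))
  rw [mul_inv_rev, inv_inv] at h2
  convert h2 using 1
  ring

/-- At a `p`-regular element, multiplication by the sum of the `p`-elements does not change the
coefficient of a block idempotent. -/
theorem coeff_pSum_mul_idem (hM : IsPModular p M) {B : Set (IrrCharacter G)} (hB : IsPBlock M B)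
    {g : G} (hg : ¬ p ∣ orderOf g) : (pSum p G * idem B).coeff g = blockCoeff B g := by
  classical
  have := hM.2.1
  have : Fact p.Prime := ⟨hM.1⟩
  have := Fintype.ofFinite G
  rw [(isCen_pSum.mul (isCen_idem B)).coeff_eq_sum, blockCoeff_eq_sum]
  congr 1
  have h1 : ∀ χ : IrrCharacter G, om (χ : G → ℂ) (pSum p G * idem B) *
      ((χ : G → ℂ) 1 * (χ : G → ℂ) g⁻¹) =
      ∑ x : G, (pSum p G).coeff x * if χ ∈ B then (χ : G → ℂ) x * (χ : G → ℂ) g⁻¹ else 0 := by
    intro χ
    rw [om_mul χ isCen_pSum, om_idem]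
    split_ifs
    · rw [mul_one, ← mul_assoc, ← ev_eq_om_mul, ev_apply, Finset.sum_mul]
      exact Finset.sum_congr rfl fun x _ => mul_assoc _ _ _
    · simp
  simp only [h1]
  rw [Finset.sum_comm]
  simp only [← Finset.mul_sum]
  rw [Finset.sum_eq_single 1]
  · rw [pSum, coeff_setSum_of_mem (X := {x : G | ∃ k : ℕ, orderOf x = p ^ k}) ⟨0, by simp⟩, one_mul]
  · intro x _ hx1
    by_cases hx : ∃ k : ℕ, orderOf x = p ^ k
    · have hd : p ∣ orderOf x⁻¹ := by
        rw [orderOf_inv]
        by_contra hd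
        exact hx1 (eq_one_of_orderOf_pow_of_not_dvd hx hd)
      have h2 := sum_mul_conj_eq_zero_of_regular_singular hM (memLocalRing_blockCoeff hB)
        (x := g⁻¹) (y := x⁻¹) (by rwa [orderOf_inv]) hd
      rw [finsum_mem_irr_eq_sum] at h2
      simp only [conj_irr_apply, inv_inv] at h2
      rw [mul_eq_zero]
      right
      exact (Finset.sum_congr rfl fun χ _ => by rw [mul_comm]).trans h2
    · rw [pSum, coeff_setSum_of_notMem (x := x) hx, zero_mul]
  · simp

theorem coeff_pSum_mul_reg (g : G) :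
    (pSum p G * setSum ℂ {x : G | ¬ p ∣ orderOf x}).coeff g =
      (Nat.card {xy : G × G // (∃ k : ℕ, orderOf xy.1 = p ^ k) ∧ ¬ p ∣ orderOf xy.2 ∧
        xy.1 * xy.2 = g} : ℂ) := by
  classical
  have := Fintype.ofFinite G
  have e : {xy : G × G // (∃ k : ℕ, orderOf xy.1 = p ^ k) ∧ ¬ p ∣ orderOf xy.2 ∧
      xy.1 * xy.2 = g} ≃ {x : G // (∃ k : ℕ, orderOf x = p ^ k) ∧ ¬ p ∣ orderOf (x⁻¹ * g)} :=
    { toFun := fun xy => ⟨xy.1.1, xy.2.1, by
        rw [inv_mul_eq_iff_eq_mul.2 xy.2.2.2.symm]; exact xy.2.2.1⟩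
      invFun := fun x => ⟨(x.1, x.1⁻¹ * g), x.2.1, x.2.2, mul_inv_cancel_left _ _⟩
      left_inv := fun xy => Subtype.ext (Prod.ext rfl (inv_mul_eq_iff_eq_mul.2 xy.2.2.2.symm))
      right_inv := fun x => rfl }
  rw [Nat.card_congr e, Nat.card_eq_fintype_card, Fintype.card_subtype, Finset.card_filter,
    coeff_mul_left, Nat.cast_sum]
  refine Finset.sum_congr rfl fun x _ => ?_
  rw [pSum, coeff_setSum, coeff_setSum]
  simp only [Set.mem_ofPred_eq]
  by_cases h1 : ∃ k : ℕ, orderOf x = p ^ k <;> by_cases h2 : p ∣ orderOf (x⁻¹ * g) <;>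
    simp [h1, h2]

end


/-- Let G be a finite group and M a maximal ideal of the algebraic integers containing the prime p. For every p-regular g, the idempotent coefficient of the principal block at g (the inverse of the group order times the sum over χ in the principal block of χ 1 * conj (χ g)) is congruent modulo the local ideal at M to N / R, where N is the number of pairs (x, y) with x of p-power order, y of order prime to p and x * y = g, and R is the number of elements of G of order prime to p. -/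
theorem result {G : Type*} [Group G] [Finite G] (p : ℕ) [Fact p.Prime] (M : Ideal Cfsg.AlgInt) (hM : Cfsg.IsPModular p M) (g : G) (hg : ¬ p ∣ orderOf g) : Cfsg.MemLocalIdeal M (Cfsg.blockCoeff (Cfsg.principalBlock M G) g - (Nat.card {xy : G × G // (∃ k : ℕ, orderOf xy.1 = p ^ k) ∧ ¬ p ∣ orderOf xy.2 ∧ xy.1 * xy.2 = g} : ℂ) / (Nat.card {y : G // ¬ p ∣ orderOf y} : ℂ)) := by
  classical
  have := hM.2.1
  set r : ℕ := Nat.card {y : G // ¬ p ∣ orderOf y} with hr
  have hr0 : ¬ MemLocalIdeal M (r : ℂ) :=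
    not_memLocalIdeal_natCast hM (not_dvd_card_pRegular hM.1)
  set R : ℂ[G] := setSum ℂ {x : G | ¬ p ∣ orderOf x} with hR
  have hRs : sharp p (irrOne G : G → ℂ) = R := sharp_one
  have hRc : IsCen R := hRs ▸ isCen_sharp_irr _
  have hRi : IntCoeff M R := intCoeff_setSum _
  have hR1 : om (irrOne G : G → ℂ) R = r := by
    rw [hR, om_setSum]
    simp only [irrOne_apply, div_one]
    rw [finsum_mem_eq_finite_toFinset_sum _ (Set.toFinite _), Finset.sum_const, nsmul_eq_mul,
      mul_one, ← Set.ncard_eq_toFinset_card]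
    rfl
  have hB := isPBlock_principalBlock (M := M) (G := G)
  have h1 := idealCoeff_pSum_mul hM (n := R - (r : ℂ) • idem (principalBlock M G))
    (hRc.sub ((isCen_idem _).smul _))
    (hRi.sub (IntCoeff.smul (memLocalRing_natCast _) (intCoeff_idem hB))) (fun χ => by
      rw [om_sub, om_smul]
      by_cases hχ : χ ∈ principalBlock M G
      · rw [om_idem_of_mem hχ, mul_one, ← hR1]
        exact memLocalIdeal_om_sub_of_mem hB hχ irrOne_mem_principalBlock hRc hRi
      · rw [om_idem_of_notMem hχ, mul_zero, sub_zero, ← hRs, om_sharp_eq_zero hM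
          fun h => hχ (mem_block_of_sameBlock hB irrOne_mem_principalBlock (sameBlock_symm h))]
        exact memLocalIdeal_zero) g
  rw [mul_sub, mul_smul_comm, coeff_sub_apply, coeff_smul_apply', coeff_pSum_mul_idem hM hB hg,
    hR, coeff_pSum_mul_reg] at h1
  have h2 := memLocalIdeal_neg (memLocalIdeal_div h1 (memLocalRing_natCast _) hr0)
  convert h2 using 1
  have := ne_zero_of_not_memLocalIdeal hr0
  field_simp
  ring

end Cfsg.Agent.S0940
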