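import Cfsg.Agent.Base
import Cfsg.Statements.S0944
import Cfsg.Agent.Char.Basic

set_option autoImplicit false
open Cfsg

namespace Cfsg.Agent.S0944

open CL.Char

theorem multiset_sum_sq_one (s : Multiset ℂ) (hs : ∀ ζ ∈ s, ζ ^ 2 = 1) :
    ∃ n : ℤ, s.sum = (n : ℂ) ∧ (2 : ℤ) ∣ (s.card : ℤ) - n := by
  induction s using Multiset.induction_on with
  | empty => exact ⟨0, by simp, by simp⟩
  | cons a s ih =>
    obtain ⟨n, hn, k, hk⟩ := ih fun ζ hζ => hs ζ (Multiset.mem_cons_of_mem hζ)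
    rcases sq_eq_one_iff.mp (hs a (Multiset.mem_cons_self a s)) with h | h
    · refine ⟨n + 1, by rw [Multiset.sum_cons, hn, h]; push_cast; ring, k, ?_⟩
      rw [Multiset.card_cons]; push_cast; linarith
    · refine ⟨n - 1, by rw [Multiset.sum_cons, hn, h]; push_cast; ring, k + 1, ?_⟩
      rw [Multiset.card_cons]; push_cast; linarith

/-- The value of an irreducible character at an involution. -/
theorem result {G : Type*} [Group G] [Finite G] (χ : Cfsg.IrrCharacter G) (u : G) (hu : orderOf u = 2) : ∃ n : ℤ, (χ : G → ℂ) u = (n : ℂ) ∧ (2 : ℤ) ∣ (Cfsg.charDegree (χ : G → ℂ) : ℤ) - n := by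
  obtain ⟨s, hs1, hs2, hs3, -⟩ := char_exists_eigenvalues_nat (irr_isCharacter χ.2) u
  rw [hu] at hs2
  obtain ⟨n, hn, hd⟩ := multiset_sum_sq_one s hs2
  refine ⟨n, hs3.trans hn, ?_⟩
  have : Cfsg.charDegree (χ : G → ℂ) = s.card := by
    rw [Cfsg.charDegree, ← hs1]; simp
  rw [this]; exact hd

end Cfsg.Agent.S0944
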