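import Cfsg.Agent.Base
import Cfsg.Statements.S0946
import Cfsg.Agent.S0945

set_option autoImplicit false
open Cfsg

namespace Cfsg.Agent.S0946

open Cfsg.Agent.S0945

/-- Every involution is conjugate to an involution of a given Sylow `2`-subgroup. -/
theorem exists_conj_mem {G : Type*} [Group G] [Finite G] (P : Sylow 2 G) (s : G)
    (hs : orderOf s = 2) : ∃ u ∈ (P : Subgroup G), u * u = 1 ∧ u ≠ 1 ∧ IsConj s u := by
  have h1 : IsPGroup 2 (Subgroup.zpowers s) := by
    apply IsPGroup.of_card (n := 1)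
    rw [Nat.card_zpowers, hs, pow_one]
  obtain ⟨Q, hQ⟩ := h1.exists_le_sylow
  obtain ⟨g, hg⟩ := MulAction.exists_smul_eq G Q P
  have hs2 : s * s = 1 := by rw [← pow_two, ← hs, pow_orderOf_eq_one]
  refine ⟨g * s * g⁻¹, ?_, ?_, ?_, ?_⟩
  · rw [← hg, Sylow.coe_subgroup_smul, Subgroup.mem_smul_pointwise_iff_exists]
    exact ⟨s, hQ (Subgroup.mem_zpowers s), rfl⟩
  · calc g * s * g⁻¹ * (g * s * g⁻¹) = g * (s * s) * g⁻¹ := by group
      _ = 1 := by rw [hs2]; group
  · intro h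
    have : s = 1 := by
      calc s = g⁻¹ * (g * s * g⁻¹) * g := by group
        _ = 1 := by rw [h]; group
    rw [this, orderOf_one] at hs
    omega
  · exact isConj_iff.mpr ⟨g, rfl⟩

/-- Let P be a Sylow 2-subgroup of the finite group G isomorphic to a product of two cyclic groups of order 2 ^ m, m ≥ 1. -/
theorem result {G : Type*} [Group G] [Finite G] (P : Sylow 2 G) (m : ℕ) (hm : 1 ≤ m) (e : (P : Subgroup G) ≃* Multiplicative (ZMod (2 ^ m) × ZMod (2 ^ m))) : (∃ N : Subgroup G, N.Normal ∧ Subgroup.IsComplement' N (P : Subgroup G)) ∨ ∀ s t : G, orderOf s = 2 → orderOf t = 2 → IsConj s t := by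
  obtain ⟨s, t, h⟩ := exists_threeInv (P : Subgroup G) m hm e
  by_cases hN : Subgroup.normalizer (P : Set G) ≤ Subgroup.centralizer (P : Set G)
  · left
    exact ⟨_, inferInstance, MonoidHom.ker_transferSylow_isComplement' P hN⟩
  right
  obtain ⟨n, hn, hnC⟩ := SetLike.not_le_iff_exists.mp hN
  have hfix : ∀ z ∈ (P : Subgroup G), z ≠ 1 → n * z * n⁻¹ ≠ z := fun z hz hz1 hnz =>
    hnC (mem_centralizer_of_fix P h n hn z hz hz1 hnz)
  have hconj : ∀ z ∈ (P : Subgroup G), z * z = 1 → z ≠ 1 →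
      n * z * n⁻¹ ∈ (P : Subgroup G) ∧ (n * z * n⁻¹) * (n * z * n⁻¹) = 1 ∧ n * z * n⁻¹ ≠ 1 := by
    intro z hz hz2 hz1
    refine ⟨(Subgroup.mem_normalizer_iff.mp hn z).mp hz, ?_, ?_⟩
    · calc n * z * n⁻¹ * (n * z * n⁻¹) = n * (z * z) * n⁻¹ := by group
        _ = 1 := by rw [hz2]; group
    · intro h1; apply hz1
      calc z = n⁻¹ * (n * z * n⁻¹) * n := by group
        _ = 1 := by rw [h1]; group
  obtain ⟨ha1, ha2, ha3⟩ := hconj t h.t_mem h.t_sq h.t_ne
  set a := n * t * n⁻¹ with ha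
  have hat : a ≠ t := hfix t h.t_mem h.t_ne
  have h' := h.all' ha1 h.t_mem ha2 h.t_sq ha3 h.t_ne hat
  obtain ⟨hb1, hb2, hb3⟩ := hconj a ha1 ha2 ha3
  have hta : IsConj t a := isConj_iff.mpr ⟨n, rfl⟩
  have hb : n * a * n⁻¹ = a * t := by
    rcases h'.all _ hb1 hb2 with h1 | h1 | h1 | h1
    · exact absurd h1 hb3
    · exact absurd h1 (hfix a ha1 ha3)
    · exfalso
      apply hfix (a * t) ((P : Subgroup G).mul_mem ha1 h.t_mem)
      · intro h2
        apply hat
        calc a = (a * t) * t := by rw [mul_assoc, h.t_sq, mul_one]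
          _ = t := by rw [h2, one_mul]
      · calc n * (a * t) * n⁻¹ = (n * a * n⁻¹) * (n * t * n⁻¹) := by group
          _ = t * a := by rw [h1]
          _ = a * t := h.comm t h.t_mem a ha1
    · exact h1
  have htb : IsConj t (a * t) := hta.trans (isConj_iff.mpr ⟨n, hb⟩)
  have key : ∀ u : G, orderOf u = 2 → IsConj t u := by
    intro u hu
    obtain ⟨v, hv, hv2, hv1, huv⟩ := exists_conj_mem P u hu
    refine IsConj.trans ?_ huv.symm
    rcases h'.all v hv hv2 with h1 | h1 | h1 | h1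
    · exact absurd h1 hv1
    · rw [h1]; exact hta
    · rw [h1]
    · rw [h1]; exact htb
  intro u v hu hv
  exact (key u hu).symm.trans (key v hv)

end Cfsg.Agent.S0946
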