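import Cfsg.Agent.Base
import Cfsg.Statements.S0948
import Cfsg.Agent.Blocks.KleinFour
-- import your own Cfsg.Agent.* helpers here

set_option autoImplicit false
open Cfsg

namespace Cfsg.Agent.S0948

/-- Let the finite group G have a Sylow 2-subgroup P that is a Klein four-group, suppose all involutions of G are conjugate, and fix a maximal ideal M of the algebraic integers containing 2. Then the principal block consists of exactly four irreducible characters, the principal character and ζ₂, ζ₃, ζ₄, and there is a sign ε such that for every involution z: ζ₂ z = 1, ζ₃ z = ε, ζ₄ z = -1; moreover ζ₂ 1 ≡ 1, ζ₃ 1 ≡ ε, ζ₄ 1 ≡ -1 (mod 4), and 1 + ζ₂ y + ε ζ₃ y - ζ₄ y = 0 for every y of odd order. -/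
theorem result {G : Type*} [Group G] [Finite G] (M : Ideal Cfsg.AlgInt) (hM : Cfsg.IsPModular 2 M) (P : Sylow 2 G) (hP : IsKleinFour (P : Subgroup G)) (hone : ∀ s t : G, orderOf s = 2 → orderOf t = 2 → IsConj s t) : ∃ ζ₂ ζ₃ ζ₄ : Cfsg.IrrCharacter G, ∃ ε : ℤ, (ε = 1 ∨ ε = -1) ∧ (ζ₂ : G → ℂ) ≠ (fun _ => 1) ∧ (ζ₃ : G → ℂ) ≠ (fun _ => 1) ∧ ζ₂ ≠ ζ₃ ∧ ζ₂ ≠ ζ₄ ∧ ζ₃ ≠ ζ₄ ∧ Cfsg.principalBlock M G = {χ : Cfsg.IrrCharacter G | (χ : G → ℂ) = (fun _ => 1) ∨ χ = ζ₂ ∨ χ = ζ₃ ∨ χ = ζ₄} ∧ (∀ z : G, orderOf z = 2 → (ζ₂ : G → ℂ) z = 1 ∧ (ζ₃ : G → ℂ) z = (ε : ℂ) ∧ (ζ₄ : G → ℂ) z = -1) ∧ (4 : ℤ) ∣ (Cfsg.charDegree (ζ₂ : G → ℂ) : ℤ) - 1 ∧ (4 : ℤ) ∣ (Cfsg.charDegree (ζ₃ : G → ℂ) : ℤ) - ε ∧ (4 : ℤ) ∣ (Cfsg.charDegree (ζ₄ : G → ℂ) : ℤ) + 1 ∧ ∀ y : G, Odd (orderOf y) → 1 + (ζ₂ : G → ℂ) y + (ε : ℂ) * (ζ₃ : G → ℂ) y - (ζ₄ : G → ℂ) y = 0 := by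
  have hP2 : ∀ a ∈ (P : Subgroup G), a * a = 1 := fun a ha =>
    congrArg Subtype.val (IsKleinFour.mul_self (⟨a, ha⟩ : (P : Subgroup G)))
  obtain ⟨a, b, c, δ, ha, hb, hc, hab, hac, hbc, hmem, -, -, hpm, hval, hmod, hrel⟩ :=
    CL.Q8B.kleinFour_block' hM P hP.card_four hP2 hone
  have key : ∀ a b c : IrrCharacter G, a ≠ CL.Char.irrOne G → b ≠ CL.Char.irrOne G → a ≠ b →
      a ≠ c → b ≠ c →
      (∀ χ, χ ∈ CL.Q8B.pb M G ↔ χ = CL.Char.irrOne G ∨ χ = a ∨ χ = b ∨ χ = c) →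
      (∀ y : G, Odd (orderOf y) → 1 + (δ a : ℂ) * (a : G → ℂ) y + (δ b : ℂ) * (b : G → ℂ) y +
        (δ c : ℂ) * (c : G → ℂ) y = 0) → δ a = 1 → δ c = -1 →
      ∃ ζ₂ ζ₃ ζ₄ : Cfsg.IrrCharacter G, ∃ ε : ℤ, (ε = 1 ∨ ε = -1) ∧ (ζ₂ : G → ℂ) ≠ (fun _ => 1) ∧ (ζ₃ : G → ℂ) ≠ (fun _ => 1) ∧ ζ₂ ≠ ζ₃ ∧ ζ₂ ≠ ζ₄ ∧ ζ₃ ≠ ζ₄ ∧ Cfsg.principalBlock M G = {χ : Cfsg.IrrCharacter G | (χ : G → ℂ) = (fun _ => 1) ∨ χ = ζ₂ ∨ χ = ζ₃ ∨ χ = ζ₄} ∧ (∀ z : G, orderOf z = 2 → (ζ₂ : G → ℂ) z = 1 ∧ (ζ₃ : G → ℂ) z = (ε : ℂ) ∧ (ζ₄ : G → ℂ) z = -1) ∧ (4 : ℤ) ∣ (Cfsg.charDegree (ζ₂ : G → ℂ) : ℤ) - 1 ∧ (4 : ℤ) ∣ (Cfsg.charDegree (ζ₃ : G → ℂ) : ℤ) - ε ∧ (4 : ℤ) ∣ (Cfsg.charDegree (ζ₄ : G → ℂ) : ℤ) + 1 ∧ ∀ y : G, Odd (orderOf y) → 1 + (ζ₂ : G → ℂ) y + (ε : ℂ) * (ζ₃ : G → ℂ) y - (ζ₄ : G → ℂ) y = 0 := by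
    intro a b c ha hb hab hac hbc hmem hrel h1 h2
    have ma : a ∈ CL.Q8B.pb M G := (hmem a).mpr (by simp)
    have mb : b ∈ CL.Q8B.pb M G := (hmem b).mpr (by simp)
    have mc : c ∈ CL.Q8B.pb M G := (hmem c).mpr (by simp)
    refine ⟨a, b, c, δ b, Int.eq_one_or_neg_one_of_mul_eq_one (hpm b mb),
      fun h => ha (Subtype.ext h), fun h => hb (Subtype.ext h), hab, hac, hbc, ?_, ?_, ?_,
      hmod b mb, ?_, ?_⟩
    · ext χ
      rw [← CL.Q8B.mem_pb, hmem]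
      exact or_congr_left Subtype.ext_iff
    · intro z hz
      refine ⟨?_, hval b mb z (by rw [hz]), ?_⟩
      · rw [hval a ma z (by rw [hz]), h1]; simp
      · rw [hval c mc z (by rw [hz]), h2]; simp
    · rw [← h1]; exact hmod a ma
    · have := hmod c mc
      rwa [h2, sub_neg_eq_add] at this
    · intro y hy
      have := hrel y hy
      rw [h1, h2] at this
      push_cast at this
      linear_combination this
  have ma : a ∈ CL.Q8B.pb M G := (hmem a).mpr (by simp)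
  have mb : b ∈ CL.Q8B.pb M G := (hmem b).mpr (by simp)
  have mc : c ∈ CL.Q8B.pb M G := (hmem c).mpr (by simp)
  have h0 := hrel 1 (by simp)
  rw [← CL.Blocks.cast_charDegree, ← CL.Blocks.cast_charDegree, ← CL.Blocks.cast_charDegree] at h0
  have h1 : 1 + δ a * (charDegree (a : G → ℂ) : ℤ) + δ b * (charDegree (b : G → ℂ) : ℤ) +
      δ c * (charDegree (c : G → ℂ) : ℤ) = 0 := by exact_mod_cast h0
  have pa := CL.Blocks.charDegree_pos a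
  have pb := CL.Blocks.charDegree_pos b
  have pc := CL.Blocks.charDegree_pos c
  rcases Int.eq_one_or_neg_one_of_mul_eq_one (hpm a ma) with da | da <;>
  rcases Int.eq_one_or_neg_one_of_mul_eq_one (hpm b mb) with db | db <;>
  rcases Int.eq_one_or_neg_one_of_mul_eq_one (hpm c mc) with dc | dc
  · rw [da, db, dc] at h1; omega
  · exact key a b c ha hb hab hac hbc hmem hrel da dc
  · exact key a c b ha hc hac hab hbc.symm (fun χ => by rw [hmem]; tauto)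
      (fun y hy => by linear_combination hrel y hy) da db
  · exact key a b c ha hb hab hac hbc hmem hrel da dc
  · exact key b c a hb hc hbc hab.symm hac.symm (fun χ => by rw [hmem]; tauto)
      (fun y hy => by linear_combination hrel y hy) db da
  · exact key b a c hb ha hab.symm hbc hac (fun χ => by rw [hmem]; tauto)
      (fun y hy => by linear_combination hrel y hy) db dc
  · exact key c a b hc ha hac.symm hbc.symm hab (fun χ => by rw [hmem]; tauto)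
      (fun y hy => by linear_combination hrel y hy) dc db
  · rw [da, db, dc] at h1; omega

end Cfsg.Agent.S0948
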