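import Cfsg.Statements.S0952
import Cfsg.Agent.Base
import Cfsg.Agent.Blocks.TraceOrth
import Cfsg.Agent.Blocks.Center

set_option autoImplicit false
open scoped ComplexConjugate
open Cfsg

namespace Cfsg.Agent.S0952

/-- Let χ and ψ be irreducible characters of the finite group G lying in different blocks relative to a maximal ideal M of the algebraic integers containing the prime p. Then the sum of χ x * conj (ψ x) over the elements x of order prime to p is zero. -/
theorem result {G : Type*} [Group G] [Finite G] (p : ℕ) [Fact p.Prime] (M : Ideal Cfsg.AlgInt) (hM : Cfsg.IsPModular p M) (χ ψ : Cfsg.IrrCharacter G) (h : ¬ Cfsg.SameBlock M (χ : G → ℂ) (ψ : G → ℂ)) : ∑ᶠ x ∈ {x : G | ¬ p ∣ orderOf x}, (χ : G → ℂ) x * conj ((ψ : G → ℂ) x) = 0 := by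
  have := hM.2.1
  have h1 := CL.Blocks.sum_section_mul_conj_eq_zero hM
    (CL.Blocks.memLocalRing_blockCoeff (CL.Blocks.isPBlock_blockOf χ)) (χ := χ) (ψ := ψ)
    (fun g => CL.Blocks.memLocalIdeal_sub_self _) h 1
  have h2 : {u : G | ∃ z, Cfsg.IsPPart p u z ∧ IsConj 1 z} = {x : G | ¬ p ∣ orderOf x} := by
    ext u
    constructor
    · rintro ⟨z, ⟨y, hy, -, -, hy'⟩, hz⟩
      rw [isConj_one_right.1 hz, one_mul] at hy
      exact hy ▸ hy'
    · intro hu
      exact ⟨1, CL.Blocks.isPPart_one_of_not_dvd hu, IsConj.refl _⟩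
  rwa [h2] at h1

end Cfsg.Agent.S0952
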