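import Cfsg.Statements.S0953
import Cfsg.Agent.Base
import Cfsg.Agent.Blocks.FirstMain
import Cfsg.Agent.Blocks.DefectCard
import Cfsg.Agent.Blocks.NormalCover
import Cfsg.Agent.Transfer.AbSylow
import Cfsg.Agent.Transfer.PCompl

set_option autoImplicit false
open Cfsg

namespace Cfsg.Agent.S0953

open CL.Blocks in
/-- A normal `p'`-subgroup containing the `p`-regular elements centralizing a normal Sylow
subgroup. -/
theorem exists_normal {N : Type*} [Group N] [Finite N] (p : ℕ) [hp : Fact p.Prime] (S : Sylow p N)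
    [hS : (S : Subgroup N).Normal] :
    ∃ K : Subgroup N, K.Normal ∧ ¬ p ∣ Nat.card K ∧
      ∀ n, ¬ p ∣ orderOf n → n ∈ Subgroup.centralizer ((S : Subgroup N) : Set N) → n ∈ K := by
  set C := Subgroup.centralizer ((S : Subgroup N) : Set N)
  have T : Sylow p C := default
  have hT : (T : Subgroup C).map C.subtype ≤ S := by
    have h1 := (T.isPGroup'.map C.subtype).to_sup_of_normal_right S.isPGroup'
    have h2 := S.3 h1 le_sup_right
    exact h2 ▸ le_sup_left
  have hC : Cfsg.HasNormalPComplement p C :=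
    CL.Focal.hasNormalPComplement_of_normalizer_le_centralizer T fun c _ t ht =>
      Subtype.ext (c.2 t (hT ⟨t, ht, rfl⟩))
  refine ⟨(Cfsg.pResidual p C).map C.subtype, inferInstance, ?_, fun n hn hnC => ⟨⟨n, hnC⟩, ?_, rfl⟩⟩
  · rw [Subgroup.card_map_of_injective C.subtype_injective]
    exact CL.Transfer.hasNormalPComplement_iff_not_dvd.1 hC
  · refine CL.Transfer.mem_pResidual_of_coprime ?_
    rw [Subgroup.orderOf_mk]
    exact ((Nat.Prime.coprime_iff_not_dvd hp.out).2 hn).symm

open CL.Blocks CL.Char in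
theorem card_blocks {N : Type*} [Group N] [Finite N] (p : ℕ) [hp : Fact p.Prime]
    (M : Ideal Cfsg.AlgInt) (hM : Cfsg.IsPModular p M) (S : Sylow p N)
    [hS : (S : Subgroup N).Normal] :
    Nat.card {b : Set (Cfsg.IrrCharacter N) // Cfsg.IsPBlock M b} =
      Nat.card {C : ConjClasses N // ∀ n : N, ConjClasses.mk n = C → ¬ p ∣ orderOf n ∧
        n ∈ Subgroup.centralizer ((S : Subgroup N) : Set N)} := by
  classical
  have := hM.2.1
  set I := {b : Set (Cfsg.IrrCharacter N) // Cfsg.IsPBlock M b}
  set J := {C : ConjClasses N // ∀ n : N, ConjClasses.mk n = C → ¬ p ∣ orderOf n ∧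
        n ∈ Subgroup.centralizer ((S : Subgroup N) : Set N)}
  let := Fintype.ofFinite I
  let := Fintype.ofFinite J
  choose χ hχ using fun b : I => block_nonempty b.2
  rw [Nat.card_eq_fintype_card, Nat.card_eq_fintype_card]
  refine le_antisymm ?_ ?_
  · let f : (I → kM M) →ₗ[kM M] (J → kM M) :=
      LinearMap.pi fun c => ZA.coL (Quotient.out c.1 : N) ∘ₗ Fintype.linearCombination _ fun b : I => eK M b.1
    refine card_le_of_injective (kM M) f ((injective_iff_map_eq_zero f).2 fun v hv => ?_)
    have hz : ∑ b : I, v b • eK M b.1 = 0 := by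
      refine ZA.ext' fun g => ?_
      rw [ZA.co_zero]
      by_cases hg : ¬ p ∣ orderOf g ∧ g ∈ Subgroup.centralizer ((S : Subgroup N) : Set N)
      · have hJ : ∀ n : N, ConjClasses.mk n = ConjClasses.mk g → ¬ p ∣ orderOf n ∧
            n ∈ Subgroup.centralizer ((S : Subgroup N) : Set N) := by
          intro n hn
          have hc : IsConj g n := (ConjClasses.mk_eq_mk_iff_isConj.1 hn).symm
          exact ⟨orderOf_eq_of_isConj hc ▸ hg.1, mem_of_isConj_of_mem hg.2 hc⟩
        have h1 := congrFun hv ⟨_, hJ⟩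
        rw [← ZA.co_eq_of_isConj _ (isConj_out_mk g)]
        exact h1
      · rw [ZA.co_sum]
        refine Finset.sum_eq_zero fun b _ => ?_
        rw [ZA.co_smul]
        refine mul_eq_zero_of_right _ (by_contra fun h => hg ⟨?_, ?_⟩)
        · exact not_dvd_orderOf_of_co_eK_ne_zero hM b.2 h
        · exact mem_centralizer_of_co_eK_ne_zero hM b.2 S.isPGroup' h
    funext b
    have h1 := congrArg (lamK M (χ b)) hz
    rw [map_sum, Finset.sum_eq_single b, map_smul, lamK_eK_of_mem b.2 (hχ b), map_zero] at h1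
    · simpa using h1
    · intro b' _ hb'
      rw [map_smul, lamK_eK_of_notMem b'.2, smul_zero]
      exact fun h => hb' (Subtype.ext (block_eq_of_mem b'.2 b.2 h (hχ b)))
    · exact fun h => absurd (Finset.mem_univ _) h
  · obtain ⟨K, hKn, hK, hreg⟩ := exists_normal p S
    let := Fintype.ofFinite K
    let f : (J → ℂ) →ₗ[ℂ] (I → ℂ) :=
      LinearMap.pi fun b => Fintype.linearCombination _ fun c : J =>
        centralChar (χ b : N → ℂ) (Quotient.out c.1 : N)
    refine card_le_of_injective ℂ f ((injective_iff_map_eq_zero f).2 fun v hv => ?_)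
    have hz : ∑ c : J, v c • classSum ℂ (Quotient.out c.1 : N) = 0 := by
      refine IsCen.eq_zero_of_om (IsCen.sum fun c _ => (isCen_classSum _).smul _) fun ψ => ?_
      have h1 := congrFun hv ⟨_, isPBlock_blockOf ψ⟩
      rw [om_sum]
      refine Eq.trans (Finset.sum_congr rfl fun c _ => ?_) h1
      rw [om_smul, om_classSum_irr, smul_eq_mul]
      obtain ⟨θ, hθ⟩ := exists_constituent K ψ
      have hc := c.2 _ (mk_out_eq c.1)
      have hcK := hreg _ hc.1 hc.2
      exact congrArg _ ((centralChar_eq_induced_of_inner ψ θ hθ hcK).trans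
        (centralChar_eq_induced_of_inner _ θ (inner_ne_zero_of_sameBlock_of_not_dvd hM hK
          (hχ ⟨_, isPBlock_blockOf ψ⟩) hθ) hcK).symm)
    funext c
    have h1 := congrArg (fun a => a.coeff (Quotient.out c.1 : N)) hz
    simp only [coeff_sum_apply, coeff_smul_apply'] at h1
    rw [Finset.sum_eq_single c, coeff_classSum, if_pos (IsConj.refl _), mul_one] at h1
    · exact h1
    · intro c' _ hc'
      rw [coeff_classSum, if_neg, mul_zero]
      intro h
      refine hc' (Subtype.ext ?_)
      rw [← mk_out_eq c'.1, ← mk_out_eq c.1, ConjClasses.mk_eq_mk_iff_isConj]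
      exact h
    · exact fun h => absurd (Finset.mem_univ _) h

/-- Let P be a Sylow p-subgroup of the finite group G with normalizer N, and fix a maximal ideal M of the algebraic integers containing p. The number of blocks of G having P as a defect group equals the number of conjugacy classes of N consisting of elements of order prime to p that centralize P. -/
theorem result {G : Type*} [Group G] [Finite G] (p : ℕ) [Fact p.Prime] (M : Ideal Cfsg.AlgInt) (hM : Cfsg.IsPModular p M) (P : Sylow p G) : Nat.card {B : Set (Cfsg.IrrCharacter G) // Cfsg.IsPBlock M B ∧ Cfsg.IsDefectGroup p M B (P : Subgroup G)} = Nat.card {C : ConjClasses (Subgroup.normalizer ((P : Subgroup G) : Set G)) // ∀ n : Subgroup.normalizer ((P : Subgroup G) : Set G), ConjClasses.mk n = C → ¬ p ∣ orderOf n ∧ (n : G) ∈ Subgroup.centralizer ((P : Subgroup G) : Set G)} := by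
  have := hM.2.1
  set N := Subgroup.normalizer ((P : Subgroup G) : Set G)
  let S : Sylow p N := P.subtype Subgroup.le_normalizer
  have hS : (S : Subgroup N) = (P : Subgroup G).subgroupOf N := rfl
  have hSn : (S : Subgroup N).Normal := hS ▸ Subgroup.normal_in_normalizer
  have hdef : ∀ b : Set (Cfsg.IrrCharacter N), Cfsg.IsPBlock M b →
      Cfsg.IsDefectGroup p M b ((P : Subgroup G).subgroupOf N) := by
    intro b hb
    obtain ⟨D, hD⟩ := CL.Blocks.exists_isDefectGroup p hb
    have h1 := CL.Blocks.le_of_isDefectGroup_of_normal hM hb S.isPGroup' hD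
    have h2 := S.3 (CL.Blocks.isPGroup_of_isDefectGroup hD) h1
    rwa [h2] at hD
  have hmem : ∀ n : N, n ∈ Subgroup.centralizer ((S : Subgroup N) : Set N) ↔
      (n : G) ∈ Subgroup.centralizer ((P : Subgroup G) : Set G) := by
    intro n
    refine ⟨fun h x hx => congrArg Subtype.val (h ⟨x, Subgroup.le_normalizer hx⟩ hx),
      fun h x hx => Subtype.ext (h x hx)⟩
  have h := card_blocks p M hM S
  simp only [hmem] at h
  rw [← h]
  choose F hF using fun B : {B : Set (Cfsg.IrrCharacter G) // Cfsg.IsPBlock M B ∧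
    Cfsg.IsDefectGroup p M B (P : Subgroup G)} => CL.Blocks.exists_brauerCorrespondent hM B.2.1 B.2.2
  refine Nat.card_eq_of_bijective (fun B => ⟨F B, (hF B).1.1⟩) ⟨fun B B' hBB => ?_, fun b => ?_⟩
  · have h1 : F B = F B' := congrArg Subtype.val hBB
    exact Subtype.ext (CL.Blocks.induced_unique (hF B).1 (h1 ▸ (hF B').1))
  · obtain ⟨B, hB⟩ := CL.Blocks.exists_isInducedBlock hM P.isPGroup' Subgroup.le_normalizer
      (Subgroup.centralizer_le_normalizer _) le_rfl b.2
    have hD := CL.Blocks.isDefectGroup_of_isInducedBlock_normalizer hM P.isPGroup' hB (hdef b b.2)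
    exact ⟨⟨B, hB.2.1, hD⟩, Subtype.ext
      (CL.Blocks.eq_of_isInducedBlock_normalizer hM (hF _).1 hB hD)⟩

end Cfsg.Agent.S0953
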