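import Cfsg.Agent.Base
import Cfsg.Statements.S0955
import Cfsg.Agent.Blocks.FirstMain

set_option autoImplicit false
open Cfsg

namespace Cfsg.Agent.S0955

open CL.Blocks

/-- Let D be a defect group of a block of the finite group G relative to a maximal ideal M of the algebraic integers containing the prime p. Then D is the largest normal p-subgroup of its own normalizer: O_p(N_G(D)) = D. -/
theorem result {G : Type*} [Group G] [Finite G] (p : ℕ) [Fact p.Prime] (M : Ideal Cfsg.AlgInt) (hM : Cfsg.IsPModular p M) (B : Set (Cfsg.IrrCharacter G)) (hB : Cfsg.IsPBlock M B) (D : Subgroup G) (hD : Cfsg.IsDefectGroup p M B D) : (Cfsg.pCore p (Subgroup.normalizer (D : Set G))).map (Subgroup.normalizer (D : Set G)).subtype = D := by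
  have := hM.2.1
  obtain ⟨b, hb, hbD⟩ := exists_brauerCorrespondent hM hB hD
  have h1 : pCore p (Subgroup.normalizer (D : Set G)) =
      D.subgroupOf (Subgroup.normalizer (D : Set G)) := by
    refine le_antisymm (sSup_le fun N hN => ?_) (le_sSup ⟨inferInstance, ?_⟩)
    · have := hN.1
      exact le_of_isDefectGroup_of_normal hM hb.1 hN.2 hbD
    · exact isPGroup_of_isDefectGroup hbD
  rw [h1, Subgroup.subgroupOf_map_subtype, inf_eq_left.2 Subgroup.le_normalizer]

end Cfsg.Agent.S0955
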