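import Cfsg.Agent.Base
import Cfsg.Statements.S0957

set_option autoImplicit false
open Cfsg

namespace Cfsg.Agent.S0957

/-- If `n` divides the index of every point stabiliser, it divides the number of points. -/
theorem dvd_card_of_dvd_index {H X : Type*} [Group H] [MulAction H X] [Finite X] [Finite H] (n : ℕ)
    (h : ∀ x : X, n ∣ (MulAction.stabilizer H x).index) : n ∣ Nat.card X := by
  classical
  rw [Nat.card_congr (MulAction.selfEquivSigmaOrbitsQuotientStabilizer H X)]
  have := Fintype.ofFinite (Quotient (MulAction.orbitRel H X))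
  rw [Nat.card_sigma]
  exact Finset.dvd_sum fun ω _ => h _

/-- The conjugation action of `P` on the pairs. -/
@[reducible] def pairAction {G : Type*} [Group G] (P : Subgroup G) (g h : G) :
    MulAction P {yz : G × G // IsConj g yz.1 ∧ IsConj h yz.2 ∧ yz.2 * yz.1⁻¹ ∈ P} where
  smul u yz := ⟨((u : G) * yz.1.1 * (u : G)⁻¹, (u : G) * yz.1.2 * (u : G)⁻¹),
    yz.2.1.trans (isConj_iff.2 ⟨u, rfl⟩), yz.2.2.1.trans (isConj_iff.2 ⟨u, rfl⟩), by
      have := P.mul_mem (P.mul_mem u.2 yz.2.2.2) (P.inv_mem u.2)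
      convert this using 1
      group⟩
  one_smul yz := by
    apply Subtype.ext
    change (((1 : P) : G) * yz.1.1 * ((1 : P) : G)⁻¹, ((1 : P) : G) * yz.1.2 * ((1 : P) : G)⁻¹) = _
    simp
  mul_smul u v yz := by
    apply Subtype.ext
    change (((u * v : P) : G) * yz.1.1 * ((u * v : P) : G)⁻¹,
      ((u * v : P) : G) * yz.1.2 * ((u * v : P) : G)⁻¹) =
      ((u : G) * ((v : G) * yz.1.1 * (v : G)⁻¹) * (u : G)⁻¹,
        (u : G) * ((v : G) * yz.1.2 * (v : G)⁻¹) * (u : G)⁻¹)
    simp [mul_assoc]

/-- Let P be a Sylow p-subgroup of the finite group G, let g, h ∈ G and let p ^ d be the order of a Sylow p-subgroup of the centralizer of g. Then the number of pairs (y, z) with y conjugate to g, z conjugate to h and z * y⁻¹ ∈ P is divisible by the order of P divided by p ^ d. -/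
theorem result {G : Type*} [Group G] [Finite G] (p : ℕ) [Fact p.Prime] (P : Sylow p G) (g h : G) (S : Sylow p (Subgroup.centralizer ({g} : Set G))) : Nat.card P / Nat.card S ∣ Nat.card {yz : G × G // IsConj g yz.1 ∧ IsConj h yz.2 ∧ yz.2 * yz.1⁻¹ ∈ (P : Subgroup G)} := by
  let _ := pairAction (P : Subgroup G) g h
  refine dvd_card_of_dvd_index (H := (P : Subgroup G)) _ fun yz => ?_
  set T := MulAction.stabilizer (P : Subgroup G) yz with hT
  obtain ⟨c, hc⟩ := isConj_iff.1 yz.2.1
  -- the stabiliser embeds in the centraliser of `g`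
  have hmem : ∀ t : T, c⁻¹ * ((t : (P : Subgroup G)) : G) * c ∈ Subgroup.centralizer ({g} : Set G) := by
    intro t
    have ht : ((t : (P : Subgroup G)) : G) * yz.1.1 * ((t : (P : Subgroup G)) : G)⁻¹ = yz.1.1 :=
      congrArg (fun w => w.1.1) (MulAction.mem_stabilizer_iff.1 t.2)
    rw [Subgroup.mem_centralizer_singleton_iff]
    rw [← hc] at ht
    have : c⁻¹ * ((t : (P : Subgroup G)) : G) * c * g
        = c⁻¹ * (((t : (P : Subgroup G)) : G) * (c * g * c⁻¹) * ((t : (P : Subgroup G)) : G)⁻¹)
          * ((t : (P : Subgroup G)) : G) * c := by group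
    rw [this, ht]; group
  let f : T →* Subgroup.centralizer ({g} : Set G) :=
    { toFun := fun t => ⟨_, hmem t⟩
      map_one' := by ext; simp
      map_mul' := fun a b => by ext; simp [mul_assoc] }
  have hf : Function.Injective f := by
    intro a b hab
    have : c⁻¹ * ((a : (P : Subgroup G)) : G) * c = c⁻¹ * ((b : (P : Subgroup G)) : G) * c :=
      congrArg Subtype.val hab
    ext
    simpa using this
  have hTp : IsPGroup p T := P.isPGroup'.to_subgroup T
  obtain ⟨k, hk⟩ := hTp.exists_card_eq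
  have h1 : Nat.card T ∣ Nat.card S := by
    rw [hk]
    apply Sylow.pow_dvd_card_of_pow_dvd_card
    rw [← hk]
    exact Subgroup.card_dvd_of_injective f hf
  have h2 : T.index * Nat.card T = Nat.card (P : Subgroup G) := T.index_mul_card
  obtain ⟨m, hm⟩ := h1
  have hTpos : 0 < Nat.card T := Nat.card_pos
  change Nat.card (P : Subgroup G) / Nat.card S ∣ T.index
  rw [← h2, hm, mul_comm T.index, Nat.mul_div_mul_left _ _ hTpos]
  have h3 : Nat.card S ∣ Nat.card (P : Subgroup G) := by
    obtain ⟨l, hl⟩ := S.isPGroup'.exists_card_eq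
    change Nat.card (S : Subgroup (Subgroup.centralizer ({g} : Set G))) ∣ _
    rw [hl]
    apply Sylow.pow_dvd_card_of_pow_dvd_card
    rw [← hl]
    exact (Subgroup.card_subgroup_dvd_card _).trans (Subgroup.card_subgroup_dvd_card _)
  rw [← h2, hm, mul_comm T.index] at h3
  exact Nat.div_dvd_of_dvd (Nat.dvd_of_mul_dvd_mul_left hTpos h3)

end Cfsg.Agent.S0957
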