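import Cfsg.Statements.S0960
import Cfsg.Agent.Base
import Cfsg.Agent.D1.Block

set_option autoImplicit false
open Cfsg

namespace Cfsg.Agent.S0960

/-- Let p be an odd prime and G a finite group whose Sylow p-subgroup P has order p; let e be the index of C_G(P) in N_G(P) (a divisor of p − 1) and fix a maximal ideal M of the algebraic integers containing p. Then the principal block of G consists of exactly e + (p - 1) / e irreducible characters, and the degree d of each of them satisfies d ≡ 1, d ≡ -1, d ≡ e or d ≡ -e modulo p. -/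
theorem result {G : Type*} [Group G] [Finite G] (p : ℕ) [Fact p.Prime] (M : Ideal Cfsg.AlgInt) (hM : Cfsg.IsPModular p M) (hodd : p ≠ 2) (P : Sylow p G) (hP : Nat.card P = p) (e : ℕ) (he : (Subgroup.centralizer ((P : Subgroup G) : Set G)).relIndex (Subgroup.normalizer ((P : Subgroup G) : Set G)) = e) : Nat.card (Cfsg.principalBlock M G) = e + (p - 1) / e ∧ ∀ χ ∈ Cfsg.principalBlock M G, ((Cfsg.charDegree (χ : G → ℂ) : ℤ) ≡ 1 [ZMOD p] ∨ (Cfsg.charDegree (χ : G → ℂ) : ℤ) ≡ -1 [ZMOD p] ∨ (Cfsg.charDegree (χ : G → ℂ) : ℤ) ≡ (e : ℤ) [ZMOD p] ∨ (Cfsg.charDegree (χ : G → ℂ) : ℤ) ≡ -(e : ℤ) [ZMOD p]) := by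
  classical
  have : IsCyclic P := isCyclic_of_prime_card hP
  obtain ⟨⟨z, hzP⟩, hz⟩ := IsCyclic.exists_ofOrder_eq_natCard (α := P)
  rw [hP, ← Subgroup.orderOf_coe] at hz
  change orderOf z = p at hz
  have hPz : (P : Subgroup G) = Subgroup.zpowers z := by
    symm
    apply Subgroup.eq_of_le_of_card_ge (Subgroup.zpowers_le.mpr hzP)
    rw [hP, Nat.card_zpowers, hz]
  have hp2 : ¬ p ^ 2 ∣ Nat.card G := by
    intro h
    have h1 := (Nat.Prime.pow_dvd_iff_le_factorization Fact.out Nat.card_pos.ne').mp h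
    have h2 := P.card_eq_multiplicity
    rw [hP] at h2
    have h3 := Nat.pow_right_injective (Fact.out : p.Prime).two_le ((pow_one p).trans h2)
    omega
  obtain ⟨D⟩ := CL.D1.nonempty_data hz hp2
  have he' : Nat.card D.H = e := by
    rw [D.card_H, ← he, hPz, Subgroup.zpowers_eq_closure, Subgroup.centralizer_closure]
  refine ⟨?_, fun χ hχ => ?_⟩
  · rw [D.principalBlock_eq hz hp2 hM]
    simp only [Finset.coe_sort_coe, Nat.card_eq_fintype_card, Fintype.card_coe]
    rw [Finset.card_union_of_disjoint D.disjoint_A_E, D.card_A, D.card_E, ← D.card_H_mul_index,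
      ← he', Nat.mul_div_cancel_left _ D.card_H_pos]
  · change ((CL.Char.deg (χ : G → ℂ) : ℤ) ≡ 1 [ZMOD p] ∨ (CL.Char.deg (χ : G → ℂ) : ℤ) ≡ -1 [ZMOD p] ∨
      (CL.Char.deg (χ : G → ℂ) : ℤ) ≡ e [ZMOD p] ∨ (CL.Char.deg (χ : G → ℂ) : ℤ) ≡ -e [ZMOD p])
    rcases (D.mem_principalBlock_iff hz hp2 hM χ).mp hχ with h | h
    · have h1 := D.deg_A_modEq hz h
      rcases D.δ_sign χ h with h2 | h2 <;> rw [h2] at h1
      · exact Or.inl h1
      · exact Or.inr (Or.inl h1)
    · obtain ⟨a, rfl⟩ := D.mem_E.mp h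
      have h1 := D.deg_θ_modEq hz a
      rw [he'] at h1
      rcases D.ε_sign with h2 | h2 <;> rw [h2] at h1
      · exact Or.inr (Or.inr (Or.inr (by simpa using h1)))
      · exact Or.inr (Or.inr (Or.inl (by simpa using h1)))

end Cfsg.Agent.S0960
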