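import Cfsg.Statements.S0962
import Cfsg.Agent.Base
import Cfsg.Agent.Blocks.DefectCard

set_option autoImplicit false
open Cfsg

namespace Cfsg.Agent.S0962

/-- Fix a maximal ideal M of the algebraic integers containing the prime p and a natural number d. The number of blocks of the finite group G of defect at least d is at most the number of conjugacy classes of p-regular elements of G of defect at least d, where the defect of a class is the exponent of p in the order of the centralizer of any of its elements. -/
theorem result {G : Type*} [Group G] [Finite G] (p : ℕ) [Fact p.Prime] (M : Ideal Cfsg.AlgInt) (hM : Cfsg.IsPModular p M) (d : ℕ) : Nat.card {B : Set (Cfsg.IrrCharacter G) // Cfsg.IsPBlock M B ∧ d ≤ Cfsg.blockDefect p B} ≤ Nat.card {C : ConjClasses G // ∃ g : G, ConjClasses.mk g = C ∧ Cfsg.IsPRegular p g ∧ d ≤ (Nat.card (Subgroup.centralizer ({g} : Set G))).factorization p} := by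
  classical
  have := hM.2.1
  set I := {B : Set (Cfsg.IrrCharacter G) // Cfsg.IsPBlock M B ∧ d ≤ Cfsg.blockDefect p B}
  set J := {C : ConjClasses G // ∃ g : G, ConjClasses.mk g = C ∧ Cfsg.IsPRegular p g ∧
    d ≤ (Nat.card (Subgroup.centralizer ({g} : Set G))).factorization p}
  have := Fintype.ofFinite I
  have : Finite J := Subtype.finite
  have := Fintype.ofFinite J
  choose χ hχ using fun B : I => CL.Blocks.block_nonempty B.2.1
  let v : I → J → CL.Blocks.kM M := fun B C =>
    CL.Blocks.lamK M (χ B) (CL.Blocks.ZA.cls _ (Quotient.out C.1 : G))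
  have hv : LinearIndependent (CL.Blocks.kM M) v := by
    rw [Fintype.linearIndependent_iff]
    intro c hc B₀
    let f : CL.Blocks.ZA (CL.Blocks.kM M) G →ₗ[CL.Blocks.kM M] CL.Blocks.kM M :=
      ∑ B, c B • (CL.Blocks.lamK M (χ B)).toLinearMap
    have hf : ∀ z, f z = ∑ B, c B * CL.Blocks.lamK M (χ B) z := fun z => by
      simp [f, LinearMap.sum_apply]
    have h0 : f (CL.Blocks.eK M B₀.1) = 0 := by
      refine CL.Blocks.ZA.linearMap_apply_eq_zero f _ fun g hg => ?_
      rw [hf]
      by_cases hd : d ≤ (Nat.card (Subgroup.centralizer ({g} : Set G))).factorization p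
      · have h1 := congrFun hc ⟨ConjClasses.mk g, g, rfl,
          CL.Blocks.not_dvd_orderOf_of_co_eK_ne_zero hM B₀.2.1 hg, hd⟩
        simp only [Finset.sum_apply, Pi.smul_apply, smul_eq_mul, Pi.zero_apply, v] at h1
        rwa [CL.Blocks.ZA.cls_eq_of_isConj (CL.Blocks.isConj_out_mk g)] at h1
      · refine Finset.sum_eq_zero fun B _ => ?_
        by_contra h
        exact hd (B.2.2.trans (CL.Blocks.blockDefect_le_of_lamK_cls_ne_zero hM B.2.1 (hχ B)
          (right_ne_zero_of_mul h)))
    rw [hf, Finset.sum_eq_single B₀, CL.Blocks.lamK_eK_of_mem B₀.2.1 (hχ B₀), mul_one] at h0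
    · exact h0
    · intro B _ hB
      rw [CL.Blocks.lamK_eK_of_notMem B₀.2.1, mul_zero]
      exact fun h => hB (Subtype.ext (CL.Blocks.block_eq_of_mem B.2.1 B₀.2.1 (hχ B) h))
    · simp
  have h := hv.fintype_card_le_finrank
  rwa [Module.finrank_fintype_fun_eq_card, ← Nat.card_eq_fintype_card,
    ← Nat.card_eq_fintype_card] at h

end Cfsg.Agent.S0962
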