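import Cfsg.Statements.S0968
import Cfsg.Agent.Base
import Cfsg.Agent.Blocks.NormalDefect

set_option autoImplicit false
open Cfsg

namespace Cfsg.Agent.S0968

/-- Let P be a p-subgroup of the finite group G with P ⊔ C_G(P) = G, and let B be a block with defect group P relative to a maximal ideal M of the algebraic integers containing p. Then there is exactly one θ ∈ B with θ x = θ 1 for all x ∈ P; for this θ the exponent of p in θ(1) equals the exponent of p in the index of P; and the number of members of B equals the number of conjugacy classes of P. -/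
theorem result {G : Type*} [Group G] [Finite G] (p : ℕ) [Fact p.Prime] (M : Ideal Cfsg.AlgInt) (hM : Cfsg.IsPModular p M) (P : Subgroup G) (hP : IsPGroup p P) (hG : P ⊔ Subgroup.centralizer (P : Set G) = ⊤) (B : Set (Cfsg.IrrCharacter G)) (hB : Cfsg.IsPBlock M B) (hD : Cfsg.IsDefectGroup p M B P) : (∃! θ : Cfsg.IrrCharacter G, θ ∈ B ∧ ∀ x ∈ P, (θ : G → ℂ) x = (θ : G → ℂ) 1) ∧ (∀ θ ∈ B, (∀ x ∈ P, (θ : G → ℂ) x = (θ : G → ℂ) 1) → (Cfsg.charDegree (θ : G → ℂ)).factorization p = P.index.factorization p) ∧ Nat.card B = Nat.card (ConjClasses P) := by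
  have := CL.Blocks.normal_of_sup_centralizer hG
  obtain ⟨θ, hθ, hdeg⟩ := CL.Blocks.exists_preimage_eq_singleton hM hG hB hD
  have huniq : ∀ ψ ∈ B, (∀ x ∈ P, (ψ : G → ℂ) x = (ψ : G → ℂ) 1) →
      ψ = CL.Blocks.inflIrr (QuotientGroup.mk' P) (QuotientGroup.mk'_surjective P) θ := by
    intro ψ hψ h
    obtain ⟨η, rfl⟩ := CL.Blocks.exists_inflIrr_eq (QuotientGroup.mk' P)
      (QuotientGroup.mk'_surjective P) ψ (by rwa [QuotientGroup.ker_mk'])
    have h1 : η ∈ ({θ} : Set _) := hθ ▸ hψ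
    rw [Set.mem_singleton_iff.1 h1]
  refine ⟨⟨CL.Blocks.inflIrr (QuotientGroup.mk' P) (QuotientGroup.mk'_surjective P) θ,
    ⟨?_, fun x hx => ?_⟩, fun ψ hψ => huniq ψ hψ.1 hψ.2⟩, fun ψ hψ h => ?_,
    CL.Blocks.card_block_of_sup_centralizer hM hG hB hD⟩
  · have h1 : θ ∈ ({θ} : Set _) := rfl
    rwa [← hθ] at h1
  · exact CL.Blocks.inflIrr_apply_of_mem_ker _ _ θ (by rwa [QuotientGroup.ker_mk'])
  · rw [huniq ψ hψ h, CL.Blocks.charDegree_inflIrr, hdeg]

end Cfsg.Agent.S0968
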