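import Cfsg.Statements.S0969
import Cfsg.Agent.Base
import Cfsg.Agent.Blocks.HeightZero
import Cfsg.Agent.Blocks.RegIndicator

set_option autoImplicit false
open Cfsg

namespace Cfsg.Agent.S0969

open CL.Blocks CL.Char in
theorem card_mul_sum_le {G : Type*} [Group G] [Fintype G] {p : ℕ} [Fact p.Prime]
    {D : Subgroup G} (hD : IsPGroup p D) (hDZ : D ≤ Subgroup.center G) (χ : IrrCharacter G) :
    (Nat.card D : ℝ) * ∑ y with ¬ p ∣ orderOf y, ‖(χ : G → ℂ) y‖ ^ 2 ≤ Nat.card G := by
  classical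
  have hc : ∀ d : D, ∀ g : G, (d : G) * g = g * d := fun d g =>
    (Subgroup.mem_center_iff.1 (hDZ d.2) g).symm
  have hnorm : ∀ (d : D) (y : G), ‖(χ : G → ℂ) (d * y)‖ = ‖(χ : G → ℂ) y‖ := by
    intro d y
    obtain ⟨ω, hω, h⟩ := irr_central_mul' χ.2 (hc d)
    rw [h, norm_mul, Complex.norm_eq_one_of_pow_eq_one hω (orderOf_pos _).ne', one_mul]
  let s : Finset (D × G) := Finset.univ ×ˢ Finset.univ.filter fun y : G => ¬ p ∣ orderOf y
  have hinj : Set.InjOn (fun x : D × G => (x.1 : G) * x.2) s := by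
    rintro ⟨d, y⟩ h ⟨d', y'⟩ h' (he : (d : G) * y = d' * y')
    simp only [s, Finset.coe_product, Set.mem_prod, Finset.mem_coe, Finset.mem_filter] at h h'
    have h1 := isPPart_mul (hc d y) (exists_orderOf_eq_pow_of_mem hD d.2) h.2.2
    have h2 := isPPart_mul (hc d' y') (exists_orderOf_eq_pow_of_mem hD d'.2) h'.2.2
    rw [he] at h1
    have h3 := ppart_unique h1 h2
    rw [h3, mul_right_inj] at he
    exact Prod.ext (Subtype.ext h3) he
  calc (Nat.card D : ℝ) * ∑ y with ¬ p ∣ orderOf y, ‖(χ : G → ℂ) y‖ ^ 2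
      = ∑ x ∈ s, ‖(χ : G → ℂ) ((x.1 : G) * x.2)‖ ^ 2 := by
        rw [Finset.sum_product]
        simp only [hnorm, Finset.sum_const, Finset.card_univ, nsmul_eq_mul,
          Nat.card_eq_fintype_card]
    _ = ∑ g ∈ s.image fun x : D × G => (x.1 : G) * x.2, ‖(χ : G → ℂ) g‖ ^ 2 :=
        (Finset.sum_image (f := fun g => ‖(χ : G → ℂ) g‖ ^ 2) hinj).symm
    _ ≤ ∑ g, ‖(χ : G → ℂ) g‖ ^ 2 :=
        Finset.sum_le_sum_of_subset_of_nonneg (Finset.subset_univ _) fun _ _ _ => by positivity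
    _ = Nat.card G := irr_sum_norm_sq χ.2

open CL.Blocks CL.Char in
theorem not_memLocalIdeal_om_sharp_self {G : Type*} [Group G] [Finite G] {p : ℕ}
    {M : Ideal AlgInt} (hM : IsPModular p M) {D : Subgroup G} (hD : IsPGroup p D)
    (hDZ : D ≤ Subgroup.center G) (χ : IrrCharacter G)
    (hdeg : (charDegree (χ : G → ℂ)).factorization p = D.index.factorization p) :
    ¬ MemLocalIdeal M (om (χ : G → ℂ) (sharp p (χ : G → ℂ))) := by
  classical
  have := hM.2.1
  have : Fact p.Prime := ⟨hM.1⟩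
  have := Fintype.ofFinite G
  set s : ℝ := ∑ y with ¬ p ∣ orderOf y, ‖(χ : G → ℂ) y‖ ^ 2 with hs
  have hG : (Nat.card G : ℂ) ≠ 0 := by exact_mod_cast Nat.card_pos.ne'
  have hχ1 : (χ : G → ℂ) 1 ≠ 0 := by
    rw [← cast_charDegree]; exact_mod_cast (charDegree_pos χ).ne'
  have hsC : (s : ℂ) = ∑ x, if p ∣ orderOf x then 0 else (χ : G → ℂ) x * (χ : G → ℂ) x⁻¹ := by
    rw [hs, Finset.sum_filter, Complex.ofReal_sum]
    refine Finset.sum_congr rfl fun x _ => ?_
    split_ifs
    · simp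
    · rw [← conj_irr_apply, Complex.mul_conj, Complex.normSq_eq_norm_sq]
  have hom : om (χ : G → ℂ) (sharp p (χ : G → ℂ)) = s / (χ : G → ℂ) 1 := by
    rw [om_def, ev_sharp, hsC]
  obtain ⟨n, hn⟩ := gen_inner_int (gen_pRegular_truncation hM.1 (gen_of_irr χ.2))
    (gen_of_irr χ.2)
  have hn' : (n : ℂ) = (p : ℂ) ^ (Nat.card G).factorization p * s / Nat.card G := by
    rw [← hn, classInner, hsC, div_eq_inv_mul]
    congr 1
    rw [Finset.mul_sum]
    refine Finset.sum_congr rfl fun x _ => ?_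
    split_ifs
    · simp
    · rw [conj_irr_apply]
      push_cast
      ring
  obtain ⟨k, hk⟩ := IsPGroup.iff_card.1 hD
  have h1 := factorization_index_add_card (p := p) D
  rw [hk, hM.1.factorization_pow, Finsupp.single_eq_same] at h1
  have hp0 : (p : ℂ) ≠ 0 := p_ne_zero_complex hM
  have hu : MemLocalRing M (((p ^ k * charDegree (χ : G → ℂ) : ℕ) : ℂ) / (Nat.card G : ℕ)) := by
    rw [memLocalRing_natCast_div_natCast hM
      (mul_ne_zero (pow_ne_zero _ hM.1.ne_zero) (charDegree_pos χ).ne') Nat.card_pos.ne',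
      Nat.factorization_mul (pow_ne_zero _ hM.1.ne_zero) (charDegree_pos χ).ne',
      Finsupp.add_apply, hM.1.factorization_pow, Finsupp.single_eq_same]
    omega
  have hm : (n : ℂ) / (p : ℂ) ^ D.index.factorization p =
      ((p ^ k * charDegree (χ : G → ℂ) : ℕ) : ℂ) / (Nat.card G : ℕ) *
        om (χ : G → ℂ) (sharp p (χ : G → ℂ)) := by
    rw [hom, hn', ← h1, Nat.cast_mul, cast_charDegree]
    push_cast
    field_simp
    ring
  have hint := memLocalRing_om (M := M) χ (isCen_sharp_irr (p := p) χ) (intCoeff_sharp_irr χ)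
  obtain ⟨m, rfl⟩ := pow_dvd_of_memLocalRing_div hM (hm ▸ memLocalRing_mul hu hint)
  have hm1 : (m : ℂ) = ((p ^ k * charDegree (χ : G → ℂ) : ℕ) : ℂ) / (Nat.card G : ℕ) *
        om (χ : G → ℂ) (sharp p (χ : G → ℂ)) := by
    rw [← hm]
    push_cast
    field_simp
  have hm2 : (m : ℝ) = (Nat.card D : ℝ) * s / Nat.card G := by
    apply Complex.ofReal_injective
    rw [Complex.ofReal_intCast, hm1, hom, hk, Nat.cast_mul, cast_charDegree]
    push_cast
    field_simp
  have hGpos : (0 : ℝ) < Nat.card G := by exact_mod_cast Nat.card_pos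
  have hle : (m : ℝ) ≤ 1 := by
    rw [hm2, div_le_one hGpos]
    exact card_mul_sum_le hD hDZ χ
  have hpos : (0 : ℝ) < m := by
    rw [hm2]
    refine div_pos (mul_pos (by exact_mod_cast Nat.card_pos) ?_) hGpos
    refine Finset.sum_pos' (fun _ _ => by positivity) ⟨1, ?_, by positivity⟩
    simpa using hM.1.one_lt.ne'
  have hm3 : m = 1 := by
    have h2 : m ≤ 1 := by exact_mod_cast hle
    have h3 : 0 < m := by exact_mod_cast hpos
    omega
  intro h
  have h4 := memLocalIdeal_mul_left hu h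
  rw [← hm1, hm3, Int.cast_one] at h4
  exact not_memLocalIdeal_one h4

/-- Let D be a central p-subgroup of the finite group G and χ an irreducible character with the exponent of p in χ(1) equal to the exponent of p in the index of D; fix a maximal ideal M of the algebraic integers containing p. Then D is a defect group of the block of χ, and χ g = 0 whenever the p-part of g does not lie in D. -/
theorem result {G : Type*} [Group G] [Finite G] (p : ℕ) [Fact p.Prime] (M : Ideal Cfsg.AlgInt) (hM : Cfsg.IsPModular p M) (D : Subgroup G) (hD : IsPGroup p D) (hDZ : D ≤ Subgroup.center G) (χ : Cfsg.IrrCharacter G) (hdeg : (Cfsg.charDegree (χ : G → ℂ)).factorization p = D.index.factorization p) : Cfsg.IsDefectGroup p M (Cfsg.blockOf M (χ : G → ℂ)) D ∧ ∀ g x : G, Cfsg.IsPPart p g x → x ∉ D → (χ : G → ℂ) g = 0 := by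
  have := hM.2.1
  have hB := CL.Blocks.isPBlock_blockOf (M := M) χ
  have hχ := CL.Blocks.self_mem_blockOf (M := M) χ
  have hN : D.Normal := ⟨fun n hn g => by
    rwa [Subgroup.mem_center_iff.1 (hDZ hn) g, mul_inv_cancel_right]⟩
  have h0 := (CL.Blocks.mem_and_height_of_not_memLocalIdeal_om_sharp hM hB hχ
    (not_memLocalIdeal_om_sharp_self hM hD hDZ χ hdeg)).2
  rw [CL.Blocks.blockHeight_eq_zero_iff_defect hχ] at h0
  obtain ⟨P, hP⟩ := CL.Blocks.exists_isDefectGroup p hB
  have hDP := CL.Blocks.le_of_isDefectGroup_of_normal hM hB hD hP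
  have h1 := CL.Blocks.factorization_index_add_card (p := p) D
  obtain ⟨k, hk⟩ := IsPGroup.iff_card.1 hD
  rw [hk, hM.1.factorization_pow, Finsupp.single_eq_same] at h1
  have h2 : D = P := by
    refine Subgroup.eq_of_le_of_card_ge hDP ?_
    rw [CL.Blocks.card_defectGroup_eq_pow hM hB hP, hk]
    exact Nat.pow_le_pow_right hM.1.pos (by omega)
  subst h2
  refine ⟨hP, fun g x hx hxD => ?_⟩
  by_contra h
  exact hxD (CL.Blocks.mem_defectGroup_of_ne_zero_of_normal hM hB hP hχ hx h)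

end Cfsg.Agent.S0969
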