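import Cfsg.Statements.S0970
import Cfsg.Agent.Base
import Cfsg.Agent.Blocks.NormalFong
import Cfsg.Agent.Solv.Core
import Cfsg.Agent.S0908
import Cfsg.Agent.S0911

set_option autoImplicit false
open Cfsg

namespace Cfsg.Agent.S0970

open CL.Blocks CL.Char in
/-- The key step: `P` is a Sylow subgroup of the centralizer of an element `n ∈ N` on which the
idempotent of `b` has a unit coefficient and the induced central character is a unit. -/
theorem exists_class {G : Type*} [Group G] [Fintype G] (p : ℕ) [Fact p.Prime]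
    (M : Ideal Cfsg.AlgInt) (hM : Cfsg.IsPModular p M) (N : Subgroup G) [hN : N.Normal] [Fintype N]
    (b : Set (Cfsg.IrrCharacter N)) (hb : Cfsg.IsPBlock M b)
    (hinv : ∀ g : G, ∀ θ ∈ b, cIrr g θ ∈ b)
    (B : Set (Cfsg.IrrCharacter G)) (hB : Cfsg.IsPBlock M B) (hcov : Covers B b)
    (hmax : ∀ B' : Set (Cfsg.IrrCharacter G), Cfsg.IsPBlock M B' → Covers B' b →
      Cfsg.blockDefect p B' ≤ Cfsg.blockDefect p B)
    (P : Subgroup G) (hP : Cfsg.IsDefectGroup p M B P) {θ : Cfsg.IrrCharacter N} (hθ : θ ∈ b) :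
    ∃ n : N, IsSylowIn p P (Subgroup.centralizer ({(n : G)} : Set G)) ∧
      ¬ MemLocalIdeal M (blockCoeff b n) ∧
      ¬ MemLocalIdeal M (inducedCentralChar N (θ : N → ℂ) n) := by
  classical
  have := hM.2.1
  obtain ⟨χ, hχ⟩ := block_nonempty hB
  obtain ⟨η, hη, h1⟩ := hcov.exists_inner hB hb hχ
  have hc := isCen_incl_idem hinv
  obtain ⟨g, hg1, hg2⟩ := exists_coeff_centralChar_of_om hc (intCoeff_idem hb).incl (χ := χ)
    (by rw [om_incl_idem_of_mem hinv χ h1 hη]; exact not_memLocalIdeal_one)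
  have hgN : g ∈ N := by
    by_contra h
    rw [coeff_incl_of_notMem N _ h] at hg1
    exact hg1 memLocalIdeal_zero
  -- a covering block `B'` for which `g` is a defect class
  have hA : ∀ ψ ∈ {χ : IrrCharacter G | ∃ θ ∈ b, classInner (fun n : N => (χ : G → ℂ) n) θ ≠ 0},
      ∀ φ : IrrCharacter G, SameBlock M (ψ : G → ℂ) (φ : G → ℂ) →
      φ ∈ {χ : IrrCharacter G | ∃ θ ∈ b, classInner (fun n : N => (χ : G → ℂ) n) θ ≠ 0} := by
    intro ψ hψ φ h
    have h2 : Covers (blockOf M (ψ : G → ℂ)) b := ⟨ψ, self_mem_blockOf ψ, hψ⟩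
    exact h2.exists_inner (isPBlock_blockOf ψ) hb h
  have hg3 := hg1
  rw [incl_idem_eq_idem_over hinv, idem_eq_sum_blocks_of_closed hA, coeff_sum_apply] at hg3
  obtain ⟨B', hB', hg4⟩ := exists_not_memLocalIdeal_of_sum _ hg3
  rw [Finset.mem_filter, mem_blocks] at hB'
  obtain ⟨χ', hχ'⟩ := block_nonempty hB'.1
  have hcov' : Covers B' b := ⟨χ', hχ', hB'.2 hχ'⟩
  have hind : ¬ MemLocalIdeal M (inducedCentralChar N (θ : N → ℂ) g) := by
    rwa [← memLocalIdeal_congr (hcov.memLocalIdeal_sub hB hb hχ hθ hgN)]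
  have hdef : IsDefectClass M B' g := isDefectClass_of_mem hB'.1 hg4 hχ'
    (by rwa [memLocalIdeal_congr (hcov'.memLocalIdeal_sub hB'.1 hb hχ' hθ hgN)])
  have hcardP := Cfsg.Agent.S0908.result p M hM B hB P hP
  obtain ⟨g₀, hg₀, S, rfl⟩ := hP
  obtain ⟨x, Q, hQ⟩ := (Cfsg.Agent.S0911.result p M hM B hB g₀ hg₀ S g).2 ⟨χ, hχ, hg2⟩
  have hcardQ := Cfsg.Agent.S0908.result p M hM B' hB'.1 _ ⟨g, hdef, Q, rfl⟩
  set P := (S : Subgroup (Subgroup.centralizer ({g₀} : Set G))).map
    (Subgroup.centralizer ({g₀} : Set G)).subtype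
  have heq : P.map (MulAut.conj x).toMonoidHom = _ := Subgroup.eq_of_le_of_card_ge hQ (by
    rw [hcardQ, Subgroup.card_map_of_injective (MulAut.conj x).injective, hcardP]
    exact Nat.pow_le_pow_right hM.1.pos (hmax B' hB'.1 hcov'))
  have hS : IsSylowIn p (P.map (MulAut.conj x).toMonoidHom) (Subgroup.centralizer ({g} : Set G)) :=
    heq ▸ IsSylowIn.of_sylow Q
  have hS' := hS.map_conj x⁻¹
  rw [map_conj_map_conj, inv_mul_cancel, ← centralizer_singleton_conj,
    map_conj_eq_iff_mem_normalizer.2 (one_mem _)] at hS'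
  refine ⟨⟨x⁻¹ * g * x⁻¹⁻¹, hN.conj_mem g hgN x⁻¹⟩, hS', ?_, ?_⟩
  · rw [← coeff_idem, ← coeff_incl_coe, hc g x⁻¹]
    exact hg1
  · rw [← om_trunc_classSum, ← classSum_eq_of_isConj (isConj_iff.2 ⟨x⁻¹, rfl⟩), om_trunc_classSum]
    exact hind

/-- Let N be a normal subgroup of the finite group G and fix a maximal ideal M of the algebraic integers containing the prime p. Let b be a block of N that is invariant under conjugation by G, and B a block of G covering b (some χ ∈ B has a constituent in b) whose defect is at least that of every block covering b. If P is a defect group of B, then p does not divide the index of P ⊔ N, the subgroup P ∩ N of N is a defect group of b, and the defect of B equals the defect of b plus the exponent of p in the index of N. -/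
theorem result {G : Type*} [Group G] [Fintype G] (p : ℕ) [Fact p.Prime] (M : Ideal Cfsg.AlgInt) (hM : Cfsg.IsPModular p M) (N : Subgroup G) [hN : N.Normal] [Fintype N] (b : Set (Cfsg.IrrCharacter N)) (hb : Cfsg.IsPBlock M b) (hinv : ∀ g : G, ∀ θ ∈ b, ∀ θ' : Cfsg.IrrCharacter N, (∀ n : N, (θ' : N → ℂ) n = (θ : N → ℂ) ⟨g * n * g⁻¹, hN.conj_mem n n.2 g⟩) → θ' ∈ b) (B : Set (Cfsg.IrrCharacter G)) (hB : Cfsg.IsPBlock M B) (hcov : ∃ χ ∈ B, ∃ θ ∈ b, Cfsg.classInner (fun n : N => (χ : G → ℂ) n) (θ : N → ℂ) ≠ 0) (hmax : ∀ B' : Set (Cfsg.IrrCharacter G), Cfsg.IsPBlock M B' → (∃ χ ∈ B', ∃ θ ∈ b, Cfsg.classInner (fun n : N => (χ : G → ℂ) n) (θ : N → ℂ) ≠ 0) → Cfsg.blockDefect p B' ≤ Cfsg.blockDefect p B) (P : Subgroup G) (hP : Cfsg.IsDefectGroup p M B P) : ¬ p ∣ (P ⊔ N).index ∧ Cfsg.IsDefectGroup p M b ((P ⊓ N).subgroupOf N) ∧ Cfsg.blockDefect p B = Cfsg.blockDefect p b + N.index.factorization p := by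
  classical
  have := hM.2.1
  have hinv' : ∀ g : G, ∀ θ ∈ b, CL.Blocks.cIrr g θ ∈ b := fun g θ hθ => hinv g θ hθ _ fun _ => rfl
  obtain ⟨θ, hθ⟩ := CL.Blocks.block_nonempty hb
  obtain ⟨n, hS, h1, h2⟩ := exists_class p M hM N b hb hinv' B hB hcov hmax P hP hθ
  rw [CL.Blocks.memLocalIdeal_congr
    (CL.Blocks.memLocalIdeal_induced_sub_card_fused_mul hb hinv' hθ n)] at h2
  have ht : ¬ p ∣ (CL.Blocks.fusedClasses N (n : G)).card := fun h => h2
    (CL.Blocks.memLocalIdeal_mul_right ((CL.Blocks.memLocalIdeal_natCast hM).2 h)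
      (CL.Blocks.memLocalRing_centralChar θ n))
  have h3 : ¬ MemLocalIdeal M (centralChar (θ : N → ℂ) n) := fun h => h2
    (CL.Blocks.memLocalIdeal_mul_left (CL.Blocks.memLocalRing_natCast _) h)
  have hS' := hS.inf_subgroupOf_centralizer
  have hdef : IsDefectGroup p M b ((P ⊓ N).subgroupOf N) := by
    obtain ⟨S, hS⟩ := hS'
    exact ⟨n, CL.Blocks.isDefectClass_of_mem hb h1 hθ h3, S, hS.symm⟩
  have hcP := Cfsg.Agent.S0908.result p M hM B hB P hP
  have hcQ := Cfsg.Agent.S0908.result p M hM b hb _ hdef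
  have e1 : blockDefect p B = (Nat.card (Subgroup.centralizer ({(n : G)} : Set G))).factorization p :=
    Nat.pow_right_injective hM.1.two_le (hcP.symm.trans hS.card_eq)
  have e2 : blockDefect p b = (Nat.card (Subgroup.centralizer ({n} : Set N))).factorization p :=
    Nat.pow_right_injective hM.1.two_le (hcQ.symm.trans hS'.card_eq)
  have hfac : ∀ {H : Type _} [Group H] [Finite H] (K : Subgroup H),
      (Nat.card K).factorization p + K.index.factorization p = (Nat.card H).factorization p := by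
    intro H _ _ K
    rw [← K.card_mul_index, Nat.factorization_mul Nat.card_pos.ne' K.index_ne_zero_of_finite]
    rfl
  have e3 := hfac (Subgroup.centralizer ({(n : G)} : Set G))
  have e4 := hfac (Subgroup.centralizer ({n} : Set N))
  have e5 := hfac N
  have e6 := hfac (P ⊔ N)
  have e7 : (Subgroup.centralizer ({(n : G)} : Set G)).index.factorization p =
      (Subgroup.centralizer ({n} : Set N)).index.factorization p := by
    rw [← CL.Blocks.card_fused_mul_index n, Nat.factorization_mul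
      (fun h : (CL.Blocks.fusedClasses N (n : G)).card = 0 => ht (h ▸ dvd_zero p))
      Subgroup.index_ne_zero_of_finite, Finsupp.add_apply, Nat.factorization_eq_zero_of_not_dvd ht,
      zero_add]
  have e8 := congrArg (fun m : ℕ => m.factorization p) (CL.card_sup_mul_card_inf P N)
  rw [Nat.factorization_mul Nat.card_pos.ne' Nat.card_pos.ne',
    Nat.factorization_mul Nat.card_pos.ne' Nat.card_pos.ne', Finsupp.add_apply, Finsupp.add_apply,
    ← CL.card_subgroupOf_eq_of_le (inf_le_right : P ⊓ N ≤ N), hcP, hcQ, hM.1.factorization_pow,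
    hM.1.factorization_pow, Finsupp.single_eq_same, Finsupp.single_eq_same] at e8
  refine ⟨fun h => ?_, hdef, by omega⟩
  have := (hM.1.dvd_iff_one_le_factorization Subgroup.index_ne_zero_of_finite).1 h
  omega

end Cfsg.Agent.S0970
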