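import Cfsg.Statements.S0972
import Cfsg.Agent.Base
import Cfsg.Agent.Blocks.NormalDefect
import Cfsg.Agent.Char.Ito
import Cfsg.Agent.S0187
import Cfsg.Agent.S0908

set_option autoImplicit false
open Cfsg

namespace Cfsg.Agent.S0972

/-- Let B be a block of the finite group G (relative to a maximal ideal M of the algebraic integers containing the prime p) with a defect group P that is normal in G. Then P is commutative if and only if every member of B has height zero. -/
theorem result {G : Type*} [Group G] [Finite G] (p : ℕ) [Fact p.Prime] (M : Ideal Cfsg.AlgInt) (hM : Cfsg.IsPModular p M) (B : Set (Cfsg.IrrCharacter G)) (hB : Cfsg.IsPBlock M B) (P : Subgroup G) [P.Normal] (hP : Cfsg.IsDefectGroup p M B P) : (∀ a ∈ P, ∀ c ∈ P, a * c = c * a) ↔ ∀ χ ∈ B, Cfsg.blockHeight p B (χ : G → ℂ) = 0 := by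
  have := hM.2.1
  have hcard := Cfsg.Agent.S0908.result p M hM B hB P hP
  have h3 := congrArg (fun n => n.factorization p) (Subgroup.card_mul_index P)
  simp only [Nat.factorization_mul Nat.card_pos.ne' Subgroup.index_ne_zero_of_finite,
    Finsupp.add_apply] at h3
  rw [hcard, Nat.Prime.factorization_pow hM.1, Finsupp.single_eq_same] at h3
  refine ⟨fun h χ hχ => ?_, fun h => ?_⟩
  · have h1 : Cfsg.charDegree (χ : G → ℂ) ∣ P.index := CL.Char.irr_deg_dvd_index_of_comm χ.2 P h
    have h2 := (Nat.factorization_le_iff_dvd (CL.Blocks.charDegree_pos χ).ne'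
      Subgroup.index_ne_zero_of_finite).2 h1 p
    have h4 := CL.Blocks.factorization_charDegree_add_blockDefect (p := p) hχ
    omega
  · let := Fintype.ofFinite P
    have key : ∀ α : Cfsg.IrrCharacter P, (α : P → ℂ) 1 = 1 := by
      intro α
      obtain ⟨y, hy, hS⟩ := CL.Blocks.isDefectGroup_iff.1 hP
      obtain ⟨k, hk⟩ := CL.Char.irr_deg_eq_pow_of_isPGroup hS.isPGroup α.2
      rw [← CL.Char.irr_cast_deg α.2, hk]
      rcases k with _ | k
      · simp
      exfalso
      obtain ⟨ψ, hψ, h1⟩ := CL.Blocks.exists_mem_over_of_isDefectGroup hM hB hP α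
      have h2 := CL.Blocks.memLocalIdeal_apply_of_over (M := M) h1 (by
        rw [← CL.Char.irr_cast_deg α.2, hk, CL.Blocks.memLocalIdeal_natCast hM]
        exact dvd_pow_self p k.succ_ne_zero) (CL.Blocks.le_centralizer_singleton_iff.1 hS.le)
      refine hy.2.2 ψ hψ ?_
      rw [Cfsg.centralChar, ← CL.Blocks.cast_charDegree, mul_div_right_comm]
      refine CL.Blocks.memLocalIdeal_mul_left ?_ h2
      rw [CL.Blocks.memLocalRing_natCast_div_natCast hM Subgroup.index_ne_zero_of_finite
        (CL.Blocks.charDegree_pos ψ).ne']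
      have h4 := (CL.Blocks.blockHeight_eq_zero_iff_defect hψ).1 (h ψ hψ)
      have h5 := congrArg (fun n => n.factorization p)
        (Subgroup.card_mul_index (Subgroup.centralizer ({y} : Set G)))
      simp only [Nat.factorization_mul Nat.card_pos.ne' Subgroup.index_ne_zero_of_finite,
        Finsupp.add_apply] at h5
      have h6 := Nat.pow_right_injective hM.1.two_le (hcard.symm.trans hS.card_eq)
      omega
    intro a ha c hc
    exact congrArg Subtype.val (Cfsg.Agent.S0187.result.2 key ⟨a, ha⟩ ⟨c, hc⟩)

end Cfsg.Agent.S0972
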