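import Cfsg.Agent.Base
import Cfsg.Statements.S1230
import Cfsg.Agent.TwoFus.SEElem3
import Cfsg.Agent.S0727

set_option autoImplicit false
open Cfsg

namespace Cfsg.Agent.S1230

open CL.SE CL.SE.Elem in
theorem card_quot {G : Type*} [Group G] [Finite G] {T : Sylow 2 G} (h : Hyp T) :
    Nat.card (G ⧸ NT T) = Nat.card T + 1 := by
  classical
  obtain ⟨u, huH, hu⟩ := exists_ord2_not_mem h.isSE
  have hb := ne_one_iff.2 huH
  have e : ↥(T : Subgroup G) ≃ {x : G ⧸ NT T // x ≠ QuotientGroup.mk 1} := by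
    refine Equiv.ofBijective (fun t => ⟨t.1 • QuotientGroup.mk u, ?_⟩) ⟨?_, ?_⟩
    · rw [← smul_one_iff.2 (le_NT T t.2)]
      exact fun e => hb (smul_left_cancel _ e)
    · intro s t hst
      have hst' : s.1 • (QuotientGroup.mk u : G ⧸ NT T) = t.1 • QuotientGroup.mk u :=
        congrArg Subtype.val hst
      have ht : t.1 • (QuotientGroup.mk u : G ⧸ NT T) ≠ QuotientGroup.mk 1 := by
        rw [← smul_one_iff.2 (le_NT T t.2)]
        exact fun e => hb (smul_left_cancel _ e)
      exact Subtype.ext ((h.regular _ _ hb ht).unique ⟨s.2, hst'⟩ ⟨t.2, rfl⟩)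
    · rintro ⟨y, hy⟩
      obtain ⟨t, ⟨ht, hty⟩, -⟩ := h.regular _ _ hb hy
      exact ⟨⟨t, ht⟩, Subtype.ext hty⟩
  have := Fintype.ofFinite (G ⧸ NT T)
  have h1 := Fintype.card_subtype_compl (fun x : G ⧸ NT T => x = QuotientGroup.mk 1)
  rw [Fintype.card_subtype_eq] at h1
  have h2 : Nat.card T = Nat.card {x : G ⧸ NT T // x ≠ QuotientGroup.mk 1} := Nat.card_congr e
  rw [h2, Nat.card_eq_fintype_card, Nat.card_eq_fintype_card, h1]
  have : 0 < Fintype.card (G ⧸ NT T) := Fintype.card_pos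
  omega

theorem pgl_equiv_psl (F : Type) [Field F] [Fintype F] {f : ℕ} (hf : 1 ≤ f)
    (hF : Fintype.card F = 2 ^ f) :
    Nonempty (Matrix.ProjGenLinGroup (Fin 2) F ≃* Matrix.ProjectiveSpecialLinearGroup (Fin 2) F) := by
  refine ⟨(MulEquiv.ofBijective Matrix.ProjectiveSpecialLinearGroup.toPGL
    ⟨Matrix.ProjectiveSpecialLinearGroup.toPGL_injective,
    Matrix.ProjectiveSpecialLinearGroup.toPGL_surj_of_roots fun r => ?_⟩).symm⟩
  have hodd : (Nat.card Fˣ).Coprime 2 := by
    rw [Nat.card_units, Nat.card_eq_fintype_card, hF, Nat.coprime_two_right]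
    apply Nat.Even.sub_odd Nat.one_le_two_pow
    · exact (Nat.even_pow' (by omega)).2 even_two
    · exact odd_one
  exact ⟨(powCoprime hodd).symm r, by simpa using (powCoprime hodd).apply_symm_apply r⟩


/-- Let G be a finite group with a Sylow 2-subgroup T that is neither cyclic nor normal, such that the centralizer of every involution is an elementary abelian 2-group. Then G ≅ PSL(2,F) for a finite field F with |F| = |T|. -/
theorem result {G : Type*} [Group G] [Finite G] (T : Sylow 2 G) (hnc : ¬ IsCyclic (T : Subgroup G)) (hnn : ¬ (T : Subgroup G).Normal) (hC : ∀ t : G, orderOf t = 2 → IsMulCommutative (Subgroup.centralizer ({t} : Set G)) ∧ ∀ c ∈ Subgroup.centralizer ({t} : Set G), c ^ 2 = 1) : ∃ (F : Type) (_ : Field F) (_ : Fintype F), Fintype.card F = Nat.card T ∧ Nonempty (G ≃* Matrix.ProjectiveSpecialLinearGroup (Fin 2) F) := by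
  classical
  have h := CL.SE.Elem.Hyp.mk hnc hnn hC
  have := h.nontrivial
  obtain ⟨f, hf0, hf⟩ := T.isPGroup'.nontrivial_iff_card.1 this
  have := Fintype.ofFinite (G ⧸ CL.SE.Elem.NT T)
  have hcard : Fintype.card (G ⧸ CL.SE.Elem.NT T) = 2 ^ f + 1 := by
    rw [← Nat.card_eq_fintype_card, card_quot h, ← hf]
  let φ := MulAction.toPermHom G (G ⧸ CL.SE.Elem.NT T)
  have hsh : ∀ (g : G) (x : Fin 3 ↪ G ⧸ CL.SE.Elem.NT T), (∀ i, g • x i = x i) → g = 1 := by
    intro g x hx
    exact h.sharp g (x 0) (x 1) (x 2) (x.injective.ne (by decide)) (x.injective.ne (by decide))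
      (x.injective.ne (by decide)) (hx 0) (hx 1) (hx 2)
  have hφ : Function.Injective φ := by
    rw [injective_iff_map_eq_one]
    intro g hg
    have h3 : Fintype.card (Fin 3) ≤ Fintype.card (G ⧸ CL.SE.Elem.NT T) := by
      rw [hcard, Fintype.card_fin]
      have : 2 ^ 1 ≤ 2 ^ f := Nat.pow_le_pow_right (by norm_num) hf0
      omega
    obtain ⟨x⟩ := Function.Embedding.nonempty_of_card_le h3
    exact hsh g x fun i => by simpa [φ] using congrArg (fun σ => σ (x i)) hg
  obtain ⟨F, _, _, hF, ⟨e⟩⟩ := Cfsg.Agent.S0727.result hf0 hcard φ.range (by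
    rw [MulAction.isMultiplyPretransitive_iff]
    intro x y
    obtain ⟨g, h0, h1, h2⟩ := h.three_trans (x 0) (x 1) (x 2) (y 0) (y 1) (y 2)
      (x.injective.ne (by decide)) (x.injective.ne (by decide)) (x.injective.ne (by decide))
      (y.injective.ne (by decide)) (y.injective.ne (by decide)) (y.injective.ne (by decide))
    refine ⟨⟨φ g, g, rfl⟩, ?_⟩
    ext i
    fin_cases i
    · exact h0
    · exact h1
    · exact h2) (by
    intro x
    rw [eq_bot_iff]
    rintro ⟨_, g, rfl⟩ hg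
    have : g = 1 := hsh g x fun i => congrArg (fun y : Fin 3 ↪ _ => y i) hg
    subst this
    exact Subgroup.mem_bot.2 (Subtype.ext (map_one φ)))
  obtain ⟨e'⟩ := pgl_equiv_psl F hf0 hF
  exact ⟨F, inferInstance, inferInstance, by rw [hF, ← hf],
    ⟨((MonoidHom.ofInjective hφ).trans e).trans e'⟩⟩

end Cfsg.Agent.S1230
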