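import Cfsg.Agent.Base
import Cfsg.Statements.S0981
import Cfsg.Agent.Small.Count2
import Cfsg.Agent.Small.O168c
import Cfsg.Agent.S1230
import Cfsg.Agent.Lin.Card

set_option autoImplicit false
open Cfsg

namespace Cfsg.Agent.S0981

set_option linter.unusedSectionVars false

open CL.SG Subgroup

theorem fact17 : Fact (Nat.Prime 17) := ⟨by norm_num⟩
theorem fact5 : Fact (Nat.Prime 5) := ⟨by norm_num⟩

attribute [local instance] fact17 fact5

section

variable {G : Type*} [Group G] [Finite G] [IsSimpleGroup G] (h : Nat.card G = 4080)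
include h

theorem card17 (P : Sylow 17 G) : Nat.card (P : Subgroup G) = 17 :=
  card_sylow_of_eq P (k := 1) (m := 240) (h.trans (by norm_num)) (by norm_num)

theorem card5 (P : Sylow 5 G) : Nat.card (P : Subgroup G) = 5 :=
  card_sylow_of_eq P (k := 1) (m := 816) (h.trans (by norm_num)) (by norm_num)

theorem card3 (P : Sylow 3 G) : Nat.card (P : Subgroup G) = 3 :=
  card_sylow_of_eq P (k := 1) (m := 1360) (h.trans (by norm_num)) (by norm_num)

theorem prime_data {p : ℕ} [hp : Fact p.Prime] (P : Sylow p G)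
    (hP : Nat.card (P : Subgroup G) = p) (hp' : p ≠ 4080) : ∃ m c : ℕ, m ≠ 1 ∧ m ∣ p - 1 ∧
      Nat.card (centralizer ((P : Subgroup G) : Set G)) = p * c ∧
      Nat.card (normalizer ((P : Subgroup G) : Set G)) = p * c * m ∧
      Nat.card (Sylow p G) * (p * c * m) = 4080 ∧ Nat.card (Sylow p G) % p = 1 ∧
      Nat.card (Sylow p G) ≠ 1 := by
  have : IsCyclic (P : Subgroup G) := isCyclic_of_prime_card hP
  have hb : (P : Subgroup G) ≠ ⊥ := ne_bot_of_card (by rw [hP]; exact hp.out.one_lt.ne')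
  have ht : (P : Subgroup G) ≠ ⊤ := ne_top_of_card (by rw [hP, h]; exact hp')
  obtain ⟨m, h1, h2, -, -, h3⟩ := exists_card_normalizer_sylow P hb ht inferInstance
  rw [IsCyclic.card_mulAut, hP, Nat.totient_prime hp.out] at h2
  have h4 := card_sylow_mul_card_normalizer P
  have h5 := card_sylow_modEq_one p G
  obtain ⟨c, hc⟩ := card_dvd_of_le (le_centralizer (P : Subgroup G))
  rw [hP] at hc
  rw [hc] at h3
  rw [h3, h] at h4
  exact ⟨m, c, h1, h2, hc, h3, h4, (Nat.mod_eq_of_modEq h5 hp.out.one_lt),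
    card_sylow_ne_one P hb ht⟩

theorem seventeen (P : Sylow 17 G) : Nat.card (Sylow 17 G) = 120 ∧
    Nat.card (centralizer ((P : Subgroup G) : Set G)) = 17 := by
  obtain ⟨m, c, h1, h2, h3, -, h4, h5, h6⟩ := prime_data h P (card17 h P) (by norm_num)
  rw [h3]
  generalize Nat.card (Sylow 17 G) = n at *
  have h8 : n * (c * m) = 240 := by nlinarith
  have h9 : n ∣ 240 := ⟨_, h8.symm⟩
  have := Nat.le_of_dvd (by norm_num) h9
  have h10 : n = 120 := by interval_cases n <;> omega
  subst h10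
  have h11 : m ∣ 2 := ⟨c, by nlinarith⟩
  have := Nat.le_of_dvd (by norm_num) h11
  interval_cases m <;> omega

theorem not_dvd17 {g : G} (h1 : ¬ orderOf g ∣ 17) :
    ¬ 17 ∣ Nat.card (centralizer ({g} : Set G)) := by
  intro h7
  obtain ⟨P⟩ : Nonempty (Sylow 17 G) := inferInstance
  obtain ⟨x, hx, hx7⟩ := exists_orderOf_eq_mem _ 17 h7
  have := orderOf_dvd_card_of_mem (mem_centralizer_comm.mp hx)
  rw [card_centralizer_of_orderOf P (card17 h P) hx7, (seventeen h P).2] at this
  exact h1 this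

theorem ncard17 : {g : G | orderOf g = 17}.ncard = 1920 := by
  obtain ⟨P⟩ : Nonempty (Sylow 17 G) := inferInstance
  rw [ncard_orderOf_eq_prime P (card17 h P), (seventeen h P).1]

theorem ncard3 : {g : G | 3 ∣ orderOf g}.ncard = 1360 := by
  obtain ⟨P⟩ : Nonempty (Sylow 3 G) := inferInstance
  obtain ⟨m, c, h1, h2, h3, -, h4, -⟩ := prime_data h P (card3 h P) (by norm_num)
  have h5 := ncard_dvd_orderOf P (card3 h P)
  rw [h3] at h5
  have := Nat.le_of_dvd (by norm_num) h2
  interval_cases m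
  · omega
  · omega
  · nlinarith

theorem ncard5 : 816 ≤ {g : G | 5 ∣ orderOf g}.ncard := by
  obtain ⟨P⟩ : Nonempty (Sylow 5 G) := inferInstance
  obtain ⟨m, c, h1, h2, h3, -, h4, -⟩ := prime_data h P (card5 h P) (by norm_num)
  have h5 := ncard_dvd_orderOf P (card5 h P)
  rw [h3] at h5
  have := Nat.le_of_dvd (by norm_num) h2
  nlinarith

theorem exists_fifteen : ∃ x y : G, orderOf x = 5 ∧ orderOf y = 3 ∧ x * y = y * x := by
  by_contra hne
  have h3 := Set.ncard_le_card (({g : G | orderOf g = 17} ∪ {g : G | 3 ∣ orderOf g}) ∪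
    {g : G | 5 ∣ orderOf g})
  have := ncard5 h
  rw [Set.ncard_union_eq, Set.ncard_union_eq, ncard17 h, ncard3 h, h] at h3
  · omega
  · rw [Set.disjoint_left]
    rintro g hg hg'
    simp only [Set.mem_ofPred_eq] at hg hg'
    omega
  · rw [Set.disjoint_left]
    rintro g (hg | hg) hg'
    · simp only [Set.mem_ofPred_eq] at hg hg'
      omega
    · obtain ⟨i, hi⟩ := exists_pow_orderOf_eq hg'
      obtain ⟨j, hj⟩ := exists_pow_orderOf_eq hg
      exact hne ⟨_, _, hi, hj, (Commute.pow_pow_self g i j).eq⟩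

theorem five (P : Sylow 5 G) : Nat.card (Sylow 5 G) = 136 ∧
    Nat.card (centralizer ((P : Subgroup G) : Set G)) = 15 ∧
    Nat.card (normalizer ((P : Subgroup G) : Set G)) = 30 := by
  obtain ⟨x, y, hx, hy, hxy⟩ := exists_fifteen h
  obtain ⟨m, c, h1, h2, h3, h7, h4, h5, h6⟩ := prime_data h P (card5 h P) (by norm_num)
  have h8 := not_dvd17 h (g := x) (by rw [hx]; norm_num)
  have h9 := orderOf_dvd_card_of_mem (mem_centralizer_singleton_iff.mpr hxy.symm)
  rw [card_centralizer_of_orderOf P (card5 h P) hx, h3] at h8 h9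
  rw [hy] at h9
  rw [h3, h7]
  generalize Nat.card (Sylow 5 G) = n at *
  obtain ⟨d, rfl⟩ : 3 ∣ c := by omega
  have h10 : d ∣ 16 * 17 := ⟨n * m, by nlinarith⟩
  have h11 : d ∣ 16 := Nat.Coprime.dvd_of_dvd_mul_right
    ((fact17.out.coprime_iff_not_dvd.mpr (by omega)).symm) h10
  have := Nat.le_of_dvd (by norm_num) h11
  have := Nat.le_of_dvd (by norm_num) h2
  interval_cases d <;> interval_cases m <;> omega

theorem three (Q : Sylow 3 G) : Nat.card (centralizer ((Q : Subgroup G) : Set G)) = 15 := by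
  obtain ⟨x, y, hx, hy, hxy⟩ := exists_fifteen h
  obtain ⟨m, c, h1, h2, h3, -, h4, h5, h6⟩ := prime_data h Q (card3 h Q) (by norm_num)
  have h8 := not_dvd17 h (g := y) (by rw [hy]; norm_num)
  have hxC : x ∈ centralizer ({y} : Set G) := mem_centralizer_singleton_iff.mpr hxy
  have h9 := orderOf_dvd_card_of_mem hxC
  obtain ⟨P, hP⟩ := exists_sylow_eq_zpowers (Classical.arbitrary (Sylow 5 G)) (card5 h _) hx
  have hle : (P : Subgroup G) ≤ centralizer ({y} : Set G) := hP ▸ zpowers_le.mpr hxC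
  have h10 := card_sylow_mul_card_normalizer (P.subtype hle)
  rw [Sylow.coe_subtype, CL.O168.normalizer_subgroupOf_card hle] at h10
  have h11 := card_sylow_modEq_one 5 (centralizer ({y} : Set G))
  have h12 := card_dvd_of_le (inf_le_left :
    normalizer ((P : Subgroup G) : Set G) ⊓ centralizer ({y} : Set G) ≤ _)
  rw [(five h P).2.2] at h12
  have h13 : y ∈ normalizer ((P : Subgroup G) : Set G) ⊓ centralizer ({y} : Set G) := by
    refine ⟨centralizer_le_normalizer _ ?_, zpowers_le_centralizer y (mem_zpowers y)⟩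
    rw [hP, centralizer_zpowers]
    exact mem_centralizer_comm.mp hxC
  have h14 := orderOf_dvd_card_of_mem h13
  have h17 : x ∈ normalizer ((P : Subgroup G) : Set G) ⊓ centralizer ({y} : Set G) :=
    ⟨le_normalizer (hP ▸ mem_zpowers x), hxC⟩
  have h18 := orderOf_dvd_card_of_mem h17
  rw [hx] at h18
  rw [card_centralizer_of_orderOf Q (card3 h Q) hy, h3] at h8 h9 h10
  rw [hx] at h9
  rw [hy] at h14
  rw [h3]
  unfold Nat.ModEq at h11
  generalize Nat.card (Sylow 3 G) = n at *
  generalize Nat.card (Sylow 5 (centralizer ({y} : Set G))) = k at *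
  generalize Nat.card (normalizer ((P : Subgroup G) : Set G) ⊓ centralizer ({y} : Set G) :
    Subgroup G) = a at *
  obtain ⟨d, rfl⟩ : 5 ∣ c := by omega
  have h15 : d ∣ 16 * 17 := ⟨n * m, by nlinarith⟩
  have h16 : d ∣ 16 := Nat.Coprime.dvd_of_dvd_mul_right
    ((fact17.out.coprime_iff_not_dvd.mpr (by omega)).symm) h15
  have := Nat.le_of_dvd (by norm_num) h16
  have := Nat.le_of_dvd (by norm_num) h2
  have h19 : a = 15 ∨ a = 30 := by
    have := Nat.le_of_dvd (by norm_num) h12
    interval_cases a <;> omega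
  rcases h19 with rfl | rfl <;> interval_cases d <;> interval_cases m <;> omega

theorem two_group (t : G) (ht : orderOf t = 2) : IsPGroup 2 (centralizer ({t} : Set G)) := by
  apply card_dvd_two_pow
  intro q hq hd
  have h7 := not_dvd17 h (g := t) (by rw [ht]; norm_num)
  have h3 : ¬ 3 ∣ Nat.card (centralizer ({t} : Set G)) := by
    intro h3
    obtain ⟨y, hy, hy3⟩ := exists_orderOf_eq_mem _ 3 h3
    obtain ⟨Q⟩ : Nonempty (Sylow 3 G) := inferInstance
    have := orderOf_dvd_card_of_mem (mem_centralizer_comm.mp hy)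
    rw [card_centralizer_of_orderOf Q (card3 h Q) hy3, three h, ht] at this
    omega
  have h5 : ¬ 5 ∣ Nat.card (centralizer ({t} : Set G)) := by
    intro h3
    obtain ⟨y, hy, hy3⟩ := exists_orderOf_eq_mem _ 5 h3
    obtain ⟨Q⟩ : Nonempty (Sylow 5 G) := inferInstance
    have := orderOf_dvd_card_of_mem (mem_centralizer_comm.mp hy)
    rw [card_centralizer_of_orderOf Q (card5 h Q) hy3, (five h Q).2.1, ht] at this
    omega
  have h1 : q ∣ 2 ^ 4 * (3 * (5 * 17)) := by
    have := hd.trans (card_subgroup_dvd_card _)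
    rwa [h] at this
  rcases (Nat.Prime.dvd_mul hq).mp h1 with h2 | h2
  · exact (Nat.prime_dvd_prime_iff_eq hq Nat.prime_two).mp (hq.dvd_of_dvd_pow h2)
  rcases (Nat.Prime.dvd_mul hq).mp h2 with h2 | h2
  · exact absurd ((Nat.prime_dvd_prime_iff_eq hq Nat.prime_three).mp h2 ▸ hd) h3
  rcases (Nat.Prime.dvd_mul hq).mp h2 with h2 | h2
  · exact absurd ((Nat.prime_dvd_prime_iff_eq hq fact5.out).mp h2 ▸ hd) h5
  · exact absurd ((Nat.prime_dvd_prime_iff_eq hq fact17.out).mp h2 ▸ hd) h7

theorem two_elements : {g : G | ∃ k, orderOf g ∣ 2 ^ k}.ncard ≤ 256 := by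
  obtain ⟨P⟩ : Nonempty (Sylow 5 G) := inferInstance
  have h1 := ncard_orderOf_eq_prime P (card5 h P)
  rw [(five h P).1] at h1
  have h3 := Set.ncard_le_card ((({g : G | orderOf g = 17} ∪ {g : G | 3 ∣ orderOf g}) ∪
    {g : G | orderOf g = 5}) ∪ {g : G | ∃ k, orderOf g ∣ 2 ^ k})
  rw [Set.ncard_union_eq, Set.ncard_union_eq, Set.ncard_union_eq, h1, ncard17 h, ncard3 h, h] at h3
  · omega
  · rw [Set.disjoint_left]
    rintro g hg hg'
    simp only [Set.mem_ofPred_eq] at hg hg'
    omega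
  · rw [Set.disjoint_left]
    rintro g (hg | hg) hg' <;> simp only [Set.mem_ofPred_eq] at hg hg' <;> omega
  · rw [Set.disjoint_left]
    rintro g ((hg | hg) | hg) ⟨j, hj⟩
    · rw [hg] at hj
      have := fact17.out.dvd_of_dvd_pow hj
      omega
    · have := Nat.prime_three.dvd_of_dvd_pow (hg.trans hj)
      omega
    · rw [hg] at hj
      have := fact5.out.dvd_of_dvd_pow hj
      omega

end

/-- A simple group of order 4080 is isomorphic to the projective special linear group of dimension 2 over the field with 16 elements. -/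
theorem result {G : Type*} [Group G] [Finite G] [IsSimpleGroup G] (h : Nat.card G = 4080) {F : Type*} [Field F] [Fintype F] (hF : Fintype.card F = 16) : Nonempty (G ≃* Matrix.ProjectiveSpecialLinearGroup (Fin 2) F) := by
  obtain ⟨T⟩ : Nonempty (Sylow 2 G) := inferInstance
  have hT : Nat.card (T : Subgroup G) = 16 :=
    card_sylow_of_eq T (k := 4) (m := 255) (h.trans (by norm_num)) (by norm_num)
  have hb : (T : Subgroup G) ≠ ⊥ := ne_bot_of_card (by rw [hT]; norm_num)
  have ht : (T : Subgroup G) ≠ ⊤ := ne_top_of_card (by rw [hT, h]; norm_num)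
  obtain ⟨K, _, _, hK, ⟨e⟩⟩ := Cfsg.Agent.S1230.result T
    (not_isCyclic_sylow_minFac (by rw [h]; norm_num) T ht)
    (fun hn => (hn.eq_bot_or_eq_top).elim hb ht)
    (centralizer_elementary T hb (two_group h) (by
      rw [hT, h]
      have := two_elements h
      omega))
  obtain ⟨e'⟩ := CL.Lin.nonempty_pslCongr (ι := Fin 2) (F := K) (K := F) (by rw [hK, hT, hF])
  exact ⟨e.trans e'⟩

end Cfsg.Agent.S0981
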