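import Cfsg.Statements.S0983
import Cfsg.Agent.Base
import Cfsg.Agent.Small.Sieve

set_option autoImplicit false
open Cfsg

namespace Cfsg.Agent.S0983

open Subgroup CL.Small CL.Sieve MulAction in
theorem card_sylow_450 {N : Type*} [Group N] [Finite N] (h : Nat.card N = 450) :
    Subsingleton (Sylow 5 N) := by
  have : Fact (Nat.Prime 5) := ⟨by norm_num⟩
  obtain ⟨T⟩ : Nonempty (Sylow 2 N) := inferInstance
  have h1 : Nat.card T = 2 ^ 1 := CL.SG.card_sylow_of_eq T (m := 225) h (by norm_num)
  have h2 : IsCyclic T := isCyclic_of_prime_card (p := 2) h1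
  have h3 := h2.isComplement' (by rw [h]; norm_num)
  set K := (MonoidHom.transferSylow T (h2.normalizer_le_centralizer (by rw [h]; norm_num))).ker
  have h4 : K.index = 2 := h3.symm.index_eq_card.trans h1
  have h5 : ∀ P : Sylow 5 N, (P : Subgroup N) ≤ K := fun P x hx => by
    have h6 : Nat.card P = 5 ^ 2 := CL.SG.card_sylow_of_eq P (m := 18) h (by norm_num)
    have h7 : x ^ 25 = 1 :=
      orderOf_dvd_iff_pow_eq_one.mp ((orderOf_dvd_natCard _ hx).trans h6.dvd)
    have h8 := K.pow_mem (K.pow_index_mem x) 13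
    rwa [h4, ← pow_mul, pow_succ, h7, one_mul] at h8
  refine ⟨fun P R => ?_⟩
  by_contra hne
  have h6 := one_lt_card_sylow_of_le hne (h5 R) (h5 P)
  have h7 := card_sylow_mul_index_dvd R (h5 R)
  have h8 : Nat.card R = 5 ^ 2 := CL.SG.card_sylow_of_eq R (m := 18) h (by norm_num)
  have h9 := (R : Subgroup N).card_mul_index
  rw [h, h8] at h9
  rw [h4, show (R : Subgroup N).index = 18 by omega] at h7
  have h10 : Nat.card (Sylow 5 K) % 5 = 1 := card_sylow_modEq_one 5 K
  have h11 := Nat.le_of_dvd (by norm_num) h7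
  generalize Nat.card (Sylow 5 K) = s at *
  have : s = 6 := by omega
  subst this
  norm_num at h7

open Subgroup CL.Small CL.Sieve MulAction Pointwise in
theorem ne_5400 {G : Type*} [Group G] [Finite G] [IsSimpleGroup G] : Nat.card G ≠ 5400 := by
  intro h
  have hG : ¬ IsMulCommutative G := not_comm_of_simple_of_not_prime (by rw [h]; norm_num)
  have : Fact (Nat.Prime 5) := ⟨by norm_num⟩
  have hc : ∀ R : Sylow 5 G, Nat.card R = 5 ^ 2 := fun R =>
    CL.SG.card_sylow_of_eq R (m := 216) h (by norm_num)
  have hcomm : ∀ R : Sylow 5 G, IsMulCommutative R := fun R =>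
    IsPGroup.isMulCommutative_of_card_eq_prime_sq (hc R)
  have hfac : ∀ i : ℕ, 2 * Nat.card G ∣ i.factorial → 10 ≤ i := fun i hi => by
    by_contra h1
    have := hi.trans (Nat.factorial_dvd_factorial (show i ≤ 9 by omega))
    rw [h] at this
    revert this
    decide
  obtain ⟨P⟩ : Nonempty (Sylow 5 G) := inferInstance
  have hi : (P : Subgroup G).index = 216 := by
    have := (P : Subgroup G).card_mul_index
    rw [hc, h] at this
    omega
  have h5 : 5 ∣ Nat.card G := by rw [h]; norm_num
  have h1 := CL.SG.card_sylow_mul_card_normalizer P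
  have h2 : Nat.card (Sylow 5 G) = 36 ∨ Nat.card (Sylow 5 G) = 216 := by
    have a1 := hi ▸ P.card_dvd_index
    have a2 : Nat.card (Sylow 5 G) % 5 = 1 := card_sylow_modEq_one 5 G
    have a3 := hfac _ (two_mul_card_dvd_factorial_card_sylow hG h5)
    have a4 : ∀ s ∈ Nat.divisors 216, s % 5 = 1 → 10 ≤ s → s = 36 ∨ s = 216 := by decide
    exact a4 _ (Nat.mem_divisors.mpr ⟨a1, by norm_num⟩) a2 a3
  rcases h2 with h2 | h2
  swap
  · rw [h2, h] at h1
    refine not_normalizer_le_centralizer_of_simple hG h5 P ?_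
    have h3 : (P : Subgroup G) = normalizer ((P : Subgroup G) : Set G) :=
      eq_of_le_of_card_ge le_normalizer (by rw [hc]; omega)
    have := hcomm P
    exact h3.ge.trans (P : Subgroup G).le_centralizer
  rw [h2, h] at h1
  obtain ⟨w, hw, hw3⟩ := CL.SG.exists_orderOf_eq_mem (normalizer ((P : Subgroup G) : Set G)) 3
    (by omega)
  have hwP : ∀ u ∈ zpowers w, u • P = P := fun u hu =>
    Sylow.smul_eq_iff_mem_normalizer.mpr (zpowers_le.mpr hw hu)
  have hsm : ∀ (u : G) (R : Sylow 5 G), u • P = P → (R : Subgroup G) ⊓ P ≠ ⊥ →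
      ((u • R : Sylow 5 G) : Subgroup G) ⊓ P ≠ ⊥ := fun u R hu hR h3 => hR (by
    rw [← hu, Sylow.coe_subgroup_smul, Sylow.coe_subgroup_smul, ← smul_inf] at h3
    exact smul_left_cancel (MulAut.conj u) (h3.trans (smul_bot _).symm))
  have h3 := card_modEq_ncard_of_dvd_orbit (H := (P : Subgroup G)) 25
    {R : Sylow 5 G | (R : Subgroup G) ⊓ P ≠ ⊥}
    (fun R hR u => hsm u R (Sylow.smul_eq_iff_mem_normalizer.mpr (le_normalizer u.2)) hR)
    (fun R hR => by
      have h4 := card_inf_mul_index (R : Subgroup G) P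
      rw [not_not.mp hR, card_bot, one_mul, hc] at h4
      rw [stabilizer_sylow_of_isPGroup P.isPGroup', h4]
      norm_num)
  have h4 := dvd_ncard_of_dvd_orbit (H := zpowers w) 3
    ({R : Sylow 5 G | (R : Subgroup G) ⊓ P ≠ ⊥} \ {P})
    (fun R hR u => ⟨hsm u R (hwP u u.2) hR.1, fun h5 => hR.2
      (smul_left_cancel (u : G) (h5.trans (hwP u u.2).symm))⟩)
    (fun R hR => by
      have h5 := (stabilizer (zpowers w) R).index_dvd_card
      rw [Nat.card_zpowers, hw3] at h5
      rcases (Nat.dvd_prime Nat.prime_three).mp h5 with h6 | h6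
      swap
      · rw [h6]
      exfalso
      rw [index_eq_one] at h6
      have h7 : w • R = R := by
        have : (⟨w, mem_zpowers w⟩ : zpowers w) ∈ stabilizer (zpowers w) R := h6 ▸ mem_top _
        exact this
      set N := normalizer (((R : Subgroup G) ⊓ P : Subgroup G) : Set G)
      have hle : ∀ Q : Sylow 5 G, (R : Subgroup G) ⊓ P ≤ Q → (Q : Subgroup G) ≤ N := fun Q hQ => by
        have := hcomm Q
        exact (normal_subgroupOf_iff_le_normalizer hQ).mp (normal_of_isMulCommutative _)
      have hP := hle P inf_le_right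
      have hwN : w ∈ N := by
        have a1 := Sylow.smul_eq_iff_mem_normalizer.mp h7
        exact inf_normalizer_le_normalizer_inf ⟨a1, hw⟩
      have a1 := one_lt_card_sylow_of_le hR.2 hP (hle R inf_le_left)
      have a2 := hfac _ (two_mul_card_dvd_factorial_index hG
        (normalizer_pSubgroup_ne_top hG (P := (R : Subgroup G) ⊓ P)
          P.isPGroup'.to_inf_right hR.1))
      have a3 : Nat.card (Sylow 5 N) % 5 = 1 := card_sylow_modEq_one 5 N
      have a4 := CL.SG.card_sylow_mul_card_normalizer (P.subtype hP)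
      have a5 : 3 ∣ Nat.card (normalizer ((P.subtype hP : Subgroup N) : Set N)) := by
        rw [← hw3, ← Subgroup.orderOf_coe (⟨w, hwN⟩ : N) |>.symm]
        refine orderOf_dvd_natCard _ ?_
        rw [Sylow.coe_subtype, ← subgroupOf_normalizer_eq hP]
        exact hw
      have a6 : 25 ∣ Nat.card (normalizer ((P.subtype hP : Subgroup N) : Set N)) := by
        refine Dvd.dvd.trans ?_ (card_dvd_of_le le_normalizer)
        rw [Sylow.coe_subtype, Nat.card_congr (subgroupOfEquivOfLe hP).toEquiv, hc]
        norm_num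
      obtain ⟨c, hc'⟩ : 75 ∣ Nat.card (normalizer ((P.subtype hP : Subgroup N) : Set N)) :=
        Nat.Coprime.mul_dvd_of_dvd_of_dvd (by norm_num : Nat.Coprime 3 25) a5 a6
      have a7 := N.card_mul_index
      have a8 : Nat.card N = 450 := by
        rw [← a4, hc', h] at a7
        rw [← a4, hc']
        change 10 ≤ N.index at a2
        generalize Nat.card (Sylow 5 N) = s at *
        generalize N.index = i at *
        have b1 : s * (c * i) = 72 := by nlinarith
        have b2 : c ≠ 0 := by rintro rfl; simp at b1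
        have b3 : 10 ≤ c * i := by nlinarith [Nat.pos_of_ne_zero b2]
        have b4 : s = 6 := by
          have : s * 10 ≤ 72 := by nlinarith
          omega
        subst b4
        have b5 : c = 1 := by
          by_contra b5
          have : 2 ≤ c := by omega
          nlinarith
        rw [b5]
      have := card_sylow_450 a8
      rw [Nat.card_unique] at a1
      omega)
  have h6 := Set.ncard_sdiff_singleton_add_one (s := {R : Sylow 5 G | (R : Subgroup G) ⊓ P ≠ ⊥})
    (a := P) (fun h6 => by
      have := hc P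
      rw [inf_idem] at h6
      rw [h6, card_bot] at this
      omega)
  have h7 := Set.ncard_le_card {R : Sylow 5 G | (R : Subgroup G) ⊓ P ≠ ⊥}
  rw [h2] at h3 h7
  unfold Nat.ModEq at h3
  omega

/-- A non-abelian finite simple group of order greater than 3640 and at most 6232 has order 4080, 5616, 6048 or 6072. -/
theorem result {G : Type*} [Group G] [Finite G] [IsSimpleGroup G] (hG : ¬ IsMulCommutative G) (h1 : 3640 < Nat.card G) (h2 : Nat.card G ≤ 6232) : Nat.card G = 4080 ∨ Nat.card G = 5616 ∨ Nat.card G = 6048 ∨ Nat.card G = 6072 := by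
  have h3 : ((List.range' 3641 2592).all fun n =>
      CL.Sieve.kill 80 n || n ∈ [4080, 5400, 5616, 6048, 6072]) = true := by decide +kernel
  have h4 := List.all_eq_true.mp h3 (Nat.card G) (List.mem_range'_1.mpr (by omega))
  have h5 := CL.Sieve.not_kill hG 80
  have h6 := ne_5400 (G := G)
  simp only [Bool.or_eq_true, h5, false_or, decide_eq_true_eq, List.mem_cons, List.not_mem_nil,
    or_false, Bool.false_eq_true] at h4
  omega

end Cfsg.Agent.S0983
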