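import Cfsg.Agent.Base
import Cfsg.Statements.S0984
import Cfsg.Agent.Small.O2520c

set_option autoImplicit false
open Cfsg

namespace Cfsg.Agent.S0984

/-- A simple group of order 2520 is isomorphic to the alternating group of degree 7. -/
theorem result {G : Type*} [Group G] [Finite G] [IsSimpleGroup G] (h : Nat.card G = 2520) : Nonempty (G ≃* alternatingGroup (Fin 7)) := by
  by_contra hne
  refine CL.O2520.main h (fun H hH => ?_)
  by_contra hlt
  have h1 := CL.SG.card_dvd_factorial_index hH
  have h2 : H.index = 7 := by
    by_contra h3
    have := h1.trans (Nat.factorial_dvd_factorial (show H.index ≤ 6 by omega))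
    rw [h, show Nat.factorial 6 = 720 from rfl] at this
    omega
  obtain ⟨m, h3, h4⟩ := CL.SG.exists_index_alt (by omega) h2 (by norm_num)
  rw [h, show Nat.factorial 7 = 5040 from rfl] at h3
  obtain rfl : m = 1 := by omega
  rcases h4 with ⟨-, h4⟩ | h4
  · exact hne h4
  · revert h4; decide

end Cfsg.Agent.S0984
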