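import Cfsg.Agent.Base
import Cfsg.Statements.S0987
import Cfsg.Agent.Small.Aut

set_option autoImplicit false
open Cfsg

namespace Cfsg.Agent.S0987

/-- If a finite group has order pqr for primes p < q < r, then its Sylow r-subgroups are normal. -/
theorem result {G : Type*} [Group G] [Finite G] (p q r : ℕ) (hp : p.Prime) (hq : q.Prime) [Fact r.Prime] (hpq : p < q) (hqr : q < r) (hG : Nat.card G = p * q * r) (R : Sylow r G) : (R : Subgroup G).Normal := by
  have hr : r.Prime := Fact.out
  have := Fact.mk hp
  have hmin : (Nat.card G).minFac = p := by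
    have h1 : (Nat.card G).minFac ≤ p := Nat.minFac_le_of_dvd hp.two_le ⟨q * r, by rw [hG]; ring⟩
    have h2 : (Nat.card G).minFac.Prime := Nat.minFac_prime (by
      rw [hG]; intro h; exact hr.one_lt.ne' (Nat.eq_one_of_mul_eq_one_left h))
    have h3 := Nat.minFac_dvd (Nat.card G)
    generalize (Nat.card G).minFac = s at *
    rw [hG] at h3
    rcases (Nat.Prime.dvd_mul h2).mp h3 with h4 | h4
    · rcases (Nat.Prime.dvd_mul h2).mp h4 with h5 | h5
      · exact (Nat.prime_dvd_prime_iff_eq h2 hp).mp h5
      · have := (Nat.prime_dvd_prime_iff_eq h2 hq).mp h5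
        omega
    · have := (Nat.prime_dvd_prime_iff_eq h2 hr).mp h4
      omega
  obtain ⟨P⟩ : Nonempty (Sylow p G) := inferInstance
  have hP : Nat.card (P : Subgroup G) = p := by
    have := CL.SG.card_sylow_of_eq P (k := 1) (m := q * r) (by rw [hG]; ring) (by
      intro h
      rcases (Nat.Prime.dvd_mul hp).mp h with h5 | h5
      · have := (Nat.prime_dvd_prime_iff_eq hp hq).mp h5
        omega
      · have := (Nat.prime_dvd_prime_iff_eq hp hr).mp h5
        omega)
    simpa using this
  have hc := IsCyclic.isComplement' hmin (isCyclic_of_prime_card hP)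
  set K := (MonoidHom.transferSylow P
    ((isCyclic_of_prime_card hP).normalizer_le_centralizer hmin)).ker with hK
  have hKn : K.Normal := MonoidHom.normal_ker _
  have hKc : Nat.card K = r ^ 1 * q := by
    have h1 := hc.card_mul_card
    rw [hP, hG] at h1
    apply Nat.eq_of_mul_eq_mul_right hp.pos
    rw [h1]; ring
  have hrq : ¬ r ∣ q := fun h => by
    have := (Nat.prime_dvd_prime_iff_eq hr hq).mp h
    omega
  obtain ⟨S⟩ : Nonempty (Sylow r K) := inferInstance
  have hS := CL.SG.card_sylow_of_eq S hKc hrq
  have h1 : Nat.card (Sylow r K) = 1 := by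
    have h2 := S.card_dvd_index
    have h3 := Subgroup.card_mul_index (S : Subgroup K)
    rw [hS, hKc] at h3
    rw [Nat.eq_of_mul_eq_mul_left (pow_pos hr.pos 1) h3] at h2
    rcases (Nat.dvd_prime hq).mp h2 with h4 | h4
    · exact h4
    · have h5 := card_sylow_modEq_one r K
      rw [h4] at h5
      have h6 := (Nat.modEq_iff_dvd' hq.one_le).mp h5.symm
      have := Nat.le_of_dvd (by have := hq.two_le; omega) h6
      omega
  have : Subsingleton (Sylow r K) := (Nat.card_eq_one_iff_unique.mp h1).1
  have hR : Nat.card (R : Subgroup G) = r ^ 1 :=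
    CL.SG.card_sylow_of_eq R (m := p * q) (by rw [hG]; ring) (by
      intro h
      rcases (Nat.Prime.dvd_mul hr).mp h with h5 | h5
      · have := (Nat.prime_dvd_prime_iff_eq hr hp).mp h5
        omega
      · exact hrq h5)
  obtain ⟨R', hR'⟩ := CL.SG.exists_sylow_eq R (H := (S : Subgroup K).map K.subtype) (by
    rw [Subgroup.card_map_of_injective K.subtype_injective, hS, hR])
  have hn : (R' : Subgroup G).Normal := by
    rw [hR']
    infer_instance
  have := Sylow.unique_of_normal R' hn
  rwa [Subsingleton.elim R R']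

end Cfsg.Agent.S0987
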