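import Cfsg.Agent.Base
import Cfsg.Statements.S0988
import Cfsg.Agent.Small.Aut
import Cfsg.Agent.S0144

set_option autoImplicit false
open Cfsg

namespace Cfsg.Agent.S0988

open CL.SG Subgroup

theorem not_two_primes {G : Type*} [Group G] [Finite G] [IsSimpleGroup G] (p q a b : ℕ)
    (hp : p.Prime) (hq : q.Prime) (hG : Nat.card G = p ^ (a + 2) * q ^ b) : False := by
  have h1 := Cfsg.Agent.S0144.result p q (a + 2) b hp hq hG
  have h2 := card_prime_of_simple_of_comm (IsSimpleGroup.comm_iff_isSolvable.mpr h1)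
  rw [hG, show p ^ (a + 2) * q ^ b = p * (p ^ (a + 1) * q ^ b) by ring] at h2
  refine Nat.not_prime_mul hp.one_lt.ne' ?_ h2
  intro h
  have := Nat.eq_one_of_mul_eq_one_right h
  exact hp.one_lt.ne' ((Nat.pow_eq_one.mp this).resolve_right (by omega))

theorem not_min {G : Type*} [Group G] [Finite G] [IsSimpleGroup G] {s m : ℕ} (hs : s.Prime)
    (hG : Nat.card G = s * m) (hm1 : m ≠ 1) (hm : ∀ t, t.Prime → t ∣ m → s < t) : False := by
  have := Fact.mk hs
  have hsm : ¬ s ∣ m := fun h => lt_irrefl _ (hm s hs h)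
  have hmin : (Nat.card G).minFac = s := by
    have h1 : (Nat.card G).minFac ≤ s := Nat.minFac_le_of_dvd hs.two_le ⟨m, hG⟩
    have h2 : (Nat.card G).minFac.Prime := Nat.minFac_prime (by
      rw [hG]; intro h; exact hs.one_lt.ne' (Nat.eq_one_of_mul_eq_one_right h))
    have h3 := Nat.minFac_dvd (Nat.card G)
    generalize (Nat.card G).minFac = t at *
    rw [hG] at h3
    rcases (Nat.Prime.dvd_mul h2).mp h3 with h4 | h4
    · exact (Nat.prime_dvd_prime_iff_eq h2 hs).mp h4
    · have := hm t h2 h4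
      omega
  obtain ⟨P⟩ : Nonempty (Sylow s G) := inferInstance
  have hP : Nat.card (P : Subgroup G) = s := by
    simpa using card_sylow_of_eq P (k := 1) (m := m) (by rw [hG, pow_one]) hsm
  refine not_isCyclic_sylow_minFac hmin P (ne_top_of_card ?_) (isCyclic_of_prime_card hP)
  rw [hP, hG]
  intro h
  apply hm1
  exact (Nat.eq_of_mul_eq_mul_left hs.pos (h.symm.trans (mul_one s).symm))

theorem aux_lt {G : Type*} [Group G] [Finite G] [IsSimpleGroup G] (p q r : ℕ) (hp : p.Prime)
    (hq : q.Prime) (hr : r.Prime) (hpq : p ≠ q) (hpr : p ≠ r) (hqr : q < r)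
    (hG : Nat.card G = p ^ 2 * q * r) : Nat.card G = 60 := by
  have hpq' : p < q := by
    by_contra hlt
    refine not_min (G := G) hq (m := p ^ 2 * r) (by rw [hG]; ring) (fun h => hr.one_lt.ne'
      (Nat.eq_one_of_mul_eq_one_left h)) (fun t ht htd => ?_)
    rcases (Nat.Prime.dvd_mul ht).mp htd with h | h
    · have := (Nat.prime_dvd_prime_iff_eq ht hp).mp (ht.dvd_of_dvd_pow h)
      omega
    · have := (Nat.prime_dvd_prime_iff_eq ht hr).mp h
      omega
  have := Fact.mk hp
  have := Fact.mk hr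
  obtain ⟨P⟩ : Nonempty (Sylow p G) := inferInstance
  have hP : Nat.card (P : Subgroup G) = p ^ 2 :=
    card_sylow_of_eq P (m := q * r) (by rw [hG]; ring) (by
      intro h
      rcases (Nat.Prime.dvd_mul hp).mp h with h5 | h5
      · exact hpq ((Nat.prime_dvd_prime_iff_eq hp hq).mp h5)
      · exact hpr ((Nat.prime_dvd_prime_iff_eq hp hr).mp h5))
  have hidx : (P : Subgroup G).index = q * r := by
    have := card_mul_index (P : Subgroup G)
    rw [hP, hG, mul_assoc] at this
    exact Nat.eq_of_mul_eq_mul_left (pow_pos hp.pos 2) this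
  have hb : (P : Subgroup G) ≠ ⊥ := ne_bot_of_card (by
    rw [hP]; exact (Nat.one_lt_pow (by norm_num) hp.one_lt).ne')
  have ht : (P : Subgroup G) ≠ ⊤ := by
    intro h
    rw [h, index_top] at hidx
    exact hr.one_lt.ne' (Nat.eq_one_of_mul_eq_one_left hidx.symm)
  obtain ⟨m, hm1, hm2, hm3, -⟩ := exists_card_normalizer_sylow P hb ht
    (IsPGroup.isMulCommutative_of_card_eq_prime_sq hP)
  obtain ⟨s, hs, hsm⟩ := Nat.exists_prime_and_dvd hm1
  have h1 := prime_dvd_of_dvd_card_mulAut_sq hp hs hP (hsm.trans hm2)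
  have h2 : s = q ∨ s = r := by
    rw [hidx] at hm3
    rcases (Nat.Prime.dvd_mul hs).mp (hsm.trans hm3) with h | h
    · exact Or.inl ((Nat.prime_dvd_prime_iff_eq hs hq).mp h)
    · exact Or.inr ((Nat.prime_dvd_prime_iff_eq hs hr).mp h)
  have hp2 := hp.two_le
  have h3 : s = p + 1 := by
    rcases (Nat.Prime.dvd_mul hs).mp h1 with h | h
    · have := Nat.le_of_dvd hp.pos h
      omega
    rcases (Nat.Prime.dvd_mul hs).mp h with h | h
    · have := Nat.le_of_dvd (by omega) h
      omega
    · have := Nat.le_of_dvd (by omega) h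
      omega
  have h4 : p = 2 := by
    rcases hp.eq_two_or_odd with h | h
    · exact h
    · rcases hs.eq_two_or_odd with h' | h' <;> omega
  have h5 : q = 3 := by omega
  subst h4 h5
  obtain ⟨R⟩ : Nonempty (Sylow r G) := inferInstance
  have hr12 : ¬ r ∣ 12 := by
    intro h
    have := Nat.le_of_dvd (by norm_num) h
    interval_cases r <;> simp_all (config := {decide := true})
  have hR : Nat.card (R : Subgroup G) = r := by
    simpa using card_sylow_of_eq R (k := 1) (m := 12) (by rw [hG]; ring) hr12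
  have hb' : (R : Subgroup G) ≠ ⊥ := ne_bot_of_card (by rw [hR]; exact hr.one_lt.ne')
  have ht' : (R : Subgroup G) ≠ ⊤ := ne_top_of_card (by rw [hR, hG]; omega)
  have : IsCyclic (R : Subgroup G) := isCyclic_of_prime_card hR
  obtain ⟨m', hm1', -, -, -, h6⟩ := exists_card_normalizer_sylow R hb' ht' inferInstance
  obtain ⟨c, hc⟩ := card_dvd_of_le (le_centralizer (R : Subgroup G))
  have h7 := card_sylow_mul_card_normalizer R
  have h8 := card_sylow_modEq_one r G
  have h9 := card_sylow_ne_one R hb' ht'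
  rw [h6, hc, hR, hG] at h7
  have h10 : Nat.card (Sylow r G) * (c * m') = 12 := by
    apply Nat.eq_of_mul_eq_mul_right hr.pos
    rw [show 12 * r = 2 ^ 2 * 3 * r by ring, ← h7]; ring
  rw [hG]
  generalize Nat.card (Sylow r G) = n at *
  have hn0 : 0 < n := Nat.pos_of_ne_zero (by rintro rfl; omega)
  have h11 := (Nat.modEq_iff_dvd' hn0).mp h8.symm
  have h12 := Nat.le_of_dvd (by omega) h11
  have h13 : n ∣ 12 := ⟨_, h10.symm⟩
  have h14 : n ≠ 12 := by
    rintro rfl
    exact hm1' (Nat.eq_one_of_mul_eq_one_left (m := c) (by omega))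
  have h15 := Nat.le_of_dvd (by norm_num) h13
  have h16 : r ≠ 4 := by rintro rfl; exact absurd hr (by decide)
  interval_cases n <;> omega

theorem aux {G : Type*} [Group G] [Finite G] [IsSimpleGroup G] (p q r : ℕ) (hp : p.Prime)
    (hq : q.Prime) (hr : r.Prime) (hG : Nat.card G = p ^ 2 * q * r) : Nat.card G = 60 := by
  by_cases hpq : p = q
  · exact (not_two_primes (G := G) p r 1 1 hp hr (by rw [hG, ← hpq]; ring)).elim
  by_cases hpr : p = r
  · exact (not_two_primes (G := G) p q 1 1 hp hq (by rw [hG, ← hpr]; ring)).elim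
  rcases lt_trichotomy q r with h | h | h
  · exact aux_lt p q r hp hq hr hpq hpr h hG
  · exact (not_two_primes (G := G) p q 0 2 hp hq (by rw [hG, ← h]; ring)).elim
  · exact aux_lt p r q hp hr hq hpr hpq h (by rw [hG]; ring)

/-- If a finite simple group has order p^2 * q * r with p, q and r prime, then its order is 60. -/
theorem result {G : Type*} [Group G] [Finite G] [IsSimpleGroup G] (p q r : ℕ) (hp : p.Prime) (hq : q.Prime) (hr : r.Prime) (hG : Nat.card G = p ^ 2 * q * r) : Nat.card G = 60 := by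
  exact aux p q r hp hq hr hG

end Cfsg.Agent.S0988
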