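import Cfsg.Agent.Base
import Cfsg.Statements.S0990
import Cfsg.Agent.Small.Aut

set_option autoImplicit false
open Cfsg

namespace Cfsg.Agent.S0990

/-- Let p be an odd prime and P a Sylow p-subgroup of the symmetric group on a finite set with at least two elements. Then P is contained in the alternating group, and twice the order of the normalizer of P inside the alternating group equals the order of the normalizer of P in the symmetric group. -/
theorem result {α : Type*} [Fintype α] [DecidableEq α] (hα : 2 ≤ Fintype.card α) (p : ℕ) [Fact p.Prime] (hp : p ≠ 2) (P : Sylow p (Equiv.Perm α)) : (P : Subgroup (Equiv.Perm α)) ≤ alternatingGroup α ∧ 2 * Nat.card ↥(Subgroup.normalizer ((((P : Subgroup (Equiv.Perm α)).subgroupOf (alternatingGroup α) : Subgroup ↥(alternatingGroup α)) : Set ↥(alternatingGroup α)))) = Nat.card ↥(Subgroup.normalizer ((P : Subgroup (Equiv.Perm α)) : Set (Equiv.Perm α))) := by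
  have h1 : (P : Subgroup (Equiv.Perm α)) ≤ alternatingGroup α := by
    intro g hg
    obtain ⟨k, hk⟩ := P.2 ⟨g, hg⟩
    have h2 : g ^ p ^ k = 1 := congrArg Subtype.val hk
    have h3 := congrArg Equiv.Perm.sign h2
    rw [map_pow, map_one] at h3
    rw [Equiv.Perm.mem_alternatingGroup]
    rcases Int.units_eq_one_or (Equiv.Perm.sign g) with h4 | h4
    · exact h4
    · rw [h4, Odd.neg_one_pow (((Fact.out : p.Prime).odd_of_ne_two hp).pow)] at h3
      exact absurd h3 (by decide)
  refine ⟨h1, ?_⟩
  have : Nontrivial α := Fintype.one_lt_card_iff_nontrivial.mp hα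
  have h2 := P.normalizer_sup_eq_top' h1
  rw [← P.coe_coe] at h2
  set N := Subgroup.normalizer ((P : Subgroup (Equiv.Perm α)) : Set (Equiv.Perm α)) with hN
  have h3 : (alternatingGroup α).relIndex N = 2 := by
    have h4 : (alternatingGroup α).relIndex N ∣ 2 :=
      alternatingGroup.index_eq_two (α := α) ▸ Subgroup.relIndex_dvd_index_of_normal _ _
    rcases (Nat.dvd_prime Nat.prime_two).mp h4 with h5 | h5
    · rw [Subgroup.relIndex_eq_one] at h5
      rw [sup_eq_right.mpr h5] at h2
      have := alternatingGroup.index_eq_two (α := α)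
      rw [h2, Subgroup.index_top] at this
      omega
    · exact h5
  rw [← Subgroup.subgroupOf_normalizer_eq h1, ← hN, ← Subgroup.inf_subgroupOf_right,
    CL.SG.card_subgroupOf inf_le_right, ← Subgroup.card_mul_index ((alternatingGroup α).subgroupOf N),
    ← Subgroup.relIndex, h3, ← Subgroup.inf_subgroupOf_right, CL.SG.card_subgroupOf inf_le_right,
    inf_comm, mul_comm]

end Cfsg.Agent.S0990
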