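import Cfsg.Agent.Base
import Cfsg.Statements.S0992
import Cfsg.Agent.Small.Aut

set_option autoImplicit false
open Cfsg

namespace Cfsg.Agent.S0992

/-- Let G be a non-abelian finite simple group of even order not divisible by 8, and T a Sylow 2-subgroup. Then T is a Klein four-group and the centralizer of T has index 3 in the normalizer of T. -/
theorem result {G : Type*} [Group G] [Finite G] [IsSimpleGroup G] (hG : ¬ IsMulCommutative G) (h2 : Even (Nat.card G)) (h8 : ¬ 8 ∣ Nat.card G) (T : Sylow 2 G) : IsKleinFour ↥(T : Subgroup G) ∧ (Subgroup.centralizer ((T : Subgroup G) : Set G)).relIndex (Subgroup.normalizer ((T : Subgroup G) : Set G)) = 3 := by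
  have hp : (Nat.card G).minFac = 2 := (Nat.minFac_eq_two_iff _).mpr h2.two_dvd
  obtain ⟨k, hk⟩ := IsPGroup.iff_card.mp T.2
  have h1 : (T : Subgroup G) ≠ ⊥ := T.ne_bot_of_dvd_card h2.two_dvd
  have hk3 : k < 3 := by
    by_contra h3
    apply h8
    have : 2 ^ 3 ∣ 2 ^ k := pow_dvd_pow 2 (by omega)
    exact (this.trans hk.symm.dvd).trans (Subgroup.card_subgroup_dvd_card _)
  have hcomm : IsMulCommutative (T : Subgroup G) := by
    interval_cases k
    · exact absurd (Subgroup.card_eq_one.mp hk) h1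
    · have : IsCyclic (T : Subgroup G) := isCyclic_of_prime_card (p := 2) hk
      infer_instance
    · exact IsPGroup.isMulCommutative_of_card_eq_prime_sq hk
  have ht : (T : Subgroup G) ≠ ⊤ := by
    intro ht
    apply hG
    exact ⟨⟨fun a b => congrArg Subtype.val (hcomm.1.1 (⟨a, ht ▸ Subgroup.mem_top a⟩ : (T : Subgroup G))
      ⟨b, ht ▸ Subgroup.mem_top b⟩)⟩⟩
  have hnc := CL.SG.not_isCyclic_sylow_minFac hp T ht
  have h4 : Nat.card (T : Subgroup G) = 4 := by
    interval_cases k
    · exact absurd (Subgroup.card_eq_one.mp hk) h1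
    · exact absurd (isCyclic_of_prime_card (p := 2) hk) hnc
    · exact hk
  refine ⟨⟨h4, (not_isCyclic_iff_exponent_eq_prime Nat.prime_two h4).mp hnc⟩, ?_⟩
  obtain ⟨m, hm1, hm2, hm3, hm4, -⟩ := CL.SG.exists_card_normalizer_sylow T h1 ht hcomm
  rw [← hm4]
  have h5 := hm2.trans CL.SG.card_mulAut_dvd_factorial
  rw [h4] at h5
  have h6 : ¬ 2 ∣ m := fun h6 => T.not_dvd_index (h6.trans hm3)
  have h7 : m ∣ 24 := h5
  have := Nat.le_of_dvd (by norm_num) h7
  clear hm4
  interval_cases m <;> omega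

end Cfsg.Agent.S0992
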