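import Cfsg.Agent.Base
import Cfsg.Statements.S0995
import Cfsg.Agent.Small.SelfCent

set_option autoImplicit false
open Cfsg

namespace Cfsg.Agent.S0995

open CL.Small Subgroup

/-- Let G be a finite perfect group containing an element z of prime order p whose centralizer is the cyclic group it generates. Let t be the number of conjugacy classes of elements of order p. Then t divides p - 1, the number of Sylow p-subgroups has the form 1 + n * p, and |G| * t = (p - 1) * p * (1 + n * p). -/
theorem result {G : Type*} [Group G] [Finite G] (hperf : commutator G = ⊤) (p : ℕ) [Fact p.Prime] (z : G) (hz : orderOf z = p) (hC : Subgroup.centralizer ({z} : Set G) = Subgroup.zpowers z) : ∃ n t : ℕ, t = Nat.card {c : ConjClasses G // ∃ g : G, ConjClasses.mk g = c ∧ orderOf g = p} ∧ t ∣ p - 1 ∧ Nat.card (Sylow p G) = 1 + n * p ∧ Nat.card G * t = (p - 1) * p * (1 + n * p) := by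
  have hp : p.Prime := Fact.out
  obtain ⟨P, hP⟩ := exists_sylow_eq_zpowers_of_self_centralizing hz hC
  have hcard : Nat.card (P : Subgroup G) = p := by rw [hP, Nat.card_zpowers, hz]
  have h1 := card_orderOf_eq_prime P hcard
  have h2 := card_mul_eq_card_classes_mul (fun g : G => orderOf g = p)
    (fun x y h hx => (orderOf_eq_of_isConj h).symm.trans hx) p
    (fun x hx => card_centralizer_of_self_centralizing hz hC hx)
  rw [h1] at h2
  set t := Nat.card {c : ConjClasses G // ∃ g : G, ConjClasses.mk g = c ∧ orderOf g = p}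
  have h3 := card_sylow_modEq_one p G
  have hpos : 0 < Nat.card (Sylow p G) := Nat.card_pos
  obtain ⟨n, hn⟩ : ∃ n, Nat.card (Sylow p G) = 1 + n * p := by
    obtain ⟨n, hn⟩ := (Nat.modEq_iff_dvd' hpos).mp h3.symm
    exact ⟨n, by rw [mul_comm]; omega⟩
  have h4 := (normalizer ((P : Subgroup G) : Set G)).index_mul_card
  have h5 : Nat.card (Sylow p G) = (normalizer ((P : Subgroup G) : Set G)).index :=
    P.card_eq_index_normalizer
  obtain ⟨e, he⟩ : p ∣ Nat.card (normalizer ((P : Subgroup G) : Set G)) := by
    have := card_dvd_of_le (le_normalizer (H := (P : Subgroup G)))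
    rwa [hcard] at this
  refine ⟨n, t, rfl, ⟨e, ?_⟩, hn, ?_⟩
  · rw [← h4, ← h5, he] at h2
    refine Nat.eq_of_mul_eq_mul_left (Nat.mul_pos hpos hp.pos) ?_
    linarith
  · rw [← hn]
    linarith

end Cfsg.Agent.S0995
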