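import Cfsg.Agent.Base
import Cfsg.Statements.S0996
import Cfsg.Agent.Small.BTMain
import Cfsg.Agent.Small.PSL2Rec3
import Cfsg.Agent.D1.Main
import Cfsg.Agent.S1230

set_option autoImplicit false
open Cfsg

namespace Cfsg.Agent.S0996

/-- Let G be a finite perfect group containing an element z of prime order p whose centralizer is the cyclic group it generates, and suppose the number 1 + n * p of Sylow p-subgroups satisfies n < (p + 3) / 2. Then p > 3 and G is isomorphic to the projective special linear group of dimension 2 over the field with p elements, or p - 1 is a power of 2 and G is isomorphic to that group over the field with p - 1 elements. -/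
theorem result {G : Type*} [Group G] [Finite G] (hperf : commutator G = ⊤) (p : ℕ) [Fact p.Prime] (z : G) (hz : orderOf z = p) (hC : Subgroup.centralizer ({z} : Set G) = Subgroup.zpowers z) (hn : 2 * Nat.card (Sylow p G) < (p + 1) * (p + 2)) : (∃ (F : Type) (_ : Field F) (_ : Fintype F), Fintype.card F = p ∧ 3 < p ∧ Nonempty (G ≃* Matrix.ProjectiveSpecialLinearGroup (Fin 2) F)) ∨ (∃ (m : ℕ) (F : Type) (_ : Field F) (_ : Fintype F), Fintype.card F = 2 ^ m ∧ p = 2 ^ m + 1 ∧ 3 < p ∧ Nonempty (G ≃* Matrix.ProjectiveSpecialLinearGroup (Fin 2) F)) := by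
  obtain ⟨D⟩ := CL.D1.nonempty_data hz (CL.BT.not_sq_dvd_of_self_centralizing hz hC)
  obtain ⟨h3, ⟨hs, h⟩ | ⟨T, hT, h1, h2, h4⟩⟩ := CL.BT.structure_of_data D hperf hz hC hn
  · exact Or.inl ⟨ZMod p, inferInstance, inferInstance, ZMod.card p, h3,
      CL.PSL2Rec.equiv_of_simple_card Fact.out (by omega) h (ZMod.card p)⟩
  · obtain ⟨F, _, _, hF, e⟩ := Cfsg.Agent.S1230.result T h1 h2 h4
    obtain ⟨m, hm⟩ := T.isPGroup'.exists_card_eq
    exact Or.inr ⟨m, F, inferInstance, inferInstance, hF.trans hm, by rw [← hT, ← hm], h3, e⟩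

end Cfsg.Agent.S0996
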