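import Cfsg.Agent.Base
import Cfsg.Statements.S0997
import Cfsg.Agent.S0996
import Cfsg.Agent.Small.BTTuan

set_option autoImplicit false
open Cfsg

namespace Cfsg.Agent.S0997

/-- Let G be a non-cyclic finite simple group of order p * q^b * g₀, where p and q are distinct primes and g₀ < p - 1. Then either p has the form 2^m + 1 or 2^m - 1 and G is isomorphic to the projective special linear group of dimension 2 over the field with p elements, or p = 2^m + 1 > 3 and G is isomorphic to that group over the field with 2^m elements. -/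
theorem result {G : Type*} [Group G] [Finite G] [IsSimpleGroup G] (hG : ¬ IsCyclic G) (p q b g₀ : ℕ) (hp : p.Prime) (hq : q.Prime) (hpq : p ≠ q) (hG' : Nat.card G = p * q ^ b * g₀) (hg : g₀ < p - 1) : (∃ (m : ℕ) (F : Type) (_ : Field F) (_ : Fintype F), Fintype.card F = p ∧ (p = 2 ^ m + 1 ∨ p = 2 ^ m - 1) ∧ Nonempty (G ≃* Matrix.ProjectiveSpecialLinearGroup (Fin 2) F)) ∨ (∃ (m : ℕ) (F : Type) (_ : Field F) (_ : Fintype F), Fintype.card F = 2 ^ m ∧ p = 2 ^ m + 1 ∧ 3 < p ∧ Nonempty (G ≃* Matrix.ProjectiveSpecialLinearGroup (Fin 2) F)) := by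
  have := Fact.mk hp
  have hnc := CL.Small.not_comm_of_simple_of_not_cyclic hG
  have hg0 : g₀ ≠ 0 := by
    rintro rfl
    exact Nat.card_pos.ne' (hG'.trans (mul_zero _))
  obtain ⟨c, g, hqg, rfl⟩ := Nat.exists_eq_pow_mul_and_not_dvd hg0 q hq.ne_one
  have h1 : g ≤ q ^ c * g := Nat.le_mul_of_pos_left g (pow_pos hq.pos c)
  have h2 : Nat.card G = p * q ^ (b + c) * g := by rw [hG']; ring
  have hP : ¬ p ^ 2 ∣ Nat.card G := by
    rw [h2, pow_two, mul_assoc, Nat.mul_dvd_mul_iff_left hp.pos, hp.dvd_mul]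
    rintro (h | h)
    · exact hpq ((Nat.prime_dvd_prime_iff_eq hp hq).mp (hp.dvd_of_dvd_pow h))
    · have := Nat.le_of_dvd (Nat.pos_of_ne_zero (right_ne_zero_of_mul hg0)) h
      omega
  obtain ⟨z, hz⟩ := exists_prime_orderOf_dvd_card' (G := G) p ⟨_, h2.trans (mul_assoc _ _ _)⟩
  obtain ⟨D⟩ := CL.D1.nonempty_data hz hP
  obtain ⟨hC, hN, m, hm⟩ := CL.BT.tuan_main D hnc hz hq hpq h2 (by omega) hqg hP
  rcases Cfsg.Agent.S0996.result (CL.Small.commutator_eq_top_of_simple hnc) p z hz hC hN with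
    ⟨F, _, _, hF, -, e⟩ | h
  · exact Or.inl ⟨m, F, inferInstance, inferInstance, hF, hm, e⟩
  · exact Or.inr h

end Cfsg.Agent.S0997
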