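import Cfsg.Agent.Base
import Cfsg.Statements.S0998
import Cfsg.Agent.S0997
import Cfsg.Agent.S0992
import Cfsg.Agent.PSL2.Card

set_option autoImplicit false
open Cfsg

namespace Cfsg.Agent.S0998

theorem three_dvd_or (m : ℕ) : 3 ∣ 2 ^ m + 1 ∨ 3 ∣ 2 ^ (m + 1) + 1 := by
  have : ¬ 3 ∣ 2 ^ m := fun h => by
    have := Nat.prime_three.dvd_of_dvd_pow h
    omega
  rw [pow_succ]
  rcases (show 2 ^ m % 3 = 2 ∨ 2 ^ m % 3 = 1 by omega) with h | h
  · exact Or.inl (by omega)
  · exact Or.inr (by omega)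

theorem eq_of_two_pow_mul {q r b k u : ℕ} (hq : q.Prime) (hr : r.Prime) (hqr : q ≠ r) (hk : 2 ≤ k)
    (hu : Odd u) (h : 2 ^ k * u = r * q ^ b) : u = r := by
  have h4 : 2 * 2 ∣ r * q ^ b := h ▸ (pow_dvd_pow 2 hk).mul_right u
  have hq2 : q = 2 := by
    by_contra h2
    have h3 : Nat.Coprime (2 * 2) (q ^ b) :=
      (((Nat.coprime_primes Nat.prime_two hq).mpr (Ne.symm h2)).pow_left 2).pow_right b
    exact absurd (hr.eq_one_or_self_of_dvd 2 (Dvd.dvd.trans (by norm_num)
      (h3.dvd_of_dvd_mul_right h4))) (by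
        rintro (h5 | rfl)
        · omega
        · have := h3.dvd_of_dvd_mul_right h4
          omega)
  subst hq2
  refine Nat.dvd_antisymm ?_ ?_
  · exact ((Nat.coprime_two_right.mpr hu).pow_right b).dvd_of_dvd_mul_right
      ⟨2 ^ k, by rw [← h, mul_comm]⟩
  · exact (((Nat.coprime_primes hr hq).mpr hqr.symm).pow_right k).dvd_of_dvd_mul_left ⟨_, h⟩

theorem aux {G : Type*} [Group G] [Finite G] [IsSimpleGroup G] (hG : ¬ IsCyclic G) (p q r b : ℕ)
    (hp : p.Prime) (hq : q.Prime) (hr : r.Prime) (hpq : p ≠ q) (hpr : r < p) (hqr : q ≠ r)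
    (hG' : Nat.card G = p * r * q ^ b) :
    (∃ (F : Type) (_ : Field F) (_ : Fintype F), Fintype.card F = 5 ∧
      Nonempty (G ≃* Matrix.ProjectiveSpecialLinearGroup (Fin 2) F)) ∨
    (∃ (F : Type) (_ : Field F) (_ : Fintype F), Fintype.card F = 7 ∧
      Nonempty (G ≃* Matrix.ProjectiveSpecialLinearGroup (Fin 2) F)) := by
  have hr2 := hr.two_le
  have hodd : Odd p := hp.odd_of_ne_two (by omega)
  by_cases h1 : r + 1 = p
  · exfalso
    have h2 : r = 2 := hr.even_iff.mp (by
      rw [← h1, Nat.odd_add_one, Nat.not_odd_iff_even] at hodd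
      exact hodd)
    subst h2
    have h3 : ¬ 2 ∣ p * q ^ b := by
      rw [Nat.prime_two.dvd_mul]
      rintro (h | h)
      · omega
      · exact hqr ((Nat.prime_dvd_prime_iff_eq hr hq).mp (hr.dvd_of_dvd_pow h)).symm
    have h4 : Nat.card G = 2 * (p * q ^ b) := by rw [hG']; ring
    obtain ⟨T⟩ : Nonempty (Sylow 2 G) := inferInstance
    have h5 := (Cfsg.Agent.S0992.result (CL.Small.not_comm_of_simple_of_not_cyclic hG)
      ⟨_, h4.trans (two_mul _)⟩ (by omega) T).1.card_four
    have h6 := Subgroup.card_subgroup_dvd_card (T : Subgroup G)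
    rw [h5] at h6
    omega
  rcases Cfsg.Agent.S0997.result hG p q b r hp hq hpq (by rw [hG']; ring) (by omega) with
    ⟨m, F, _, _, hF, hm, ⟨e⟩⟩ | ⟨m, F, _, _, hF, hm, h3, ⟨e⟩⟩
  · have h2 := CL.PSL2.card_PSL_of_odd (F := F) (hF ▸ hodd)
    rw [← Nat.card_congr e.toEquiv, hF, hG'] at h2
    have h4 : 2 * (r * q ^ b) = p ^ 2 - 1 :=
      Nat.eq_of_mul_eq_mul_left hp.pos (by rw [← h2]; ring)
    rcases hm with hm | hm
    · obtain _ | _ | m := m
      · omega
      · omega
      have h5 : 2 ^ (m + 2) * (2 ^ (m + 1) + 1) = r * q ^ b := by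
        refine Nat.eq_of_mul_eq_mul_left two_pos (h4 ▸ (Nat.sub_eq_of_eq_add ?_).symm)
        rw [hm]
        ring
      have h6 := eq_of_two_pow_mul hq hr hqr (by omega)
        ((even_two.pow_of_ne_zero (by omega)).add_one) h5
      refine Or.inl ⟨F, inferInstance, inferInstance, ?_, ⟨e⟩⟩
      rcases three_dvd_or (m + 1) with h7 | h7
      · rw [h6, Nat.prime_dvd_prime_iff_eq Nat.prime_three hr] at h7
        rw [hF, hm, pow_succ]
        omega
      · rw [← hm, Nat.prime_dvd_prime_iff_eq Nat.prime_three hp] at h7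
        omega
    · obtain _ | _ | _ | m := m
      · omega
      · omega
      · omega
      obtain ⟨u, hu⟩ : ∃ u, 2 ^ (m + 1) = u + 1 :=
        ⟨2 ^ (m + 1) - 1, by have := Nat.one_le_two_pow (n := m + 1); omega⟩
      have h7 : p = 4 * u + 3 := by rw [hm, pow_succ, pow_succ, hu]; omega
      have h5 : 2 ^ (m + 3) * (2 * u + 1) = r * q ^ b := by
        refine Nat.eq_of_mul_eq_mul_left two_pos (h4 ▸ (Nat.sub_eq_of_eq_add ?_).symm)
        rw [h7, pow_succ 2, pow_succ 2, hu]
        ring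
      have h6 := eq_of_two_pow_mul hq hr hqr (by omega) (odd_two_mul_add_one u) h5
      refine Or.inr ⟨F, inferInstance, inferInstance, ?_, ⟨e⟩⟩
      rcases three_dvd_or (m + 1) with h8 | h8
      · rw [hu] at h8
        have h9 : 3 ∣ r := by omega
        rw [Nat.prime_dvd_prime_iff_eq Nat.prime_three hr] at h9
        omega
      · rw [pow_succ, hu] at h8
        have h9 : 3 ∣ p := by omega
        rw [Nat.prime_dvd_prime_iff_eq Nat.prime_three hp] at h9
        omega
  · obtain _ | _ | m := m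
    · omega
    · omega
    have h2 := CL.PSL2.card_PSL_of_even (F := F) (hF ▸ even_two.pow_of_ne_zero (by omega))
    obtain ⟨u, hu⟩ : ∃ u, 2 ^ (m + 1) = u + 1 :=
      ⟨2 ^ (m + 1) - 1, by have := Nat.one_le_two_pow (n := m + 1); omega⟩
    have h7 : p = 2 * u + 3 := by rw [hm, pow_succ, hu]; omega
    rw [← Nat.card_congr e.toEquiv, hF, show (2 ^ (m + 1 + 1)) ^ 2 - 1 = p * (2 * u + 1) from
      Nat.sub_eq_of_eq_add (by rw [h7, pow_succ 2, hu]; ring)] at h2
    have h5 : 2 ^ (m + 2) * (2 * u + 1) = r * q ^ b :=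
      Nat.eq_of_mul_eq_mul_left hp.pos (by rw [← mul_assoc p r, ← hG', h2]; ring)
    have h6 := eq_of_two_pow_mul hq hr hqr (by omega) (odd_two_mul_add_one u) h5
    have h8 : u = 1 := by
      rcases three_dvd_or (m + 1) with h8 | h8
      · rw [hu] at h8
        have h9 : 3 ∣ r := by omega
        rw [Nat.prime_dvd_prime_iff_eq Nat.prime_three hr] at h9
        omega
      · rw [← hm, Nat.prime_dvd_prime_iff_eq Nat.prime_three hp] at h8
        omega
    have : Fact (Nat.Prime 5) := ⟨Nat.prime_five⟩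
    refine Or.inl ⟨ZMod 5, inferInstance, inferInstance, ZMod.card 5,
      CL.PSL2Rec.equiv_of_simple_card Nat.prime_five (by norm_num) ?_ (ZMod.card 5)⟩
    rw [h2, h7, pow_succ 2, hu, h8]
    norm_num

/-- A non-cyclic finite simple group whose order has the form p * r * q^b for distinct primes p, q, r is isomorphic to the projective special linear group of dimension 2 over the field with 5 or with 7 elements. -/
theorem result {G : Type*} [Group G] [Finite G] [IsSimpleGroup G] (hG : ¬ IsCyclic G) (p q r b : ℕ) (hp : p.Prime) (hq : q.Prime) (hr : r.Prime) (hpq : p ≠ q) (hpr : p ≠ r) (hqr : q ≠ r) (hG' : Nat.card G = p * r * q ^ b) : (∃ (F : Type) (_ : Field F) (_ : Fintype F), Fintype.card F = 5 ∧ Nonempty (G ≃* Matrix.ProjectiveSpecialLinearGroup (Fin 2) F)) ∨ (∃ (F : Type) (_ : Field F) (_ : Fintype F), Fintype.card F = 7 ∧ Nonempty (G ≃* Matrix.ProjectiveSpecialLinearGroup (Fin 2) F)) := by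
  rcases lt_or_gt_of_ne hpr with h | h
  · exact aux hG r q p b hr hq hp hqr.symm h hpq.symm (by rw [hG', mul_comm p])
  · exact aux hG p q r b hp hq hr hpq h hqr hG'

end Cfsg.Agent.S0998
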