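import Cfsg.Agent.Base
import Cfsg.Statements.S0999
import Cfsg.Agent.S0996
import Cfsg.Agent.Small.SimpleEmbed

set_option autoImplicit false
open Cfsg

namespace Cfsg.Agent.S0999

/-- Let G be a non-cyclic finite simple group and p a prime divisor of its order with p^3 > |G|. Then p > 3 and G is isomorphic to the projective special linear group of dimension 2 over the field with p elements, or p - 1 is a power of 2 and G is isomorphic to that group over the field with p - 1 elements. -/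
theorem result {G : Type*} [Group G] [Finite G] [IsSimpleGroup G] (hG : ¬ IsCyclic G) (p : ℕ) (hp : p.Prime) (hdvd : p ∣ Nat.card G) (hbig : Nat.card G < p ^ 3) : (∃ (F : Type) (_ : Field F) (_ : Fintype F), Fintype.card F = p ∧ 3 < p ∧ Nonempty (G ≃* Matrix.ProjectiveSpecialLinearGroup (Fin 2) F)) ∨ (∃ (m : ℕ) (F : Type) (_ : Field F) (_ : Fintype F), Fintype.card F = 2 ^ m ∧ p = 2 ^ m + 1 ∧ 3 < p ∧ Nonempty (G ≃* Matrix.ProjectiveSpecialLinearGroup (Fin 2) F)) := by
  have := Fact.mk hp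
  have hnc := CL.Small.not_comm_of_simple_of_not_cyclic hG
  have hperf := CL.Small.commutator_eq_top_of_simple hnc
  obtain ⟨n, hN⟩ := CL.BT.exists_card_sylow_eq (G := G) (p := p)
  have hn : 1 ≤ n := by
    have := CL.Small.one_lt_card_sylow hnc hdvd
    refine Nat.pos_of_ne_zero fun h0 => ?_
    rw [h0] at hN
    omega
  have hNp : p + 1 ≤ n * p + 1 := Nat.succ_le_succ (Nat.le_mul_of_pos_left p hn)
  have hP : ¬ p ^ 2 ∣ Nat.card G := by
    intro h
    obtain ⟨P⟩ : Nonempty (Sylow p G) := inferInstance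
    have h1 := Nat.le_of_dvd Nat.card_pos (P.pow_dvd_card_of_pow_dvd_card h)
    have h2 := Nat.le_of_dvd (Nat.pos_of_ne_zero Subgroup.index_ne_zero_of_finite) P.card_dvd_index
    have h3 := Nat.mul_le_mul h1 h2
    rw [Subgroup.card_mul_index, hN] at h3
    nlinarith
  obtain ⟨z, hz⟩ := exists_prime_orderOf_dvd_card' (G := G) p hdvd
  obtain ⟨D⟩ := CL.D1.nonempty_data hz hP
  have hcard := CL.BT.card_eq_mul D hz hP
  have he := CL.BT.two_le_card_H D hperf
  have hk : 0 < Nat.card D.K := Nat.card_pos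
  have h1 : Nat.card D.K * (2 * (n * p + 1)) < p ^ 2 := by
    refine lt_of_le_of_lt (Nat.mul_le_mul_left _ (Nat.mul_le_mul_right _ he)) ?_
    refine Nat.lt_of_mul_lt_mul_left (a := p) ?_
    rw [hcard, hN] at hbig
    nlinarith
  have h2 : 2 * (n * p + 1) < p ^ 2 := lt_of_le_of_lt (Nat.le_mul_of_pos_left _ hk) h1
  have hn' : 2 * n < p + 3 := Nat.lt_of_mul_lt_mul_right (a := p) (by nlinarith)
  have hp2 := hp.two_le
  have hsize : Nat.card D.K * p < (p - 1) * (n * p + 1) := by
    have h3 : 2 * Nat.card D.K < p := Nat.lt_of_mul_lt_mul_right (a := p) (by nlinarith)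
    calc Nat.card D.K * p < Nat.card D.K * (n * p + 1) := Nat.mul_lt_mul_of_pos_left (by omega) hk
      _ ≤ _ := Nat.mul_le_mul_right _ (by omega)
  have hK : D.K = ⊥ := by
    rcases (CL.BT.Am D).eq_empty_or_nonempty with h | ⟨χ, hχ⟩
    · have h3 := CL.BT.degree_eq' D
      rw [h, Finset.sum_empty] at h3
      have h4 : D.ε = -1 := D.ε_sign.resolve_left fun h5 => by rw [h5] at h3; omega
      refine CL.BT.eq_bot_of_apply_eq (CL.BT.θ_ne_one D 1) fun y hy => CL.BT.θ_apply_K D hz ?_ hy
      rw [CL.BT.small_θ_neg D hz hP hN hn' hsize h4]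
      exact (Nat.lt_succ_of_le (Nat.le_mul_of_pos_right _ (Nat.pos_of_ne_zero
        Subgroup.index_ne_zero_of_finite))).trans_eq (CL.BT.card_mul_index_add_one D)
    · refine CL.BT.eq_bot_of_apply_eq (CL.BT.ne_one_of_mem_Am D hχ) fun y hy =>
        CL.BT.A_apply_K D hz ((CL.BT.mem_Am D).mp hχ).1 ?_ hy
      have := CL.BT.small_Am D hz hP hN hn' hsize hχ
      omega
  exact Cfsg.Agent.S0996.result hperf p z hz (CL.BT.centralizer_eq_of_K D hz hK)
    (by rw [hN]; nlinarith)

end Cfsg.Agent.S0999
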