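import Cfsg.Agent.Base
import Cfsg.Statements.S1001
import Cfsg.Agent.S0904
import Cfsg.Agent.Char.Burnside
import Cfsg.Agent.Small.SelfCent

set_option autoImplicit false
open Cfsg

namespace Cfsg.Agent.S1001

open CL.Small Subgroup

/-- In a finite simple group whose order has the form p * 3^a * 2^b with p prime, the centralizer of any element of order p is the cyclic group it generates. -/
theorem result {G : Type*} [Group G] [Finite G] [IsSimpleGroup G] (p a b : ℕ) (hp : p.Prime) (hG : Nat.card G = p * 3 ^ a * 2 ^ b) (x : G) (hx : orderOf x = p) : Subgroup.centralizer ({x} : Set G) = Subgroup.zpowers x := by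
  have : Fact p.Prime := ⟨hp⟩
  have hx1 : x ≠ 1 := fun h => hp.ne_one (by rw [← hx, h, orderOf_one])
  by_cases h : p = 2 ∨ p = 3
  · have hs : Group.IsSolvable G := by
      refine CL.Char.isSolvable_of_card_dvd (p := 3) (q := 2) (a := a + 1) (b := b + 1)
        Nat.prime_three Nat.prime_two ?_
      rw [hG]
      rcases h with rfl | rfl
      · exact ⟨3, by ring⟩
      · exact ⟨2, by ring⟩
    have hcomm : IsMulCommutative G := ⟨⟨IsSimpleGroup.comm_iff_isSolvable.mpr hs⟩⟩
    have : (zpowers x).Normal := ⟨fun n hn g => by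
      rwa [mul_comm' g n, mul_inv_cancel_right]⟩
    rcases this.eq_bot_or_eq_top with h1 | h1
    · exact absurd (zpowers_eq_bot.mp h1) hx1
    · rw [h1, eq_top_iff]
      intro g _
      rw [mem_centralizer_singleton_iff, mul_comm']
  · push Not at h
    have h1 : IsPGroup p (zpowers x) :=
      IsPGroup.of_card (n := 1) (by rw [Nat.card_zpowers, hx, pow_one])
    obtain ⟨P, hP⟩ := h1.exists_le_sylow
    have h2 := Cfsg.Agent.S0904.result (G := G) 3 2 p a b Nat.prime_three Nat.prime_two
      (by norm_num) h.2.symm h.1.symm (by rw [hG]; ring) P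
    have hcard : Nat.card (P : Subgroup G) = p := by
      rw [P.card_eq_multiplicity, hG]
      have h3 : ¬ p ∣ 3 ^ a * 2 ^ b := by
        intro hd
        rcases (Nat.Prime.dvd_mul hp).mp hd with hd | hd
        · exact h.2 ((Nat.prime_dvd_prime_iff_eq hp Nat.prime_three).mp (hp.dvd_of_dvd_pow hd))
        · exact h.1 ((Nat.prime_dvd_prime_iff_eq hp Nat.prime_two).mp (hp.dvd_of_dvd_pow hd))
      rw [mul_assoc, Nat.factorization_mul hp.ne_zero (by positivity), Finsupp.add_apply,
        hp.factorization_self, Nat.factorization_eq_zero_of_not_dvd h3, add_zero, pow_one]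
    have h4 := eq_zpowers_of_card_prime hp hcard (hP (mem_zpowers x)) hx1
    rw [← centralizer_zpowers_eq, h4]
    exact h2

end Cfsg.Agent.S1001
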