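import Cfsg.Agent.Base
import Cfsg.Statements.S1008
import Cfsg.Agent.Small.O168c

set_option autoImplicit false
open Cfsg

namespace Cfsg.Agent.S1008

/-- In a simple group of order 168 every maximal subgroup is either isomorphic to the symmetric group of degree 4 or non-abelian of order 21; the maximal subgroups of order 21 form one conjugacy class and those isomorphic to the symmetric group of degree 4 form exactly two conjugacy classes. -/
theorem result {G : Type*} [Group G] [Finite G] [IsSimpleGroup G] (h : Nat.card G = 168) : (∀ M : Subgroup G, IsCoatom M → Nonempty (↥M ≃* Equiv.Perm (Fin 4)) ∨ (Nat.card ↥M = 21 ∧ ¬ IsMulCommutative ↥M)) ∧ (∀ M M' : Subgroup G, IsCoatom M → IsCoatom M' → Nat.card ↥M = 21 → Nat.card ↥M' = 21 → ∃ g : G, M' = M.map (MulAut.conj g).toMonoidHom) ∧ ∃ M₁ M₂ : Subgroup G, IsCoatom M₁ ∧ IsCoatom M₂ ∧ Nonempty (↥M₁ ≃* Equiv.Perm (Fin 4)) ∧ Nonempty (↥M₂ ≃* Equiv.Perm (Fin 4)) ∧ (∀ g : G, M₂ ≠ M₁.map (MulAut.conj g).toMonoidHom)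 ∧ ∀ M : Subgroup G, IsCoatom M → Nonempty (↥M ≃* Equiv.Perm (Fin 4)) → ∃ g : G, M = M₁.map (MulAut.conj g).toMonoidHom ∨ M = M₂.map (MulAut.conj g).toMonoidHom := by
  haveI := CL.O168.fact7
  refine ⟨fun M hM => ?_, fun M M' hM hM' h1 h2 => ?_, ?_⟩
  · rcases CL.O168.coatom_cases h hM with h1 | ⟨P, rfl⟩
    · exact Or.inl (CL.O168.nonempty_perm_four_of_card h h1)
    · exact Or.inr ⟨CL.O168.card_normalizer7 h P, CL.O168.normalizer7_not_comm h P⟩
  · obtain ⟨P, rfl⟩ := (CL.O168.coatom_cases h hM).resolve_left (by omega)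
    obtain ⟨P', rfl⟩ := (CL.O168.coatom_cases h hM').resolve_left (by omega)
    obtain ⟨g, hg⟩ := CL.SG.exists_sylow_conj P P'
    exact ⟨g, by rw [hg, CL.SG.normalizer_map_conj]⟩
  · obtain ⟨T⟩ : Nonempty (Sylow 2 G) := inferInstance
    obtain ⟨U, W, hne, h1⟩ := CL.O168.exists_two_kleins h T
    obtain ⟨hUT, hU⟩ := (h1 U).mpr (Or.inl rfl)
    obtain ⟨hWT, hW⟩ := (h1 W).mpr (Or.inr rfl)
    have hUc := CL.O168.card_normalizer_klein h hU
    have hWc := CL.O168.card_normalizer_klein h hW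
    refine ⟨_, _, CL.O168.isCoatom_of_card h hUc, CL.O168.isCoatom_of_card h hWc,
      CL.O168.nonempty_perm_four_of_card h hUc, CL.O168.nonempty_perm_four_of_card h hWc,
      fun g hg => ?_, fun M hM ⟨e⟩ => ?_⟩
    · rw [← CL.SG.normalizer_map_conj] at hg
      exact CL.O168.klein_not_conj h T hUT hWT hU hW hne g
        (CL.O168.klein_eq_of_normalizer_eq h hW
          (CL.SG.isKleinFour_map hU _ (MulAut.conj g).injective) hg).symm
    · obtain ⟨V, hV, -, hMV⟩ := CL.SG.exists_klein_of_perm_four e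
      have hM' : Subgroup.normalizer (V : Set G) = M := (hM.le_iff.mp hMV).resolve_left
        (CL.SG.ne_top_of_card (by rw [CL.O168.card_normalizer_klein h hV, h]; norm_num))
      obtain ⟨S, hS⟩ := CL.O168.exists_sylow_ge_klein h hV
      obtain ⟨g, hg⟩ := CL.SG.exists_sylow_conj S T
      have h2 := (h1 (V.map (MulAut.conj g).toMonoidHom)).mp
        ⟨hg ▸ Subgroup.map_mono hS, CL.SG.isKleinFour_map hV _ (MulAut.conj g).injective⟩
      refine ⟨g⁻¹, ?_⟩
      rcases h2 with h2 | h2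
      · left
        rw [← CL.SG.normalizer_map_conj, ← h2, CL.SG.map_conj_map_conj, inv_mul_cancel,
          CL.SG.map_conj_one, hM']
      · right
        rw [← CL.SG.normalizer_map_conj, ← h2, CL.SG.map_conj_map_conj, inv_mul_cancel,
          CL.SG.map_conj_one, hM']

end Cfsg.Agent.S1008
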