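import Cfsg.Agent.Base
import Cfsg.Statements.S1009

set_option autoImplicit false
open Cfsg

namespace Cfsg.Agent.S1009

open Subgroup MulAction Pointwise

/-- Brodkey's Theorem: if a finite group has abelian Sylow p-subgroups, then there are two Sylow p-subgroups whose intersection equals the intersection of all Sylow p-subgroups. -/
theorem result {G : Type*} [Group G] [Finite G] (p : ℕ) [Fact p.Prime] (hab : ∀ P : Sylow p G, IsMulCommutative ↥(P : Subgroup G)) : ∃ P Q : Sylow p G, (P : Subgroup G) ⊓ (Q : Subgroup G) = ⨅ R : Sylow p G, (R : Subgroup G) := by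
  obtain ⟨⟨S, T⟩, hm⟩ := Finite.exists_min (α := Sylow p G × Sylow p G)
    (fun x => Nat.card ↥((x.1 : Subgroup G) ⊓ (x.2 : Subgroup G)))
  refine ⟨S, T, le_antisymm (le_iInf fun P => ?_) (le_inf (iInf_le _ S) (iInf_le _ T))⟩
  set D : Subgroup G := (S : Subgroup G) ⊓ (T : Subgroup G) with hD
  set N := normalizer (D : Set G) with hN
  have key : ∀ R : Sylow p G, D ≤ R → (R : Subgroup G) ≤ N := by
    intro R hR
    refine le_trans ?_ (centralizer_le_normalizer _)
    intro x hx y hy
    have := (hab R).is_comm.comm ⟨y, hR hy⟩ ⟨x, hx⟩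
    exact congrArg Subtype.val this
  have hS : (S : Subgroup G) ≤ N := key S inf_le_left
  have hT : (T : Subgroup G) ≤ N := key T inf_le_right
  obtain ⟨U, hU⟩ := (P.isPGroup'.comap_subtype (K := N)).exists_le_sylow
  obtain ⟨x, hx⟩ := exists_smul_eq N U (S.subtype hS)
  -- `x • P ∩ T ≤ D`
  have h1 : (((x : G) • P : Sylow p G) : Subgroup G) ⊓ T ≤ D := by
    rintro y ⟨hy1, hy2⟩
    refine ⟨?_, hy2⟩
    have hyN : y ∈ N := hT hy2
    have h2 : (⟨y, hyN⟩ : N) ∈ ((x • U : Sylow p N) : Subgroup N) := by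
      rw [Sylow.coe_subgroup_smul, mem_pointwise_smul_iff_inv_smul_mem]
      apply hU
      have h3 : y ∈ (((x : G) • P : Sylow p G) : Subgroup G) := hy1
      rw [Sylow.coe_subgroup_smul, mem_pointwise_smul_iff_inv_smul_mem] at h3
      exact h3
    rw [hx] at h2
    exact h2
  have h2 : (((x : G) • P : Sylow p G) : Subgroup G) ⊓ T = D :=
    eq_of_le_of_card_ge h1 (hm ((x : G) • P, T))
  intro y hy
  have h3 : (x : G) * y * (x : G)⁻¹ ∈ D := (mem_normalizer_iff.mp x.2 y).mp hy
  rw [← h2] at h3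
  have h4 := h3.1
  have h5 : (x : G) * y * (x : G)⁻¹ ∈ (((x : G) • P : Sylow p G) : Subgroup G) := h4
  rw [Sylow.coe_subgroup_smul, mem_pointwise_smul_iff_inv_smul_mem] at h5
  simpa [mul_assoc] using h5

end Cfsg.Agent.S1009
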