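import Cfsg.Agent.Base
import Cfsg.Statements.S1010
import Cfsg.Agent.S1009
import Cfsg.Agent.Small.BTDeg
import Cfsg.Agent.Small.Sieve
import Cfsg.Agent.Small.SylowCount
import Cfsg.Agent.Small.SimpleEmbed
import Cfsg.Agent.Solv.Coprime
import Cfsg.Agent.D1.Main
import Cfsg.Agent.D1.Tests

set_option autoImplicit false
open Cfsg

namespace Cfsg.Agent.S1010

open Subgroup MulAction CL.Char CL.D1 CL.BT
open scoped commutatorElement

universe u

theorem card_sylow_eq_relIndex {G : Type*} [Group G] [Finite G] {p : ℕ} [Fact p.Prime]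
    (P : Sylow p G) {H : Subgroup G} (h : (P : Subgroup G) ≤ H) :
    Nat.card (Sylow p H) = (stabilizer G P).relIndex H := by
  rw [(P.subtype h).card_eq_index_normalizer, Sylow.stabilizer_eq_normalizer, relIndex]
  exact congrArg index (subgroupOf_normalizer_eq h).symm

theorem relIndex_sup_eq {G X : Type*} [Group G] [MulAction G X] (x : X) {A R : Subgroup G}
    (hA : A ≤ stabilizer G x) (hR : A ≤ normalizer (R : Set G)) :
    (stabilizer G x).relIndex (A ⊔ R) = (stabilizer G x).relIndex R := by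
  have h : ∀ H : Subgroup G, (stabilizer G x).relIndex H = (orbit H x).ncard := fun H => by
    rw [← index_stabilizer]
    rfl
  rw [h, h]
  congr 1
  ext y
  constructor
  · rintro ⟨⟨g, hg⟩, rfl⟩
    rw [sup_comm, ← SetLike.mem_coe, coe_mul_of_right_le_normalizer_left R A hR] at hg
    obtain ⟨r, hr, a, ha, rfl⟩ := hg
    exact ⟨⟨r, hr⟩, show r • x = (r * a) • x by rw [mul_smul, hA ha]⟩
  · rintro ⟨⟨g, hg⟩, rfl⟩
    exact ⟨⟨g, mem_sup_right hg⟩, rfl⟩

theorem card_sylow_quotient {G : Type*} [Group G] [Finite G] {p : ℕ} [Fact p.Prime]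
    (M : Subgroup G) [M.Normal] (h : ∀ Q : Sylow p G, M ≤ stabilizer G Q) :
    Nat.card (Sylow p (G ⧸ M)) = Nat.card (Sylow p G) := by
  refine (Nat.card_congr (Equiv.ofBijective _ ⟨fun Q R hQR => ?_,
    Sylow.mapSurjective_surjective (QuotientGroup.mk'_surjective M) p⟩)).symm
  have h1 : (Q : Subgroup G).map (QuotientGroup.mk' M) = (R : Subgroup G).map _ :=
    congrArg Sylow.toSubgroup hQR
  rw [map_eq_map_iff, QuotientGroup.ker_mk'] at h1
  have h2 : (R : Subgroup G) ≤ normalizer (Q : Set G) :=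
    le_sup_left.trans (h1.ge.trans (sup_le le_normalizer (Q.stabilizer_eq_normalizer ▸ h Q)))
  exact Sylow.ext (R.is_maximal' Q.isPGroup' (le_sup_right.trans
    (Q.is_maximal' (Q.isPGroup'.to_sup_of_normal_left' R.isPGroup' h2) le_sup_left).le))

theorem simple_case {G : Type*} [Group G] [Finite G] [IsSimpleGroup G]
    (hN : Nat.card (Sylow 5 G) = 21) : False := by
  have : Fact (Nat.Prime 5) := ⟨Nat.prime_five⟩
  obtain ⟨P₀⟩ : Nonempty (Sylow 5 G) := inferInstance
  have hnn : ∀ P : Sylow 5 G, ¬ (P : Subgroup G).Normal := fun P h => by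
    have := Sylow.unique_of_normal P h
    rw [Nat.card_unique] at hN
    omega
  have hnc : ¬ IsMulCommutative G := fun h => hnn P₀ inferInstance
  have hperf := CL.Small.commutator_eq_top_of_simple hnc
  have hidx : ∀ P Q : Sylow 5 G, Q ≠ P → ((Q : Subgroup G).subgroupOf P).index = 5 := by
    intro P Q hQP
    obtain ⟨k, hk⟩ := P.isPGroup'.index ((Q : Subgroup G).subgroupOf P)
    have h1 : ((Q : Subgroup G).subgroupOf P).index ≤ 21 := by
      rw [← CL.Small.stabilizer_sylow_of_isPGroup P.isPGroup', index_stabilizer, ← hN]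
      exact Set.ncard_le_card _
    obtain _ | _ | k := k
    · rw [pow_zero, index_eq_one, subgroupOf_eq_top] at hk
      exact absurd (Sylow.ext (P.is_maximal' Q.isPGroup' hk)) hQP
    · exact hk
    · have := Nat.pow_le_pow_right (show 0 < 5 by norm_num) (show 2 ≤ k + 1 + 1 by omega)
      omega
  have hI : (⨅ R : Sylow 5 G, (R : Subgroup G)) = ⊥ := by
    refine (IsSimpleGroup.eq_bot_or_eq_top_of_normal _ ⟨fun x hx g => ?_⟩).resolve_right
      fun h => hnn P₀ ?_
    · rw [mem_iInf] at hx ⊢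
      intro R
      have := smul_mem_pointwise_smul _ (MulAut.conj g) _ (hx (g⁻¹ • R))
      rwa [← Sylow.coe_subgroup_smul, smul_inv_smul] at this
    · rw [eq_top_iff.mpr (h.ge.trans (iInf_le _ P₀))]
      infer_instance
  have hab : ∀ P : Sylow 5 G, IsMulCommutative (P : Subgroup G) := fun P => by
    refine ⟨⟨fun a b => Subtype.ext ?_⟩⟩
    have h1 : ⁅(a : G), (b : G)⁆ ∈ ⨅ R : Sylow 5 G, (R : Subgroup G) := by
      rw [mem_iInf]
      intro R
      by_cases hR : R = P
      · rw [hR]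
        exact (⁅a, b⁆ : (P : Subgroup G)).2
      have h2 := hidx P R hR
      have h3 : ((R : Subgroup G).subgroupOf P).Normal := by
        obtain ⟨k, hk⟩ := P.isPGroup'.exists_card_eq
        refine normal_of_index_eq_minFac_card ?_
        have h4 := index_dvd_card ((R : Subgroup G).subgroupOf P)
        rw [h2, hk] at h4 ⊢
        rw [Nat.prime_five.pow_minFac fun h0 => by simp [h0] at h4]
      have h4 : IsCyclic (P ⧸ (R : Subgroup G).subgroupOf P) := isCyclic_of_prime_card h2
      have h5 : ⁅a, b⁆ ∈ (R : Subgroup G).subgroupOf P := by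
        rw [← QuotientGroup.eq_one_iff, ← QuotientGroup.mk'_apply, map_commutatorElement,
          commutatorElement_eq_one_iff_mul_comm]
        exact IsMulCommutative.is_comm.comm _ _
      exact h5
    rw [hI, mem_bot, commutatorElement_eq_one_iff_mul_comm] at h1
    exact h1
  obtain ⟨P, Q, hPQ⟩ := Cfsg.Agent.S1009.result 5 hab
  rw [hI] at hPQ
  have hP5 : Nat.card (P : Subgroup G) = 5 := by
    have h1 : Q ≠ P := fun h => hnn P (by
      rw [h, inf_idem] at hPQ
      rw [hPQ]
      infer_instance)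
    refine Eq.trans ?_ (hidx P Q h1)
    rw [← inf_subgroupOf_left, hPQ, bot_subgroupOf, index_bot]
  have hP : ¬ 5 ^ 2 ∣ Nat.card G := fun h => by
    have := P.pow_dvd_card_of_pow_dvd_card h
    rw [hP5] at this
    omega
  obtain ⟨z, hz⟩ := exists_prime_orderOf_dvd_card' (G := G) 5 (hP5 ▸ card_subgroup_dvd_card _)
  obtain ⟨D⟩ := nonempty_data hz hP
  have he := two_le_card_H D hperf
  have het := card_mul_index_add_one D
  have he' : Nat.card D.H = 2 ∨ Nat.card D.H = 4 := by
    have h1 : Nat.card D.H ∣ 4 := ⟨D.H.index, by omega⟩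
    have h2 := Nat.le_of_dvd (by norm_num) h1
    interval_cases Nat.card D.H <;> omega
  by_cases hK : D.K = ⊥
  · have h1 := card_eq_mul D hz hP
    rw [hK, card_bot, hN] at h1
    rcases he' with h | h <;> rw [h] at h1
    · exact CL.Sieve.card_ne_of_kill (B := 21) (by norm_num) (by decide +kernel) h1
    · exact CL.Sieve.card_ne_of_kill (B := 21) (by norm_num) (by decide +kernel) h1
  have hidx := index_centralizer_eq D hz hP
  rw [hN] at hidx
  have h7 : ∀ d : ℕ, 2 * 5 ≤ d → d ∣ (centralizer ({z} : Set G)).index →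
      (Nat.card D.H = 4 → d % 5 = 1 ∨ d % 5 = 4) → 7 ∣ d := by
    intro d h1 h2 h3
    rw [hidx] at h2
    rcases he' with h | h <;> rw [h] at h2
    · have h4 := Nat.le_of_dvd (by norm_num) h2
      interval_cases d <;> omega
    · have h4 := Nat.le_of_dvd (by norm_num) h2
      have h5 := h3 h
      interval_cases d <;> omega
  have e1 : 7 ∣ ∑ χ ∈ Ap D, deg (χ : G → ℂ) := Finset.dvd_sum fun χ hχ => by
    obtain ⟨h1, -, h2⟩ := (mem_Ap D).mp hχ
    obtain ⟨u, hu⟩ := deg_Ap D hperf hz hχ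
    exact h7 _ (D.two_mul_le_deg hperf hz hK (Or.inl h1) h2) (deg_A_dvd D hz h1) fun _ => by omega
  have e2 : 7 ∣ ∑ χ ∈ Am D, deg (χ : G → ℂ) := Finset.dvd_sum fun χ hχ => by
    obtain ⟨u, hu⟩ := deg_Am D hz hχ
    exact h7 _ (D.two_mul_le_deg hperf hz hK (Or.inl ((mem_Am D).mp hχ).1)
      (ne_one_of_mem_Am D hχ)) (deg_A_dvd D hz ((mem_Am D).mp hχ).1) fun _ => by omega
  have e3 : 7 ∣ deg (D.θ 1 : G → ℂ) := by
    refine h7 _ (D.two_mul_le_deg hperf hz hK (Or.inr (D.mem_E.mpr ⟨1, rfl⟩)) (θ_ne_one D 1))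
      (deg_θ_dvd D hz) fun h => ?_
    rcases D.ε_sign with h1 | h1
    · obtain ⟨s, hs⟩ := deg_θ_pos D hz h1
      omega
    · obtain ⟨s, hs⟩ := deg_θ_neg D hz h1
      omega
  have e4 := degree_eq' D
  rcases D.ε_sign with h1 | h1 <;> rw [h1] at e4 <;> omega

theorem aux (n : ℕ) : ∀ (G : Type u) [Group G] [Finite G], Nat.card G = n →
    Nat.card (Sylow 5 G) ≠ 21 := by
  induction n using Nat.strong_induction_on with
  | _ n ih =>
  intro G _ _ hn hN
  have : Fact (Nat.Prime 5) := ⟨Nat.prime_five⟩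
  have : Fact (Nat.Prime 3) := ⟨Nat.prime_three⟩
  have ih1 : ∀ H : Subgroup G, Nat.card (Sylow 5 H) = 21 → H = ⊤ := fun H h => by
    by_contra hH
    exact ih _ (hn ▸ (card_le_card_group H).lt_of_ne fun h1 => hH (eq_top_of_card_eq H h1)) H rfl h
  have hst : ∀ P : Sylow 5 G, (stabilizer G P).index = 21 := fun P => by
    rw [index_stabilizer_of_transitive, hN]
  have hle : ∀ P : Sylow 5 G, (P : Subgroup G) ≤ stabilizer G P := fun P =>
    P.stabilizer_eq_normalizer ▸ le_normalizer
  have hdiv : ∀ d, d ∣ 21 → d ≡ 1 [MOD 5] → d = 1 ∨ d = 21 := fun d h1 h2 => by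
    have := Nat.le_of_dvd (by norm_num) h1
    rw [Nat.ModEq] at h2
    interval_cases d <;> omega
  have key : ∀ (M : Subgroup G) [M.Normal], M ≠ ⊥ → ∀ P : Sylow 5 G,
      (P : Subgroup G) ⊔ M = ⊤ := by
    intro M hM hM1 P
    have h1 := card_sylow_eq_relIndex P (le_sup_left : _ ≤ (P : Subgroup G) ⊔ M)
    have h2 := card_sylow_modEq_one 5 ↥((P : Subgroup G) ⊔ M)
    have h3 := relIndex_sup_eq P (hle P) (le_normalizer_of_normal (H := M))
    have h4 := relIndex_sup_eq P le_rfl (le_normalizer_of_normal (H := M))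
    have h5 := relIndex_dvd_index_of_le (le_sup_left : _ ≤ stabilizer G P ⊔ M)
    rw [h4, ← h3, ← h1, hst] at h5
    refine ih1 _ ((hdiv _ h5 h2).resolve_left fun h6 => ?_)
    rw [h1, h3, relIndex_eq_one] at h6
    refine ih _ ?_ (G ⧸ M) rfl ((card_sylow_quotient M fun Q m hm => ?_).trans hN)
    · rw [← hn, ← M.index_mul_card]
      exact lt_mul_of_one_lt_right (Nat.pos_of_ne_zero index_ne_zero_of_finite)
        ((one_lt_card_iff_ne_bot M).mpr hM1)
    · obtain ⟨g, rfl⟩ := exists_smul_eq G P Q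
      have h7 : (g⁻¹ * m * g) • P = P := h6 (hM.conj_mem' m hm g)
      rw [mul_smul, mul_smul, inv_smul_eq_iff] at h7
      exact h7
  have hne : ∀ P : Sylow 5 G, (P : Subgroup G) ≠ ⊤ := fun P h => by
    have := hst P
    rw [eq_top_iff.mpr (h.ge.trans (hle P)), index_top] at this
    omega
  obtain ⟨P₀⟩ : Nonempty (Sylow 5 G) := inferInstance
  have : Nontrivial G := not_subsingleton_iff_nontrivial.mp fun h =>
    hne P₀ (Subsingleton.elim _ _)
  refine @simple_case G _ _ ⟨fun M hM => ?_⟩ hN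
  by_contra hcon
  push Not at hcon
  obtain ⟨S⟩ : Nonempty (Sylow 5 M) := inferInstance
  obtain ⟨Q, hQ⟩ := S.exists_comap_subtype_eq
  have hSQ : (S : Subgroup M) = (Q : Subgroup G).subgroupOf M := by rw [← hQ]; rfl
  have h1 : (stabilizer G Q).relIndex M = 21 := by
    rw [← relIndex_sup_eq Q (hle Q) (le_normalizer_of_normal (H := M)), key M hcon.1 Q,
      relIndex_top_right, hst]
  have h2 : Nat.card (Sylow 5 M) ∣ 21 := by
    rw [S.card_eq_index_normalizer, ← h1]
    refine index_dvd_of_le fun m hm => ?_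
    have h3 := mem_normalizer_iff.mp (Sylow.smul_eq_iff_mem_normalizer.mp hm)
    rw [← S.coe_coe, mem_normalizer_iff, hSQ]
    exact fun x => h3 x
  have h3 : Nat.card (Sylow 5 M) = 1 :=
    (hdiv _ h2 (card_sylow_modEq_one 5 M)).resolve_right fun h => hcon.2 (ih1 M h)
  have h4 : Subsingleton (Sylow 5 M) := (Nat.card_eq_one_iff_unique.mp h3).1
  have h5 : ((S : Subgroup M).map M.subtype).Normal := inferInstance
  have h6 : (S : Subgroup M) = ⊥ := by
    by_contra h7
    refine hne Q ?_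
    rw [← key _ (mt (map_eq_bot_iff_of_injective _ M.subtype_injective).mp h7) Q, hSQ,
      subgroupOf_map_subtype, sup_inf_self]
  have h7 : ¬ 5 ∣ Nat.card M := by
    have := S.not_dvd_index
    rwa [h6, index_bot] at this
  obtain ⟨k, hk⟩ := Q.isPGroup'.exists_card_eq
  obtain ⟨R, hRM, hR, hQR⟩ := CL.coprime_exists_invariant_sylow (A := Q) (K := M)
    le_normalizer_of_normal
    (hk ▸ ((Nat.Prime.coprime_iff_not_dvd Nat.prime_five).mpr h7).pow_left k)
    (Or.inl (by have := Q.isPGroup'.isNilpotent; infer_instance)) 3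
  have h8 := card_sylow_modEq_one 5 ↥((Q : Subgroup G) ⊔ R)
  rw [card_sylow_eq_relIndex Q le_sup_left, relIndex_sup_eq Q (hle Q) hQR] at h8
  obtain ⟨j, -, hj⟩ := (Nat.dvd_prime_pow Nat.prime_three).mp
    (hR ▸ relIndex_dvd_card (stabilizer G Q) R)
  have h9 : (stabilizer G Q).relIndex R ≤ 21 := h1 ▸ relIndex_le_of_le_right hRM (by omega)
  have h10 : (stabilizer G Q).relIndex R = 1 := by
    rw [hj] at h8 h9 ⊢
    have : j < 3 := by
      by_contra h
      have := Nat.pow_le_pow_right (show 0 < 3 by norm_num) (not_lt.mp h)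
      omega
    interval_cases j <;> simp_all [Nat.ModEq]
  have h11 := relIndex_dvd_of_le_left M (relIndex_eq_one.mp h10)
  have h12 := (R.subgroupOf M).card_mul_index
  rw [Nat.card_congr (subgroupOfEquivOfLe hRM).toEquiv, hR] at h12
  refine Nat.pow_succ_factorization_not_dvd (Nat.card_pos (α := M)).ne' Nat.prime_three ?_
  rw [pow_succ]
  nth_rewrite 2 [← h12]
  exact Nat.mul_dvd_mul_left _ (Dvd.dvd.trans (by rw [h1]; norm_num) h11)

/-- No finite group has exactly twenty-one Sylow 5-subgroups. -/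
theorem result {G : Type*} [Group G] [Finite G] : Nat.card (Sylow 5 G) ≠ 21 := by
  exact aux _ G rfl

end Cfsg.Agent.S1010
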