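import Cfsg.Agent.Base
import Cfsg.Statements.S1011
import Cfsg.Agent.Small.Count2
import Cfsg.Agent.Small.O168c
import Cfsg.Agent.S1230
import Cfsg.Agent.Lin.Card

set_option autoImplicit false
open Cfsg

namespace Cfsg.Agent.S1011

open CL.SG Subgroup

theorem fact7 : Fact (Nat.Prime 7) := ⟨by norm_num⟩

attribute [local instance] fact7

section

variable {G : Type*} [Group G] [Finite G] [IsSimpleGroup G] (h : Nat.card G = 504)
include h

theorem card7 (P : Sylow 7 G) : Nat.card (P : Subgroup G) = 7 :=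
  card_sylow_of_eq P (k := 1) (m := 72) (h.trans (by norm_num)) (by norm_num)

theorem card3 (P : Sylow 3 G) : Nat.card (P : Subgroup G) = 9 :=
  card_sylow_of_eq P (k := 2) (m := 56) (h.trans (by norm_num)) (by norm_num)

theorem index_ge {H : Subgroup G} (hH : H ≠ ⊤) : 8 ≤ H.index := by
  have h1 := card_dvd_factorial_index hH
  have h2 : H.index ≠ 7 := by
    intro h2
    obtain ⟨m, h3, h4⟩ := exists_index_alt (by omega) h2 (by norm_num)
    rw [h] at h3
    have h5 : m = 5 := by
      have : Nat.factorial 7 = 5040 := rfl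
      omega
    subst h5
    rcases h4 with h4 | h4
    · omega
    · revert h4; decide
  have h3 : H.index ≠ 0 := index_ne_zero_of_finite
  rw [h] at h1
  by_contra h4
  generalize H.index = n at *
  have : n < 8 := by omega
  interval_cases n <;> first | omega | (revert h1; decide)

theorem seven (P : Sylow 7 G) : Nat.card (Sylow 7 G) = 36 ∧
    Nat.card (centralizer ((P : Subgroup G) : Set G)) = 7 := by
  have hP := card7 h P
  have : IsCyclic (P : Subgroup G) := isCyclic_of_prime_card hP
  have hb : (P : Subgroup G) ≠ ⊥ := ne_bot_of_card (by rw [hP]; norm_num)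
  have ht : (P : Subgroup G) ≠ ⊤ := ne_top_of_card (by rw [hP, h]; norm_num)
  obtain ⟨m, h1, h2, -, -, h3⟩ := exists_card_normalizer_sylow P hb ht inferInstance
  rw [IsCyclic.card_mulAut, hP, Nat.totient_prime (by norm_num)] at h2
  have h4 := card_sylow_mul_card_normalizer P
  have h5 := card_sylow_modEq_one 7 G
  have h6 := card_centralizer_of_card_sylow P hP
  have h7 := card_sylow_ne_one P hb ht
  obtain ⟨c, hc⟩ := card_dvd_of_le (le_centralizer (P : Subgroup G))
  rw [hP] at hc
  rw [h3, h, hc] at h4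
  rw [hc] at h6 ⊢
  unfold Nat.ModEq at h5
  generalize Nat.card (Sylow 7 G) = n at *
  have h8 : n * (c * m) = 72 := by nlinarith
  have h9 : n ∣ 72 := ⟨_, h8.symm⟩
  have := Nat.le_of_dvd (by norm_num) h9
  have := Nat.le_of_dvd (by norm_num) h2
  interval_cases n <;> interval_cases m <;> omega

theorem card_centralizer7 {x : G} (hx : orderOf x = 7) :
    Nat.card (centralizer ({x} : Set G)) = 7 := by
  obtain ⟨P⟩ : Nonempty (Sylow 7 G) := inferInstance
  rw [card_centralizer_of_orderOf P (card7 h P) hx, (seven h P).2]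

theorem not_seven_dvd {g : G} (h1 : ¬ orderOf g ∣ 7) :
    ¬ 7 ∣ Nat.card (centralizer ({g} : Set G)) := by
  intro h7
  obtain ⟨x, hx, hx7⟩ := exists_orderOf_eq_mem _ 7 h7
  have := orderOf_dvd_card_of_mem (mem_centralizer_comm.mp hx)
  rw [card_centralizer7 h hx7] at this
  exact h1 this

theorem three (Q : Sylow 3 G) : Nat.card (Sylow 3 G) = 28 ∧
    Nat.card (normalizer ((Q : Subgroup G) : Set G)) = 18 ∧
    Nat.card (centralizer ((Q : Subgroup G) : Set G)) = 9 := by
  have hP := card3 h Q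
  have hb : (Q : Subgroup G) ≠ ⊥ := ne_bot_of_card (by rw [hP]; norm_num)
  have ht : (Q : Subgroup G) ≠ ⊤ := ne_top_of_card (by rw [hP, h]; norm_num)
  have hcomm : IsMulCommutative (Q : Subgroup G) :=
    IsPGroup.isMulCommutative_of_card_eq_prime_sq (p := 3) hP
  obtain ⟨m, h1, -, -, -, h3⟩ := exists_card_normalizer_sylow Q hb ht hcomm
  have h4 := card_sylow_mul_card_normalizer Q
  have h5 := card_sylow_modEq_one 3 G
  have h6 := index_ge h (normalizer_ne_top hb ht)
  have h7 : (normalizer ((Q : Subgroup G) : Set G)).index = Nat.card (Sylow 3 G) :=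
    Q.card_eq_index_normalizer.symm
  obtain ⟨c, hc⟩ := card_dvd_of_le (le_centralizer (Q : Subgroup G))
  rw [hP] at hc
  rw [h7] at h6
  rw [h3, h, hc] at h4
  rw [h3, hc]
  unfold Nat.ModEq at h5
  generalize Nat.card (Sylow 3 G) = n at *
  have h8 : n * (c * m) = 56 := by nlinarith
  have h9 : n ∣ 56 := ⟨_, h8.symm⟩
  have := Nat.le_of_dvd (by norm_num) h9
  have h10 : n = 28 := by interval_cases n <;> omega
  subst h10
  have h11 : m ∣ 2 := ⟨c, by nlinarith⟩
  have := Nat.le_of_dvd (by norm_num) h11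
  interval_cases m <;> omega

theorem centralizer3 (Q : Sylow 3 G) {y : G} (hy : y ∈ (Q : Subgroup G)) (h1 : y ≠ 1) :
    centralizer ({y} : Set G) = Q := by
  have hP := card3 h Q
  have ht : (Q : Subgroup G) ≠ ⊤ := ne_top_of_card (by rw [hP, h]; norm_num)
  have hcomm : IsMulCommutative (Q : Subgroup G) :=
    IsPGroup.isMulCommutative_of_card_eq_prime_sq (p := 3) hP
  obtain ⟨-, hN, hC⟩ := three h Q
  have hCQ : (Q : Subgroup G) = centralizer ((Q : Subgroup G) : Set G) :=
    eq_of_le_of_card_le (le_centralizer _) (by rw [hC, hP])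
  have hyo := orderOf_dvd_card_of_mem hy
  rw [hP] at hyo
  have hy1 : orderOf y ≠ 1 := fun h2 => h1 (orderOf_eq_one_iff.mp h2)
  have hinv : ∀ u ∈ normalizer ((Q : Subgroup G) : Set G), u ∉ (Q : Subgroup G) →
      u * y * u⁻¹ = y⁻¹ := fun u hu hu' =>
    inverts_of_card_two Q ht hcomm (by rw [hN, hC]) hu (hCQ ▸ hu') hy
  have hne : y ≠ y⁻¹ := by
    intro h2
    have h3 : y ^ 2 = 1 := by rw [pow_two]; nth_rewrite 2 [h2]; exact mul_inv_cancel y
    exact hy1 (Nat.eq_one_of_dvd_coprimes (by norm_num : Nat.Coprime 9 2) hyo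
      (orderOf_dvd_of_pow_eq_one h3))
  have hle : (Q : Subgroup G) ≤ centralizer ({y} : Set G) := fun a ha =>
    mem_centralizer_singleton_iff.mpr
      (congrArg Subtype.val (hcomm.1.1 (⟨a, ha⟩ : (Q : Subgroup G)) ⟨y, hy⟩))
  have h2 : normalizer ((Q : Subgroup G) : Set G) ⊓ centralizer ({y} : Set G) = Q := by
    apply le_antisymm _ (le_inf le_normalizer hle)
    rintro u ⟨hu, hu'⟩
    by_contra hu''
    have h3 := hinv u hu hu''
    rw [mem_centralizer_singleton_iff.mp hu', mul_inv_cancel_right] at h3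
    exact hne h3
  have h3 := card_sylow_mul_card_normalizer (Q.subtype hle)
  rw [Sylow.coe_subtype, CL.O168.normalizer_subgroupOf_card hle, h2, hP] at h3
  have h4 := card_sylow_modEq_one 3 (centralizer ({y} : Set G))
  have h5 := not_seven_dvd h (g := y) (fun h5 =>
    hy1 (Nat.eq_one_of_dvd_coprimes (by norm_num : Nat.Coprime 9 7) hyo h5))
  have h6 := card_subgroup_dvd_card (centralizer ({y} : Set G))
  have h7 : Nat.card (centralizer ({y} : Set G)) ≠ 36 := by
    intro h7
    obtain ⟨u, hu, hu'⟩ : ∃ u ∈ normalizer ((Q : Subgroup G) : Set G), u ∉ (Q : Subgroup G) := by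
      by_contra hne
      push Not at hne
      have := card_le_of_le (show normalizer ((Q : Subgroup G) : Set G) ≤ Q from hne)
      omega
    have h8 : centralizer ({y} : Set G) < normalizer (zpowers y : Set G) := by
      refine lt_of_le_of_ne (centralizer_zpowers y ▸ centralizer_le_normalizer _) (fun h8 => ?_)
      have h9 : u ∈ normalizer (zpowers y : Set G) := by
        apply mem_normalizer_fintype
        rintro _ ⟨k, rfl⟩
        change u * y ^ k * u⁻¹ ∈ zpowers y
        rw [← conj_zpow, hinv u hu hu']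
        exact zpow_mem (inv_mem (mem_zpowers y)) k
      rw [← h8] at h9
      exact hu' (h2 ▸ ⟨hu, h9⟩)
    have h9 := index_ge h (normalizer_ne_top (H := zpowers y) (by simpa using h1)
      (fun h9 => ht (top_le_iff.mp (h9 ▸ zpowers_le.mpr hy))))
    have h10 := card_mul_index (normalizer (zpowers y : Set G))
    obtain ⟨k, hk⟩ := card_dvd_of_le h8.le
    have h11 : k ≠ 1 := by
      rintro rfl
      exact h8.ne (eq_of_le_of_card_le h8.le (by omega))
    rw [hk, h7, h] at h10
    generalize (normalizer (zpowers y : Set G)).index = i at *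
    rcases Nat.lt_or_ge k 2 with h12 | h12
    · interval_cases k <;> omega
    · nlinarith
  symm
  apply eq_of_le_of_card_le hle
  rw [hP]
  rw [← h3, h] at h6
  rw [← h3] at h5 h7 ⊢
  unfold Nat.ModEq at h4
  generalize Nat.card (Sylow 3 (centralizer ({y} : Set G))) = n at *
  have h8 : n ∣ 56 := Nat.dvd_of_mul_dvd_mul_right (by norm_num : 0 < 9) h6
  have := Nat.le_of_dvd (by norm_num) h8
  interval_cases n <;> omega

theorem two_group (t : G) (ht : orderOf t = 2) : IsPGroup 2 (centralizer ({t} : Set G)) := by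
  apply card_dvd_two_pow
  intro q hq hd
  have h7 := not_seven_dvd h (g := t) (by rw [ht]; norm_num)
  have h3 : ¬ 3 ∣ Nat.card (centralizer ({t} : Set G)) := by
    intro h3
    obtain ⟨y, hy, hy3⟩ := exists_orderOf_eq_mem _ 3 h3
    obtain ⟨Q, hQ⟩ := exists_sylow_mem (p := 3) (k := 1) (x := y) (by rw [hy3]; norm_num)
    have := orderOf_dvd_card_of_mem (mem_centralizer_comm.mp hy)
    rw [centralizer3 h Q hQ (by rintro rfl; simp at hy3), card3 h, ht] at this
    omega
  have h1 : q ∣ 2 ^ 3 * (3 ^ 2 * 7) := by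
    have := hd.trans (card_subgroup_dvd_card _)
    rwa [h] at this
  rcases (Nat.Prime.dvd_mul hq).mp h1 with h2 | h2
  · exact (Nat.prime_dvd_prime_iff_eq hq Nat.prime_two).mp (hq.dvd_of_dvd_pow h2)
  rcases (Nat.Prime.dvd_mul hq).mp h2 with h2 | h2
  · exact absurd ((Nat.prime_dvd_prime_iff_eq hq Nat.prime_three).mp (hq.dvd_of_dvd_pow h2) ▸ hd) h3
  · exact absurd ((Nat.prime_dvd_prime_iff_eq hq fact7.out).mp h2 ▸ hd) h7

theorem two_elements : {g : G | ∃ k, orderOf g ∣ 2 ^ k}.ncard ≤ 64 := by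
  obtain ⟨P⟩ : Nonempty (Sylow 7 G) := inferInstance
  obtain ⟨Q⟩ : Nonempty (Sylow 3 G) := inferInstance
  have h1 := ncard_orderOf_eq_prime P (card7 h P)
  have h2 := ncard_pElements_of_TI Q (fun R S x hR hS hx =>
    Sylow.ext ((centralizer3 h R hR hx).symm.trans (centralizer3 h S hS hx)))
  rw [(seven h P).1] at h1
  rw [(three h Q).1, card3 h] at h2
  have h3 := Set.ncard_le_card (({g : G | orderOf g = 7} ∪
    {g : G | g ≠ 1 ∧ ∃ k, orderOf g = 3 ^ k}) ∪ {g : G | ∃ k, orderOf g ∣ 2 ^ k})
  have h4 : ∀ g : G, g ≠ 1 → ∀ k, orderOf g = 3 ^ k → 3 ∣ orderOf g := by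
    intro g hg k hk
    rw [hk]
    apply dvd_pow_self
    rintro rfl
    exact hg (orderOf_eq_one_iff.mp hk)
  rw [Set.ncard_union_eq, Set.ncard_union_eq, h1, h2, h] at h3
  · omega
  · rw [Set.disjoint_left]
    rintro g hg ⟨hg1, k, hk⟩
    have := h4 g hg1 k hk
    rw [hg] at this
    omega
  · rw [Set.disjoint_left]
    rintro g (hg | ⟨hg1, k, hk⟩) ⟨j, hj⟩
    · rw [hg] at hj
      have := fact7.out.dvd_of_dvd_pow hj
      omega
    · have := Nat.prime_three.dvd_of_dvd_pow ((h4 g hg1 k hk).trans hj)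
      omega

end

/-- A simple group of order 504 is isomorphic to the projective special linear group of dimension 2 over the field with 8 elements. -/
theorem result {G : Type*} [Group G] [Finite G] [IsSimpleGroup G] (h : Nat.card G = 504) {F : Type*} [Field F] [Fintype F] (hF : Fintype.card F = 8) : Nonempty (G ≃* Matrix.ProjectiveSpecialLinearGroup (Fin 2) F) := by
  obtain ⟨T⟩ : Nonempty (Sylow 2 G) := inferInstance
  have hT : Nat.card (T : Subgroup G) = 8 :=
    card_sylow_of_eq T (k := 3) (m := 63) (h.trans (by norm_num)) (by norm_num)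
  have hb : (T : Subgroup G) ≠ ⊥ := ne_bot_of_card (by rw [hT]; norm_num)
  have ht : (T : Subgroup G) ≠ ⊤ := ne_top_of_card (by rw [hT, h]; norm_num)
  obtain ⟨K, _, _, hK, ⟨e⟩⟩ := Cfsg.Agent.S1230.result T
    (not_isCyclic_sylow_minFac (by rw [h]; norm_num) T ht)
    (fun hn => (hn.eq_bot_or_eq_top).elim hb ht)
    (centralizer_elementary T hb (two_group h) (by
      rw [hT, h]
      have := two_elements h
      omega))
  obtain ⟨e'⟩ := CL.Lin.nonempty_pslCongr (ι := Fin 2) (F := K) (K := F) (by rw [hK, hT, hF])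
  exact ⟨e.trans e'⟩

end Cfsg.Agent.S1011
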