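import Cfsg.Statements.S1013
import Cfsg.Agent.Base
import Cfsg.Agent.Perm.SimpleCrit

set_option autoImplicit false
open Cfsg

namespace Cfsg.Agent.S1013

/-- Let G be a transitive permutation group of prime degree p having more than one Sylow p-subgroup, and suppose a Sylow p-subgroup P has prime index in its normalizer. Then G is simple. -/
theorem result {α : Type*} [Fintype α] [DecidableEq α] {p : ℕ} [Fact p.Prime] (hα : Fintype.card α = p) (G : Subgroup (Equiv.Perm α)) [MulAction.IsPretransitive ↥G α] (P : Sylow p ↥G) (hn : 1 < Nat.card (Sylow p ↥G)) (ht : (((P : Subgroup ↥G).subgroupOf (Subgroup.normalizer ((P : Subgroup ↥G) : Set ↥G))).index).Prime) : IsSimpleGroup ↥G := by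
  have hp : p.Prime := Fact.out
  rw [← Nat.card_eq_fintype_card] at hα
  have : Nonempty α := (Nat.card_ne_zero.mp (hα ▸ hp.ne_zero)).1
  obtain ⟨hP, -, -, s, -, hN, hG⟩ := CL.Perm.sylow_prime_degree hα P
  have hN' : Nat.card (Subgroup.normalizer (P : Set G)) = p *
      ((P : Subgroup ↥G).subgroupOf (Subgroup.normalizer ((P : Subgroup ↥G) : Set ↥G))).index := by
    have h := Subgroup.index_mul_card
      ((P : Subgroup ↥G).subgroupOf (Subgroup.normalizer ((P : Subgroup ↥G) : Set ↥G)))
    have h' : Nat.card ((P : Subgroup ↥G).subgroupOf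
        (Subgroup.normalizer ((P : Subgroup ↥G) : Set ↥G))) = Nat.card P :=
      Nat.card_congr (Subgroup.subgroupOfEquivOfLe Subgroup.le_normalizer).toEquiv
    rw [h', hP, mul_comm] at h
    exact h.symm
  have : MulAction.IsPreprimitive G α := MulAction.IsPreprimitive.of_prime_card (hα ▸ hp)
  apply CL.Perm.simple_of_sylow_normalizer_prime ht P hP hN'
  · rw [← hN', hG, ← hN]
    have : 0 < Nat.card (Subgroup.normalizer (P : Set G)) := Nat.card_pos
    nlinarith
  · intro N hN hN0
    have := CL.Perm.isPretransitive_of_normal_ne_bot (Ω := α) N hN0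
    exact hα ▸ CL.Perm.card_dvd_of_isPretransitive

end Cfsg.Agent.S1013
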