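import Cfsg.Agent.Base
import Cfsg.Statements.S1026
import Cfsg.Agent.Chev.Unip

set_option autoImplicit false
open Cfsg

namespace Cfsg.Agent.S1026

open CL.ChevM CL.Weyl CL.Tw Cfsg.Lie


/-- Every element of `U` has a unique expression `∏_{r ∈ Φ⁺} x_r(t_r)`, the product over the positive roots in increasing index order (the coefficient family `t`, supported on the positive roots, exists and is unique); and conversely every such ordered product is the matrix of an element of `U`. -/
theorem result {F : Type*} [Field F] (D : Cfsg.Lie.ChevalleyDatum) (hD : D ∈ [Cfsg.Lie.chevG2, Cfsg.Lie.chevB2, Cfsg.Lie.chevD4, Cfsg.Lie.chevF4, Cfsg.Lie.chevE6, Cfsg.Lie.chevE7, Cfsg.Lie.chevE8]) :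
    (∀ g : GL D.Idx F, g ∈ D.posUnipotent F →
      ∃! t : ℕ → F, (∀ r, ¬ D.IsPosRoot r → t r = 0) ∧
        (g : Matrix D.Idx D.Idx F) = D.wordMat F (D.posRoots.map fun r => (r, t r))) ∧
    (∀ t : ℕ → F, ∃ g : GL D.Idx F, g ∈ D.posUnipotent F ∧
      (g : Matrix D.Idx D.Idx F) = D.wordMat F (D.posRoots.map fun r => (r, t r))) := by
  obtain ⟨η, C⟩ := core_of_mem hD
  have := weylOK_of_mem hD
  have := coefOK_of_mem hD
  let l : List (Fin D.nroots) := (List.finRange D.nroots).filter fun r => decide (D.IsPosRoot r)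
  have hl : ∀ r, r ∈ l ↔ r ∈ PP D := fun r => by simp [l, isPosRoot_iff]
  have hnd : l.Nodup := (List.nodup_finRange _).filter _
  have hmap : D.posRoots = l.map Fin.val := by
    rw [ChevalleyDatum.posRoots, ← List.map_coe_finRange_eq_range, List.filter_map]
    rfl
  have hw : ∀ t : ℕ → F, D.wordMat F (D.posRoots.map fun r => (r, t r)) =
      mat (l.map fun r : Fin D.nroots => xG C r (t r)).prod := fun t => by
    rw [← mat_wG C, hmap, wG, List.map_map, List.map_map]
    rfl
  simp only [hw, ← map_U C]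
  constructor
  · rintro _ ⟨u, hu, rfl⟩
    obtain ⟨t, rfl⟩ := exists_lprod_U C hl hnd hu
    obtain ⟨L, hL, -⟩ := exists_graded_PP (K := F) C
    have h1 : ∀ r ∈ l, xG C r (t r) = xG C r (if h : D.IsPosRoot r then t ⟨r, h.1⟩ else 0) := fun r hr => by
      rw [dif_pos ((isPosRoot_iff D r).2 ((hl r).1 hr))]
    refine ⟨fun r => if h : D.IsPosRoot r then t ⟨r, h.1⟩ else 0, ⟨fun r hr => dif_neg hr, ?_⟩, ?_⟩
    · rw [← List.map_congr_left h1]
      rfl
    · rintro t' ⟨h2, h3⟩
      funext r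
      by_cases hr : D.IsPosRoot r
      · rw [dif_pos hr]
        exact (lprod_inj C L hnd (fun r hr => hL r ((hl r).1 hr)) (mat_injective h3) ⟨r, hr.1⟩
          ((hl _).2 ((isPosRoot_iff D ⟨r, hr.1⟩).1 hr))).symm
      · rw [dif_neg hr, h2 r hr]
  · intro t
    refine ⟨_, ⟨(l.map fun r : Fin D.nroots => xG C r (t r)).prod, list_prod_mem fun y hy => ?_, rfl⟩, rfl⟩
    obtain ⟨r, hr, rfl⟩ := List.mem_map.1 hy
    exact xG_mem_XSg C ((hl r).1 hr) _

end Cfsg.Agent.S1026
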