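import Cfsg.Agent.Base
import Cfsg.Statements.S1029
import Cfsg.Agent.Chev.Unip

set_option autoImplicit false
open Cfsg

namespace Cfsg.Agent.S1029

open CL.ChevM CL.Weyl CL.Tw Cfsg.Lie


/-- `U` is a nilpotent group (the subgroups generated by root subgroups of height at least `m` form a central series). -/
theorem result {F : Type*} [Field F] (D : Cfsg.Lie.ChevalleyDatum) (hD : D ∈ [Cfsg.Lie.chevG2, Cfsg.Lie.chevB2, Cfsg.Lie.chevD4, Cfsg.Lie.chevF4, Cfsg.Lie.chevE6, Cfsg.Lie.chevE7, Cfsg.Lie.chevE8]) : Group.IsNilpotent (D.posUnipotent F) := by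
  obtain ⟨η, C⟩ := core_of_mem hD
  have := weylOK_of_mem hD
  have := coefOK_of_mem hD
  have := isNilpotent_U (K := F) C
  rw [← map_U C]
  exact Group.nilpotent_of_mulEquiv (Subgroup.equivMapOfInjective _ _ (D.group F).subtype_injective)

end Cfsg.Agent.S1029
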