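import Cfsg.Agent.Base
import Cfsg.Statements.S1034
import Cfsg.Agent.Chev.Levi

set_option autoImplicit false
open Cfsg

namespace Cfsg.Agent.S1034

open CL.ChevM CL.Weyl CL.Tw Cfsg.Lie


/-- Every element of `H` is a product `h_{p_1}(c_1) ⋯ h_{p_l}(c_l)` over the fundamental roots, with non-zero `c_i`. -/
theorem result {F : Type*} [Field F] (D : Cfsg.Lie.ChevalleyDatum) (hD : D ∈ [Cfsg.Lie.chevG2, Cfsg.Lie.chevB2, Cfsg.Lie.chevD4, Cfsg.Lie.chevF4, Cfsg.Lie.chevE6, Cfsg.Lie.chevE7, Cfsg.Lie.chevE8]) (g : GL D.Idx F) (hg : g ∈ D.diagonalSubgroup F) :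
    ∃ c : ℕ → F, (∀ i < D.rank, c i ≠ 0) ∧
      (g : Matrix D.Idx D.Idx F) = D.wordMat F ((List.range D.rank).flatMap fun i => D.hWord (D.simple i) (c i)) := by
  obtain ⟨η, C⟩ := core_of_mem hD
  have := weylOK_of_mem hD
  have := coefOK_of_mem hD
  rw [← map_H C] at hg
  obtain ⟨_, ⟨c, rfl⟩, rfl⟩ := hg
  refine ⟨fun i => if h : i < D.rank then (c ⟨i, h⟩ : F) else 1, fun i hi => by simp [hi], ?_⟩
  have key : ∀ n (hn : n ≤ D.rank), tor C (fun i => if (i : ℕ) < n then c i else 1) =
      wG C ((List.range n).flatMap fun i =>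
        D.hWord (D.simple i) (if h : i < D.rank then (c ⟨i, h⟩ : F) else 1)) := by
    intro n
    induction n with
    | zero => intro _; simpa [wG, -map_one, Pi.one_def] using map_one (tor (K := F) C)
    | succ n ih =>
      intro hn
      have h1 : (fun i : Fin D.rank => if (i : ℕ) < n + 1 then c i else 1) =
          (fun i : Fin D.rank => if (i : ℕ) < n then c i else 1) * Pi.mulSingle ⟨n, hn⟩ (c ⟨n, hn⟩) := by
        funext i
        by_cases h : i = ⟨n, hn⟩
        · subst h; simp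
        · have : (i : ℕ) ≠ n := fun e => h (Fin.ext e)
          simp [h, le_iff_lt_or_eq, this]
      rw [h1, map_mul, ih (by omega), tor_mulSingle, List.range_succ, List.flatMap_append]
      simp [wG, hG, nG, ChevalleyDatum.hWord, ChevalleyDatum.nWord, show n < D.rank from hn, mul_assoc]
  rw [← mat_wG C, ← key _ le_rfl]
  simp [mat_apply]

end Cfsg.Agent.S1034
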