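import Cfsg.Statements.S1036
import Cfsg.Agent.Chev.Levi
import Cfsg.Agent.Chev.SplitOrder
import Cfsg.Agent.Base

set_option autoImplicit false
open Cfsg CL.ChevM CL.Weyl CL.Tw

namespace Cfsg.Agent.S1036

/-- `H` normalises `U` and `U ∩ H = 1`; thus `B = UH` is the semidirect product of `U` by `H`. -/
theorem result {F : Type*} [Field F] (D : Cfsg.Lie.ChevalleyDatum) (hD : D ∈ [Cfsg.Lie.chevG2, Cfsg.Lie.chevB2, Cfsg.Lie.chevD4, Cfsg.Lie.chevF4, Cfsg.Lie.chevE6, Cfsg.Lie.chevE7, Cfsg.Lie.chevE8]) :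
    D.diagonalSubgroup F ≤ Subgroup.normalizer (D.posUnipotent F : Set (GL D.Idx F)) ∧
      D.posUnipotent F ⊓ D.diagonalSubgroup F = ⊥ := by
  obtain ⟨η, C⟩ := core_of_mem hD
  have := weylOK_of_mem hD
  have := coefOK_of_mem hD
  rw [← map_H C, ← map_U C]
  refine ⟨(Subgroup.map_mono (tor_le_normalizer C (PP D))).trans ?_, ?_⟩
  · rw [map_normalizer]; exact inf_le_left
  · rw [← Subgroup.map_inf _ _ _ (D.group F).subtype_injective, Subgroup.map_eq_bot_iff_of_injective _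
      (D.group F).subtype_injective, eq_bot_iff]
    intro g hg
    exact TwSys.eq_one_of_mem_U_H (T := (trivTw C F).sys) hg.1 hg.2

end Cfsg.Agent.S1036
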