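import Cfsg.Statements.S1038
import Cfsg.Agent.Chev.Levi
import Cfsg.Agent.Chev.SplitOrder
import Cfsg.Agent.Base

set_option autoImplicit false
open Cfsg CL.ChevM CL.Weyl CL.Tw

namespace Cfsg.Agent.S1038

/-- The diagonal subgroup `H` (generated by the `h_r(t)`, `t ≠ 0`) is normal in the monomial subgroup `N` (generated by `H` and the `n_r`). -/
theorem result {F : Type*} [Field F] (D : Cfsg.Lie.ChevalleyDatum) (hD : D ∈ [Cfsg.Lie.chevG2, Cfsg.Lie.chevB2, Cfsg.Lie.chevD4, Cfsg.Lie.chevF4, Cfsg.Lie.chevE6, Cfsg.Lie.chevE7, Cfsg.Lie.chevE8]) : ((D.diagonalSubgroup F).subgroupOf (D.monomialSubgroup F)).Normal := by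
  obtain ⟨η, C⟩ := core_of_mem hD
  have := weylOK_of_mem hD
  have := coefOK_of_mem hD
  refine ⟨fun h hh n => ?_⟩
  have hn := monomialSubgroup_le C n.2
  have hh' := monomialSubgroup_le C h.2
  obtain ⟨w, hw⟩ := (mem_N_iff C (K := F) ⟨n.1, hn⟩).1 n.2
  obtain ⟨c, hc⟩ := (mem_H_iff C (K := F) ⟨h.1, hh'⟩).1 hh
  obtain ⟨d, hd⟩ := hw.conj_tor (h := ⟨h.1, hh'⟩) ⟨c, hc.symm⟩
  exact (mem_H_iff C _).2 ⟨d, hd.symm⟩

end Cfsg.Agent.S1038
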