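import Cfsg.Statements.S1041
import Cfsg.Agent.Chev.Levi
import Cfsg.Agent.Chev.SplitOrder
import Cfsg.Agent.Base

set_option autoImplicit false
open Cfsg CL.ChevM CL.Weyl CL.Tw

namespace Cfsg.Agent.S1041

/-- `U` and `V` generate the whole Chevalley group. -/
theorem result {F : Type*} [Field F] (D : Cfsg.Lie.ChevalleyDatum) (hD : D ∈ [Cfsg.Lie.chevG2, Cfsg.Lie.chevB2, Cfsg.Lie.chevD4, Cfsg.Lie.chevF4, Cfsg.Lie.chevE6, Cfsg.Lie.chevE7, Cfsg.Lie.chevE8]) : D.posUnipotent F ⊔ D.negUnipotent F = D.group F := by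
  obtain ⟨η, C⟩ := core_of_mem hD
  have := weylOK_of_mem hD
  have := coefOK_of_mem hD
  rw [← map_U C, ← map_V C, ← Subgroup.map_sup]
  conv_rhs => rw [← (D.group F).range_subtype, MonoidHom.range_eq_map]
  congr 1
  rw [eq_top_iff, ← XSg_univ C, XSg_le_iff]
  intro r _ t
  by_cases h : (Φ D).Pos r
  · exact Subgroup.mem_sup_left (xG_mem_XSg C h t)
  · exact Subgroup.mem_sup_right (xG_mem_XSg C h t)

end Cfsg.Agent.S1041
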