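import Cfsg.Statements.S1043
import Cfsg.Agent.Chev.Levi
import Cfsg.Agent.Chev.SplitOrder
import Cfsg.Agent.Base

set_option autoImplicit false
open Cfsg CL.ChevM CL.Weyl CL.Tw

namespace Cfsg.Agent.S1043

/-- `B ≤ G`, `N ≤ G` and `B ⊔ N = G` for the Chevalley group `G` generated by all root elements. -/
theorem result {F : Type*} [Field F] (D : Cfsg.Lie.ChevalleyDatum) (hD : D ∈ [Cfsg.Lie.chevG2, Cfsg.Lie.chevB2, Cfsg.Lie.chevD4, Cfsg.Lie.chevF4, Cfsg.Lie.chevE6, Cfsg.Lie.chevE7, Cfsg.Lie.chevE8]) :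
    D.borelSubgroup F ≤ D.group F ∧ D.monomialSubgroup F ≤ D.group F ∧ D.borelSubgroup F ⊔ D.monomialSubgroup F = D.group F := by
  obtain ⟨η, C⟩ := core_of_mem hD
  have := weylOK_of_mem hD
  have := coefOK_of_mem hD
  have hB : D.borelSubgroup F ≤ D.group F := map_B C (K := F) ▸ Subgroup.map_subtype_le _
  refine ⟨hB, monomialSubgroup_le C, le_antisymm (sup_le hB (monomialSubgroup_le C)) fun g hg => ?_⟩
  obtain ⟨u, hu, n, w, hn, v, hv, e⟩ := exists_UNU C ⟨g, hg⟩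
  have e' : g = u * n * v := congrArg Subtype.val e
  rw [e', ← map_B C]
  exact mul_mem (mul_mem (Subgroup.mem_sup_left ⟨u, Subgroup.mem_sup_left hu, rfl⟩)
    (Subgroup.mem_sup_right ((mem_N_iff C n).2 ⟨w, hn⟩)))
    (Subgroup.mem_sup_left ⟨v, Subgroup.mem_sup_left hv, rfl⟩)

end Cfsg.Agent.S1043
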