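import Cfsg.Statements.S1044
import Cfsg.Agent.Chev.Levi
import Cfsg.Agent.Chev.SplitOrder
import Cfsg.Agent.Base

set_option autoImplicit false
open Cfsg CL.ChevM CL.Weyl CL.Tw

namespace Cfsg.Agent.S1044

/-- For a fundamental root `p` the set `B ∪ B n_p B` is (the carrier of) a subgroup of the general linear group. -/
theorem result {F : Type*} [Field F] (D : Cfsg.Lie.ChevalleyDatum) (hD : D ∈ [Cfsg.Lie.chevG2, Cfsg.Lie.chevB2, Cfsg.Lie.chevD4, Cfsg.Lie.chevF4, Cfsg.Lie.chevE6, Cfsg.Lie.chevE7, Cfsg.Lie.chevE8]) (i : ℕ) (hi : i < D.rank) (n : GL D.Idx F)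
    (hn : (n : Matrix D.Idx D.Idx F) = D.nMat F (D.simple i) 1) :
    ∃ P : Subgroup (GL D.Idx F), (P : Set (GL D.Idx F)) =
      (D.borelSubgroup F : Set (GL D.Idx F)) ∪ DoubleCoset.doubleCoset n (D.borelSubgroup F : Set (GL D.Idx F)) (D.borelSubgroup F) := by
  obtain ⟨η, C⟩ := core_of_mem hD
  have := weylOK_of_mem hD
  have := coefOK_of_mem hD
  refine ⟨(PJ C F {⟨i, hi⟩}).map (D.group F).subtype, ?_⟩
  have en : n = (nS C F ⟨i, hi⟩ : ↥(D.group F)) := Units.ext (hn.trans (mat_nG C _ _).symm)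
  rw [← map_B C, en]
  have hn' : nS C F ⟨i, hi⟩ ∈ PJ C F {⟨i, hi⟩} :=
    Subgroup.mem_sup_right (Subgroup.subset_closure ⟨_, Set.mem_singleton _, rfl⟩)
  refine Set.Subset.antisymm ?_ ?_
  · rintro _ ⟨g, hg, rfl⟩
    obtain ⟨u, hu, m, w, hm, v, hv, rfl⟩ := exists_UNU C g
    have hu' : u ∈ PJ C F {⟨i, hi⟩} := Subgroup.mem_sup_left (Subgroup.mem_sup_left hu)
    have hv' : v ∈ PJ C F {⟨i, hi⟩} := Subgroup.mem_sup_left (Subgroup.mem_sup_left hv)
    have hm' : m ∈ PJ C F {⟨i, hi⟩} := by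
      have hg' : u * m * v ∈ PJ C F {⟨i, hi⟩} := hg
      rwa [Subgroup.mul_mem_cancel_right _ hv', Subgroup.mul_mem_cancel_left _ hu'] at hg'
    rw [← normalizer_rad] at hm'
    by_cases hw : (Φ D).Pos (w • (Φ D).simple ⟨i, hi⟩)
    · have h1 : w = 1 := by
        refine (Φ D).eq_one_of_pos fun r hr => ?_
        rcases eq_simple_or_rad ⟨i, hi⟩ hr with rfl | h
        · exact hw
        · obtain ⟨a, ha, -⟩ := hm.exists_conj r
          have h1 := (Subgroup.mem_normalizer_iff.1 hm' _).1 (xG_mem_XSg C h (1 : F))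
          rw [ha] at h1
          exact (mem_rad_of_xG_mem C (by simp) h1).1
      rw [h1, ← rep_one_iff] at hm
      exact Or.inl ⟨_, mul_mem (mul_mem (Subgroup.mem_sup_left hu) (Subgroup.mem_sup_right hm))
        (Subgroup.mem_sup_left hv), rfl⟩
    · have h1 : w * s D ⟨i, hi⟩ = 1 := by
        refine (Φ D).eq_one_of_pos fun r hr => ?_
        rw [mul_smul]
        rcases eq_simple_or_rad ⟨i, hi⟩ hr with rfl | h
        · rw [(Φ D).simple_smul_simple, (Φ D).smul_neg, (Φ D).pos_neg_iff]; exact hw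
        · obtain ⟨a, ha, -⟩ := hm.exists_conj (s D ⟨i, hi⟩ • r)
          have h1 := (Subgroup.mem_normalizer_iff.1 hm' _).1
            (xG_mem_XSg C (s_smul_mem_rad _ h) (1 : F))
          rw [ha] at h1
          exact (mem_rad_of_xG_mem C (by simp) h1).1
      have h2 := hm.mul (rep_nS_inv C (K := F) ⟨i, hi⟩)
      rw [h1, ← rep_one_iff] at h2
      refine Or.inr (DoubleCoset.mem_doubleCoset.2 ⟨_, ⟨_, mul_mem (Subgroup.mem_sup_left hu)
        (Subgroup.mem_sup_right h2), rfl⟩, _, ⟨_, Subgroup.mem_sup_left hv, rfl⟩, ?_⟩)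
      simp [mul_assoc]
  · rintro g (⟨b, hb, rfl⟩ | hg)
    · exact ⟨b, Subgroup.mem_sup_left hb, rfl⟩
    · obtain ⟨_, ⟨a, ha, rfl⟩, _, ⟨b, hb, rfl⟩, rfl⟩ := DoubleCoset.mem_doubleCoset.1 hg
      exact ⟨_, mul_mem (mul_mem (Subgroup.mem_sup_left ha) hn') (Subgroup.mem_sup_left hb), rfl⟩

end Cfsg.Agent.S1044
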