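import Cfsg.Statements.S1045
import Cfsg.Agent.Chev.Levi
import Cfsg.Agent.Chev.SplitOrder
import Cfsg.Agent.Base

set_option autoImplicit false
open Cfsg CL.ChevM CL.Weyl CL.Tw

namespace Cfsg.Agent.S1045

/-- For a fundamental root `p`, the subgroup `U_p` generated by the `X_s`, `s` positive and `s ≠ p`, is normalised by `X_p` and `X_{-p}`, and `U = U_p ⊔ X_p`. -/
theorem result {F : Type*} [Field F] (D : Cfsg.Lie.ChevalleyDatum) (hD : D ∈ [Cfsg.Lie.chevG2, Cfsg.Lie.chevB2, Cfsg.Lie.chevD4, Cfsg.Lie.chevF4, Cfsg.Lie.chevE6, Cfsg.Lie.chevE7, Cfsg.Lie.chevE8]) (i : ℕ) (hi : i < D.rank) :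
    D.rootSubgroup F (D.simple i) ⊔ D.rootSubgroup F (D.neg (D.simple i)) ≤
        Subgroup.normalizer (Subgroup.closure {g : GL D.Idx F | ∃ (s : ℕ) (t : F), D.IsPosRoot s ∧ s ≠ D.simple i ∧
          (g : Matrix D.Idx D.Idx F) = D.x F s t} : Set (GL D.Idx F)) ∧
      Subgroup.closure {g : GL D.Idx F | ∃ (s : ℕ) (t : F), D.IsPosRoot s ∧ s ≠ D.simple i ∧
          (g : Matrix D.Idx D.Idx F) = D.x F s t} ⊔ D.rootSubgroup F (D.simple i) = D.posUnipotent F := by
  obtain ⟨η, C⟩ := core_of_mem hD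
  have := weylOK_of_mem hD
  have := coefOK_of_mem hD
  have e : Subgroup.closure {g : GL D.Idx F | ∃ (s : ℕ) (t : F), D.IsPosRoot s ∧ s ≠ D.simple i ∧
      (g : Matrix D.Idx D.Idx F) = D.x F s t} =
      (XSg C F (Rad D {⟨i, hi⟩})).map (D.group F).subtype := by
    rw [map_XSg' C (p := fun s => D.IsPosRoot s ∧ s ≠ D.simple i) (fun _ h => h.1.1)]
    · simp only [and_assoc]
    · intro r
      rw [isPosRoot_iff]
      refine ⟨fun h => (eq_simple_or_rad ⟨i, hi⟩ h.1).resolve_left fun e => h.2 (by rw [e]; rfl),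
        fun h => ⟨h.1, fun e => h.2 ?_⟩⟩
      have : r = (Φ D).simple ⟨i, hi⟩ := Fin.ext e
      rw [this]
      exact (Φ D).inSub_simple_iff.2 rfl
  have e1 := map_rootSubgroup C (K := F) ((Φ D).simple ⟨i, hi⟩)
  have e2 := map_rootSubgroup C (K := F) ((Φ D).neg ((Φ D).simple ⟨i, hi⟩))
  change _ = D.rootSubgroup F (D.simple i) at e1
  change _ = D.rootSubgroup F (D.neg (D.simple i)) at e2
  rw [e, ← e1, ← e2, ← map_U C, ← Subgroup.map_sup, ← Subgroup.map_sup]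
  refine ⟨(Subgroup.map_mono ((sup_le (XSg_mono C ?_) (XSg_mono C ?_)).trans
    ((XSg_inSub_le_PJ C {⟨i, hi⟩}).trans (PJ_le_normalizer C _)))).trans ?_, ?_⟩
  · rintro _ rfl; exact (Φ D).inSub_simple_iff.2 rfl
  · rintro _ rfl; exact (Φ D).inSub_neg_iff.2 ((Φ D).inSub_simple_iff.2 rfl)
  · rw [map_normalizer]; exact inf_le_left
  · congr 1
    refine le_antisymm (sup_le (XSg_mono C fun r hr => hr.1) (XSg_mono C ?_)) ?_
    · rintro _ rfl; exact (Φ D).pos_simple _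
    · intro u hu
      obtain ⟨a, ha, t, rfl⟩ := split_U C ⟨i, hi⟩ hu
      exact mul_mem (Subgroup.mem_sup_left ha)
        (Subgroup.mem_sup_right (xG_mem_XSg C (Set.mem_singleton _) t))

end Cfsg.Agent.S1045
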