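import Cfsg.Agent.Base
import Cfsg.Statements.S1057
import Cfsg.Agent.Chev.U33
import Cfsg.Agent.Chev.MatG2

set_option autoImplicit false
open Cfsg

namespace Cfsg.Agent.S1057

open CL.ChevM CL.WC CL.U33 Matrix Cfsg.Lie

/-- Masks of the 63 long root vectors. -/
def tbl : List ℕ := [4, 12, 264, 256, 340, 348, 8, 502, 506, 386, 398, 132, 4224, 4772, 4644, 4096, 128, 4107, 4671, 4795, 4239,
  188, 7424, 8149, 8045, 7608, 14885, 14976, 14073, 12162, 8461, 13932, 8448, 12219, 15616, 15805, 12555, 9288,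
  10917, 12674, 10880, 9309, 184, 7671, 7998, 8066, 7499, 15610, 15435, 12421, 9557, 11220, 12288, 11257, 9544,
  15327, 15222, 14199, 12015, 8192, 14318, 8197, 11998]

/-- The mask of a point. -/
noncomputable def msk (i : Fin 63) : ℕ := nth tbl i

/-- The basis vectors as sums of the vectors of the family. -/
def spn : List (List ℕ) := [[0, 59, 61], [2, 10, 11], [0], [6], [12, 13, 17, 18], [2, 5, 7, 9], [7, 10, 11, 21], [16], [3], [1, 17, 19,
  21], [0, 4, 30, 41], [0, 14, 26, 61], [15], [59]]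

theorem act7 : ∀ j, fastG2.act 7 (msk j) = msk (pa • j) := by decide +kernel
theorem act4 : ∀ j, fastG2.act 4 (msk j) = msk (pna • j) := by decide +kernel
theorem act6 : ∀ j, fastG2.act 6 (msk j) = msk (pb • j) := by decide +kernel
theorem act5 : ∀ j, fastG2.act 5 (msk j) = msk (pnb • j) := by decide +kernel

theorem msk_lt : ∀ j, msk j < 2 ^ 14 := by decide +kernel

theorem msk_inj : ∀ i j, msk i = msk j → j = i := by decide +kernel

theorem spn_ok : ∀ k < 14, xorL (nth tbl) (spn.getD k []) = Nat.pow 2 k ∧ ∀ i ∈ spn.getD k [], i < 63 := by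
  decide +kernel

/-- Schreier generators of a subgroup of index at most two. -/
theorem commutator_le {G : Type*} [Group G] (a a' b b' : G) (ha : a * a = 1) (ha' : a' * a' = 1)
    (h : Subgroup.closure {a, a', b, b'} = ⊤) :
    commutator G ≤ Subgroup.closure (Set.range ![b, b', a * b * a, a * b' * a, a * a']) := by
  set A := Subgroup.closure (Set.range ![b, b', a * b * a, a * b' * a, a * a']) with hA
  have m : ∀ k, ![b, b', a * b * a, a * b' * a, a * a'] k ∈ A := fun k => Subgroup.subset_closure ⟨k, rfl⟩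
  have hai : a⁻¹ = a := inv_eq_of_mul_eq_one_left ha
  have hai' : a'⁻¹ = a' := inv_eq_of_mul_eq_one_left ha'
  have hc : ∀ g ∈ A, a * g * a⁻¹ ∈ A := by
    intro g hg
    change g ∈ A.comap (MulAut.conj a).toMonoidHom
    refine (Subgroup.closure_le _).2 ?_ hg
    rintro _ ⟨k, rfl⟩
    change a * _ * a⁻¹ ∈ A
    rw [hai]
    fin_cases k
    · exact m 2
    · exact m 3
    · convert m 0 using 1
      change a * (a * b * a) * a = b
      rw [← mul_assoc, ← mul_assoc, ha, one_mul, mul_assoc, ha, mul_one]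
    · convert m 1 using 1
      change a * (a * b' * a) * a = b'
      rw [← mul_assoc, ← mul_assoc, ha, one_mul, mul_assoc, ha, mul_one]
    · convert inv_mem (m 4) using 1
      change a * (a * a') * a = (a * a')⁻¹
      rw [← mul_assoc, ha, one_mul, _root_.mul_inv_rev, hai, hai']
  have hn : a ∈ Subgroup.normalizer (A : Set G) := Subgroup.mem_normalizer_iff.2 fun g =>
    ⟨hc g, fun hg => by simpa [hai, mul_assoc, ← mul_assoc a a, ha] using hc _ hg⟩
  have e' : a' = a * (a * a') := by rw [← mul_assoc, ha, one_mul]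
  have hN : A.Normal := by
    rw [← Subgroup.normalizer_eq_top_iff, eq_top_iff, ← h, Subgroup.closure_le]
    rintro g (rfl | rfl | rfl | rfl)
    · exact hn
    · rw [e']; exact mul_mem hn (Subgroup.le_normalizer (m 4))
    · exact Subgroup.le_normalizer (m 0)
    · exact Subgroup.le_normalizer (m 1)
  have hcyc : IsCyclic (G ⧸ A) := ⟨⟨QuotientGroup.mk a, fun x => by
    obtain ⟨x, rfl⟩ := QuotientGroup.mk_surjective x
    change x ∈ (Subgroup.zpowers (QuotientGroup.mk a : G ⧸ A)).comap (QuotientGroup.mk' A)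
    refine (Subgroup.closure_le _).2 ?_ (h.ge (Subgroup.mem_top x))
    have h1 : ∀ g ∈ A, g ∈ (Subgroup.zpowers (QuotientGroup.mk a : G ⧸ A)).comap (QuotientGroup.mk' A) :=
      fun g hg => by
        rw [Subgroup.mem_comap, QuotientGroup.mk'_apply, (QuotientGroup.eq_one_iff g).2 hg]; exact one_mem _
    have h2 : a ∈ (Subgroup.zpowers (QuotientGroup.mk a : G ⧸ A)).comap (QuotientGroup.mk' A) :=
      Subgroup.mem_zpowers _
    rintro g (rfl | rfl | rfl | rfl)
    · exact h2
    · rw [e']; exact mul_mem h2 (h1 _ (m 4))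
    · exact h1 _ (m 0)
    · exact h1 _ (m 1)⟩⟩
  exact Subgroup.Normal.quotient_commutative_iff_commutator_le.1 IsCyclic.isMulCommutative

/-- G₂(2)′ ≅ PSU₃(3). -/
theorem result {F K : Type*} [Field F] [Fintype F] [Field K] [Fintype K] (hF : Fintype.card F = 2) (hK : Fintype.card K = 9) :
    Nonempty (↥(commutator ↥(Cfsg.Lie.chevG2.group F)) ≃* Cfsg.PSU 3 K 3) := by
  have h2 := two_eq_zero_of_card_eq_two hF
  obtain ⟨σ, hσ⟩ := CL.Herm.exists_conj' (q := 3) hK
  have hx : ∀ (r : ℕ) (γ : Equiv.Perm (Fin 63)), (∀ j, fastG2.act r (msk j) = msk (γ • j)) →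
      ∀ j, chevG2.x F r 1 *ᵥ vb chevG2 F (msk j) = vb chevG2 F (msk (γ • j)) := fun r γ h j => by
    rw [agreeG2.x_mulVec_vb agreeG2.uniq h2, h]
  obtain ⟨ρ, hinj, hρ⟩ := coreG2.exists_rep hF (Γ := Equiv.Perm (Fin 63)) msk
    (fun γ h => Equiv.ext fun a => msk_inj _ _ (vb_inj (D := chevG2) (msk_lt _) (msk_lt _) (h a)))
    (fun A h => eq_one_of_fix h2 (f := nth tbl) (n := 63) (fun i hi => h ⟨i, hi⟩) (fun k => spn.getD k []) spn_ok)
    (fun i hi => by
      have hi' : i < 2 := hi
      interval_cases i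
      exacts [⟨pa, hx 7 pa act7⟩, ⟨pb, hx 6 pb act6⟩])
    (fun i hi => by
      have hi' : i < 2 := hi
      interval_cases i
      exacts [⟨pna, hx 4 pna act4⟩, ⟨pnb, hx 5 pnb act5⟩])
  let x : ℕ → chevG2.group F := fun r => ⟨coreG2.xU F r 1, coreG2.xU_mem_group r 1⟩
  have hr : ∀ (r : ℕ) (γ : Equiv.Perm (Fin 63)), (∀ j, fastG2.act r (msk j) = msk (γ • j)) → ρ (x r) = γ :=
    fun r γ h => hρ _ _ (hx r γ h)
  have hxx : ∀ r, x r * x r = 1 := fun r => Subtype.ext (by
    change coreG2.xU F r 1 * coreG2.xU F r 1 = 1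
    rw [coreG2.xU_add, one_add_one_eq_two, h2, coreG2.xU_zero])
  have hgen : Subgroup.closure {x 7, x 4, x 6, x 5} = ⊤ := by
    rw [eq_top_iff, ← Subgroup.map_le_map_iff_of_injective (chevG2.group F).subtype_injective,
      ← MonoidHom.range_eq_map, Subgroup.range_subtype]
    have hm : ∀ r, x r ∈ ({x 7, x 4, x 6, x 5} : Set (chevG2.group F)) → ∀ t, coreG2.xU F r t ∈
        (Subgroup.closure {x 7, x 4, x 6, x 5}).map (chevG2.group F).subtype := fun r hr t => by
      rcases eq_zero_or_one_of_card_eq_two hF t with rfl | rfl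
      · rw [coreG2.xU_zero]; exact one_mem _
      · exact ⟨x r, Subgroup.subset_closure hr, rfl⟩
    refine coreG2.group_le_of_simple_neg (fun i hi => ?_) fun i hi => ?_
    · have hi' : i < 2 := hi
      interval_cases i
      exacts [hm 7 (by simp), hm 6 (by simp)]
    · have hi' : i < 2 := hi
      interval_cases i
      exacts [hm 4 (by simp), hm 5 (by simp)]
  have hle := commutator_le _ _ _ _ (hxx 7) (hxx 4) hgen
  set A := Subgroup.closure (Set.range ![x 6, x 5, x 7 * x 6 * x 7, x 7 * x 5 * x 7, x 7 * x 4]) with hA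
  have hmap : A.map ρ = grp := by
    rw [hA, MonoidHom.map_closure, ← Set.range_comp, grp]
    congr 2
    funext k
    fin_cases k <;> simp [gen, hr 7 pa act7, hr 4 pna act4, hr 6 pb act6, hr 5 pnb act5]
  obtain ⟨e1⟩ := nonempty_SU_equiv hσ
  obtain ⟨e2⟩ := nonempty_PSU_equiv_SU hσ
  let e : A ≃* SU 3 K 3 := ((A.equivMapOfInjective ρ hinj).trans (MulEquiv.subgroupCongr hmap)).trans e1.symm
  have := isSimpleGroup_SU hσ
  have hs : IsSimpleGroup A := e.isSimpleGroup
  have hp : commutator A = ⊤ := CL.Small.commutator_eq_top_of_simple fun hc =>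
    not_comm_SU hσ ⟨⟨fun a b => e.symm.injective (by rw [map_mul, map_mul, hc.is_comm.comm])⟩⟩
  have hge : A ≤ commutator (chevG2.group F) := by
    rw [← Group.isPerfect_def, Subgroup.isPerfect_iff] at hp
    rw [← hp]
    exact Subgroup.commutator_mono le_top le_top
  exact ⟨((MulEquiv.subgroupCongr (le_antisymm hle hge)).trans e).trans e2.symm⟩

end Cfsg.Agent.S1057
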