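import Cfsg.Agent.Base
import Cfsg.Statements.S1058
import Cfsg.Agent.Chev.MatTwo
import Cfsg.Agent.Chev.MatB2

set_option autoImplicit false
open Cfsg

namespace Cfsg.Agent.S1058

open CL.ChevM CL.WC Matrix Cfsg.Lie

/-- Masks of the fifteen vectors indexed by the pairs of points. -/
def tbl : List ℕ := [0, 4, 519, 672, 832, 994, 4, 0, 512, 687, 855, 1021, 519, 512, 0, 44, 84, 126,
  672, 687, 44, 0, 98, 64, 832, 855, 84, 98, 0, 32, 994, 1021, 126, 64, 32, 0]

/-- The mask of a pair of points. -/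
noncomputable def msk (p : Fin 6 × Fin 6) : ℕ := nth tbl (6 * p.1 + p.2)

/-- The basis vectors as sums of the vectors of the family. -/
def spn : List (List ℕ) := [[1, 2, 3, 4, 5], [22, 23, 29], [1], [1, 15, 29], [1, 16, 23], [29], [23], [3, 8, 29],
  [4, 8, 23], [8]]

/-- The images of the generators. -/
def p5 : Equiv.Perm (Fin 6) := Equiv.swap 0 3 * Equiv.swap 1 2 * Equiv.swap 4 5
/-- The images of the generators. -/
def p4 : Equiv.Perm (Fin 6) := Equiv.swap 3 5
/-- The images of the generators. -/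
def p2 : Equiv.Perm (Fin 6) := Equiv.swap 0 1 * Equiv.swap 2 4 * Equiv.swap 3 5
/-- The images of the generators. -/
def p3 : Equiv.Perm (Fin 6) := Equiv.swap 4 5

theorem act5 : ∀ j, fastB2.act 5 (msk j) = msk (p5 • j) := by decide +kernel
theorem act4 : ∀ j, fastB2.act 4 (msk j) = msk (p4 • j) := by decide +kernel
theorem act2 : ∀ j, fastB2.act 2 (msk j) = msk (p2 • j) := by decide +kernel
theorem act3 : ∀ j, fastB2.act 3 (msk j) = msk (p3 • j) := by decide +kernel

theorem msk_lt : ∀ j, msk j < 2 ^ 10 := by decide +kernel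

theorem msk_inj : ∀ a b a' b' : Fin 6, a ≠ b → msk (a, b) = msk (a', b') → a' = a ∨ a' = b := by decide +kernel

theorem spn_ok : ∀ k < 10, xorL (nth tbl) (spn.getD k []) = Nat.pow 2 k ∧ ∀ i ∈ spn.getD k [], i < 36 := by
  decide +kernel

/-- B₂(2) ≅ S₆. -/
theorem result {F : Type*} [Field F] [Fintype F] (hF : Fintype.card F = 2) :
    Nonempty (↥(Cfsg.Lie.chevB2.group F) ≃* Equiv.Perm (Fin 6)) := by
  have h2 := two_eq_zero_of_card_eq_two hF
  have hx : ∀ (r : ℕ) (γ : Equiv.Perm (Fin 6)), (∀ j, fastB2.act r (msk j) = msk (γ • j)) →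
      ∀ j, chevB2.x F r 1 *ᵥ vb chevB2 F (msk j) = vb chevB2 F (msk (γ • j)) := fun r γ h j => by
    rw [agreeB2.x_mulVec_vb agreeB2.uniq h2, h]
  obtain ⟨ρ, hinj, hρ⟩ := coreB2.exists_rep hF (Γ := Equiv.Perm (Fin 6)) msk
    (fun γ h => by
      have h1 : ∀ a b, a ≠ b → γ a = a ∨ γ a = b := fun a b hab =>
        msk_inj a b _ _ hab (vb_inj (D := chevB2) (msk_lt _) (msk_lt _) (h (a, b)))
      have h3 : ∀ a x : Fin 6, (x = a ∨ x = a + 1) → (x = a ∨ x = a + 2) → x = a := by decide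
      have h4 : ∀ a : Fin 6, a ≠ a + 1 ∧ a ≠ a + 2 := by decide
      exact Equiv.ext fun a => h3 a _ (h1 _ _ (h4 a).1) (h1 _ _ (h4 a).2))
    (fun A h => eq_one_of_fix h2 (f := nth tbl) (n := 36) (fun i hi => by
      have := h (⟨i / 6, by omega⟩, ⟨i % 6, by omega⟩)
      simpa only [msk, Nat.div_add_mod] using this) (fun k => spn.getD k []) spn_ok)
    (fun i hi => by
      have hi' : i < 2 := hi
      interval_cases i
      exacts [⟨p5, hx 5 p5 act5⟩, ⟨p4, hx 4 p4 act4⟩])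
    (fun i hi => by
      have hi' : i < 2 := hi
      interval_cases i
      exacts [⟨p2, hx 2 p2 act2⟩, ⟨p3, hx 3 p3 act3⟩])
  have hr : ∀ (r : ℕ) (γ : Equiv.Perm (Fin 6)), (∀ j, fastB2.act r (msk j) = msk (γ • j)) → γ ∈ ρ.range :=
    fun r γ h => ⟨⟨coreB2.xU F r 1, coreB2.xU_mem_group r 1⟩, hρ _ _ (hx r γ h)⟩
  have m5 := hr 5 p5 act5
  have m4 := hr 4 p4 act4
  have m2 := hr 2 p2 act2
  have m3 := hr 3 p3 act3
  have hsurj : Function.Surjective ρ := by
    rw [← MonoidHom.range_eq_top, ← Subgroup.toSubmonoid_inj, Subgroup.top_toSubmonoid, eq_top_iff,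
      ← Equiv.Perm.mclosure_swap_castSucc_succ 5, Submonoid.closure_le]
    rintro _ ⟨i, rfl⟩
    change Equiv.swap i.castSucc i.succ ∈ ρ.range
    have e : ∀ i : Fin 5, Equiv.swap i.castSucc i.succ ∈
        [p5 * p2 * p3 * p2 * p5, p2 * p5 * p4 * p5 * p2, p2 * p3 * p2, p4 * p3 * p4, p3] := by decide +kernel
    have := e i
    simp only [List.mem_cons, List.not_mem_nil, or_false] at this
    rcases this with h | h | h | h | h <;> rw [h]
    exacts [mul_mem (mul_mem (mul_mem (mul_mem m5 m2) m3) m2) m5, mul_mem (mul_mem (mul_mem (mul_mem m2 m5) m4) m5) m2,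
      mul_mem (mul_mem m2 m3) m2, mul_mem (mul_mem m4 m3) m4, m3]
  exact ⟨MulEquiv.ofBijective ρ ⟨hinj, hsurj⟩⟩

end Cfsg.Agent.S1058
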