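import Cfsg.Statements.S1063
import Cfsg.Agent.Base
import Cfsg.Agent.Chev.SplitOrder
import Cfsg.Agent.Chev.TwCoef
import Cfsg.Agent.Chev.WeylPoincare
import Cfsg.Agent.Chev.MatE6
import Cfsg.Agent.S1035

set_option autoImplicit false
open Cfsg

namespace Cfsg.Agent.S1063

/-- `gcd(3, q-1) · |E₆(q)| = q³⁶ (q² - 1)(q⁵ - 1)(q⁶ - 1)(q⁸ - 1)(q⁹ - 1)(q¹² - 1)`. -/
theorem result {F : Type*} [Field F] [Fintype F] {q : ℕ} (hq : Fintype.card F = q) : Nat.gcd 3 (q - 1) * Nat.card ↥(Cfsg.Lie.chevE6.group F) = q ^ 36 * (q ^ 2 - 1) * (q ^ 5 - 1) * (q ^ 6 - 1) * (q ^ 8 - 1) * (q ^ 9 - 1) * (q ^ 12 - 1) := by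
  have := Fintype.ofFinite (CL.Weyl.W Cfsg.Lie.chevE6)
  have h := CL.Tw.mul_card_group CL.ChevM.coreE6 F hq
    (Cfsg.Agent.S1035.result hq (Cfsg.Lie.chevE6, Nat.gcd 3 (q - 1)) (List.Mem.tail _ (List.Mem.tail _ (List.Mem.tail _ (List.Mem.head _))))) (N := 36) rfl
    (CL.Weyl.poincare_E6_nat (hq ▸ Fintype.card_pos))
  simp only [← mul_assoc] at h
  exact h

end Cfsg.Agent.S1063
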