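import Cfsg.Statements.S1073
import Cfsg.Agent.Base
import Cfsg.Agent.Ree.Struct

set_option autoImplicit false
open Cfsg

namespace Cfsg.Agent.S1073

open CL.Ree

/-- ²G₂(3^(2m+1)) is simple for `m ≥ 1`. -/
theorem result {K : Type*} [Field K] [Fintype K] {m : ℕ} (hm : 1 ≤ m) (hK : Fintype.card K = 3 ^ (2 * m + 1)) :
    IsSimpleGroup ↥(Cfsg.Lie.twistedG2 K (3 ^ m)) ∧ ¬ IsMulCommutative ↥(Cfsg.Lie.twistedG2 K (3 ^ m)) := by
  have := rf_of_card hK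
  have hq : 3 < Nat.card K := by
    rw [Nat.card_eq_fintype_card, hK]
    exact (by norm_num : 3 < 3 ^ 3).trans_le (Nat.pow_le_pow_right (by norm_num) (by omega))
  refine ⟨isSimpleGroup_RG (3 ^ m) hq, fun h => ?_⟩
  have h1 : aa (3 ^ m) * uu (3 ^ m) (1 : K) 0 0 = uu (3 ^ m) (1 : K) 0 0 * aa (3 ^ m) := h.is_comm.comm _ _
  obtain ⟨s, hs⟩ := (uni_comm_aa_iff (3 ^ m) (uu_mem_Uni _ _ _ _)).1 h1
  exact one_ne_zero (uu_inj _ hs).1

end Cfsg.Agent.S1073
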