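import Cfsg.Statements.S1081
import Cfsg.Agent.Base
import Cfsg.Agent.Chev.TwLinAut

set_option autoImplicit false
open Cfsg

namespace Cfsg.Agent.S1081

theorem aux {F : Type*} [Field F] (D : Cfsg.Lie.ChevalleyDatum) (l : List ℕ)
    (ρ : Equiv.Perm (Fin D.nroots)) (π : Equiv.Perm (Fin D.rank))
    (ρN πN : ℕ → ℕ) (hρ : ∀ r, (ρ r : ℕ) = ρN r) (hπ : ∀ i, (π i : ℕ) = πN i) (γ : ℕ → ℤ)
    (h : CL.Tw.LinOK D ρN πN γ)
    (hs : ∀ i < D.rank, D.simple i < D.nroots ∧ D.neg (D.simple i) < D.nroots ∧ γ (D.simple i) = 1 ∧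
      γ (D.neg (D.simple i)) = 1 ∧ ρN (D.simple i) = D.simple (l.getD i 0) ∧
      ρN (D.neg (D.simple i)) = D.neg (D.simple (l.getD i 0))) :
    ∃ α : ↥(D.group F) ≃* ↥(D.group F), ∀ (g : ↥(D.group F)) (i : ℕ) (t : F), i < D.rank →
      (((g : GL D.Idx F) : Matrix D.Idx D.Idx F) = D.x F (D.simple i) t →
        ((α g : GL D.Idx F) : Matrix D.Idx D.Idx F) = D.x F (D.simple (l.getD i 0)) t) ∧
      (((g : GL D.Idx F) : Matrix D.Idx D.Idx F) = D.x F (D.neg (D.simple i)) t →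
        ((α g : GL D.Idx F) : Matrix D.Idx D.Idx F) = D.x F (D.neg (D.simple (l.getD i 0))) t) := by
  obtain ⟨α, hα⟩ := CL.Tw.exists_linAut D ρ π ρN πN hρ hπ γ h (RingEquiv.refl F)
  refine ⟨α, fun g i t hi => ?_⟩
  obtain ⟨h1, h2, h3, h4, h5, h6⟩ := hs i hi
  constructor
  · intro hg
    rw [hα g _ t h1 hg, h3, h5]; simp
  · intro hg
    rw [hα g _ t h2 hg, h4, h6]; simp

/-- Graph automorphisms: for E₆ with ρ = (p₁ p₆)(p₃ p₅) and for D₄ with ρ the 3-cycle on the outer nodes there is a group automorphism sending `x_p(t) ↦ x_{ρ(p)}(t)` and `x_{-p}(t) ↦ x_{-ρ(p)}(t)` for every fundamental root `p`. -/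
theorem result {F : Type*} [Field F] (p : Cfsg.Lie.ChevalleyDatum × List ℕ)
    (hp : p ∈ [(Cfsg.Lie.chevE6, [5, 1, 4, 3, 2, 0]), (Cfsg.Lie.chevD4, [2, 1, 3, 0]), (Cfsg.Lie.chevD4, [3, 1, 0, 2])]) :
    ∃ α : ↥(p.1.group F) ≃* ↥(p.1.group F), ∀ (g : ↥(p.1.group F)) (i : ℕ) (t : F), i < p.1.rank →
      (((g : GL p.1.Idx F) : Matrix p.1.Idx p.1.Idx F) = p.1.x F (p.1.simple i) t →
        ((α g : GL p.1.Idx F) : Matrix p.1.Idx p.1.Idx F) = p.1.x F (p.1.simple (p.2.getD i 0)) t) ∧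
      (((g : GL p.1.Idx F) : Matrix p.1.Idx p.1.Idx F) = p.1.x F (p.1.neg (p.1.simple i)) t →
        ((α g : GL p.1.Idx F) : Matrix p.1.Idx p.1.Idx F) = p.1.x F (p.1.neg (p.1.simple (p.2.getD i 0))) t) := by
  simp only [List.mem_cons, List.not_mem_nil, or_false] at hp
  rcases hp with rfl | rfl | rfl
  · exact aux _ _ CL.Tw.rhoE6 CL.Tw.piE6 _ _ (fun _ => rfl) (fun _ => rfl) _ CL.Tw.linOK_E6 (by decide +kernel)
  · exact aux _ _ CL.Tw.rhoD4 CL.Tw.piD4 _ _ (fun _ => rfl) (fun _ => rfl) _ CL.Tw.linOK_D4 (by decide +kernel)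
  · exact aux _ _ CL.Tw.rhoD4b CL.Tw.piD4b _ _ (fun _ => rfl) (fun _ => rfl) _ CL.Tw.linOK_D4b (by decide +kernel)

end Cfsg.Agent.S1081
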