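import Cfsg.Statements.S1100
import Cfsg.Agent.Chev.Levi
import Cfsg.Agent.Base

set_option autoImplicit false
open Cfsg CL.ChevM CL.Weyl CL.Tw

namespace Cfsg.Agent.S1100

/-- Canonical form `g = b n_w u` (`b ∈ B`, `u ∈ U_w⁻ = ⟨X_r : r > 0, n_w X_r n_w⁻¹ ≤ V⟩`): such a decomposition exists for every element of the group; the coset `n_w H` is determined by `g`; and for a fixed representative `n_w` the factors `b`, `u` are unique. -/
theorem result {F : Type*} [Field F] (D : Cfsg.Lie.ChevalleyDatum) (hD : D ∈ [Cfsg.Lie.chevG2, Cfsg.Lie.chevB2, Cfsg.Lie.chevD4, Cfsg.Lie.chevF4, Cfsg.Lie.chevE6, Cfsg.Lie.chevE7, Cfsg.Lie.chevE8]) :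
    (∀ g ∈ D.group F, ∃ b ∈ D.borelSubgroup F, ∃ n ∈ D.monomialSubgroup F,
      ∃ u ∈ Subgroup.closure {x : GL D.Idx F | ∃ (r : ℕ) (t : F), D.IsPosRoot r ∧
            (D.rootSubgroup F r).map (MulAut.conj n).toMonoidHom ≤ D.negUnipotent F ∧ (x : Matrix D.Idx D.Idx F) = D.x F r t},
        g = b * n * u) ∧
    (∀ (b b' n n' u u' : GL D.Idx F), b ∈ D.borelSubgroup F → b' ∈ D.borelSubgroup F →
      n ∈ D.monomialSubgroup F → n' ∈ D.monomialSubgroup F →
      u ∈ Subgroup.closure {x : GL D.Idx F | ∃ (r : ℕ) (t : F), D.IsPosRoot r ∧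
            (D.rootSubgroup F r).map (MulAut.conj n).toMonoidHom ≤ D.negUnipotent F ∧ (x : Matrix D.Idx D.Idx F) = D.x F r t} →
      u' ∈ Subgroup.closure {x : GL D.Idx F | ∃ (r : ℕ) (t : F), D.IsPosRoot r ∧
            (D.rootSubgroup F r).map (MulAut.conj n').toMonoidHom ≤ D.negUnipotent F ∧ (x : Matrix D.Idx D.Idx F) = D.x F r t} →
      b * n * u = b' * n' * u' → n⁻¹ * n' ∈ D.diagonalSubgroup F ∧ (n = n' → b = b' ∧ u = u')) := by
  obtain ⟨η, C⟩ := core_of_mem hD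
  have := weylOK_of_mem hD
  have := coefOK_of_mem hD
  constructor
  · intro g hg
    obtain ⟨u, hu, n, w, hn, v, hv, e⟩ := bruhat_ex C ⟨g, hg⟩
    refine ⟨u, map_B (K := F) C ▸ ⟨u, Subgroup.mem_sup_left hu, rfl⟩, n, (mem_N_iff C n).2 ⟨w, hn⟩,
      v, hn.map_invS ▸ ⟨v, hv, rfl⟩, congrArg Subtype.val e⟩
  · intro b b' n n' u u' hb hb' hn hn' hu hu' e
    lift n to D.group F using monomialSubgroup_le C hn
    lift n' to D.group F using monomialSubgroup_le C hn'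
    obtain ⟨w, hw⟩ := (mem_N_iff C n).1 hn
    obtain ⟨w', hw'⟩ := (mem_N_iff C n').1 hn'
    rw [← hw.map_invS] at hu
    rw [← hw'.map_invS] at hu'
    rw [← map_B C] at hb hb'
    obtain ⟨u, hu, rfl⟩ := hu
    obtain ⟨u', hu', rfl⟩ := hu'
    obtain ⟨b, hb, rfl⟩ := hb
    obtain ⟨b', hb', rfl⟩ := hb'
    obtain ⟨a, ha, h, hh, rfl⟩ := (mem_XSg_sup_tor_iff C).1 hb
    obtain ⟨a', ha', h', hh', rfl⟩ := (mem_XSg_sup_tor_iff C).1 hb'
    have r1 : Rep C (h * n) w := by simpa using (rep_of_mem_H C hh).mul hw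
    have r2 : Rep C (h' * n') w' := by simpa using (rep_of_mem_H C hh').mul hw'
    have e' : a * h * n * u = a' * h' * n' * u' := Subtype.ext e
    obtain ⟨e1, e2, e3⟩ := bruhat_uniq C ha ha' r1 r2 hu hu' (by simpa only [mul_assoc] using e')
    refine ⟨?_, fun hnn => ⟨?_, by rw [e3]⟩⟩
    · have h3 := hw.inv.conj_tor (mul_mem (inv_mem hh') hh)
      have e4 : n⁻¹ * (h'⁻¹ * h) * n⁻¹⁻¹ = n⁻¹ * n' := by
        rw [inv_inv, mul_assoc, mul_assoc, e2]; group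
      rw [e4] at h3
      exact map_H (K := F) C ▸ ⟨_, h3, rfl⟩
    · have e5 : n = n' := Subtype.ext hnn
      rw [e5] at e2
      rw [e1, mul_right_cancel e2]

end Cfsg.Agent.S1100
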