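import Cfsg.Statements.S1115
import Cfsg.Agent.Base
import Cfsg.Agent.Ree.Struct

set_option autoImplicit false
open Cfsg

namespace Cfsg.Agent.S1115

open CL.Ree

/-- `N¹/H¹ ≅ W¹`: a surjective homomorphism from `N¹ = G¹ ∩ N` onto the group of order 2 with kernel `H¹`. -/
theorem result {K : Type*} [Field K] [Fintype K] {m : ℕ} (hK : Fintype.card K = 3 ^ (2 * m + 1)) :
    ∃ φ : ↥(Cfsg.Lie.chevG2.monomialSubgroup K ⊓ Cfsg.Lie.twistedG2 K (3 ^ m)) →* Multiplicative (ZMod 2), Function.Surjective φ ∧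
      φ.ker = (Cfsg.Lie.chevG2.diagonalSubgroup K ⊓ Cfsg.Lie.twistedG2 K (3 ^ m)).subgroupOf (Cfsg.Lie.chevG2.monomialSubgroup K ⊓ Cfsg.Lie.twistedG2 K (3 ^ m)) := by
  classical
  have := rf_of_card hK
  let E := infEquiv (3 ^ m) (B := Mono K (3 ^ m)) (mem_mono_iff (3 ^ m))
  have hT : ∀ a b : RG K (3 ^ m), a ∈ Mono K (3 ^ m) → b ∈ Mono K (3 ^ m) →
      (a * b ∈ Tor K (3 ^ m) ↔ (a ∈ Tor K (3 ^ m) ↔ b ∈ Tor K (3 ^ m))) := by
    intro a b ha hb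
    have hn : ∀ x : RG K (3 ^ m), nn (3 ^ m) * x ∈ Tor K (3 ^ m) → x ∉ Tor K (3 ^ m) := fun x h1 h2 =>
      nn_not_mem_Tor (3 ^ m) (by simpa using (Tor K (3 ^ m)).mul_mem h1 ((Tor K (3 ^ m)).inv_mem h2))
    rcases ha with ha | ha
    · rw [(Tor K (3 ^ m)).mul_mem_cancel_left ha]; tauto
    · rcases hb with hb | hb
      · rw [(Tor K (3 ^ m)).mul_mem_cancel_right hb]; tauto
      · have : a * b = (nn (3 ^ m) * (nn (3 ^ m) * a) * nn (3 ^ m)) * (nn (3 ^ m) * b) := by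
          rw [← mul_assoc (nn _) (nn _), nn_mul_nn, one_mul, mul_assoc, ← mul_assoc (nn _) (nn _), nn_mul_nn,
            one_mul]
        have h2 : a * b ∈ Tor K (3 ^ m) := by
          rw [this]; exact (Tor K (3 ^ m)).mul_mem (nn_conj_mem_Tor _ ha) hb
        have := hn a ha
        have := hn b hb
        tauto
  let φ : Mono K (3 ^ m) →* Multiplicative (ZMod 2) := MonoidHom.mk'
    (fun g => if (g : RG K (3 ^ m)) ∈ Tor K (3 ^ m) then 1 else Multiplicative.ofAdd 1) (by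
      rintro ⟨a, ha⟩ ⟨b, hb⟩
      have := hT a b ha hb
      by_cases h1 : a ∈ Tor K (3 ^ m) <;> by_cases h2 : b ∈ Tor K (3 ^ m) <;> simp [this, h1, h2]
      decide)
  refine ⟨φ.comp E.toMonoidHom, ?_, ?_⟩
  · intro z
    have hz : z = 1 ∨ z = Multiplicative.ofAdd 1 := by revert z; decide
    rcases hz with rfl | rfl
    · exact ⟨1, map_one _⟩
    · refine ⟨E.symm ⟨nn _, nn_mem_Mono _⟩, ?_⟩
      simp [φ, nn_not_mem_Tor]
  · ext g
    rw [MonoidHom.mem_ker, Subgroup.mem_subgroupOf, Subgroup.mem_inf]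
    have h1 : (g : GL Ix K) ∈ Cfsg.Lie.chevG2.diagonalSubgroup K ↔ ((E g : Mono K (3 ^ m)) : RG K (3 ^ m)) ∈ Tor K (3 ^ m) :=
      mem_diag_iff (3 ^ m) (⟨g.1, g.2.2⟩ : RG K (3 ^ m))
    rw [h1]
    have h2 : (Multiplicative.ofAdd 1 : Multiplicative (ZMod 2)) ≠ 1 := by decide
    by_cases h : ((E g : Mono K (3 ^ m)) : RG K (3 ^ m)) ∈ Tor K (3 ^ m)
    · simpa [φ, h] using g.2.2
    · simp [φ, h, h2]

end Cfsg.Agent.S1115
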