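import Cfsg.Agent.Base
import Cfsg.Statements.S1119
import Cfsg.Agent.RankOne.Center

set_option autoImplicit false
open Cfsg

namespace Cfsg.Agent.S1119

/-- In the rank-one set-up (`G` finite and doubly transitive on `Ω`, `t` an involution moving `a`, `Q` normal in `G_a` with `G_a = Q D`, `Q ⊓ D = 1` for the two-point stabiliser `D = G_a ⊓ G_{t • a}`, `|Q|` even, `|D|` odd): `Q` acts regularly on `Ω` minus `a`; hence `|Ω| = |Q| + 1`, `|G| = |Q| |D| (|Q| + 1)`, some Sylow 2-subgroup of `G` lies in `Q`, and each `g ∉ G_a` is uniquely `x t y` with `x ∈ G_a`, `y ∈ Q` (canonical form). -/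
theorem result {G Ω : Type*} [Group G] [Finite G] [MulAction G Ω] {a : Ω} {t : G} {Q : Subgroup G}
    (hS : Cfsg.IsRankOneSetup G Ω a t Q) :
    (∀ b c : Ω, b ≠ a → c ≠ a → ∃! x : Q, (x : G) • b = c) ∧
      Nat.card Ω = Nat.card Q + 1 ∧
      Nat.card G = Nat.card Q * Nat.card ↥(MulAction.stabilizer G a ⊓ MulAction.stabilizer G (t • a)) * (Nat.card Q + 1) ∧
      (∃ P : Sylow 2 G, (P : Subgroup G) ≤ Q) ∧
      ∀ g : G, g ∉ MulAction.stabilizer G a → ∃! p : G × G, p.1 ∈ MulAction.stabilizer G a ∧ p.2 ∈ Q ∧ g = p.1 * t * p.2 := by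
  refine ⟨CL.RankOne.regular hS, CL.RankOne.card_Ω hS, CL.RankOne.card_G hS, ?_, ?_⟩
  · have : Fact (Nat.Prime 2) := ⟨Nat.prime_two⟩
    obtain ⟨P⟩ : Nonempty (Sylow 2 G) := inferInstance
    obtain ⟨c, hc⟩ := CL.RankOne.exists_fixed_of_isPGroup hS P.isPGroup'
    obtain ⟨g, hg⟩ := CL.RankOne.trans hS c a
    refine ⟨g • P, ?_⟩
    intro x hx
    have hxa : x • a = a := by
      have h1 : g⁻¹ * x * g ∈ (P : Subgroup G) := by
        rw [Sylow.coe_subgroup_smul, Subgroup.mem_pointwise_smul_iff_inv_smul_mem] at hx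
        simpa using hx
      have h2 := hc _ h1
      rw [mul_smul, mul_smul, hg, inv_smul_eq_iff, hg] at h2
      exact h2
    obtain ⟨k, hk⟩ := (g • P).isPGroup' ⟨x, hx⟩
    have hk' : x ^ 2 ^ k = 1 := congrArg Subtype.val hk
    obtain ⟨q, hq, d, hd, e⟩ := CL.RankOne.decomp hS hxa
    have h3 : ∀ n : ℕ, x ^ n * (d ^ n)⁻¹ ∈ Q := by
      intro n
      induction n with
      | zero => simp
      | succ n ih =>
        have : x ^ (n + 1) * (d ^ (n + 1))⁻¹ = q * (d * (x ^ n * (d ^ n)⁻¹) * d⁻¹) := by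
          rw [pow_succ' x, pow_succ' d]
          nth_rewrite 1 [e]
          group
        rw [this]
        exact Q.mul_mem hq (CL.RankOne.conj_mem_Q hS hd.1 ih)
    have h4 := h3 (2 ^ k)
    rw [hk', one_mul] at h4
    have h5 : d ^ 2 ^ k = 1 := CL.RankOne.eq_one_of_mem_Q_of_mem_DD hS (by simpa using h4)
      (Subgroup.pow_mem _ hd _)
    have h6 : orderOf d ∣ 2 ^ k := orderOf_dvd_of_pow_eq_one h5
    have h7 : orderOf d = 1 := by
      have hodd := CL.RankOne.odd_orderOf_of_mem_DD hS hd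
      exact Nat.eq_one_of_dvd_coprimes (Nat.Coprime.pow_right k (Nat.coprime_two_right.mpr hodd))
        dvd_rfl h6
    rw [e, orderOf_eq_one_iff.mp h7, mul_one]
    exact hq
  · intro g hg
    obtain ⟨x, y, hx, hy, e⟩ := CL.RankOne.canon_exists hS hg
    refine ⟨(x, y), ⟨hx, hy, e⟩, ?_⟩
    rintro ⟨x', y'⟩ ⟨hx', hy', e'⟩
    obtain ⟨h1, h2⟩ := CL.RankOne.canon_unique hS hx' hy' hx hy (e'.symm.trans e)
    exact Prod.ext h1 h2

end Cfsg.Agent.S1119
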