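import Cfsg.Agent.Base
import Cfsg.Statements.S1120
import Cfsg.Agent.RankOne.Center

set_option autoImplicit false
open Cfsg

namespace Cfsg.Agent.S1120

/-- In the rank-one set-up (`G` finite and doubly transitive on `Ω`, `t` an involution moving `a`, `Q` normal in `G_a` with `G_a = Q D`, `Q ⊓ D = 1` for the two-point stabiliser `D = G_a ⊓ G_{t • a}`, `|Q|` even, `|D|` odd), if `G` has 2-rank at least 2 then `O_{2'}(G)` equals the normal core of `G_a`. -/
theorem result {G Ω : Type*} [Group G] [Finite G] [MulAction G Ω] {a : Ω} {t : G} {Q : Subgroup G}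
    (hS : Cfsg.IsRankOneSetup G Ω a t Q)
    (h2 : ∃ x y : G, x ≠ 1 ∧ y ≠ 1 ∧ x ≠ y ∧ x * x = 1 ∧ y * y = 1 ∧ x * y = y * x) :
    Cfsg.pPrimeCore 2 G = (MulAction.stabilizer G a).normalCore := by
  apply le_antisymm
  · apply sSup_le
    rintro N ⟨hN, hc⟩
    rw [Subgroup.normal_le_normalCore]
    exact CL.RankOne.le_stabilizer_of_normal_odd hS h2 N (Nat.coprime_two_right.mp hc)
  · apply le_sSup
    refine ⟨inferInstance, Nat.coprime_two_right.mpr ?_⟩
    apply CL.RankOne.odd_card_of_no_invol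
    intro x hx hx2
    apply CL.RankOne.eq_one_of_mem_DD_of_mul_self hS _ hx2
    refine ⟨Subgroup.normalCore_le _ hx, ?_⟩
    have h1 : t * x * t⁻¹ ∈ MulAction.stabilizer G a := hx t
    rw [MulAction.mem_stabilizer_iff, CL.RankOne.t_inv hS, mul_smul, mul_smul] at h1
    have h3 := congrArg (fun c => t • c) h1
    simp only [CL.RankOne.tta hS] at h3
    exact h3

end Cfsg.Agent.S1120
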