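import Cfsg.Agent.Base
import Cfsg.Statements.S1132
import Cfsg.Agent.RankOne.KCyclic
import Cfsg.Agent.S0205
import Cfsg.Agent.S1129

set_option autoImplicit false
open Cfsg

namespace Cfsg.Agent.S1132

/-- In the rank-one set-up (`G` finite and doubly transitive on `Ω`, `t` an involution moving `a`, `Q` normal in `G_a` with `G_a = Q D`, `Q ⊓ D = 1` for the two-point stabiliser `D = G_a ⊓ G_{t • a}`, `|Q|` even, `|D|` odd), with the action faithful and `G` containing two distinct commuting involutions: a Sylow 2-subgroup of `Q` is abelian or a Suzuki 2-group. -/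
theorem result {G Ω : Type*} [Group G] [Finite G] [MulAction G Ω] [FaithfulSMul G Ω] {a : Ω} {t : G} {Q : Subgroup G}
    (hS : Cfsg.IsRankOneSetup G Ω a t Q)
    (h2 : ∃ x y : G, x ≠ 1 ∧ y ≠ 1 ∧ x ≠ y ∧ x * x = 1 ∧ y * y = 1 ∧ x * y = y * x)
    (S : Sylow 2 ↥Q) : IsMulCommutative (S : Subgroup ↥Q) ∨ Cfsg.IsSuzukiTwoGroup ↥(S : Subgroup ↥Q) := by
  haveI : Group.IsSolvable (CL.RankOne.DD a t) := Cfsg.Agent.S0205.result hS.odd_card
  haveI := Cfsg.Agent.S1129.result hS h2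
  haveI : Fact (Nat.Prime 2) := ⟨Nat.prime_two⟩
  have hSn : (S : Subgroup Q).Normal := inferInstance
  haveI : (S : Subgroup Q).Characteristic := Sylow.characteristic_of_normal S hSn
  by_cases hab : ∀ x y : (S : Subgroup Q), x * y = y * x
  · exact Or.inl ⟨⟨hab⟩⟩
  right
  have hmem : ∀ x (hx : x ∈ Q), x * x = 1 → (⟨x, hx⟩ : Q) ∈ (S : Subgroup Q) := by
    intro x hx hxx
    have hP : IsPGroup 2 (Subgroup.zpowers (⟨x, hx⟩ : Q)) := by
      rintro ⟨_, n, rfl⟩
      refine ⟨1, Subtype.ext (Subtype.ext ?_)⟩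
      simp only [pow_one, SubgroupClass.coe_pow, SubgroupClass.coe_zpow, OneMemClass.coe_one]
      rw [← zpow_natCast, ← zpow_mul, mul_comm, zpow_mul, zpow_natCast, pow_two, hxx, one_zpow]
    obtain ⟨T, hT⟩ := hP.exists_le_sylow
    haveI := Sylow.unique_of_normal S hSn
    rw [Subsingleton.elim S T]
    exact hT (Subgroup.mem_zpowers _)
  push Not at hab
  refine ⟨inferInstance, S.isPGroup', hab, ?_, ?_⟩
  · obtain ⟨x, hx, y, hy, hxy⟩ := CL.RankOne.exists_two_II hS h2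
    refine ⟨⟨⟨x, CL.RankOne.mem_Q_of_mem_II hS hx⟩, hmem x _ hx.2.2⟩,
      ⟨⟨y, CL.RankOne.mem_Q_of_mem_II hS hy⟩, hmem y _ hy.2.2⟩, fun h => hxy ?_, fun h => hx.2.1 ?_,
      Subtype.ext (Subtype.ext hx.2.2), fun h => hy.2.1 ?_, Subtype.ext (Subtype.ext hy.2.2)⟩
    all_goals exact congrArg (fun z : (S : Subgroup Q) => ((z : Q) : G)) h
  · let ρ : CL.RankOne.KS a t →* MulAut Q := Q.normalizerMonoidHom.comp (Subgroup.inclusion
      (CL.RankOne.KS_le_DD.trans (inf_le_left.trans (CL.RankOne.stabilizer_le_normalizer hS))))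
    let ρ' : CL.RankOne.KS a t →* MulAut (S : Subgroup Q) :=
      (MulAut.characteristic (S : Subgroup Q)).comp ρ
    have hρ' : ∀ (k : CL.RankOne.KS a t) (x : (S : Subgroup Q)),
        ((ρ' k x : Q) : G) = k * ((x : Q) : G) * (k : G)⁻¹ := fun k x => rfl
    haveI := CL.RankOne.isCyclic_KS hS
    refine ⟨ρ'.range, isCyclic_of_surjective _ ρ'.rangeRestrict_surjective, ?_⟩
    intro x y hx1 hx hy1 hy
    have hI : ∀ x : (S : Subgroup Q), x ≠ 1 → x * x = 1 → ((x : Q) : G) ∈ CL.RankOne.II G a :=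
      fun x hx1 hx => ⟨CL.RankOne.smul_of_mem_Q hS (x : Q).2,
        fun h => hx1 (Subtype.ext (Subtype.ext h)),
        congrArg (fun z : (S : Subgroup Q) => ((z : Q) : G)) hx⟩
    obtain ⟨k, hk, ek⟩ := CL.RankOne.exists_K_conj_eq hS (hI x hx1 hx) (hI y hy1 hy)
    refine ⟨⟨ρ' (⟨k, CL.RankOne.mem_KS_of_mem_KK hk⟩ : CL.RankOne.KS a t)⁻¹, _, rfl⟩, ?_, ?_⟩
    · apply Subtype.ext
      apply Subtype.ext
      rw [hρ', ← ek]; simp
    · rintro ⟨_, l, rfl⟩ hl
      have h3 := hρ' l x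
      rw [show ρ' l x = y from hl, ← ek] at h3
      apply Subtype.ext
      show ρ' l = ρ' _
      congr 1
      apply Subtype.ext
      show (l : G) = k⁻¹
      rw [← inv_inj, inv_inv]
      apply CL.RankOne.eq_of_K_conj_eq hS (hI x hx1 hx)
        (CL.RankOne.inv_mem_invertedBy ((CL.RankOne.mem_KS hS).mp l.2)) hk
      rw [h3, inv_inv]

end Cfsg.Agent.S1132
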