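import Cfsg.Statements.S1147
import Cfsg.Agent.Base
import Cfsg.Agent.RankOneRec.ZT
import Cfsg.Agent.S1139

set_option autoImplicit false
open Cfsg

namespace Cfsg.Agent.S1147

/-- Let a finite simple Zassenhaus group `G` on `Ω` have a normal subgroup `U` of `G_a`, regular on `Ω` minus `a`, which is a non-abelian 2-group. Then `|Ω| = 2^(2n) + 1` with `n` odd, `n > 1`, a two-point stabiliser `G_a ⊓ G_b` is cyclic of order `2^n - 1`, and `U` is isomorphic to the type-A group over a field with `2^n` elements for some field automorphism `φ`. -/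
theorem result {G Ω : Type*} [Group G] [Finite G] [MulAction G Ω] [Finite Ω]
    (hZ : Cfsg.IsZassenhausGroup G Ω) [IsSimpleGroup G] {a b : Ω} (hab : a ≠ b)
    (U : Subgroup G) (hUle : U ≤ MulAction.stabilizer G a)
    (hUn : ∀ h ∈ MulAction.stabilizer G a, ∀ u ∈ U, h * u * h⁻¹ ∈ U)
    (hreg : ∀ c d : Ω, c ≠ a → d ≠ a → ∃! u : U, (u : G) • c = d)
    (hU2 : IsPGroup 2 U) (hUna : ∃ u ∈ U, ∃ v ∈ U, u * v ≠ v * u) :
    ∃ n : ℕ, Odd n ∧ 1 < n ∧ Nat.card Ω = 2 ^ (2 * n) + 1 ∧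
      IsCyclic ↥(MulAction.stabilizer G a ⊓ MulAction.stabilizer G b) ∧
      Nat.card ↥(MulAction.stabilizer G a ⊓ MulAction.stabilizer G b) = 2 ^ n - 1 ∧
      ∃ (F : Type) (_ : Field F) (_ : Fintype F) (φ : F ≃+* F), Fintype.card F = 2 ^ n ∧
        Nonempty (U ≃* Cfsg.suzukiTypeA F (φ : F →+* F)) := by
  obtain ⟨t, rfl, hS, hD, hq⟩ := CL.ROR.setup_of_zass hZ hab hUle hreg hU2
  obtain ⟨u, hu, v, hv, huv⟩ := hUna
  obtain ⟨n, hn, hn1, hZ', hQ, hP, -⟩ := CL.ROR.zt_card hS hD hU2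
    ⟨⟨u, hu⟩, ⟨v, hv⟩, fun e => huv (congrArg Subtype.val e)⟩ hq
  have hK : ∀ k ∈ CL.RankOne.KK a t, ∀ l ∈ CL.RankOne.KK a t, k * l ∈ CL.RankOne.KK a t :=
    fun k hk l hl => hD _ (Subgroup.mul_mem _ hk.1 hl.1)
  have hDK : CL.RankOne.DD a t = CL.ROR.KS a t :=
    le_antisymm (fun x hx => CL.ROR.mem_KS_of_mem_KK (hD x hx)) CL.ROR.KS_le_DD
  have hc := CL.ROR.card_center_eq hS (CL.ROR.QZ_le hS) le_rfl hP
  refine ⟨n, hn, hn1, ?_, ?_, ?_, ?_⟩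
  · rw [CL.RankOne.card_Ω hS, hQ, ← pow_mul, mul_comm]
  · have := CL.ROR.isCyclic_KS hS hK
    rwa [← hDK] at this
  · have := CL.ROR.card_QZ_eq hS
    rw [← CL.ROR.card_KS hK, ← hDK, hZ'] at this
    exact Nat.eq_sub_of_add_eq this.symm
  · obtain ⟨F, _, _, φ, hF, -, -, e⟩ := Cfsg.Agent.S1139.result hP (by rw [hc, hZ', hQ])
    exact ⟨F, _, _, φ, by rw [hF, hc, hZ'], e⟩

end Cfsg.Agent.S1147
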