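import Cfsg.Statements.S1151
import Cfsg.Agent.Base
import Cfsg.Agent.Ree.Struct

set_option autoImplicit false
open Cfsg

namespace Cfsg.Agent.S1151

open CL.Ree

/-- In the small Ree group ²G₂(q), q = 3^(2m+1), realised as G¹ inside the Chevalley group G₂ over the field with q elements (θ the 3^m-th power map), with H¹ = G¹ ∩ H and U¹ = G¹ ∩ U the intersections with the ambient diagonal and positive unipotent subgroups: `H¹` has exactly `(q - 1)/2` elements of odd order, and each non-identity one centralises no non-identity element of `U¹`. -/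
theorem result {K : Type*} [Field K] [Fintype K] {m : ℕ} (hK : Fintype.card K = 3 ^ (2 * m + 1)) :
    2 * Nat.card {h : ↥(Cfsg.Lie.chevG2.diagonalSubgroup K ⊓ Cfsg.Lie.twistedG2 K (3 ^ m)) // Odd (orderOf h)} = 3 ^ (2 * m + 1) - 1 ∧
      ∀ h ∈ (Cfsg.Lie.chevG2.diagonalSubgroup K ⊓ Cfsg.Lie.twistedG2 K (3 ^ m)), h ≠ 1 → Odd (orderOf h) →
        (Cfsg.Lie.chevG2.posUnipotent K ⊓ Cfsg.Lie.twistedG2 K (3 ^ m)) ⊓ Subgroup.centralizer {h} = ⊥ := by
  classical
  have := rf_of_card hK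
  refine ⟨?_, fun h hh' h1 hodd => ?_⟩
  · let E := (infEquiv (3 ^ m) (mem_diag_iff (K := K) (3 ^ m))).trans
      (MonoidHom.ofInjective (hh_inj (K := K) (3 ^ m))).symm
    have h1 : Nat.card {h : ↥(Cfsg.Lie.chevG2.diagonalSubgroup K ⊓ Cfsg.Lie.twistedG2 K (3 ^ m)) // Odd (orderOf h)} =
        Nat.card {l : Kˣ // Odd (orderOf l)} :=
      Nat.card_congr (E.toEquiv.subtypeEquiv fun h => by rw [← E.orderOf_eq h]; rfl)
    have h8 := three_pow_odd_mod m
    obtain ⟨k, hk⟩ : ∃ k, Nat.card Kˣ = 2 * (2 * k + 1) :=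
      ⟨Nat.card Kˣ / 4, by rw [Nat.card_units, Nat.card_eq_fintype_card, hK]; omega⟩
    have h2 : ∀ l : Kˣ, Odd (orderOf l) ↔ l ∈ (powMonoidHom (2 * k + 1) : Kˣ →* Kˣ).ker := by
      intro l
      rw [MonoidHom.mem_ker, powMonoidHom_apply, ← orderOf_dvd_iff_pow_eq_one]
      refine ⟨fun h => ?_, fun h => Odd.of_dvd_nat ⟨k, rfl⟩ h⟩
      have h3 := orderOf_dvd_natCard l
      rw [hk] at h3
      exact (Nat.Coprime.dvd_mul_left (Nat.coprime_two_right.2 h)).1 h3
    rw [h1, Nat.card_congr (Equiv.subtypeEquivRight h2), IsCyclic.card_powMonoidHom_ker, hk,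
      Nat.gcd_eq_right (Dvd.intro_left 2 rfl), ← hk, Nat.card_units, Nat.card_eq_fintype_card, hK]
  · rw [eq_bot_iff]
    rintro u ⟨⟨hu, huG⟩, hc⟩
    have hT := (mem_diag_iff (3 ^ m) (⟨h, hh'.2⟩ : RG K (3 ^ m))).1 hh'.1
    have hU := (mem_pos_iff (3 ^ m) (⟨u, huG⟩ : RG K (3 ^ m))).1 hu
    have := uni_eq_one_of_comm (3 ^ m) hT (fun e => h1 (congrArg Subtype.val e)) (fun e => ?_) hU
      (Subtype.ext (Subgroup.mem_centralizer_singleton_iff.1 hc).symm)
    · exact congrArg Subtype.val this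
    · have h2 := orderOf_aa (K := K) (3 ^ m)
      rw [← e, ← Subgroup.orderOf_coe] at h2
      rw [show orderOf h = 2 from h2] at hodd
      exact absurd hodd (by decide)

end Cfsg.Agent.S1151
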