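import Cfsg.Statements.S1153
import Cfsg.Agent.Base
import Cfsg.Agent.Ree.Struct

set_option autoImplicit false
open Cfsg

namespace Cfsg.Agent.S1153

open CL.Ree

/-- In the small Ree group ²G₂(q), q = 3^(2m+1), realised as G¹ inside the Chevalley group G₂ over the field with q elements, with `B¹ = G¹ ∩ B`: in the action of `G¹` on the cosets of `B¹`, the joint stabiliser of any three distinct cosets has order at most 2, and for some three distinct cosets it has order exactly 2. -/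
theorem result {K : Type*} [Field K] [Fintype K] {m : ℕ} (hK : Fintype.card K = 3 ^ (2 * m + 1)) :
    (∀ x y z : ↥(Cfsg.Lie.twistedG2 K (3 ^ m)) ⧸ ((Cfsg.Lie.chevG2.borelSubgroup K ⊓ Cfsg.Lie.twistedG2 K (3 ^ m))).subgroupOf (Cfsg.Lie.twistedG2 K (3 ^ m)), x ≠ y → x ≠ z → y ≠ z →
        Nat.card ↥(MulAction.stabilizer ↥(Cfsg.Lie.twistedG2 K (3 ^ m)) x ⊓ MulAction.stabilizer ↥(Cfsg.Lie.twistedG2 K (3 ^ m)) y ⊓ MulAction.stabilizer ↥(Cfsg.Lie.twistedG2 K (3 ^ m)) z) ≤ 2) ∧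
      ∃ x y z : ↥(Cfsg.Lie.twistedG2 K (3 ^ m)) ⧸ ((Cfsg.Lie.chevG2.borelSubgroup K ⊓ Cfsg.Lie.twistedG2 K (3 ^ m))).subgroupOf (Cfsg.Lie.twistedG2 K (3 ^ m)), x ≠ y ∧ x ≠ z ∧ y ≠ z ∧
        Nat.card ↥(MulAction.stabilizer ↥(Cfsg.Lie.twistedG2 K (3 ^ m)) x ⊓ MulAction.stabilizer ↥(Cfsg.Lie.twistedG2 K (3 ^ m)) y ⊓ MulAction.stabilizer ↥(Cfsg.Lie.twistedG2 K (3 ^ m)) z) = 2 := by
  have := rf_of_card hK
  rw [borel_subgroupOf]
  refine ⟨fun x y z hxy hxz hyz => ?_, pInf _, pZero _, uu (3 ^ m) (0 : K) 1 0 • pZero _,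
    (pZero_ne_pInf _).symm,
    (bor_smul_ne _ (Uni_le_Bor _ (uu_mem_Uni _ _ _ _)) (pZero_ne_pInf _)).symm, fun h => ?_, ?_⟩
  · obtain ⟨k, h1, h2⟩ := exists_smul_pair (3 ^ m) hxy
    have hs : ((MulAction.stabilizer (RG K (3 ^ m)) x ⊓ MulAction.stabilizer (RG K (3 ^ m)) y ⊓
        MulAction.stabilizer (RG K (3 ^ m)) z : Subgroup _) : Set (RG K (3 ^ m))) ⊆ {1, k * aa _ * k⁻¹} :=
      fun g hg => fix_three _ hxz hyz hg.1.1 hg.1.2 hg.2 h1 h2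
    exact (Set.ncard_le_ncard hs).trans ((Set.ncard_insert_le _ _).trans (by simp))
  · have h1 := uni_smul_inj (3 ^ m) (Uni K _).one_mem (uu_mem_Uni _ (0 : K) 1 0) (by rw [one_smul]; exact h)
    rw [← uu_zero] at h1
    exact zero_ne_one (uu_inj _ h1).2.1
  · rw [← orderOf_aa (K := K) (3 ^ m), ← Nat.card_zpowers]
    refine congrArg (fun S : Subgroup (RG K (3 ^ m)) => Nat.card S) (le_antisymm (fun g hg => ?_) ?_)
    · have hT := (fix_both_iff (3 ^ m)).1 ⟨hg.1.1, hg.1.2⟩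
      by_contra hne
      have := uni_eq_one_of_comm _ hT (fun h => hne (h ▸ Subgroup.one_mem _))
        (fun h => hne (h ▸ Subgroup.mem_zpowers _)) (uu_mem_Uni _ (0 : K) 1 0)
        ((tor_fix_iff _ hT (uu_mem_Uni _ _ _ _)).1 hg.2)
      rw [← uu_zero] at this
      exact one_ne_zero (uu_inj _ this).2.1
    · rw [Subgroup.zpowers_le]
      exact ⟨⟨tor_smul_pInf _ (aa_mem_Tor _), tor_smul_pZero _ (aa_mem_Tor _)⟩,
        (tor_fix_iff _ (aa_mem_Tor _) (uu_mem_Uni _ _ _ _)).2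
          ((uni_comm_aa_iff _ (uu_mem_Uni _ _ _ _)).2 ⟨1, rfl⟩)⟩

end Cfsg.Agent.S1153
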