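import Cfsg.Statements.S1154
import Cfsg.Agent.Base
import Cfsg.Agent.Ree.Struct

set_option autoImplicit false
open Cfsg

namespace Cfsg.Agent.S1154

open CL.Ree

/-- In the small Ree group ²G₂(q), q = 3^(2m+1) with m ≥ 1, realised as G¹ inside the Chevalley group G₂ over the field with q elements (θ the 3^m-th power map), with `U¹ = G¹ ∩ U` (U the positive unipotent subgroup of the ambient G₂): `U¹` has exactly `q² - 1` elements of order 3. -/
theorem result {K : Type*} [Field K] [Fintype K] {m : ℕ} (hm : 1 ≤ m) (hK : Fintype.card K = 3 ^ (2 * m + 1)) :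
    Nat.card {u : ↥(Cfsg.Lie.chevG2.posUnipotent K ⊓ Cfsg.Lie.twistedG2 K (3 ^ m)) // orderOf u = 3} = (3 ^ (2 * m + 1)) ^ 2 - 1 := by
  have := rf_of_card hK
  have : Fact (Nat.Prime 3) := ⟨Nat.prime_three⟩
  let E := (infEquiv (3 ^ m) (mem_pos_iff (K := K) (3 ^ m))).toEquiv.trans (uniEquiv (3 ^ m)).symm
  have h1 : ∀ u, orderOf u = 3 ↔ ((E u).1 = 0 ∧ (E u).2 ≠ 0) := by
    intro u
    have h2 : orderOf u = orderOf (uu (3 ^ m) (E u).1 (E u).2.1 (E u).2.2) := by
      have h3 : uu (3 ^ m) (E u).1 (E u).2.1 (E u).2.2 =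
          (infEquiv (3 ^ m) (mem_pos_iff (K := K) (3 ^ m)) u : Uni K (3 ^ m)) :=
        congrArg Subtype.val ((uniEquiv (3 ^ m)).apply_symm_apply _)
      rw [h3, Subgroup.orderOf_coe, MulEquiv.orderOf_eq]
    rw [h2, orderOf_eq_prime_iff, uu_cube_eq_one_iff, ← uu_zero]
    refine and_congr_right fun h => not_congr ⟨fun h' => ?_, fun h' => by rw [h, h']; rfl⟩
    exact Prod.ext (uu_inj _ h').2.1 (uu_inj _ h').2.2
  have h4 : Nat.card {u // orderOf u = 3} = Nat.card {p : K × K // p ≠ 0} :=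
    Nat.card_congr ((E.subtypeEquiv (q := fun p : K × K × K => p.1 = 0 ∧ p.2 ≠ 0) h1).trans
      ⟨fun p => ⟨p.1.2, p.2.2⟩, fun p => ⟨(0, p.1), rfl, p.2⟩, fun p => Subtype.ext (Prod.ext p.2.1.symm rfl),
        fun _ => rfl⟩)
  classical
  rw [h4, Nat.card_eq_fintype_card, Fintype.card_subtype_compl, Fintype.card_prod, hK, Fintype.card_unique, sq]

end Cfsg.Agent.S1154
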