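import Cfsg.Statements.S1156
import Cfsg.Agent.Base
import Cfsg.Agent.Ree.Tori4

set_option autoImplicit false
open Cfsg

namespace Cfsg.Agent.S1156

open CL.Ree

/-- In the small Ree group ²G₂(q), q = 3^(2m+1) with m ≥ 1, realised as G¹ inside the Chevalley group G₂ over the field with q elements (θ the 3^m-th power map): for every prime `p > 3` the Sylow `p`-subgroups of `G¹` are cyclic. -/
theorem result {K : Type*} [Field K] [Fintype K] {m : ℕ} (hm : 1 ≤ m) (hK : Fintype.card K = 3 ^ (2 * m + 1))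
    {p : ℕ} [Fact p.Prime] (hp : 3 < p) (P : Sylow p ↥(Cfsg.Lie.twistedG2 K (3 ^ m))) : IsCyclic (P : Subgroup ↥(Cfsg.Lie.twistedG2 K (3 ^ m))) := by
  have := rf_of_card hK
  exact isCyclic_of_isPGroup (3 ^ m) hp P.isPGroup'

end Cfsg.Agent.S1156
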