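import Cfsg.Statements.S1157
import Cfsg.Agent.Base
import Cfsg.Agent.Ree.Two

set_option autoImplicit false
open Cfsg

namespace Cfsg.Agent.S1157

open CL.Ree

/-- In the small Ree group ²G₂(q), q = 3^(2m+1) with m ≥ 1, realised as G¹ inside the Chevalley group G₂ over the field with q elements (θ the 3^m-th power map): a Sylow 2-subgroup `S` of `G¹` satisfies `C(S) = S` and `|N(S)| = 168`. -/
theorem result {K : Type*} [Field K] [Fintype K] {m : ℕ} (hm : 1 ≤ m) (hK : Fintype.card K = 3 ^ (2 * m + 1))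
    (S : Sylow 2 ↥(Cfsg.Lie.twistedG2 K (3 ^ m))) :
    Subgroup.centralizer ((S : Subgroup ↥(Cfsg.Lie.twistedG2 K (3 ^ m))) : Set ↥(Cfsg.Lie.twistedG2 K (3 ^ m))) = S ∧
      Nat.card (Subgroup.normalizer ((S : Subgroup ↥(Cfsg.Lie.twistedG2 K (3 ^ m))) : Set ↥(Cfsg.Lie.twistedG2 K (3 ^ m)))) = 168 := by
  have := rf_of_card hK
  obtain ⟨g, hg⟩ := exists_conj_S8 (3 ^ m) S
  rw [hg]
  constructor
  · ext x
    rw [Subgroup.mem_map_equiv, ← centralizer_S8, Subgroup.mem_centralizer_iff, Subgroup.mem_centralizer_iff,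
      centralizer_S8]
    constructor
    · intro h y hy
      apply (MulAut.conj g).injective
      rw [map_mul, map_mul, MulEquiv.apply_symm_apply]
      exact h _ ⟨y, hy, rfl⟩
    · rintro h _ ⟨y, hy, rfl⟩
      apply (MulAut.conj g).symm.injective
      rw [map_mul, map_mul]
      exact (congrArg₂ (· * ·) ((MulAut.conj g).symm_apply_apply y) rfl).trans ((h y hy).trans
        (congrArg₂ (· * ·) rfl ((MulAut.conj g).symm_apply_apply y).symm))
  · rw [← Subgroup.map_equiv_normalizer_eq, Subgroup.card_map_of_injective (MulAut.conj g).injective,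
      card_normalizer_S8]

end Cfsg.Agent.S1157
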