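import Cfsg.Statements.S1158
import Cfsg.Agent.Base
import Cfsg.Agent.Ree.Tori4

set_option autoImplicit false
open Cfsg

namespace Cfsg.Agent.S1158

open CL.Ree

/-- In the small Ree group ²G₂(q), q = 3^(2m+1) with m ≥ 1, realised as G¹ inside the Chevalley group G₂ over the field with q elements (θ the 3^m-th power map), with `r = 3^(m+1)` (so `r² = 3q`): for each `k ∈ {(q-1)/2, (q+1)/4, q - r + 1, q + r + 1}` there is a cyclic subgroup `A` of order `k` whose normaliser has order `2(q-1)`, `6(q+1)`, `6(q-r+1)`, `6(q+r+1)` respectively, and `N(A₀) = N(A)` for every non-trivial `A₀ ≤ A`. -/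
theorem result {K : Type*} [Field K] [Fintype K] {m : ℕ} (hm : 1 ≤ m) (hK : Fintype.card K = 3 ^ (2 * m + 1)) :
    ∀ kn ∈ ({((3 ^ (2 * m + 1) - 1) / 2, 2 * (3 ^ (2 * m + 1) - 1)), ((3 ^ (2 * m + 1) + 1) / 4, 6 * (3 ^ (2 * m + 1) + 1)),
        (3 ^ (2 * m + 1) - 3 ^ (m + 1) + 1, 6 * (3 ^ (2 * m + 1) - 3 ^ (m + 1) + 1)),
        (3 ^ (2 * m + 1) + 3 ^ (m + 1) + 1, 6 * (3 ^ (2 * m + 1) + 3 ^ (m + 1) + 1))} : Set (ℕ × ℕ)),
      ∃ A : Subgroup ↥(Cfsg.Lie.twistedG2 K (3 ^ m)), IsCyclic A ∧ Nat.card A = kn.1 ∧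
        Nat.card (Subgroup.normalizer (A : Set ↥(Cfsg.Lie.twistedG2 K (3 ^ m)))) = kn.2 ∧
        ∀ A₀ : Subgroup ↥(Cfsg.Lie.twistedG2 K (3 ^ m)), A₀ ≤ A → A₀ ≠ ⊥ →
          Subgroup.normalizer (A₀ : Set ↥(Cfsg.Lie.twistedG2 K (3 ^ m))) = Subgroup.normalizer (A : Set ↥(Cfsg.Lie.twistedG2 K (3 ^ m))) := by
  have := rf_of_card hK
  have hK' : Nat.card K = 3 ^ (2 * m + 1) := by rw [Nat.card_eq_fintype_card, hK]
  have hq : 3 < Nat.card K := by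
    rw [hK']
    exact (by norm_num : 3 < 3 ^ 3).trans_le (Nat.pow_le_pow_right (by norm_num) (by omega))
  have hr : (3 ^ (m + 1)) ^ 2 = 3 * Nat.card K := by rw [hK']; ring
  rw [← hK']
  obtain ⟨x₁, x₂, h₁, h₂, c₁, c₂, n₁, n₂, -⟩ := exists_tori (3 ^ m) hq hr
  rintro _ (rfl | rfl | rfl | rfl)
  · refine ⟨A2 K (3 ^ m), isCyclic_A2 _, by rw [← card_A2 (3 ^ m), Nat.mul_div_cancel_left _ two_pos], ?_, fun A h h0 => ?_⟩
    · rw [normalizer_of_le_A2 _ le_rfl (A2_ne_bot _ hq), card_Mono]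
    · rw [normalizer_of_le_A2 _ le_rfl (A2_ne_bot _ hq), normalizer_of_le_A2 _ h h0]
  · refine ⟨A4 K (3 ^ m), isCyclic_A4 _, by rw [← card_A4 (3 ^ m), Nat.mul_div_cancel_left _ four_pos], ?_, fun A h h0 => ?_⟩
    · rw [normalizer_of_le_A4 _ le_rfl (A4_ne_bot _ hq), card_normalizer_V4]
    · rw [normalizer_of_le_A4 _ le_rfl (A4_ne_bot _ hq), normalizer_of_le_A4 _ h h0]
  · exact ⟨_, (centralizer_IsM _ h₁).1, c₁, n₁, fun A h h0 => normalizer_of_le_IsM _ h₁ h h0⟩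
  · exact ⟨_, (centralizer_IsM _ h₂).1, c₂, n₂, fun A h h0 => normalizer_of_le_IsM _ h₂ h h0⟩

end Cfsg.Agent.S1158
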