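import Cfsg.Statements.S1176
import Cfsg.Agent.TwoFus.StrClosed

set_option autoImplicit false
open Cfsg

namespace Cfsg.Agent.S1176

open scoped commutatorElement


/-- Let x₀ be an involution of the finite group G and D its conjugacy class. Assume (a) for each x ∈ D the subgroup W(x) generated by the members of D commuting with x is a 2-group of nilpotency class at most 2, and (b) the product of two distinct commuting members of D again lies in D. Then for all x, y ∈ D, if xy has even order greater than 2, its order is 4. -/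
theorem result {G : Type*} [Group G] [Finite G] (x₀ : G) (hx₀ : orderOf x₀ = 2) (ha : ∀ x : G, IsConj x₀ x → IsPGroup 2 ↥(Subgroup.closure {y : G | IsConj x₀ y ∧ Commute y x}) ∧ ⁅⁅Subgroup.closure {y : G | IsConj x₀ y ∧ Commute y x}, Subgroup.closure {y : G | IsConj x₀ y ∧ Commute y x}⁆, Subgroup.closure {y : G | IsConj x₀ y ∧ Commute y x}⁆ = ⊥) (hb : ∀ x y : G, IsConj x₀ x → IsConj x₀ y → x ≠ y → Commute x y → IsConj x₀ (x * y)) (x y : G) (hx : IsConj x₀ x) (hy : IsConj x₀ y) (heven : Even (orderOf (x * y))) (hgt : 2 < orderOf (x * y)) : orderOf (x * y) = 4 := by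
  have hx2 : x * x = 1 :=
    CL.Isol.mul_self_of_orderOf_two (CL.Isol.orderOf_eq_of_isConj hx ▸ hx₀)
  have hy2 : y * y = 1 :=
    CL.Isol.mul_self_of_orderOf_two (CL.Isol.orderOf_eq_of_isConj hy ▸ hx₀)
  obtain ⟨m, hm⟩ := heven
  set w := x * y with hw
  have hu1 : w ^ m ≠ 1 := pow_ne_one_of_lt_orderOf (by omega) (by omega)
  have hu2 : w ^ m * w ^ m = 1 := by rw [← pow_add, ← hm, pow_orderOf_eq_one]
  have hinvy : y * w * y⁻¹ = w⁻¹ := CL.Isol.inverts_mul_right hx2 hy2
  have hinvx : x * w * x⁻¹ = w⁻¹ := CL.Isol.inverts_mul_left hx2 hy2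
  have hcy : Commute y (w ^ m) := by
    have := CL.Isol.inverts_pow hinvy m
    rw [inv_eq_of_mul_eq_one_right hu2] at this
    exact mul_inv_eq_iff_eq_mul.mp this
  have hcx : Commute x (w ^ m) := by
    have := CL.Isol.inverts_pow hinvx m
    rw [inv_eq_of_mul_eq_one_right hu2] at this
    exact mul_inv_eq_iff_eq_mul.mp this
  have hconj : IsConj x₀ (w ^ m * y) := by
    rcases Nat.even_or_odd' m with ⟨j, rfl | rfl⟩
    · refine hy.trans (isConj_iff.mpr ⟨w ^ j, ?_⟩)
      rw [CL.Isol.conj_eq_sq_mul (CL.Isol.inverts_pow hinvy j), ← pow_mul, mul_comm j 2]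
    · refine hx.trans (isConj_iff.mpr ⟨w ^ j, ?_⟩)
      rw [CL.Isol.conj_eq_sq_mul (CL.Isol.inverts_pow hinvx j), ← pow_mul, mul_comm j 2, pow_succ,
        mul_assoc, hw, mul_assoc x y y, hy2, mul_one]
  have hu : IsConj x₀ (w ^ m) := by
    have := hb _ _ hconj hy (fun h => hu1 (mul_eq_right.mp h))
      (hcy.symm.mul_left (Commute.refl y))
    rwa [mul_assoc, hy2, mul_one] at this
  obtain ⟨-, hcl⟩ := ha _ hu
  set W := Subgroup.closure {y : G | IsConj x₀ y ∧ Commute y (w ^ m)}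
  have hxW : x ∈ W := Subgroup.subset_closure ⟨hx, hcx⟩
  have hyW : y ∈ W := Subgroup.subset_closure ⟨hy, hcy⟩
  have h1 : ⁅⁅x, y⁆, x⁆ ∈ ⁅⁅W, W⁆, W⁆ :=
    Subgroup.commutator_mem_commutator (Subgroup.commutator_mem_commutator hxW hyW) hxW
  rw [hcl, Subgroup.mem_bot, commutatorElement_eq_one_iff_commute] at h1
  have h2 : ⁅x, y⁆ = w ^ 2 := by
    rw [commutatorElement_def, inv_eq_of_mul_eq_one_right hx2, inv_eq_of_mul_eq_one_right hy2,
      pow_two, hw]
    group
  rw [h2] at h1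
  have h3 := CL.Isol.inverts_pow hinvx 2
  rw [← h1.eq, mul_inv_cancel_right] at h3
  have h4 : w ^ 4 = 1 := by
    rw [show 4 = 2 + 2 from rfl, pow_add]
    nth_rewrite 2 [h3]
    exact mul_inv_cancel _
  have h5 := orderOf_dvd_of_pow_eq_one h4
  have h6 := Nat.le_of_dvd (by norm_num) h5
  omega

end Cfsg.Agent.S1176
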