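import Cfsg.Statements.S1177
import Cfsg.Agent.TwoFus.StrClosed

set_option autoImplicit false
open Cfsg

namespace Cfsg.Agent.S1177

/-- Let A be a nontrivial elementary abelian 2-subgroup of a finite group G which is a T.I. set (each conjugate of A meets A trivially or equals A) and which does not commute elementwise with any conjugate of A other than A itself. Then for every a ∈ A, a ≠ 1, every conjugate of A contained in C_G(a) is equal to A (A is weakly closed in C_G(a)). -/
theorem result {G : Type*} [Group G] [Finite G] (A : Subgroup G) (hA : Cfsg.IsElementaryAbelian 2 A) (hA1 : A ≠ ⊥) (hTI : ∀ g : G, A.map (MulAut.conj g).toMonoidHom ⊓ A = ⊥ ∨ A.map (MulAut.conj g).toMonoidHom = A) (hb : ∀ g : G, (∀ a ∈ A, ∀ b ∈ A.map (MulAut.conj g).toMonoidHom, a * b = b * a) → A.map (MulAut.conj g).toMonoidHom = A) (a : G) (ha : a ∈ A) (ha1 : a ≠ 1) (g : G) (hg : A.map (MulAut.conj g).toMonoidHom ≤ Subgroup.centralizer ({a} : Set G)) : A.map (MulAut.conj g).toMonoidHom = A := by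
  set B := A.map (MulAut.conj g).toMonoidHom with hB
  rcases hTI g with hbot | heq
  swap
  · exact heq
  -- `B` normalizes `A`
  have hBA : ∀ b ∈ B, b ∈ Subgroup.normalizer (A : Set G) := by
    intro b hbB
    rw [← CL.StrCl.map_conj_eq_iff_mem_normalizer]
    rcases hTI b with h | h
    · exfalso
      apply ha1
      have hc : b * a = a * b := Subgroup.mem_centralizer_singleton_iff.mp (hg hbB)
      have : a ∈ A.map (MulAut.conj b).toMonoidHom ⊓ A := by
        refine ⟨?_, ha⟩
        have := CL.StrCl.conj_mem_map_conj b ha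
        rwa [hc, mul_inv_cancel_right] at this
      rwa [h] at this
    · exact h
  -- an element centralizing a nontrivial element of `B` normalizes `B`
  have hNB : ∀ x : G, ∀ b ∈ B, b ≠ 1 → x * b = b * x → x ∈ Subgroup.normalizer (B : Set G) := by
    intro x b hbB hb1 hc
    rw [← CL.StrCl.map_conj_eq_iff_mem_normalizer, hB, CL.StrCl.map_conj_map_conj]
    rcases hTI (g⁻¹ * x * g) with h | h
    · exfalso
      apply hb1
      have h1 : g⁻¹ * b * g ∈ A := CL.StrCl.mem_map_conj.mp hbB
      have : g⁻¹ * b * g ∈ A.map (MulAut.conj (g⁻¹ * x * g)).toMonoidHom ⊓ A := by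
        refine ⟨?_, h1⟩
        have := CL.StrCl.conj_mem_map_conj (g⁻¹ * x * g) h1
        have e : g⁻¹ * x * g * (g⁻¹ * b * g) * (g⁻¹ * x * g)⁻¹ = g⁻¹ * b * g := by
          calc _ = g⁻¹ * (x * b) * x⁻¹ * g := by group
            _ = _ := by rw [hc]; group
        rwa [e] at this
      rw [h, Subgroup.mem_bot] at this
      calc b = g * (g⁻¹ * b * g) * g⁻¹ := by group
        _ = 1 := by rw [this]; group
    · have : x * g = g * (g⁻¹ * x * g) := by group
      rw [this, ← CL.StrCl.map_conj_map_conj, h]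
  apply hb
  intro x hx b hbB
  by_cases hx1 : x = 1
  · simp [hx1]
  have hex : ∃ c ∈ B, c ≠ 1 ∧ x * c = c * x := by
    by_contra hne
    push Not at hne
    let f : B → {y : A // y ≠ 1} := fun c => ⟨⟨c * x * c⁻¹,
      (Subgroup.mem_normalizer_iff.mp (hBA c c.2) x).mp hx⟩, by
        intro h
        apply hx1
        have h : (c : G) * x * c⁻¹ = 1 := congrArg Subtype.val h
        simpa using h⟩
    have hf : Function.Injective f := by
      intro c d hcd
      have h : (c : G) * x * c⁻¹ = d * x * d⁻¹ := congrArg (fun y => (y.1 : G)) hcd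
      by_contra hne'
      apply hne ((d : G)⁻¹ * c) (B.mul_mem (B.inv_mem d.2) c.2)
      · intro h1
        apply hne'
        exact Subtype.ext (inv_mul_eq_one.mp h1).symm
      · calc x * ((d : G)⁻¹ * c) = d⁻¹ * (d * x * d⁻¹) * c := by simp [mul_assoc]
          _ = _ := by rw [← h]; simp [mul_assoc]
    have h1 := Nat.card_le_card_of_injective f hf
    have h2 : Nat.card {y : A // y ≠ 1} < Nat.card A :=
      Finite.card_subtype_lt (x := 1) (by simp)
    rw [CL.StrCl.card_map_conj] at h1
    omega
  obtain ⟨c, hcB, hc1, hc⟩ := hex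
  have hxN := hNB x c hcB hc1 hc
  have h1 : x * b * x⁻¹ * b⁻¹ ∈ B ⊓ A := by
    refine ⟨B.mul_mem ((Subgroup.mem_normalizer_iff.mp hxN b).mp hbB) (B.inv_mem hbB), ?_⟩
    have := A.mul_mem hx ((Subgroup.mem_normalizer_iff.mp (hBA b hbB) x⁻¹).mp (A.inv_mem hx))
    simpa [mul_assoc] using this
  rw [hbot, Subgroup.mem_bot] at h1
  calc x * b = (x * b * x⁻¹ * b⁻¹) * (b * x) := by group
    _ = b * x := by rw [h1, one_mul]

end Cfsg.Agent.S1177
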