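import Cfsg.Statements.S1183
import Cfsg.Agent.TwoFus.TransferEval
import Cfsg.Agent.TwoFus.Isol2

set_option autoImplicit false
open Cfsg

namespace Cfsg.Agent.S1183

/-- Let z be an isolated involution of the finite group G and C = C_G(z). Then the subgroup of G generated by its elements of odd order is all of G if and only if the subgroup of C generated by its elements of odd order is all of C. -/
theorem result {G : Type*} [Group G] [Finite G] (z : G) (hz : Cfsg.IsIsolatedInvolution z) : Cfsg.pResidual 2 G = ⊤ ↔ Cfsg.pResidual 2 ↥(Subgroup.centralizer ({z} : Set G)) = ⊤ := by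
  set C := Subgroup.centralizer ({z} : Set G) with hC
  constructor
  · intro h
    have hidx : Nat.Coprime 2 C.index :=
      (CL.Isol.odd_index_centralizer hz).coprime_two_left
    have key := CL.TwoFus.pResidual_sup_commutator_inf (p := 2) C hidx (by
      intro g hg _ a ha
      obtain ⟨c, -, hc, e⟩ := CL.Isol.exists_commute_conj hz (H := ⊤)
        (Subgroup.le_normalizer (Subgroup.mem_top z))
        (x := g) (y := a * g * a⁻¹) (h := a) (Subgroup.mem_centralizer_singleton_iff.mp hg)
        (Subgroup.mem_centralizer_singleton_iff.mp ha) (Subgroup.mem_top _) rfl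
      exact ⟨c, Subgroup.mem_centralizer_singleton_iff.mpr hc.eq, e⟩)
    rw [h, top_sup_eq, top_inf_eq] at key
    apply CL.TwoFus.pResidual_eq_top_of_sup_commutator
    apply Subgroup.map_injective C.subtype_injective
    rw [← key, ← MonoidHom.range_eq_map, Subgroup.range_subtype]
  · intro h
    rw [eq_top_iff]
    intro g _
    obtain ⟨k, -, c, -, hodd, -, hc, rfl⟩ := CL.Isol.exists_inverted_mul hz (H := ⊤)
        (Subgroup.le_normalizer (Subgroup.mem_top z))
      (Subgroup.mem_top g)
    apply Subgroup.mul_mem
    · exact CL.Transfer.mem_pResidual_of_coprime hodd.coprime_two_right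
    · apply CL.Transfer.map_pResidual_le C.subtype
      exact ⟨⟨c, Subgroup.mem_centralizer_singleton_iff.mpr hc.eq⟩, by rw [h]; trivial, rfl⟩

end Cfsg.Agent.S1183
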