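import Cfsg.Statements.S1185
import Cfsg.Agent.TwoFus.Isol

set_option autoImplicit false
open Cfsg

namespace Cfsg.Agent.S1185

/-- Let z be an isolated involution of the finite group G with centralizer C. Then for every g ∈ G there is exactly one element k in the coset gC that has odd order and is inverted by z. -/
theorem result {G : Type*} [Group G] [Finite G] (z : G) (hz : Cfsg.IsIsolatedInvolution z) (g : G) : ∃! k : G, (Odd (orderOf k) ∧ z * k * z⁻¹ = k⁻¹) ∧ g⁻¹ * k ∈ Subgroup.centralizer ({z} : Set G) := by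
  obtain ⟨k, hk, hodd, hinv, -⟩ := CL.Isol.exists_conj hz (IsConj.refl z)
    (isConj_iff.mpr ⟨g, rfl⟩ : IsConj z (g * z * g⁻¹))
  refine ⟨k, ⟨⟨hodd, hinv⟩, ?_⟩, ?_⟩
  · rw [Subgroup.mem_centralizer_singleton_iff]
    calc g⁻¹ * k * z = g⁻¹ * (k * z * k⁻¹) * k := by group
      _ = z * (g⁻¹ * k) := by rw [hk]; group
  · rintro l ⟨⟨hl, hzl⟩, hc⟩
    apply CL.Isol.inverted_unique hl hodd hzl hinv
    rw [Subgroup.mem_centralizer_singleton_iff] at hc
    calc l * z * l⁻¹ = g * (g⁻¹ * l * z) * l⁻¹ := by group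
      _ = k * z * k⁻¹ := by rw [hc, hk]; group

end Cfsg.Agent.S1185
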