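import Cfsg.Statements.S1189
import Cfsg.Agent.TwoFus.QDSub

set_option autoImplicit false
open Cfsg

namespace Cfsg.Agent.S1189

/-- A quasi-dihedral 2-group has exactly two conjugacy classes of elements of order 2 and exactly two conjugacy classes of elements of order 4. -/
theorem result {S : Type*} [Group S] [Finite S] (hS : Cfsg.IsQuasiDihedral S) : Nat.card {C : ConjClasses S // ∃ t : S, orderOf t = 2 ∧ ConjClasses.mk t = C} = 2 ∧ Nat.card {C : ConjClasses S // ∃ t : S, orderOf t = 4 ∧ ConjClasses.mk t = C} = 2 := by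
  obtain ⟨k, x, y, h⟩ := CL.exists_isQDData_top hS
  constructor
  · refine CL.card_orderClasses_eq_two h.orderOf_z h.orderOf_y ?_ ?_
    · intro hc
      obtain ⟨c, hc⟩ := isConj_iff.1 hc
      rw [h.conj_z (Subgroup.mem_top c)] at hc
      exact h.z_ne_y hc
    · intro g hg
      rcases h.involution_conj (Subgroup.mem_top g) hg with rfl | ⟨s, -, hs⟩
      · exact Or.inl (IsConj.refl _)
      · exact Or.inr (isConj_iff.2 ⟨s, hs⟩)
  · refine CL.card_orderClasses_eq_two h.orderOf_u h.orderOf_xy ?_ ?_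
    · intro hc
      obtain ⟨c, hc⟩ := isConj_iff.1 hc
      exact h.xy_notMem (hc ▸ h.conj_mem_zpowers (Subgroup.mem_top c)
        (zpow_mem (Subgroup.mem_zpowers x) _))
    · intro g hg
      rcases h.order_four_conj (Subgroup.mem_top g) hg with ⟨s, -, hs⟩ | ⟨s, -, hs⟩
      · exact Or.inl (isConj_iff.2 ⟨s, hs⟩)
      · exact Or.inr (isConj_iff.2 ⟨s, hs⟩)

end Cfsg.Agent.S1189
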