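import Cfsg.Statements.S1190
import Cfsg.Agent.TwoFus.QDSub

set_option autoImplicit false
open Cfsg

namespace Cfsg.Agent.S1190

/-- In a quasi-dihedral 2-group S, any two Klein four-subgroups are conjugate, and every Klein four-subgroup T satisfies C_S(T) = T and |N_S(T) : T| = 2. -/
theorem result {S : Type*} [Group S] [Finite S] (hS : Cfsg.IsQuasiDihedral S) : (∀ T₁ T₂ : Subgroup S, IsKleinFour T₁ → IsKleinFour T₂ → ∃ s : S, T₁.map (MulAut.conj s).toMonoidHom = T₂) ∧ (∀ T : Subgroup S, IsKleinFour T → Subgroup.centralizer (T : Set S) = T ∧ T.relIndex (Subgroup.normalizer (T : Set S)) = 2) := by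
  obtain ⟨k, x, y, h⟩ := CL.exists_isQDData_top hS
  constructor
  · intro T₁ T₂ h₁ h₂
    obtain ⟨i, hi⟩ := h.exists_four_data le_top h₁
    obtain ⟨j, hj⟩ := h.exists_four_data le_top h₂
    obtain ⟨s, -, hs⟩ := (h.of_even i).exists_conj_even (j - i)
    refine ⟨s, ?_⟩
    have := hi.map (MulAut.conj s).toMonoidHom (MulAut.conj s).injective
    simp only [MulEquiv.coe_toMonoidHom, MulAut.conj_apply] at this
    rw [h.conj_z (Subgroup.mem_top s), hs,
      show x ^ (2 * (j - i)) * (x ^ (2 * i) * y) = x ^ (2 * j) * y by group] at this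
    exact this.eq_of hj
  · intro T hT
    obtain ⟨i, hi⟩ := h.exists_four_data le_top hT
    have h' := h.of_even i
    have hC : Subgroup.centralizer (T : Set S) = T := by
      apply le_antisymm
      · intro g hg
        exact h'.mem_four_of_commute hi (Subgroup.mem_top g) (hi.mem_centralizer_iff.1 hg).2
      · intro g hg
        have := hT.isMulCommutative
        exact Subgroup.le_centralizer T hg
    refine ⟨hC, ?_⟩
    rcases h'.four_relIndex_cases hi with h1 | ⟨-, g, -, h1⟩
    · rw [hC] at h1; exact h1.1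
    · rw [h.conj_z (Subgroup.mem_top g)] at h1
      exact absurd h1 h'.z_ne_y

end Cfsg.Agent.S1190
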