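import Cfsg.Statements.S1191
import Cfsg.Agent.TwoFus.QDSub

set_option autoImplicit false
open Cfsg

namespace Cfsg.Agent.S1191

/-- In a quasi-dihedral 2-group S, any two subgroups isomorphic to the quaternion group of order 8 are conjugate, and each such subgroup Q satisfies C_S(Q) = Z(Q) and |N_S(Q) : Q| = 2. -/
theorem result {S : Type*} [Group S] [Finite S] (hS : Cfsg.IsQuasiDihedral S) : (∀ Q₁ Q₂ : Subgroup S, Nonempty (Q₁ ≃* QuaternionGroup 2) → Nonempty (Q₂ ≃* QuaternionGroup 2) → ∃ s : S, Q₁.map (MulAut.conj s).toMonoidHom = Q₂) ∧ (∀ Q : Subgroup S, Nonempty (Q ≃* QuaternionGroup 2) → Subgroup.centralizer (Q : Set S) = (Subgroup.center Q).map Q.subtype ∧ Q.relIndex (Subgroup.normalizer (Q : Set S)) = 2) := by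
  obtain ⟨k, x, y, h⟩ := CL.exists_isQDData_top hS
  constructor
  · rintro Q₁ Q₂ ⟨e₁⟩ ⟨e₂⟩
    obtain ⟨a₁, b₁, h₁⟩ := CL.exists_isQuatData_of_equiv e₁
    obtain ⟨a₂, b₂, h₂⟩ := CL.exists_isQuatData_of_equiv e₂
    obtain ⟨i, hi⟩ := h.exists_quat_data le_top h₁
    obtain ⟨j, hj⟩ := h.exists_quat_data le_top h₂
    obtain ⟨s, hsx, hs⟩ := (h.of_even i).exists_conj_odd (j - i)
    obtain ⟨l, rfl⟩ := Subgroup.mem_zpowers_iff.mp hsx
    refine ⟨x ^ l, ?_⟩
    have := hi.map (MulAut.conj (x ^ l)).toMonoidHom (MulAut.conj _).injective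
    simp only [MulEquiv.coe_toMonoidHom, MulAut.conj_apply] at this
    rw [hs, show x ^ (2 * (j - i) + 1) * (x ^ (2 * i) * y) = x * (x ^ (2 * j) * y) by group,
      show x ^ l * x ^ (2 * ((2 ^ k : ℕ) : ℤ)) * (x ^ l)⁻¹ = x ^ (2 * ((2 ^ k : ℕ) : ℤ)) by group]
      at this
    rw [this.eq_closure, hj.eq_closure]
  · rintro Q ⟨e₁⟩
    obtain ⟨a₁, b₁, h₁⟩ := CL.exists_isQuatData_of_equiv e₁
    obtain ⟨i, hi⟩ := h.exists_quat_data le_top h₁
    have h' := h.of_even i
    have hle : Subgroup.centralizer (Q : Set S) ≤ Q := by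
      intro g hg
      rw [hi.mem_centralizer_iff] at hg
      rcases h'.eq_of_commute_quat (Subgroup.mem_top g) hg.1 hg.2 with rfl | rfl
      · exact one_mem _
      · rw [← CL.IsQDData.u_mul_u]; exact mul_mem hi.x_mem hi.x_mem
    constructor
    · ext g
      constructor
      · intro hg
        refine ⟨⟨g, hle hg⟩, ?_, rfl⟩
        rw [SetLike.mem_coe, Subgroup.mem_center_iff]
        exact fun q => Subtype.ext (hg q q.2)
      · rintro ⟨q, hq, rfl⟩ t ht
        exact congrArg Subtype.val (Subgroup.mem_center_iff.1 hq ⟨t, ht⟩)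
    · rcases h'.quat_relIndex_cases hi with h1 | ⟨-, g, -, h1⟩
      · rw [sup_eq_left.2 hle] at h1; exact h1.1
      · exact absurd (h1 ▸ h.conj_mem_zpowers (Subgroup.mem_top g)
          (zpow_mem (Subgroup.mem_zpowers x) _)) h'.xy_notMem

end Cfsg.Agent.S1191
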