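import Cfsg.Statements.S1192
import Cfsg.Agent.TwoFus.QDSub

set_option autoImplicit false
open Cfsg

namespace Cfsg.Agent.S1192

/-- A quasi-dihedral group S of order 2^(n+1) has exactly three maximal subgroups; one is cyclic, one is isomorphic to the generalized quaternion group of order 2^n and one to the dihedral group of order 2^n. -/
theorem result {S : Type*} [Group S] [Finite S] (hS : Cfsg.IsQuasiDihedral S) (n : ℕ) (hn : Nat.card S = 2 ^ (n + 1)) : ∃ M₁ M₂ M₃ : Subgroup S, IsCoatom M₁ ∧ IsCoatom M₂ ∧ IsCoatom M₃ ∧ M₁ ≠ M₂ ∧ M₁ ≠ M₃ ∧ M₂ ≠ M₃ ∧ (∀ M : Subgroup S, IsCoatom M → M = M₁ ∨ M = M₂ ∨ M = M₃) ∧ IsCyclic M₁ ∧ Nonempty (M₂ ≃* QuaternionGroup (2 ^ (n - 2))) ∧ Nonempty (M₃ ≃* DihedralGroup (2 ^ (n - 1))) := by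
  obtain ⟨k, x, y, h⟩ := CL.exists_isQDData_top hS
  obtain rfl : n = k + 3 := by
    have h1 := h.card_eq'
    rw [Subgroup.card_top, hn, show 16 * 2 ^ k = 2 ^ (k + 3 + 1) by ring] at h1
    have := Nat.pow_right_injective (le_refl 2) h1
    omega
  have c1 : IsCoatom (Subgroup.zpowers x) :=
    CL.isCoatom_of_index_two (by simpa using h.relIndex_eq)
  have c2 : IsCoatom (Subgroup.closure ({x ^ 2, x * y} : Set S)) :=
    CL.isCoatom_of_index_two (by simpa using h.relIndex_M)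
  have c3 : IsCoatom (Subgroup.closure ({x ^ 2, y} : Set S)) :=
    CL.isCoatom_of_index_two (by simpa using h.relIndex_D)
  refine ⟨_, _, _, c1, c2, c3, ?_, ?_, ?_, ?_, inferInstance, ?_, ?_⟩
  · intro he
    exact h.x_notMem_M (he ▸ Subgroup.mem_zpowers x)
  · intro he
    exact h.x_notMem_D (he ▸ Subgroup.mem_zpowers x)
  · intro he
    exact h.y_notMem_M (he ▸ h.isDihData_D.y_mem)
  · intro M hM
    rcases h.le_cases (H := M) le_top with h1 | h1 | h1 | h1
    · exact absurd h1 hM.1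
    · exact Or.inl (hM.le_iff_eq c1.1 |>.1 h1).symm
    · exact Or.inr (Or.inr (hM.le_iff_eq c3.1 |>.1 h1).symm)
    · exact Or.inr (Or.inl (hM.le_iff_eq c2.1 |>.1 h1).symm)
  · rw [show 2 ^ (k + 3 - 2) = 2 * 2 ^ k by rw [show k + 3 - 2 = k + 1 by omega]; ring]
    exact h.isQuatData_M.nonempty_equiv
  · rw [show 2 ^ (k + 3 - 1) = 4 * 2 ^ k by rw [show k + 3 - 1 = k + 2 by omega]; ring]
    exact h.isDihData_D.nonempty_equiv

end Cfsg.Agent.S1192
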