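import Cfsg.Statements.S1193
import Cfsg.Agent.TwoFus.QDSub

set_option autoImplicit false
open Cfsg

namespace Cfsg.Agent.S1193

/-- Let S be quasi-dihedral of order 2^(n+1). Then S' = Φ(S) is cyclic of order 2^(n-1), the centre of S has order 2, and the subgroup generated by the involutions of S is dihedral of order 2^n. -/
theorem result {S : Type*} [Group S] [Finite S] (hS : Cfsg.IsQuasiDihedral S) (n : ℕ) (hn : Nat.card S = 2 ^ (n + 1)) : commutator S = frattini S ∧ IsCyclic (commutator S) ∧ Nat.card (commutator S) = 2 ^ (n - 1) ∧ Nat.card (Subgroup.center S) = 2 ∧ Nonempty (↥(Subgroup.closure {x : S | orderOf x = 2}) ≃* DihedralGroup (2 ^ (n - 1))) := by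
  obtain ⟨k, x, y, h⟩ := CL.exists_isQDData_top hS
  obtain rfl : n = k + 3 := by
    have h1 := h.card_eq'
    rw [Subgroup.card_top, hn, show 16 * 2 ^ k = 2 ^ (k + 3 + 1) by ring] at h1
    have := Nat.pow_right_injective (le_refl 2) h1
    omega
  have h4 : 2 ^ (k + 3 - 1) = 4 * 2 ^ k := by rw [show k + 3 - 1 = k + 2 by omega]; ring
  have hc : commutator S = Subgroup.zpowers (x ^ 2) := h.commutator_eq
  refine ⟨?_, ?_, ?_, ?_, ?_⟩
  · apply le_antisymm
    · rw [frattini, Order.radical]
      refine le_iInf₂ fun M hM => ?_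
      rw [hc, Subgroup.zpowers_le]
      have c1 : IsCoatom (Subgroup.zpowers x) :=
        CL.isCoatom_of_index_two (by simpa using h.relIndex_eq)
      have c2 : IsCoatom (Subgroup.closure ({x ^ 2, x * y} : Set S)) :=
        CL.isCoatom_of_index_two (by simpa using h.relIndex_M)
      have c3 : IsCoatom (Subgroup.closure ({x ^ 2, y} : Set S)) :=
        CL.isCoatom_of_index_two (by simpa using h.relIndex_D)
      have hM' : IsCoatom M := hM
      rcases h.le_cases (H := M) le_top with h1 | h1 | h1 | h1
      · exact absurd h1 hM'.1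
      · rw [← (hM'.le_iff_eq c1.1).1 h1]; exact Subgroup.npow_mem_zpowers x 2
      · rw [← (hM'.le_iff_eq c3.1).1 h1]; exact h.isDihData_D.x_mem
      · rw [← (hM'.le_iff_eq c2.1).1 h1]; exact h.isQuatData_M.x_mem
    · intro g hg
      have h1 := frattini_le_coatom (CL.isCoatom_of_index_two (by simpa using h.relIndex_eq)) hg
      have h2 := frattini_le_coatom (CL.isCoatom_of_index_two (by simpa using h.relIndex_D)) hg
      rw [hc, CL.IsQDData.mem_zpowers_sq_iff]
      obtain ⟨i, h3 | h3⟩ := (h.mem_D_iff g).1 h2
      · exact ⟨i, h3⟩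
      · exact absurd (h3 ▸ h1) (h.zpow_mul_notMem _)
  · rw [hc]; infer_instance
  · rw [hc, Nat.card_zpowers, h.orderOf_sq, h4]
  · have : Subgroup.center S = Subgroup.zpowers (x ^ (4 * ((2 ^ k : ℕ) : ℤ))) := by
      apply le_antisymm
      · intro g hg
        rcases (h.mem_center_iff (Subgroup.mem_top g)).1
          (fun s _ => Subgroup.mem_center_iff.1 hg s) with rfl | rfl
        · exact one_mem _
        · exact Subgroup.mem_zpowers _
      · rw [Subgroup.zpowers_le, Subgroup.mem_center_iff]
        exact fun g => h.commute_z (Subgroup.mem_top g)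
    rw [this, Nat.card_zpowers, h.orderOf_z]
  · have := h.closure_involutions
    simp only [Subgroup.mem_top, true_and] at this
    rw [this, h4]
    exact h.isDihData_D.nonempty_equiv

end Cfsg.Agent.S1193
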