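import Cfsg.Statements.S1194
import Cfsg.Agent.TwoFus.QDSub

set_option autoImplicit false
open Cfsg

namespace Cfsg.Agent.S1194

/-- In a quasi-dihedral 2-group S, every proper normal subgroup is either a maximal subgroup or a cyclic subgroup contained in the derived subgroup S'. -/
theorem result {S : Type*} [Group S] [Finite S] (hS : Cfsg.IsQuasiDihedral S) (N : Subgroup S) [N.Normal] (hN : N ≠ ⊤) : IsCoatom N ∨ (IsCyclic N ∧ N ≤ commutator S) := by
  obtain ⟨k, x, y, h⟩ := CL.exists_isQDData_top hS
  have hc : commutator S = Subgroup.zpowers (x ^ 2) := h.commutator_eq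
  rcases h.normal_cases (N := N) le_top
    (fun s _ n hn => Subgroup.Normal.conj_mem inferInstance n hn s) with h1 | h1 | h1 | h1 | h1
  · exact absurd h1 hN
  · exact Or.inl (h1 ▸ CL.isCoatom_of_index_two (by simpa using h.relIndex_eq))
  · exact Or.inl (h1 ▸ CL.isCoatom_of_index_two (by simpa using h.relIndex_D))
  · exact Or.inl (h1 ▸ CL.isCoatom_of_index_two (by simpa using h.relIndex_M))
  · exact Or.inr ⟨Subgroup.isCyclic_of_le h1, hc ▸ h1⟩

end Cfsg.Agent.S1194
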