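import Cfsg.Statements.S1195
import Cfsg.Agent.Base
import Cfsg.Agent.TwoFus.WrSub
import Cfsg.Agent.TwoFus.ClassCount

set_option autoImplicit false
open Cfsg

namespace Cfsg.Agent.S1195

/-- A wreathed 2-group has exactly three conjugacy classes of elements of order 2. -/
theorem result {S : Type*} [Group S] [Finite S] (hS : Cfsg.IsWreathed S) : Nat.card {C : ConjClasses S // ∃ t : S, orderOf t = 2 ∧ ConjClasses.mk t = C} = 3 := by
  obtain ⟨n, ⟨c⟩⟩ := CL.Wr.exists_coord_top hS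
  have h1 := c.one_le
  have hh := CL.Wr.hf_ne_zero h1
  refine CL.ClassCount.card_classes_eq_three (fun t => orderOf t = 2)
    (c.r (CL.Wr.hf n) (CL.Wr.hf n)) (c.r (CL.Wr.hf n) 0) (c.s 0 0)
    (c.orderOf_r_eq_two_iff.2 (by simp)) (c.orderOf_r_eq_two_iff.2 (by simp))
    (c.orderOf_s_eq_two_iff.2 (by simp)) ?_ ?_ ?_ ?_
  · rw [isConj_iff]
    rintro ⟨g, hg⟩
    rcases c.cases (Subgroup.mem_top g) with ⟨a, b, rfl⟩ | ⟨a, b, rfl⟩
    · rw [c.r_conj_r, c.r_inj] at hg; exact hh hg.2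
    · rw [c.s_conj_r, c.r_inj] at hg; exact hh hg.2
  · rw [isConj_iff]
    rintro ⟨g, hg⟩
    exact c.s_not_mem_U _ _ (hg ▸ c.conj_mem_U (Subgroup.mem_top g) (c.r_mem_U _ _))
  · rw [isConj_iff]
    rintro ⟨g, hg⟩
    exact c.s_not_mem_U _ _ (hg ▸ c.conj_mem_U (Subgroup.mem_top g) (c.r_mem_U _ _))
  · intro t ht
    rcases c.cases (Subgroup.mem_top t) with ⟨a, b, rfl⟩ | ⟨a, b, rfl⟩
    · rcases c.orderOf_r_eq_two_iff.1 ht with ⟨rfl, rfl⟩ | ⟨rfl, rfl⟩ | ⟨rfl, rfl⟩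
      · exact Or.inr (Or.inl (IsConj.refl _))
      · exact Or.inr (Or.inl (isConj_iff.2 ⟨c.s 0 0, c.s_conj_r _ _ _ _⟩))
      · exact Or.inl (IsConj.refl _)
    · refine Or.inr (Or.inr (isConj_iff.2 ⟨c.r b 0, ?_⟩))
      have := c.orderOf_s_eq_two_iff.1 ht
      rw [c.r_conj_s]
      congr 1
      · linear_combination this
      · ring

end Cfsg.Agent.S1195
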