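import Cfsg.Statements.S1196
import Cfsg.Agent.Base
import Cfsg.Agent.TwoFus.WrSub

set_option autoImplicit false
open Cfsg

namespace Cfsg.Agent.S1196

/-- A wreathed 2-group S of order 2^(2n+1) has a unique commutative subgroup of order 2^(2n), and this subgroup is isomorphic to the direct product of two cyclic groups of order 2^n. -/
theorem result {S : Type*} [Group S] [Finite S] (hS : Cfsg.IsWreathed S) (n : ℕ) (hn : Nat.card S = 2 ^ (2 * n + 1)) : (∃! U : Subgroup S, IsMulCommutative U ∧ Nat.card U = 2 ^ (2 * n)) ∧ ∀ U : Subgroup S, IsMulCommutative U → Nat.card U = 2 ^ (2 * n) → Nonempty (U ≃* Multiplicative (ZMod (2 ^ n) × ZMod (2 ^ n))) := by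
  obtain ⟨c⟩ := CL.Wr.exists_coord_top' hS n hn
  have key : ∀ U : Subgroup S, IsMulCommutative U → Nat.card U = 2 ^ (2 * n) → U = c.U := by
    intro U hU hc
    exact c.eq_U_of_comm le_top
      (fun u hu v hv => congrArg Subtype.val (hU.is_comm.comm ⟨u, hu⟩ ⟨v, hv⟩)) hc
  refine ⟨⟨c.U, ⟨c.isMulCommutative_U, c.card_U⟩, fun U hU => key U hU.1 hU.2⟩, fun U hU hc => ?_⟩
  rw [key U hU hc]
  exact ⟨c.equivU.symm⟩

end Cfsg.Agent.S1196
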