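import Cfsg.Statements.S1197
import Cfsg.Agent.Base
import Cfsg.Agent.TwoFus.WrSub

set_option autoImplicit false
open Cfsg

namespace Cfsg.Agent.S1197

/-- Let S be a wreathed 2-group of order 2^(2n+1). Then Z(S) is cyclic of order 2^n, the derived subgroup S' is cyclic of order 2^n, and S/Z(S) is isomorphic to the dihedral group of order 2^(n+1). -/
theorem result {S : Type*} [Group S] [Finite S] (hS : Cfsg.IsWreathed S) (n : ℕ) (hn : Nat.card S = 2 ^ (2 * n + 1)) : IsCyclic (Subgroup.center S) ∧ Nat.card (Subgroup.center S) = 2 ^ n ∧ IsCyclic (commutator S) ∧ Nat.card (commutator S) = 2 ^ n ∧ Nonempty (S ⧸ Subgroup.center S ≃* DihedralGroup (2 ^ n)) := by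
  obtain ⟨c⟩ := CL.Wr.exists_coord_top' hS n hn
  refine ⟨by rw [c.center_eq]; exact c.isCyclic_Z, by rw [c.center_eq]; exact c.card_Z,
    by rw [c.commutator_eq]; exact c.isCyclic_D, by rw [c.commutator_eq]; exact c.card_D, ?_⟩
  let F : (ZMod (2 ^ n) × ZMod (2 ^ n)) ⊕ (ZMod (2 ^ n) × ZMod (2 ^ n)) → DihedralGroup (2 ^ n) :=
    fun w => match w with
    | Sum.inl p => DihedralGroup.r (p.1 - p.2)
    | Sum.inr p => DihedralGroup.sr (p.2 - p.1)
  let f : S → DihedralGroup (2 ^ n) := fun g => F (c.equivS.symm ⟨g, trivial⟩)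
  have hr : ∀ a b, f (c.r a b) = DihedralGroup.r (a - b) := by
    intro a b
    have : c.equivS.symm ⟨c.r a b, trivial⟩ = Sum.inl (a, b) := by
      rw [Equiv.symm_apply_eq]; rfl
    simp only [f, this, F]
  have hs : ∀ a b, f (c.s a b) = DihedralGroup.sr (b - a) := by
    intro a b
    have : c.equivS.symm ⟨c.s a b, trivial⟩ = Sum.inr (a, b) := by
      rw [Equiv.symm_apply_eq]; rfl
    simp only [f, this, F]
  let φ : S →* DihedralGroup (2 ^ n) := MonoidHom.mk' f (by
    intro x y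
    rcases c.cases (Subgroup.mem_top x) with ⟨a, b, rfl⟩ | ⟨a, b, rfl⟩ <;>
      rcases c.cases (Subgroup.mem_top y) with ⟨e, g, rfl⟩ | ⟨e, g, rfl⟩
    · rw [c.r_mul_r, hr, hr, hr, DihedralGroup.r_mul_r]; congr 1; ring
    · rw [c.r_mul_s, hs, hr, hs, DihedralGroup.r_mul_sr]; congr 1; ring
    · rw [c.s_mul_r, hs, hs, hr, DihedralGroup.sr_mul_r]; congr 1; ring
    · rw [c.s_mul_s, hr, hs, hs, DihedralGroup.sr_mul_sr]; congr 1; ring)
  have hsurj : Function.Surjective φ := by
    rintro (i | i)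
    · exact ⟨c.r i 0, (hr i 0).trans (by simp)⟩
    · exact ⟨c.s 0 i, (hs 0 i).trans (by simp)⟩
  have hker : φ.ker = Subgroup.center S := by
    rw [c.center_eq]
    refine c.ext_sub le_top le_top (fun a b => ?_) (fun a b => ?_)
    · rw [MonoidHom.mem_ker, c.r_mem_Z]
      change f _ = _ ↔ _
      rw [hr, DihedralGroup.one_def, DihedralGroup.r.injEq, sub_eq_zero]
    · rw [MonoidHom.mem_ker]
      change f _ = _ ↔ _
      rw [hs, DihedralGroup.one_def]
      exact ⟨fun h => (by cases h), fun h => absurd h (c.s_not_mem_Z _ _)⟩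
  exact ⟨(QuotientGroup.quotientMulEquivOfEq hker.symm).trans
    (QuotientGroup.quotientKerEquivOfSurjective φ hsurj)⟩

end Cfsg.Agent.S1197
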