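import Cfsg.Statements.S1198
import Cfsg.Agent.Base
import Cfsg.Agent.TwoFus.WrFour

set_option autoImplicit false
open Cfsg

namespace Cfsg.Agent.S1198

/-- A wreathed 2-group S has a normal Klein four-subgroup T such that every Klein four-subgroup of S other than T is conjugate in S to any other such subgroup; in particular S has exactly two conjugacy classes of Klein four-subgroups. -/
theorem result {S : Type*} [Group S] [Finite S] (hS : Cfsg.IsWreathed S) : ∃ T : Subgroup S, IsKleinFour T ∧ T.Normal ∧ (∃ T₀ : Subgroup S, IsKleinFour T₀ ∧ T₀ ≠ T) ∧ ∀ T₁ T₂ : Subgroup S, IsKleinFour T₁ → IsKleinFour T₂ → T₁ ≠ T → T₂ ≠ T → ∃ s : S, T₁.map (MulAut.conj s).toMonoidHom = T₂ := by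
  obtain ⟨n, ⟨c⟩⟩ := CL.Wr.exists_coord_top hS
  refine ⟨c.T, c.isKleinFour_T, ⟨fun x hx g => c.conj_mem_T (Subgroup.mem_top g) hx⟩,
    ⟨c.K 0, c.isKleinFour_K 0, c.K_ne_T 0⟩, fun T₁ T₂ h₁ h₂ hn₁ hn₂ => ?_⟩
  obtain ⟨e, rfl⟩ := (c.kleinFour_cases le_top h₁).resolve_left hn₁
  obtain ⟨f, rfl⟩ := (c.kleinFour_cases le_top h₂).resolve_left hn₂
  exact ⟨_, c.map_conj_K e f⟩

end Cfsg.Agent.S1198
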