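import Cfsg.Statements.S1199
import Cfsg.Agent.Base
import Cfsg.Agent.TwoFus.WrSub

set_option autoImplicit false
open Cfsg

namespace Cfsg.Agent.S1199

/-- A wreathed 2-group S of order 2^(2n+1) has exactly one subgroup of order 2^(n+1) isomorphic to a generalized quaternion group, and that subgroup is normal in S. -/
theorem result {S : Type*} [Group S] [Finite S] (hS : Cfsg.IsWreathed S) (n : ℕ) (hn : Nat.card S = 2 ^ (2 * n + 1)) : (∃! Y : Subgroup S, Nat.card Y = 2 ^ (n + 1) ∧ Nonempty (Y ≃* QuaternionGroup (2 ^ (n - 1)))) ∧ ∀ Y : Subgroup S, Nat.card Y = 2 ^ (n + 1) → Nonempty (Y ≃* QuaternionGroup (2 ^ (n - 1))) → Y.Normal := by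
  obtain ⟨c⟩ := CL.Wr.exists_coord_top' hS n hn
  have h2 := c.two_le
  have key : ∀ Y : Subgroup S, Nat.card Y = 2 ^ (n + 1) →
      Nonempty (Y ≃* QuaternionGroup (2 ^ (n - 1))) → Y = c.Y := by
    rintro Y hc ⟨e⟩
    have hm : 2 ≤ 2 ^ (n - 1) := by
      calc 2 = 2 ^ 1 := by norm_num
        _ ≤ 2 ^ (n - 1) := Nat.pow_le_pow_right (by norm_num) (by omega)
    obtain ⟨h1, h2, h3, -, -⟩ := CL.Wr.quat_subgroup_facts hm Y e
    exact Subgroup.eq_of_le_of_card_ge (c.le_Y_of_quat le_top h1 h2 h3) (by rw [c.card_Y, hc])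
  refine ⟨⟨c.Y, ⟨c.card_Y, c.Y_quaternion⟩, fun Y hY => key Y hY.1 hY.2⟩, fun Y hc hY => ?_⟩
  rw [key Y hc hY]
  exact ⟨fun x hx g => c.conj_mem_Y (Subgroup.mem_top g) hx⟩

end Cfsg.Agent.S1199
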