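import Cfsg.Statements.S1200
import Cfsg.Agent.Base
import Cfsg.Agent.TwoFus.WrSub

set_option autoImplicit false
open Cfsg

namespace Cfsg.Agent.S1200

/-- Let S be a wreathed 2-group of order 2^(2n+1) and Ω the subgroup generated by its involutions. Then Ω has order 2^(n+2) and S/Ω is cyclic: some s ∈ S together with Ω generates S. -/
theorem result {S : Type*} [Group S] [Finite S] (hS : Cfsg.IsWreathed S) (n : ℕ) (hn : Nat.card S = 2 ^ (2 * n + 1)) : Nat.card (Subgroup.closure {x : S | orderOf x = 2}) = 2 ^ (n + 2) ∧ ∃ s : S, Subgroup.closure {x : S | orderOf x = 2} ⊔ Subgroup.zpowers s = ⊤ := by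
  obtain ⟨c⟩ := CL.Wr.exists_coord_top' hS n hn
  have h1 := c.one_le
  have key : Subgroup.closure {x : S | orderOf x = 2} = c.Om := by
    apply le_antisymm
    · rw [Subgroup.closure_le]
      intro t ht
      rcases c.cases (Subgroup.mem_top t) with ⟨a, b, rfl⟩ | ⟨a, b, rfl⟩
      · rcases c.orderOf_r_eq_two_iff.1 ht with ⟨rfl, rfl⟩ | ⟨rfl, rfl⟩ | ⟨rfl, rfl⟩
        · exact c.r_mem_Om.2 (by simp)
        · exact c.r_mem_Om.2 (by simp)
        · exact c.r_mem_Om.2 (Or.inl (CL.Wr.hf_add_hf h1))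
      · exact c.s_mem_Om.2 (Or.inl (c.orderOf_s_eq_two_iff.1 ht))
    · have hs : ∀ a b, a + b = 0 → c.s a b ∈ Subgroup.closure {x : S | orderOf x = 2} :=
        fun a b h => Subgroup.subset_closure (c.orderOf_s_eq_two_iff.2 h)
      have hr : c.r (CL.Wr.hf n) 0 ∈ Subgroup.closure {x : S | orderOf x = 2} :=
        Subgroup.subset_closure (c.orderOf_r_eq_two_iff.2 (by simp))
      have hs' : ∀ a b, c.s a b ∈ c.Om → c.s a b ∈ Subgroup.closure {x : S | orderOf x = 2} := by
        intro a b hab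
        rcases c.s_mem_Om.1 hab with h | h
        · exact hs a b h
        · have := Subgroup.mul_mem _ hr (hs (a - CL.Wr.hf n) b (by linear_combination h))
          rw [c.r_mul_s] at this
          simpa using this
      refine c.le_sub le_top (fun a b hab => ?_) hs'
      have := Subgroup.mul_mem _ (hs' a b (c.s_mem_Om.2 (c.r_mem_Om.1 hab))) (hs 0 0 (by simp))
      rw [c.s_mul_s] at this
      simpa using this
  rw [key]
  refine ⟨c.card_Om, c.r 1 0, ?_⟩
  rw [eq_top_iff]
  have hx : ∀ a, c.r a 0 ∈ c.Om ⊔ Subgroup.zpowers (c.r 1 0) := fun a =>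
    Subgroup.mem_sup_right ⟨a.val, by simp only [zpow_natCast, c.r_pow]; simp⟩
  refine c.le_sub le_top (fun a b _ => ?_) (fun a b _ => ?_)
  · have := Subgroup.mul_mem _ (hx (a + b))
      (Subgroup.mem_sup_left (c.r_mem_Om.2 (Or.inl (neg_add_cancel b))))
    rw [c.r_mul_r] at this
    simpa using this
  · have := Subgroup.mul_mem _ (hx (a + b))
      (Subgroup.mem_sup_left (c.s_mem_Om.2 (Or.inl (neg_add_cancel b))))
    rw [c.r_mul_s] at this
    simpa using this

end Cfsg.Agent.S1200
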