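import Cfsg.Statements.S1201
import Cfsg.Agent.Base
import Cfsg.Agent.TwoFus.WrSub

set_option autoImplicit false
open Cfsg

namespace Cfsg.Agent.S1201

/-- If X is a non-commutative subgroup of a wreathed 2-group S, then Z(X) ≤ Z(S). -/
theorem result {S : Type*} [Group S] [Finite S] (hS : Cfsg.IsWreathed S) (X : Subgroup S) (hX : ¬ IsMulCommutative X) : (Subgroup.center X).map X.subtype ≤ Subgroup.center S := by
  obtain ⟨n, ⟨c⟩⟩ := CL.Wr.exists_coord_top hS
  rintro _ ⟨x, hx, rfl⟩
  rw [c.center_eq]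
  refine c.mem_Z_of_central (X := X) le_top ?_ trivial
    (fun y hy => congrArg Subtype.val (Subgroup.mem_center_iff.1 hx ⟨y, hy⟩).symm)
  by_contra h
  push Not at h
  exact hX ⟨⟨fun u v => Subtype.ext (h u u.2 v v.2)⟩⟩

end Cfsg.Agent.S1201
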