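import Cfsg.Statements.S1202
import Cfsg.Agent.Base
import Cfsg.Agent.TwoFus.WrAut

set_option autoImplicit false
open Cfsg

namespace Cfsg.Agent.S1202

/-- Let S be a wreathed 2-group of order 2^(2n+1) and X a subgroup with C_S(X) ≤ X such that Aut(X) is not a 2-group. Then |N_S(X) : X| = 2, and either X is the commutative subgroup of order 2^(2n), or X = Q·Z(S) for some subgroup Q ≅ Q₈; in the latter case any two such subgroups are conjugate in S. -/
theorem result {S : Type*} [Group S] [Finite S] (hS : Cfsg.IsWreathed S) (n : ℕ) (hn : Nat.card S = 2 ^ (2 * n + 1)) (X : Subgroup S) (hC : Subgroup.centralizer (X : Set S) ≤ X) (hA : ¬ IsPGroup 2 (MulAut X)) : X.relIndex (Subgroup.normalizer (X : Set S)) = 2 ∧ ((IsMulCommutative X ∧ Nat.card X = 2 ^ (2 * n)) ∨ ∃ Q : Subgroup S, Nonempty (Q ≃* QuaternionGroup 2) ∧ X = Q ⊔ Subgroup.center S) ∧ ∀ X' : Subgroup S, Subgroup.centralizer (X' : Set S) ≤ X' → ¬ IsPGroup 2 (MulAut X') → ¬ IsMulCommutative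 X → ¬ IsMulCommutative X' → ∃ s : S, X.map (MulAut.conj s).toMonoidHom = X' := by
  obtain ⟨c⟩ := CL.Wr.exists_coord_top' hS n hn
  have key : ∀ X : Subgroup S, Subgroup.centralizer (X : Set S) ≤ X → ¬ IsPGroup 2 (MulAut X) →
      X = c.U ∨ ∃ k, X = c.V (k + k) := by
    intro X hC hA
    obtain ⟨φ, hφ, x, hx, hne⟩ := CL.Fus.exists_oddAut_of_not_isPGroup hA
    exact (c.oddAut_cases le_top (inf_le_right.trans hC) hφ).resolve_left (fun h => hne (h x hx))
  refine ⟨?_, ?_, fun X' hC' hA' hX hX' => ?_⟩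
  · rcases key X hC hA with rfl | ⟨k, rfl⟩
    · rw [top_le_iff.1 c.le_normalizer_U]; exact c.relIndex_U
    · simpa using c.relIndex_V (k + k)
  · rcases key X hC hA with rfl | ⟨k, rfl⟩
    · exact Or.inl ⟨c.isMulCommutative_U, c.card_U⟩
    · exact Or.inr ⟨c.Q (k + k), c.Q_quaternion k, by rw [c.center_eq, c.Q_sup_Z]⟩
  · obtain ⟨k, rfl⟩ := (key X hC hA).resolve_left (fun h => hX (h ▸ c.isMulCommutative_U))
    obtain ⟨l, rfl⟩ := (key X' hC' hA').resolve_left (fun h => hX' (h ▸ c.isMulCommutative_U))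
    refine ⟨c.r (l - k) 0, ?_⟩
    rw [c.map_conj_V]
    congr 1; ring

end Cfsg.Agent.S1202
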