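import Cfsg.Statements.S1205
import Cfsg.Agent.TwoFus.QDFus

set_option autoImplicit false
open Cfsg

namespace Cfsg.Agent.S1205

/-- Let G be a finite group with quasi-dihedral Sylow 2-subgroup S, T a Klein four-subgroup and Q a quaternion subgroup of order 8 of S, with |N_G(T) : C_G(T)| = 2 and |N_G(Q) : Q C_G(Q)| = 6. Then G has a normal subgroup K of index 2 whose Sylow 2-subgroups are generalized quaternion and which has no subgroup of index 2; the centre of S is weakly closed in S; and G has exactly two classes of involutions and one class of elements of order 4. -/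
theorem result {G : Type*} [Group G] [Finite G] (S : Sylow 2 G) (hS : Cfsg.IsQuasiDihedral (S : Subgroup G)) (T : Subgroup G) (hT : IsKleinFour T) (hTS : T ≤ S) (Q : Subgroup G) (hQS : Q ≤ S) (eQ : Q ≃* QuaternionGroup 2) (h₁ : (Subgroup.centralizer (T : Set G)).relIndex (Subgroup.normalizer (T : Set G)) = 2) (h₂ : (Q ⊔ Subgroup.centralizer (Q : Set G)).relIndex (Subgroup.normalizer (Q : Set G)) = 6) : (∃ K : Subgroup G, K.Normal ∧ K.index = 2 ∧ (∀ P : Sylow 2 ↥K, ∃ m : ℕ, 1 ≤ m ∧ Nonempty ((P : Subgroup ↥K) ≃* QuaternionGroup (2 ^ m))) ∧ (∀ H : Subgroup ↥K, H.index ≠ 2)) ∧ Cfsg.IsWeaklyClosed ((Subgroup.center (S : Subgroup G)).map (S : Subgroup G).subtype) (S : Subgroup G) ∧ Nat.card {C : ConjClasses G // ∃ t : G, orderOf t = 2 ∧ ConjClasses.mk t = C} = 2 ∧ Nat.card {C : ConjClasses G // ∃ t : G, orderOf t = 4 ∧ ConjClasses.mk t = C} = 1 := by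
  obtain ⟨k, x, y, h⟩ := CL.exists_isQDData hS
  obtain ⟨a, b, hQ⟩ := CL.exists_isQuatData_of_equiv eQ
  have c1 := ((h.four_index hTS hT).resolve_right (fun h3 => by omega)).2
  have c2 := ((h.quat_index' hQS hQ).resolve_left (fun h3 => by omega)).2
  have he := h.inf_pResidual_eq_M c1 c2
  refine ⟨⟨Cfsg.pResidual 2 G, inferInstance, ?_, fun P => ⟨k + 1, by omega, ?_⟩,
    CL.TF.index_ne_two_pResidual⟩, h.isWeaklyClosed_center c1,
    h.card_classes_two_of_not_isConj c1, h.card_classes_four_of_isConj c2⟩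
  · rw [CL.TF.index_pResidual S, he, h.relIndex_M]
  · obtain ⟨e₁⟩ := CL.TF.nonempty_sylow_equiv_inf S _ P
    obtain ⟨e₂⟩ := h.isQuatData_M.nonempty_equiv
    rw [pow_succ']
    exact ⟨e₁.trans ((MulEquiv.subgroupCongr he).trans e₂)⟩

end Cfsg.Agent.S1205
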