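import Cfsg.Statements.S1219
import Cfsg.Agent.TwoFus.StrClosed
import Cfsg.Agent.Lin.Card

set_option autoImplicit false
open scoped MatrixGroups
open Cfsg

namespace Cfsg.Agent.S1219

open Matrix

/-- `diag(-1,-1,1)`. -/
def dd (F : Type*) [Field F] : SpecialLinearGroup (Fin 3) F :=
  ⟨!![-1, 0, 0; 0, -1, 0; 0, 0, 1], by simp [det_fin_three]⟩

theorem val_mul {F : Type*} [Field F] (A B : Matrix.SpecialLinearGroup (Fin 3) F) :
    (A * B).1 = A.1 * B.1 := rfl

theorem dd_val (F : Type*) [Field F] : (dd F).1 = !![-1, 0, 0; 0, -1, 0; 0, 0, 1] := rfl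

theorem exists_basis {F : Type*} [Field F] (h2 : (2 : F) ≠ 0) (f : (Fin 3 → F) →ₗ[F] (Fin 3 → F))
    (hf : ∀ v, f (f v) = v) (hdet : LinearMap.det f = 1) (h1 : f ≠ LinearMap.id) :
    ∃ b : Module.Basis (Fin 3) F (Fin 3 → F), f (b 0) = - b 0 ∧ f (b 1) = - b 1 ∧ f (b 2) = b 2 := by
  let M : Submodule F (Fin 3 → F) := LinearMap.ker (f + LinearMap.id)
  let P : Submodule F (Fin 3 → F) := LinearMap.ker (f - LinearMap.id)
  have hM : ∀ v, v ∈ M ↔ f v = -v := fun v => by
    simp [M, add_eq_zero_iff_eq_neg]
  have hP : ∀ v, v ∈ P ↔ f v = v := fun v => by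
    simp [P, sub_eq_zero]
  have hc : IsCompl M P := by
    constructor
    · rw [Submodule.disjoint_def]
      intro v h1 h2'
      rw [hM] at h1
      rw [hP] at h2'
      have : (2 : F) • v = 0 := by
        rw [two_smul]
        nth_rewrite 1 [← h2']
        rw [h1, neg_add_cancel]
      exact (smul_eq_zero.mp this).resolve_left h2
    · rw [codisjoint_iff, eq_top_iff]
      intro v _
      have e : v = (2 : F)⁻¹ • (v - f v) + (2 : F)⁻¹ • (v + f v) := by
        rw [← smul_add, sub_add_add_cancel, ← two_smul F v, smul_smul, inv_mul_cancel₀ h2, one_smul]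
      rw [e]
      apply Submodule.add_mem_sup
      · apply M.smul_mem
        rw [hM, map_sub, hf, neg_sub]
      · apply P.smul_mem
        rw [hP, map_add, hf, add_comm]
  have hdim := Submodule.finrank_add_eq_of_isCompl hc
  rw [Module.finrank_fin_fun] at hdim
  have key : ∀ (m k : ℕ) (bM : Module.Basis (Fin m) F M) (bP : Module.Basis (Fin k) F P),
      ∃ b : Module.Basis (Fin m ⊕ Fin k) F (Fin 3 → F),
        (∀ i, f (b (Sum.inl i)) = - b (Sum.inl i)) ∧ ∀ j, f (b (Sum.inr j)) = b (Sum.inr j) := by
    intro m k bM bP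
    refine ⟨(bM.prod bP).map (Submodule.prodEquivOfIsCompl M P hc), fun i => ?_, fun j => ?_⟩
    · rw [← hM]
      simp
    · rw [← hP]
      simp
  have hm : Module.finrank F M = 2 := by
    obtain ⟨b, hb1, hb2⟩ := key _ _ (Module.finBasis F M) (Module.finBasis F P)
    have hmat : LinearMap.toMatrix b b f = Matrix.diagonal (Sum.elim (fun _ => -1) (fun _ => 1)) := by
      ext i j
      rw [LinearMap.toMatrix_apply]
      rcases j with j | j
      · rw [hb1, map_neg, Finsupp.neg_apply, b.repr_self, Finsupp.single_apply, diagonal_apply]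
        by_cases h : i = Sum.inl j
        · subst h; simp
        · rw [if_neg h, if_neg (Ne.symm h), neg_zero]
      · rw [hb2, b.repr_self, Finsupp.single_apply, diagonal_apply]
        by_cases h : i = Sum.inr j
        · subst h; simp
        · rw [if_neg h, if_neg (Ne.symm h)]
    rw [← LinearMap.det_toMatrix b, hmat, det_diagonal, Fintype.prod_sum_type] at hdet
    simp only [Sum.elim_inl, Finset.prod_const, Finset.card_univ, Fintype.card_fin, Sum.elim_inr,
      one_pow, mul_one] at hdet
    have hne : (-1 : F) ≠ 1 := by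
      intro h
      apply h2
      linear_combination -h
    have heven := (neg_one_pow_eq_one_iff_even hne).mp hdet
    have h0 : Module.finrank F M ≠ 0 := by
      intro h
      apply h1
      have : P = ⊤ := Submodule.eq_top_of_finrank_eq (by rw [Module.finrank_fin_fun]; omega)
      exact LinearMap.ext fun v => (hP v).mp (this ▸ Submodule.mem_top)
    obtain ⟨j, hj⟩ := heven
    omega
  obtain ⟨b, hb1, hb2⟩ := key 2 1 (Module.finBasisOfFinrankEq F M hm)
    (Module.finBasisOfFinrankEq F P (by omega))
  refine ⟨b.reindex finSumFinEquiv, ?_, ?_, ?_⟩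
  · rw [Module.Basis.reindex_apply]; exact hb1 0
  · rw [Module.Basis.reindex_apply]; exact hb1 1
  · rw [Module.Basis.reindex_apply]; exact hb2 0

theorem isConj_dd {F : Type*} [Field F] (h2 : (2 : F) ≠ 0) (B : SpecialLinearGroup (Fin 3) F)
    (hB : B * B = 1) (h1 : B ≠ 1) : IsConj (dd F) B := by
  obtain ⟨b, hb0, hb1, hb2⟩ := exists_basis h2 (Matrix.toLin' B.1) (fun v => by
      rw [toLin'_apply, toLin'_apply, mulVec_mulVec, ← val_mul, hB]
      exact one_mulVec v)
    (by rw [LinearMap.det_toLin', B.2]) (by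
      intro h
      apply h1
      apply Subtype.ext
      apply Matrix.toLin'.injective
      rw [h]; simp)
  simp only [toLin'_apply] at hb0 hb1 hb2
  let P : Matrix (Fin 3) (Fin 3) F := (Pi.basisFun F (Fin 3)).toMatrix b
  have hP : ∀ i j, P i j = b j i := fun i j => by simp [P, Module.Basis.toMatrix_apply]
  have hdet : P.det ≠ 0 := by
    have := (Pi.basisFun F (Fin 3)).invertibleToMatrix b
    exact (Matrix.isUnit_det_of_invertible P).ne_zero
  have hBP : B.1 * P = P * (dd F).1 := by
    ext i j
    have e : (B.1 * P) i j = (B.1 *ᵥ b j) i := by simp [mul_apply, mulVec, dotProduct, hP]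
    rw [e]
    fin_cases j
    · simp [hb0, dd, mul_apply, Fin.sum_univ_three, hP]
    · simp [hb1, dd, mul_apply, Fin.sum_univ_three, hP]
    · simp [hb2, dd, mul_apply, Fin.sum_univ_three, hP]
  let D : Matrix (Fin 3) (Fin 3) F := !![1, 0, 0; 0, 1, 0; 0, 0, P.det⁻¹]
  have hD : D * (dd F).1 = (dd F).1 * D := by
    ext i j
    fin_cases i <;> fin_cases j <;> simp [D, dd, mul_apply, Fin.sum_univ_three]
  let Q : SpecialLinearGroup (Fin 3) F := ⟨P * D, by
    rw [det_mul]
    have : D.det = P.det⁻¹ := by simp [D, det_fin_three (A := !![1, 0, 0; 0, 1, 0; 0, 0, P.det⁻¹])]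
    rw [this, mul_inv_cancel₀ hdet]⟩
  refine isConj_iff.mpr ⟨Q, ?_⟩
  rw [mul_inv_eq_iff_eq_mul]
  apply Subtype.ext
  change P * D * (dd F).1 = B.1 * (P * D)
  rw [← Matrix.mul_assoc, hBP, Matrix.mul_assoc, Matrix.mul_assoc, hD]

/-- The block embedding `GL(2) → SL(3)`. -/
def emb (F : Type*) [Field F] : GL (Fin 2) F →* SpecialLinearGroup (Fin 3) F where
  toFun A := ⟨!![A 0 0, A 0 1, 0; A 1 0, A 1 1, 0; 0, 0, (A.1.det)⁻¹], by
    have h : A.1.det ≠ 0 := (Matrix.isUnits_det_units A).ne_zero
    rw [det_fin_three]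
    have h' := det_fin_two A.1
    simp only [of_apply, cons_val', cons_val_zero, cons_val_one, cons_val_fin_one, cons_val,
      mul_zero, zero_mul, sub_zero, add_zero]
    field_simp
    rw [h']⟩
  map_one' := by
    apply Subtype.ext
    ext i j
    fin_cases i <;> fin_cases j <;> simp
  map_mul' A B := by
    apply Subtype.ext
    refine Eq.trans ?_ (val_mul _ _).symm
    ext i j
    fin_cases i <;> fin_cases j <;>
      simp [mul_apply, Fin.sum_univ_three, Fin.sum_univ_two, mul_comm]

theorem emb_val {F : Type*} [Field F] (A : GL (Fin 2) F) :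
    (emb F A).1 = !![A 0 0, A 0 1, 0; A 1 0, A 1 1, 0; 0, 0, (A.1.det)⁻¹] := rfl

theorem emb_injective {F : Type*} [Field F] : Function.Injective (emb F) := by
  intro A B h
  have h := congrArg Subtype.val h
  rw [emb_val, emb_val] at h
  apply Units.ext
  ext i j
  fin_cases i <;> fin_cases j
  · simpa using congrFun (congrFun h 0) 0
  · simpa using congrFun (congrFun h 0) 1
  · simpa using congrFun (congrFun h 1) 0
  · simpa using congrFun (congrFun h 1) 1

theorem mem_range_emb {F : Type*} [Field F] (h2 : (2 : F) ≠ 0) (g : SpecialLinearGroup (Fin 3) F) :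
    g ∈ (emb F).range ↔ g * dd F = dd F * g := by
  constructor
  · rintro ⟨A, rfl⟩
    apply Subtype.ext
    rw [val_mul, val_mul, emb_val, dd_val]
    ext i j
    fin_cases i <;> fin_cases j <;> simp [mul_apply, Fin.sum_univ_three]
  · intro h
    have h := congrArg Subtype.val h
    rw [val_mul, val_mul, dd_val] at h
    have z : ∀ x : F, x = -x → x = 0 := fun x hx =>
      (mul_eq_zero.mp (show 2 * x = 0 by linear_combination hx)).resolve_left h2
    have h02 : g.1 0 2 = 0 := z _ (by
      simpa [mul_apply, Fin.sum_univ_three] using congrFun (congrFun h 0) 2)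
    have h12 : g.1 1 2 = 0 := z _ (by
      simpa [mul_apply, Fin.sum_univ_three] using congrFun (congrFun h 1) 2)
    have h20 : g.1 2 0 = 0 := z _ (by
      simpa [mul_apply, Fin.sum_univ_three] using (congrFun (congrFun h 2) 0).symm)
    have h21 : g.1 2 1 = 0 := z _ (by
      simpa [mul_apply, Fin.sum_univ_three] using (congrFun (congrFun h 2) 1).symm)
    have hd := g.2
    rw [det_fin_three, h02, h12, h20, h21] at hd
    have hd' : (g.1 0 0 * g.1 1 1 - g.1 0 1 * g.1 1 0) * g.1 2 2 = 1 := by linear_combination hd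
    have hne : (!![g.1 0 0, g.1 0 1; g.1 1 0, g.1 1 1] : Matrix (Fin 2) (Fin 2) F).det ≠ 0 := by
      rw [det_fin_two_of]
      exact left_ne_zero_of_mul_eq_one hd'
    refine ⟨GeneralLinearGroup.mkOfDetNeZero _ hne, ?_⟩
    apply Subtype.ext
    rw [emb_val]
    ext i j
    fin_cases i <;> fin_cases j <;> simp [h02, h12, h20, h21]
    exact (eq_inv_of_mul_eq_one_right hd').symm

theorem center_cube {F : Type*} [Field F] {z : SpecialLinearGroup (Fin 3) F}
    (hz : z ∈ Subgroup.center (SpecialLinearGroup (Fin 3) F)) : z ^ 3 = 1 := by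
  obtain ⟨c, hc, hcA⟩ := Matrix.SpecialLinearGroup.mem_center_iff.1 hz
  apply Subtype.ext
  rw [Matrix.SpecialLinearGroup.coe_pow, ← hcA, ← map_pow]
  simp only [Fintype.card_fin] at hc
  rw [hc, map_one, Matrix.SpecialLinearGroup.coe_one]

theorem dd_mul_dd {F : Type*} [Field F] : dd F * dd F = 1 := by
  apply Subtype.ext
  rw [val_mul, dd_val]
  ext i j
  fin_cases i <;> fin_cases j <;> simp [mul_apply, Fin.sum_univ_three]


/-- Let F be a finite field of odd order q and t an involution of PSL(3,F). Then C(t) is isomorphic to the quotient of GL(2,F) by a central subgroup of order gcd(q−1, 3). -/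
theorem result {F : Type*} [Field F] [Fintype F] (hF : Odd (Fintype.card F)) (t : Matrix.ProjectiveSpecialLinearGroup (Fin 3) F) (ht : orderOf t = 2) : ∃ (Z : Subgroup (GL (Fin 2) F)) (_ : Z.Normal), Z ≤ Subgroup.center (GL (Fin 2) F) ∧ Nat.card Z = Nat.gcd (Fintype.card F - 1) 3 ∧ Nonempty (↥(Subgroup.centralizer ({t} : Set (Matrix.ProjectiveSpecialLinearGroup (Fin 3) F))) ≃* GL (Fin 2) F ⧸ Z) := by
  have h2 : (2 : F) ≠ 0 := by
    intro h
    have : ringChar F = 2 := by
      have h1 : ((2 : ℕ) : F) = 0 := by exact_mod_cast h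
      exact CharP.ringChar_of_prime_eq_zero Nat.prime_two h1
    have h3 := FiniteField.even_card_of_char_two this
    rcases hF with ⟨k, hk⟩
    omega
  let π : Matrix.SpecialLinearGroup (Fin 3) F →* Matrix.ProjectiveSpecialLinearGroup (Fin 3) F :=
    QuotientGroup.mk' _
  have hπ : ∀ x, π x = 1 ↔ x ∈ Subgroup.center _ := fun x => QuotientGroup.eq_one_iff x
  obtain ⟨A, hA⟩ : ∃ A, π A = t := QuotientGroup.mk'_surjective _ t
  have ht2 : t ^ 2 = 1 := by rw [← ht, pow_orderOf_eq_one]
  have hconj : IsConj (π (dd F)) t := by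
    have h1 : A ^ 2 ∈ Subgroup.center _ := (hπ _).mp (by rw [map_pow, hA, ht2])
    have h3 : π (A ^ 3) = t := by rw [map_pow, hA, pow_succ, ht2, one_mul]
    rw [← h3]
    apply π.map_isConj
    apply isConj_dd h2
    · rw [← pow_add, show 3 + 3 = 2 * 3 from rfl, pow_mul, center_cube h1]
    · intro h
      rw [h, map_one] at h3
      rw [← h3] at ht
      simp at ht
  let φ := π.comp (emb F)
  have hrange : φ.range = Subgroup.centralizer {π (dd F)} := by
    ext x
    rw [Subgroup.mem_centralizer_singleton_iff]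
    constructor
    · rintro ⟨B, rfl⟩
      have := (mem_range_emb h2 (emb F B)).mp ⟨B, rfl⟩
      change π (emb F B) * π (dd F) = π (dd F) * π (emb F B)
      rw [← map_mul, this, map_mul]
    · intro hx
      obtain ⟨g, rfl⟩ : ∃ g, π g = x := QuotientGroup.mk'_surjective _ x
      have hz : g * dd F * g⁻¹ * (dd F)⁻¹ ∈ Subgroup.center _ := by
        rw [← hπ]
        simp only [map_mul, map_inv]
        rw [hx]; group
      have hz3 := center_cube hz
      set z := g * dd F * g⁻¹ * (dd F)⁻¹ with hzdef
      have hz2 : z ^ 2 = 1 := by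
        have e : g * dd F * g⁻¹ = z * dd F := by rw [hzdef]; group
        have e2 : (g * dd F * g⁻¹) * (g * dd F * g⁻¹) = 1 := by
          calc _ = g * (dd F * dd F) * g⁻¹ := by group
            _ = 1 := by rw [dd_mul_dd]; group
        rw [e] at e2
        have hc := Subgroup.mem_center_iff.mp hz (dd F)
        calc z ^ 2 = z * z * (dd F * dd F) := by rw [dd_mul_dd, mul_one, pow_two]
          _ = z * (z * dd F) * dd F := by group
          _ = 1 := by rw [← hc, ← e2]; group
      have hz1 : z = 1 := by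
        rw [pow_succ, hz2, one_mul] at hz3
        exact hz3
      obtain ⟨B, hB⟩ := (mem_range_emb h2 g).mpr (by
        calc g * dd F = z * (dd F * g) := by rw [hzdef]; group
          _ = _ := by rw [hz1, one_mul])
      exact ⟨B, by rw [← hB]; rfl⟩
  have hker : φ.ker = (Subgroup.center _).comap (emb F) := by
    ext x
    exact hπ _
  refine ⟨φ.ker, inferInstance, ?_, ?_, ?_⟩
  · intro x hx
    rw [hker] at hx
    rw [Subgroup.mem_center_iff]
    intro y
    apply emb_injective
    rw [map_mul, map_mul]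
    exact Subgroup.mem_center_iff.mp hx _
  · have hle : Subgroup.center (Matrix.SpecialLinearGroup (Fin 3) F) ≤ (emb F).range :=
      fun x hx => (mem_range_emb h2 x).mpr (Subgroup.mem_center_iff.mp hx _).symm
    rw [hker, ← Subgroup.card_map_of_injective (f := emb F) emb_injective,
      Subgroup.map_comap_eq_self hle, CL.Lin.card_center_SL, Fintype.card_fin, Nat.gcd_comm]
  · obtain ⟨c, rfl⟩ := isConj_iff.mp hconj
    have e : Subgroup.centralizer {c * π (dd F) * c⁻¹} =
        (Subgroup.centralizer {π (dd F)}).map (MulAut.conj c).toMonoidHom := by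
      ext x
      rw [CL.StrCl.mem_map_conj, Subgroup.mem_centralizer_singleton_iff,
        Subgroup.mem_centralizer_singleton_iff]
      constructor
      · intro h
        calc c⁻¹ * x * c * π (dd F) = c⁻¹ * (x * (c * π (dd F) * c⁻¹)) * c := by group
          _ = _ := by rw [h]; group
      · intro h
        calc x * (c * π (dd F) * c⁻¹) = c * (c⁻¹ * x * c * π (dd F)) * c⁻¹ := by group
          _ = _ := by rw [h]; group
    exact ⟨((MulEquiv.subgroupCongr e).trans
      ((Subgroup.equivMapOfInjective _ _ (MulAut.conj c).injective).symm.trans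
        ((MulEquiv.subgroupCongr hrange.symm).trans (QuotientGroup.quotientKerEquivRange φ).symm)))⟩

end Cfsg.Agent.S1219
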