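import Cfsg.Agent.Base
import Cfsg.Statements.S1222
import Cfsg.Agent.RankOne.Main
import Cfsg.Agent.RankOne.Build
import Cfsg.Agent.S0204

set_option autoImplicit false
open Cfsg

namespace Cfsg.Agent.S1222

/-- Let G be a finite simple group with a strongly embedded subgroup H such that H permutes transitively the cosets gH with g ∉ H, and H has a normal subgroup Q acting regularly on those cosets (transitively, with only the identity fixing any of them). Then G is isomorphic to PSL(2,F) with F of characteristic 2 and at least 4 elements, or is simple with the order of a Suzuki group, or is isomorphic to PSU(3) over a field with q² elements, q ≥ 4 a power of 2. -/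
theorem result {G : Type*} [Group G] [Finite G] [IsSimpleGroup G] (H : Subgroup G) (hH : Cfsg.IsStronglyEmbedded H) (Q : Subgroup G) (hQH : Q ≤ H) (hQn : (Q.subgroupOf H).Normal) (htrans : ∀ g₁ g₂ : G, g₁ ∉ H → g₂ ∉ H → ∃ u ∈ Q, g₂⁻¹ * (u * g₁) ∈ H) (hreg : ∀ g : G, g ∉ H → ∀ u ∈ Q, g⁻¹ * (u * g) ∈ H → u = 1) : (∃ (F : Type) (_ : Field F) (_ : Fintype F), CharP F 2 ∧ 4 ≤ Fintype.card F ∧ Nonempty (G ≃* Matrix.ProjectiveSpecialLinearGroup (Fin 2) F)) ∨ Cfsg.IsSuzuki G ∨ (∃ (F : Type) (_ : Field F) (_ : Fintype F) (q : ℕ), Fintype.card F = q ^ 2 ∧ Even q ∧ 4 ≤ q ∧ Nonempty (G ≃* Cfsg.PSU 3 F q)) := by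
  have hnc : ¬ IsCyclic G := by
    intro hc
    have hb : H = ⊥ := by
      letI : CommGroup G := hc.commGroup
      exact ((inferInstance : H.Normal).eq_bot_or_eq_top).resolve_right hH.1
    have := hH.2.1
    rw [hb, Subgroup.card_bot] at this
    exact absurd this (by decide)
  obtain ⟨E, hE⟩ := Cfsg.Agent.S0204.result hnc
  have h2 := CL.RankOne.two_invol_of_klein hE
  obtain ⟨t, ht, htH⟩ : ∃ t : G, t * t = 1 ∧ t ∉ H := by
    obtain ⟨x, -, hx1, -, -, hx, -⟩ := h2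
    exact CL.RankOne.exists_invol_not_mem hH.1 hx1 hx
  have hst : ∀ g : G, g • ((1 : G) : G ⧸ H) = ((1 : G) : G ⧸ H) ↔ g ∈ H := fun g => by
    rw [MulAction.Quotient.smul_mk, smul_eq_mul, mul_one, eq_comm, QuotientGroup.eq, inv_one, one_mul]
  have hst2 : ∀ g x y : G, g • x • ((1 : G) : G ⧸ H) = (y : G ⧸ H) ↔ y⁻¹ * (g * x) ∈ H := fun g x y => by
    rw [smul_smul, MulAction.Quotient.smul_mk, smul_eq_mul, mul_one, eq_comm, QuotientGroup.eq]
  have hta : t • ((1 : G) : G ⧸ H) = (t : G ⧸ H) := by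
    rw [MulAction.Quotient.smul_mk, smul_eq_mul, mul_one]
  have hD : CL.RankOne.DD ((1 : G) : G ⧸ H) t = H ⊓ H.map (MulAut.conj t).toMonoidHom := by
    ext g
    have h1 := hst2 g t t
    rw [← hta] at h1
    rw [CL.RankOne.mem_DD, hst, h1, Subgroup.mem_inf, Subgroup.mem_map_equiv]
    simp [mul_assoc]
  have hodd : Odd (Nat.card (CL.RankOne.DD ((1 : G) : G ⧸ H) t)) := by
    rw [hD]; exact hH.2.2 t htH
  have htr : ∀ b : G ⧸ H, b ≠ ((1 : G) : G ⧸ H) → ∃ q ∈ Q, q • t • ((1 : G) : G ⧸ H) = b := by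
    intro b hb
    obtain ⟨g, rfl⟩ := QuotientGroup.mk_surjective b
    have hg : g ∉ H := fun h => hb (by rw [eq_comm, QuotientGroup.eq, inv_one, one_mul]; exact h)
    obtain ⟨u, hu, h⟩ := htrans t g htH hg
    exact ⟨u, hu, (hst2 _ _ _).2 h⟩
  have hconj : ∀ h : G, h • ((1 : G) : G ⧸ H) = ((1 : G) : G ⧸ H) → ∀ x ∈ Q, h * x * h⁻¹ ∈ Q :=
    fun h hh x hx => hQn.conj_mem ⟨x, hQH hx⟩ hx ⟨h, (hst h).1 hh⟩
  have heven : Even (Nat.card Q) := by
    obtain ⟨s, hs, hs1, hs2⟩ := CL.RankOne.exists_invol_of_even hH.2.1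
    by_contra hQ
    rw [Nat.not_even_iff_odd] at hQ
    -- `s` normalises `Q`, which is transitive on the remaining cosets and of odd order
    have hne : s • t • ((1 : G) : G ⧸ H) ≠ ((1 : G) : G ⧸ H) := by
      intro h
      exact htH ((hst t).1 (MulAction.injective s (h.trans ((hst s).2 hs).symm)))
    obtain ⟨q, hq, e⟩ := htr _ hne
    have h1 : q⁻¹ * s ∈ CL.RankOne.DD ((1 : G) : G ⧸ H) t :=
      ⟨(hst _).2 (H.mul_mem (H.inv_mem (hQH hq)) hs), by
        change (q⁻¹ * s) • _ = _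
        rw [mul_smul, ← e, inv_smul_smul]⟩
    have h3 := CL.RankOne.odd_orderOf_of_mem hodd h1
    obtain ⟨m, hm⟩ := CL.RankOne.exists_eq_sq_pow h3
    have h4 : q⁻¹ * s * (q⁻¹ * s) ∈ Q := by
      have : q⁻¹ * s * (q⁻¹ * s) = q⁻¹ * (s * q⁻¹ * s⁻¹) := by
        rw [CL.RankOne.inv_eq_of_mul_self hs2]; group
      rw [this]
      exact Q.mul_mem (Q.inv_mem hq) (hconj s ((hst s).2 hs) _ (Q.inv_mem hq))
    have h5 : s ∈ Q := by
      have : s = q * (q⁻¹ * s) := by group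
      rw [this, hm]
      exact Q.mul_mem hq (Q.pow_mem h4 m)
    exact hs1 (CL.RankOne.eq_one_of_odd_of_mul_self (CL.RankOne.odd_orderOf_of_mem hQ h5) hs2)
  have hS := CL.RankOne.mk_setup ht (fun h => htH ((hst t).1 h)) (fun q hq => (hst q).2 (hQH hq))
    hconj htr (fun q hq h => hreg t htH q hq (by rw [← hst2, h, hta])) heven hodd
  exact (CL.RankOne.isoConcl_of_simple hS h2).bender_form

end Cfsg.Agent.S1222
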