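import Cfsg.Agent.Base
import Cfsg.Statements.S1231
import Cfsg.Agent.TwoFus.SESylow

set_option autoImplicit false
open Cfsg

namespace Cfsg.Agent.S1231

theorem not_rank_iff {G : Type*} [Group G] (p k : ℕ) (X : Subgroup G) :
    ¬ Cfsg.PRankLE p k X ↔ ∃ A : Subgroup G, A ≤ X ∧ (∀ a ∈ A, ∀ b ∈ A, a * b = b * a) ∧
      (∀ a ∈ A, a ^ p = 1) ∧ p ^ k < Nat.card A := by
  unfold Cfsg.PRankLE
  push Not
  constructor
  · rintro ⟨A, h1, h2, h3⟩
    refine ⟨A.map X.subtype, Subgroup.map_subtype_le _, ?_, ?_, ?_⟩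
    · rintro _ ⟨a, ha, rfl⟩ _ ⟨b, hb, rfl⟩
      exact congrArg Subtype.val (setLike_mul_comm (s := A) ha hb)
    · rintro _ ⟨a, ha, rfl⟩
      exact congrArg Subtype.val (h2 a ha)
    · rwa [Subgroup.card_map_of_injective X.subtype_injective]
  · rintro ⟨A, hAX, h1, h2, h3⟩
    refine ⟨A.subgroupOf X, ⟨⟨fun a b => Subtype.ext (Subtype.ext (h1 _ a.2 _ b.2))⟩⟩,
      fun a ha => Subtype.ext (h2 _ ha), ?_⟩
    rwa [Nat.card_congr (Subgroup.subgroupOfEquivOfLe hAX).toEquiv]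

theorem not_rank_conj {G : Type*} [Group G] {p k : ℕ} {X Y : Subgroup G} (g : G)
    (h : ∀ x ∈ X, g * x * g⁻¹ ∈ Y) (hX : ¬ Cfsg.PRankLE p k X) : ¬ Cfsg.PRankLE p k Y := by
  rw [not_rank_iff] at hX ⊢
  obtain ⟨A, hAX, h1, h2, h3⟩ := hX
  refine ⟨A.map (MulAut.conj g).toMonoidHom, ?_, ?_, ?_, ?_⟩
  · rintro _ ⟨a, ha, rfl⟩
    exact h a (hAX ha)
  · rintro _ ⟨a, ha, rfl⟩ _ ⟨b, hb, rfl⟩
    rw [← map_mul, h1 a ha b hb, map_mul]
  · rintro _ ⟨a, ha, rfl⟩
    rw [← map_pow, h2 a ha, map_one]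
  · rwa [CL.SE.card_map_conj]


/-- Let H be a subgroup of the finite group G, p a prime, k ≥ 1, and P a Sylow p-subgroup of H whose p-rank is at least k. Then N_G(X) ≤ H for every subgroup X of P of p-rank at least k if and only if H ∩ gHg⁻¹ has p-rank less than k for every g ∉ H. -/
theorem result {G : Type*} [Group G] [Finite G] {p : ℕ} [Fact p.Prime] (k : ℕ) (hk : 1 ≤ k) (H : Subgroup G) (P : Sylow p ↥H) (hP : ¬ Cfsg.PRankLE p (k - 1) ↥(P : Subgroup ↥H)) : (∀ X : Subgroup G, X ≤ (P : Subgroup ↥H).map H.subtype → ¬ Cfsg.PRankLE p (k - 1) ↥X → Subgroup.normalizer (X : Set G) ≤ H) ↔ (∀ g : G, g ∉ H → Cfsg.PRankLE p (k - 1) ↥(H ⊓ H.map (MulAut.conj g).toMonoidHom)) := by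
  constructor
  · intro hN g hg
    have hN' : ∀ X : Subgroup G, IsPGroup p X → X ≤ H → ¬ Cfsg.PRankLE p (k - 1) X →
        Subgroup.normalizer (X : Set G) ≤ H := by
      intro X hX hXH hr n hn
      obtain ⟨h, hh, hXP⟩ := CL.SE.exists_conj_le_sylow hX hXH P
      have := hN (X.map (MulAut.conj h).toMonoidHom) (by
        rintro _ ⟨x, hx, rfl⟩
        exact hXP x hx) (not_rank_conj h (fun x hx => CL.SE.conj_mem_map_conj hx) hr)
        (x := h * n * h⁻¹) (CL.SE.mem_normalizer_map_conj.2 (by simpa [mul_assoc] using hn))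
      have h2 := H.mul_mem (H.mul_mem (H.inv_mem hh) this) hh
      simpa [mul_assoc] using h2
    by_contra hr
    obtain ⟨A, hAX, h1, h2, h3⟩ := (not_rank_iff _ _ _).1 hr
    have hA : IsPGroup p A := fun a => ⟨1, Subtype.ext (by simpa using h2 a a.2)⟩
    obtain ⟨X, hX, hAX', hXK, hmax⟩ := CL.SE.exists_maximal_pSubgroup hA hAX
    have hrX : ¬ Cfsg.PRankLE p (k - 1) X := (not_rank_iff _ _ _).2 ⟨A, hAX', h1, h2, h3⟩
    have hXH : X ≤ H := hXK.trans inf_le_left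
    have hX'H : X.map (MulAut.conj g⁻¹).toMonoidHom ≤ H := by
      rintro _ ⟨x, hx, rfl⟩
      simpa using CL.SE.mem_map_conj.1 (hXK hx).2
    have hrX' : ¬ Cfsg.PRankLE p (k - 1) (X.map (MulAut.conj g⁻¹).toMonoidHom) :=
      not_rank_conj g⁻¹ (fun x hx => CL.SE.conj_mem_map_conj hx) hrX
    have hNK : Subgroup.normalizer (X : Set G) ≤ H ⊓ H.map (MulAut.conj g).toMonoidHom := by
      intro n hn
      refine ⟨hN' X hX hXH hrX hn, CL.SE.mem_map_conj.2 ?_⟩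
      apply hN' _ (hX.map _) hX'H hrX'
      exact CL.SE.mem_normalizer_map_conj.2 (by simpa [mul_assoc] using hn)
    obtain ⟨Q, hQ⟩ := CL.SE.exists_sylow_eq_of_normalizer_le hX hNK hmax
    have hQH : (Q : Subgroup G) ≤ H := hQ ▸ hXH
    obtain ⟨h, hh, hXP⟩ := CL.SE.exists_conj_le_sylow (hX.map _) hX'H (Q.subtype hQH)
    have : h * g⁻¹ ∈ Subgroup.normalizer (X : Set G) := by
      apply CL.SE.mem_normalizer_of_conj_mem
      intro x hx
      obtain ⟨y, hy, hy'⟩ := hXP _ (CL.SE.conj_mem_map_conj hx)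
      have hy2 : (y : G) ∈ (Q : Subgroup G) := hy
      rw [hQ] at hy2
      have e : h * g⁻¹ * x * (h * g⁻¹)⁻¹ = y := by
        rw [show (y : G) = _ from hy']; group
      rwa [e]
    have h4 := H.mul_mem (H.inv_mem (hN' X hX hXH hrX this)) hh
    exact hg (by simpa using h4)
  · intro hI X hXP hr g hg
    by_contra hgH
    refine not_rank_conj 1 (X := X) ?_ hr (hI g hgH)
    intro x hx
    have hxH : ∀ y ∈ X, y ∈ H := fun y hy => Subgroup.map_subtype_le _ (hXP hy)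
    rw [one_mul, inv_one, mul_one]
    exact ⟨hxH x hx, CL.SE.mem_map_conj.2 (hxH _ (CL.SE.conj_mem_of_mem_normalizer' hg hx))⟩

end Cfsg.Agent.S1231
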