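import Cfsg.Statements.S1232
import Cfsg.Agent.TwoFus.SelfE8b
import Cfsg.Agent.S0501

set_option autoImplicit false
open Cfsg

namespace Cfsg.Agent.S1232

open Subgroup CL CL.SelfE8 CL.HaradaDB

/-- Let S be a finite 2-group containing an elementary abelian subgroup A of order 8 with C_S(A) = A. Then every section of S has 2-rank at most 4. -/
theorem result {S : Type*} [Group S] [Finite S] (hS : IsPGroup 2 S) (A : Subgroup S) (hA : Cfsg.IsElementaryAbelian 2 A) (hA8 : Nat.card A = 8) (hC : Subgroup.centralizer (A : Set S) = A) : Cfsg.SectionalPRankLE 2 4 S := by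
  by_cases h : ∀ V : Subgroup S, V.Normal → IsMulCommutative V → (∀ a ∈ V, a ^ 2 = 1) →
      Nat.card V ≤ 4
  · exact Cfsg.Agent.S0501.result hS h
  push Not at h
  obtain ⟨V, hVn, -, hV, h4⟩ := h
  obtain ⟨E, hEn, hEV, hE8⟩ := PGrp.exists_normal_le_card_eq hS V 3 (by
    obtain ⟨n, hn⟩ := card_pow hS V
    rw [hn] at h4 ⊢
    exact Nat.pow_le_pow_right two_pos ((Nat.pow_lt_pow_iff_right (n := 2) one_lt_two).1 h4))
  have hA' : HypA A := ⟨hS, fun a ha => by rw [← pow_two]; exact hA.2 a ha, hA8, hC⟩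
  obtain ⟨P⟩ : Nonempty (Sylow 2 S) := inferInstance
  exact sectionalPRankLE_of_sylow P fun X K _ hKX hK =>
    hA'.bound (fun e he => by rw [← pow_two]; exact hV e (hEV he)) hE8 hKX hK

end Cfsg.Agent.S1232
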