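import Cfsg.Statements.S1233
import Cfsg.Agent.TwoFus.SelfE8b
import Cfsg.Agent.S1232

set_option autoImplicit false
open Cfsg

namespace Cfsg.Agent.S1233

open Subgroup CL CL.SelfE8 CL.HaradaDB QuaternionGroup
open scoped commutatorElement

abbrev P := QuaternionGroup 2 × QuaternionGroup 2

def zl : List P := [(1, 1), (a 2, 1), (1, a 2), (a 2, a 2)]

abbrev K0 (p : P) : Prop := p = 1 ∨ p = (a 2, a 2)

def pi : P := (a 1, 1)
def pj : P := (xa 0, 1)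

def tau : QuaternionGroup 2 → QuaternionGroup 2
  | a i => xa 0 ^ i.val
  | xa i => a 1 * xa 0 * xa 0 ^ i.val

abbrev InB (σ : QuaternionGroup 2 → QuaternionGroup 2) (p : P) : Prop :=
  p.2 = σ p.1 ∨ p.2 = σ p.1 * a 2

/-- The finitely many facts used about `σ`. -/
def Good (σ : QuaternionGroup 2 → QuaternionGroup 2) : Prop :=
  (∀ p q : P, InB σ p → InB σ q → InB σ (p * q) ∧ K0 (p * q * (q * p)⁻¹)) ∧ InB σ 1 ∧
  (∀ p : P, InB σ p → InB σ p⁻¹ ∧ K0 (p * p)) ∧ InB σ (a 2, a 2) ∧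
  (Finset.univ.filter (InB σ)).card = 16 ∧
  (∀ p b : P, InB σ b → InB σ (p * b * p⁻¹)) ∧
  (∀ p : P, (∀ b : P, InB σ b → K0 (b * p * (p * b)⁻¹)) → InB σ p) ∧
  (∀ b : P, InB σ b → ¬ K0 (b * pi * (b * pi)) →
    (∃ w ∈ zl, b * pi = w * pi) ∨ ∃ w ∈ zl, b * pi = w * (1, σ (a 1))) ∧
  (∀ b : P, InB σ b → ¬ K0 (b * pj * (b * pj)) →
    (∃ w ∈ zl, b * pj = w * pj) ∨ ∃ w ∈ zl, b * pj = w * (1, σ (xa 0))) ∧
  (∀ w ∈ zl, ∀ w' ∈ zl, w * pi * (w' * (1, σ (xa 0))) = w' * (1, σ (xa 0)) * (w * pi) ∧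
    w * (1, σ (a 1)) * (w' * pj) = w' * pj * (w * (1, σ (a 1))) ∧
    ∃ q : P, InB σ q ∧ K0 (q * pi * q⁻¹ * (w * pi)⁻¹) ∧ K0 (q * pj * q⁻¹ * (w' * pj)⁻¹)) ∧
  ∀ p : P, ∃ m : Fin 4, ∃ n : Fin 2, InB σ ((pi ^ m.val * pj ^ n.val)⁻¹ * p)

theorem good_id : Good id := by
  refine ⟨?_, ?_, ?_, ?_, ?_, ?_, ?_, ?_, ?_, ?_, ?_⟩ <;> decide +kernel

theorem good_tau : Good tau := by
  refine ⟨?_, ?_, ?_, ?_, ?_, ?_, ?_, ?_, ?_, ?_, ?_⟩ <;> decide +kernel

theorem fact1 : ¬ K0 (pi * pi) ∧ ¬ K0 (pj * pj) ∧ ¬ K0 (pi * pj * (pj * pi)⁻¹) := by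
  decide +kernel

theorem fact2 : ∀ w1 ∈ zl, ∀ w2 ∈ zl, ∀ w3 ∈ zl, ∀ m : Fin 4, ∀ n : Fin 2,
    (InB id ((pi ^ m.val * pj ^ n.val)⁻¹ * (w3 * (1, tau (a 1)))) →
      ∃ w ∈ zl, (w1 * (1, a 1)) ^ m.val * (w2 * (1, xa 0)) ^ n.val *
        ((pi ^ m.val * pj ^ n.val)⁻¹ * (w3 * (1, tau (a 1)))) = w * pj) ∧
    (InB id ((pi ^ m.val * pj ^ n.val)⁻¹ * (w3 * (1, tau (xa 0)))) →
      ∃ w ∈ zl, (w1 * (1, a 1)) ^ m.val * (w2 * (1, xa 0)) ^ n.val *
        ((pi ^ m.val * pj ^ n.val)⁻¹ * (w3 * (1, tau (xa 0)))) = w * (pi * pj)) := by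
  decide +kernel

theorem fact3 : ∀ w1 ∈ zl, ∀ w2 ∈ zl, (∀ k : Fin 4, ¬ K0 (w1 * pj * (pi ^ k.val)⁻¹)) ∧
    ∃ m m' k : Fin 4, K0 (w1 * pj * (pi ^ m.val * pj)⁻¹) ∧
      K0 ((w1 * pj) ^ m.val * (w2 * (pi * pj)) * (pi ^ m'.val * pj)⁻¹) ∧
      K0 ((w1 * pj) ^ m'.val * (w2 * (pi * pj)) * (pi ^ k.val)⁻¹) := by
  decide +kernel

theorem fact4 : ∀ x : QuaternionGroup 2, (∀ y, y * x = x * y) → x = 1 ∨ x = a 2 := by
  decide +kernel

/-- the subgroup attached to `σ` -/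
def BB {σ : QuaternionGroup 2 → QuaternionGroup 2} (h : Good σ) : Subgroup P where
  carrier := {p | InB σ p}
  mul_mem' := fun hp hq => (h.1 _ _ hp hq).1
  one_mem' := h.2.1
  inv_mem' := fun hp => (h.2.2.1 _ hp).1

variable {S : Type*} [Group S] [Finite S] (hS : IsPGroup 2 S) (φ : P →* S)
  (hker : ∀ p, φ p = 1 ↔ K0 p) (hC : centralizer (φ.range : Set S) ≤ φ.range)

omit [Finite S] in
include hker in
theorem eq_iff (p q : P) : φ p = φ q ↔ K0 (p * q⁻¹) := by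
  rw [← hker, map_mul, map_inv, mul_inv_eq_one]

include hS hker hC in
theorem key {σ : QuaternionGroup 2 → QuaternionGroup 2} (h : Good σ) :
    SectionalPRankLE 2 4 S ∨ ∃ c : MulAut S, (∃ d, c = MulAut.conj d) ∧
      (∃ w ∈ zl, c (φ pi) = φ (w * (1, σ (a 1)))) ∧ (∃ w ∈ zl, c (φ pj) = φ (w * (1, σ (xa 0)))) ∧
      ∀ b, InB σ b → c (φ b) = φ b := by
  obtain ⟨h1, -, h3, h4, h5, h6, h7, h8, h9, h10, h11⟩ := id h
  have hA : IsElementaryAbelian 2 ((BB h).map φ) := EA.of_comm (by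
      rintro _ ⟨p, hp, rfl⟩ _ ⟨q, hq, rfl⟩
      rw [← map_mul, ← map_mul, eq_iff φ hker]
      exact (h1 p q hp hq).2) (by
      rintro _ ⟨p, hp, rfl⟩
      rw [pow_two, ← map_mul, hker]
      exact (h3 p hp).2)
  have hk2 : Nat.card φ.ker = 2 := by
    have : φ.ker = zpowers (a 2, a 2) := by
      refine le_antisymm (fun p hp => ?_) (zpowers_le.2 ((hker _).2 (Or.inr rfl)))
      rcases (hker p).1 hp with rfl | rfl
      exacts [one_mem _, mem_zpowers _]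
    rw [this]
    exact card_zpowers_two (by decide) (by decide)
  have hA8 : Nat.card ((BB h).map φ) = 8 := by
    have e1 := card_eq_map_mul φ (BB h)
    have e2 : φ.ker ≤ BB h := fun p hp => by
      rcases (hker p).1 hp with rfl | rfl
      exacts [one_mem _, h4]
    have e3 : Nat.card (BB h) = 16 := by
      rw [← h5, ← Fintype.card_subtype, ← Nat.card_eq_fintype_card]
      rfl
    rw [inf_eq_right.2 e2, hk2, e3] at e1
    omega
  by_cases hcen : centralizer (((BB h).map φ : Subgroup S) : Set S) ≤ (BB h).map φ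
  · exact Or.inl (Cfsg.Agent.S1232.result hS _ hA hA8 (le_antisymm hcen (EA.le_centralizer hA)))
  have hQn : φ.range ≤ normalizer (((BB h).map φ : Subgroup S) : Set S) := by
    rintro _ ⟨p, rfl⟩
    refine mem_normalizer_of_conj_mem ?_
    rintro _ ⟨b, hb, rfl⟩
    exact ⟨p * b * p⁻¹, h6 p b hb, by simp⟩
  obtain ⟨d, hd, hdA, -, hc⟩ := exists_central_mod_in hS
    (M := normalizer (((BB h).map φ : Subgroup S) : Set S)) (centralizer_le_normalizer _)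
    le_rfl (EA.normalizer_le_normalizer_centralizer _) hcen
  have hfix : ∀ b, InB σ b → MulAut.conj d (φ b) = φ b := fun b hb => by
    rw [MulAut.conj_apply, ← hd _ ⟨b, hb, rfl⟩, mul_inv_cancel_right]
  have himg : ∀ p, ∃ b, InB σ b ∧ MulAut.conj d (φ p) = φ (b * p) := fun p => by
    obtain ⟨b, hb, e⟩ := inv_mem (hc (φ p) (hQn ⟨p, rfl⟩))
    refine ⟨b, hb, ?_⟩
    rw [map_mul, e, commutatorElement_inv, commutatorElement_def, MulAut.conj_apply]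
    group
  have hsq : ∀ p q, MulAut.conj d (φ p) = φ q → ¬ K0 (p * p) → ¬ K0 (q * q) := fun p q e h1 h2 => by
    rw [← hker, map_mul, ← e, ← map_mul, ← map_mul, map_eq_one_iff _ (MulEquiv.injective _),
      hker] at h2
    exact h1 h2
  have hcomm : ∀ u v, MulAut.conj d (φ pi) = φ u → MulAut.conj d (φ pj) = φ v → u * v ≠ v * u :=
    fun u v e1 e2 e => by
      have := congrArg φ e
      rw [map_mul, map_mul, ← e1, ← e2, ← map_mul (MulAut.conj d), ← map_mul (MulAut.conj d),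
        (MulEquiv.injective _).eq_iff, ← map_mul, ← map_mul, eq_iff φ hker] at this
      exact fact1.2.2 this
  obtain ⟨b1, hb1, e1⟩ := himg pi
  obtain ⟨b2, hb2, e2⟩ := himg pj
  rcases h8 b1 hb1 (hsq _ _ e1 fact1.1) with ⟨w, hw, e3⟩ | ⟨w, hw, e3⟩ <;>
    rcases h9 b2 hb2 (hsq _ _ e2 fact1.2.1) with ⟨w', hw', e4⟩ | ⟨w', hw', e4⟩ <;>
    rw [e3] at e1 <;> rw [e4] at e2
  · exfalso
    obtain ⟨q, hq, e5, e6⟩ := (h10 w hw w' hw').2.2
    rw [← eq_iff φ hker, ← e1] at e5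
    rw [← eq_iff φ hker, ← e2] at e6
    have hqb : ∀ b, InB σ b → φ (q * b * q⁻¹) = φ b := fun b hb => by
      rw [eq_iff φ hker]
      have := (h1 q b hq hb).2
      rwa [mul_inv_rev, ← mul_assoc] at this
    have hall : ∀ p, MulAut.conj d (φ p) = φ (q * p * q⁻¹) := fun p => by
      obtain ⟨m, n, hb⟩ := h11 p
      have e7 : p = pi ^ m.val * pj ^ n.val * ((pi ^ m.val * pj ^ n.val)⁻¹ * p) := by group
      generalize (pi ^ m.val * pj ^ n.val)⁻¹ * p = b at hb e7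
      rw [e7, map_mul, map_mul, map_mul, map_mul, map_pow, map_pow, map_pow, map_pow, ← e5, ← e6,
        hfix b hb, ← hqb b hb, ← map_pow, ← map_pow, ← map_mul, ← map_mul, conj_pow, conj_pow]
      congr 1
      group
    have hdQ : (φ q)⁻¹ * d ∈ φ.range := hC (by
      rintro _ ⟨p, rfl⟩
      have := hall p
      rw [MulAut.conj_apply, map_mul, map_mul, map_inv] at this
      calc φ p * ((φ q)⁻¹ * d) = (φ q)⁻¹ * (φ q * φ p * (φ q)⁻¹) * d := by group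
        _ = _ := by rw [← this]; group)
    obtain ⟨p, rfl⟩ : d ∈ φ.range := (mul_mem_cancel_left (inv_mem (show φ q ∈ φ.range from ⟨q, rfl⟩))).1 hdQ
    refine hdA ⟨p, h7 p fun b hb => ?_, rfl⟩
    rw [← eq_iff φ hker, map_mul, map_mul]
    exact hd _ ⟨b, hb, rfl⟩
  · exact absurd (h10 w hw w' hw').1 (hcomm _ _ e1 e2)
  · exact absurd (h10 w hw w' hw').2.1 (hcomm _ _ e1 e2)
  · exact Or.inr ⟨_, ⟨d, rfl⟩, ⟨w, hw, e1⟩, ⟨w', hw', e2⟩, hfix⟩

include hS hker hC in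
theorem main : SectionalPRankLE 2 4 S := by
  refine (key hS φ hker hC good_id).elim id ?_
  rintro ⟨c1, ⟨d1, hd1⟩, ⟨w1, hw1, e1⟩, ⟨w2, hw2, e2⟩, hfix⟩
  refine (key hS φ hker hC good_tau).elim id ?_
  rintro ⟨c2, ⟨d2, hd2⟩, ⟨w3, hw3, e3⟩, ⟨w4, hw4, e4⟩, -⟩
  exfalso
  have hall : ∀ p, ∀ m n : ℕ, InB id ((pi ^ m * pj ^ n)⁻¹ * p) → c1 (φ p) =
      φ ((w1 * (1, a 1)) ^ m * (w2 * (1, xa 0)) ^ n * ((pi ^ m * pj ^ n)⁻¹ * p)) := by
    intro p m n hb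
    have e7 : p = pi ^ m * pj ^ n * ((pi ^ m * pj ^ n)⁻¹ * p) := by group
    generalize (pi ^ m * pj ^ n)⁻¹ * p = b at hb e7
    rw [e7, map_mul, map_mul, map_mul, map_mul, map_pow, map_pow, map_pow, map_pow, e1, e2,
      hfix b hb, ← map_pow, ← map_pow, ← map_mul, ← map_mul]
    rfl
  obtain ⟨u, hu, e5⟩ : ∃ w ∈ zl, (c1 * c2) (φ pi) = φ (w * pj) := by
    obtain ⟨m, n, hb⟩ := good_id.2.2.2.2.2.2.2.2.2.2 (w3 * (1, tau (a 1)))
    obtain ⟨w, hw, e⟩ := (fact2 w1 hw1 w2 hw2 w3 hw3 m n).1 hb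
    exact ⟨w, hw, by rw [MulAut.mul_apply, e3, hall _ _ _ hb, e]⟩
  obtain ⟨v, hv, e6⟩ : ∃ w ∈ zl, (c1 * c2) (φ pj) = φ (w * (pi * pj)) := by
    obtain ⟨m, n, hb⟩ := good_id.2.2.2.2.2.2.2.2.2.2 (w4 * (1, tau (xa 0)))
    obtain ⟨w, hw, e⟩ := (fact2 w1 hw1 w2 hw2 w4 hw4 m n).2 hb
    exact ⟨w, hw, by rw [MulAut.mul_apply, e4, hall _ _ _ hb, e]⟩
  rw [hd1, hd2, ← map_mul] at e5 e6
  generalize d1 * d2 = g at e5 e6
  obtain ⟨hne, m, m', k, f1, f2, f3⟩ := fact3 u hu v hv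
  rw [← eq_iff φ hker] at f1 f2 f3
  have step : ∀ m : ℕ, MulAut.conj g (φ (pi ^ m * pj)) = φ ((u * pj) ^ m * (v * (pi * pj))) := by
    intro m
    rw [map_mul, map_mul, map_pow, map_pow, e5, e6, ← map_pow, ← map_mul]
  have h3 : g ^ 3 ∈ normalizer (zpowers (φ pi) : Set S) := by
    refine mem_normalizer_of_conj_mem ?_
    rintro _ ⟨n, rfl⟩
    have : g ^ 3 * φ pi * (g ^ 3)⁻¹ = φ pi ^ k.val := by
      rw [← map_pow, ← f3, ← step, ← f2, ← step, ← f1, ← e5]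
      simp only [MulAut.conj_apply, pow_succ, pow_zero, one_mul]
      group
    rw [← conj_zpow, this]
    exact zpow_mem (pow_mem (mem_zpowers _) _) _
  have h4 : g ∈ normalizer (zpowers (φ pi) : Set S) := by
    obtain ⟨n, hn⟩ := IsPGroup.iff_orderOf.1 hS g
    obtain ⟨l, hl⟩ := exists_pow_eq_self_of_coprime (x := g) (n := 3)
      (by rw [hn]; exact Nat.Coprime.pow_right _ (by norm_num))
    rw [← hl]
    exact pow_mem h3 l
  have h5 : φ (u * pj) ∈ zpowers (φ pi) := by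
    rw [← e5]
    exact (mem_normalizer_iff.1 h4 _).1 (mem_zpowers _)
  have h6 : φ pi ^ 4 = 1 := by
    rw [← map_pow, hker]; decide
  obtain ⟨l, hl⟩ := (mem_powers_iff_mem_zpowers.2 h5)
  refine hne ⟨l % 4, Nat.mod_lt _ (by norm_num)⟩ ?_
  rw [← eq_iff φ hker, map_pow, ← hl]
  exact pow_eq_pow_mod l h6

/-- Let S be a finite 2-group and Q a subgroup of order 32 generated by two elementwise-commuting subgroups Q₁, Q₂ each isomorphic to the quaternion group of order 8 (so Q = Q₁ ∗ Q₂). If C_S(Q) ≤ Q, then every section of S has 2-rank at most 4. -/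
theorem result {S : Type*} [Group S] [Finite S] (hS : IsPGroup 2 S) (Q Q₁ Q₂ : Subgroup S) (e₁ : Q₁ ≃* QuaternionGroup 2) (e₂ : Q₂ ≃* QuaternionGroup 2) (hcomm : ∀ a ∈ Q₁, ∀ b ∈ Q₂, a * b = b * a) (hQ : Q₁ ⊔ Q₂ = Q) (hQ32 : Nat.card Q = 32) (hC : Subgroup.centralizer (Q : Set S) ≤ Q) : Cfsg.SectionalPRankLE 2 4 S := by
  let f₁ : QuaternionGroup 2 →* S := Q₁.subtype.comp e₁.symm.toMonoidHom
  let f₂ : QuaternionGroup 2 →* S := Q₂.subtype.comp e₂.symm.toMonoidHom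
  have hf₁ : Function.Injective f₁ := Q₁.subtype_injective.comp e₁.symm.injective
  have hf₂ : Function.Injective f₂ := Q₂.subtype_injective.comp e₂.symm.injective
  have hc : ∀ x y, Commute (f₁ x) (f₂ y) := fun x y => hcomm _ (e₁.symm x).2 _ (e₂.symm y).2
  have hr : (f₁.noncommCoprod f₂ hc).range = Q := by
    rw [MonoidHom.noncommCoprod_range, ← hQ, MonoidHom.range_comp, MonoidHom.range_comp,
      MonoidHom.range_eq_top.2 e₁.symm.surjective, MonoidHom.range_eq_top.2 e₂.symm.surjective,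
      ← MonoidHom.range_eq_map, ← MonoidHom.range_eq_map, range_subtype, range_subtype]
  have h1 : ∀ p, f₁.noncommCoprod f₂ hc p = 1 → K0 p := by
    rintro ⟨x, y⟩ h
    rw [MonoidHom.noncommCoprod_apply] at h
    have e1 : f₁ x = (f₂ y)⁻¹ := eq_inv_of_mul_eq_one_left h
    have e2 : f₂ y = (f₁ x)⁻¹ := eq_inv_of_mul_eq_one_right h
    have hx := fact4 x fun t => hf₁ (by rw [map_mul, map_mul, e1]; exact (hc t y).inv_right)
    have hy := fact4 y fun t => hf₂ (by rw [map_mul, map_mul, e2]; exact (hc x t).symm.inv_right)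
    rcases hx with rfl | rfl <;> rcases hy with rfl | rfl
    · exact Or.inl rfl
    · rw [map_one, inv_one, map_eq_one_iff _ hf₂] at e2
      exact absurd e2 (by decide)
    · rw [map_one, inv_one, map_eq_one_iff _ hf₁] at e1
      exact absurd e1 (by decide)
    · exact Or.inr rfl
  refine main hS (f₁.noncommCoprod f₂ hc) (fun p => ⟨h1 p, ?_⟩) (hr ▸ hC)
  rintro (rfl | rfl)
  · exact map_one _
  · have h2 := (f₁.noncommCoprod f₂ hc).ker.card_mul_index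
    rw [index_ker, hr, hQ32, Nat.card_prod, Nat.card_eq_fintype_card (α := QuaternionGroup 2),
      QuaternionGroup.card] at h2
    obtain ⟨p, hp, hp1⟩ := exists_not_mem (H := ⊥) (K := (f₁.noncommCoprod f₂ hc).ker)
      (by rw [card_bot]; omega)
    rcases h1 p hp with rfl | rfl
    · exact absurd (one_mem _) hp1
    · exact hp

end Cfsg.Agent.S1233
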