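import Cfsg.Statements.S1234
import Cfsg.Agent.TwoFus.SelfE8b
import Cfsg.Agent.S1232

set_option autoImplicit false
open Cfsg

namespace Cfsg.Agent.S1234

open Subgroup CL CL.SelfE8 CL.HaradaDB

/-- Let S be a finite 2-group and Q ≤ S a subgroup of order 32 having an elementary abelian subgroup E of order 16 and an involution s ∉ E whose centralizer in E has order 4 (so Q ≅ (Z₂ × Z₂) ≀ Z₂). If C_S(Z(Q)) = Q, then every section of S has 2-rank at most 4. -/
theorem result {S : Type*} [Group S] [Finite S] (hS : IsPGroup 2 S) (Q E : Subgroup S) (hEQ : E ≤ Q) (hE : Cfsg.IsElementaryAbelian 2 E) (hE16 : Nat.card E = 16) (hQ32 : Nat.card Q = 32) (s : S) (hsQ : s ∈ Q) (hsE : s ∉ E) (hs : orderOf s = 2) (hfix : Nat.card ↥(E ⊓ Subgroup.centralizer ({s} : Set S)) = 4) (hC : Subgroup.centralizer (((Subgroup.center Q).map Q.subtype : Subgroup S) : Set S) = Q) : Cfsg.SectionalPRankLE 2 4 S := by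
  have hE' : ∀ e ∈ E, e * e = 1 := fun e he => by rw [← pow_two]; exact hE.2 e he
  have hs2 : s ^ 2 = 1 := hs ▸ pow_orderOf_eq_one s
  have hcard : Nat.card Q ≤ 2 * Nat.card E := by omega
  have hsF : s ∉ E ⊓ centralizer {s} := fun h => hsE h.1
  have hcen : E ⊓ centralizer {s} ≤ centralizer (zpowers s : Set S) := by
    rw [PGrp.centralizer_zpowers_eq]; exact inf_le_right
  have hZ : (center Q).map Q.subtype ≤ E ⊓ centralizer {s} := by
    rintro _ ⟨q, hq, rfl⟩
    have hq' : ∀ x ∈ Q, x * q = q * x := fun x hx =>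
      congrArg Subtype.val (mem_center_iff.1 hq ⟨x, hx⟩)
    refine ⟨?_, mem_centralizer_singleton_iff.2 (hq' s hsQ).symm⟩
    by_contra hqE
    have h1 := mul_mem_of_card hEQ hcard (inv_mem q.2) (by rwa [inv_mem_iff]) hsQ hsE
    have h2 : E ≤ centralizer {s} := fun e he => by
      have h3 : Commute e q := hq' e (hEQ he)
      have h4 : Commute e ((q : S)⁻¹ * s) := comm_of_sq hE' he h1
      have := h3.mul_right h4
      rw [mul_inv_cancel_left] at this
      exact mem_centralizer_singleton_iff.2 this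
    rw [inf_eq_left.2 h2] at hfix
    omega
  refine Cfsg.Agent.S1232.result hS (E ⊓ centralizer {s} ⊔ zpowers s)
    (EA.sup (EA.mono hE inf_le_left) (EA.zpowers hs2) hcen) ?_ ?_
  · rw [EA.card_sup_of_disjoint (EA.le_normalizer_of_le_centralizer hcen), hfix, Nat.card_zpowers,
      hs]
    rw [eq_bot_iff]
    rintro x ⟨hx, hx'⟩
    by_contra h1
    have := eq_of_card_le_two (by rw [Nat.card_zpowers, hs]) hx' (mem_zpowers s) h1
      (by rintro rfl; simp at hs)
    exact hsF (this ▸ hx)
  · refine le_antisymm (fun x hx => ?_)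
      (EA.le_centralizer (EA.sup (EA.mono hE inf_le_left) (EA.zpowers hs2) hcen))
    have hxQ : x ∈ Q := hC ▸ centralizer_le (SetLike.coe_subset_coe.2 (hZ.trans le_sup_left)) hx
    have hxs : x ∈ centralizer {s} :=
      mem_centralizer_singleton_iff.2 (hx s (mem_sup_right (mem_zpowers s))).symm
    by_cases hxE : x ∈ E
    · exact mem_sup_left ⟨hxE, hxs⟩
    · have h1 : x * s ∈ E ⊓ centralizer {s} := ⟨mul_mem_of_card hEQ hcard hxQ hxE hsQ hsE,
        show x * s ∈ centralizer {s} from mul_mem hxs (mem_centralizer_singleton_iff.2 rfl)⟩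
      exact (mul_mem_cancel_right (mem_sup_right (mem_zpowers s))).1 (mem_sup_left h1)

end Cfsg.Agent.S1234
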