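import Cfsg.Statements.S1235
import Cfsg.Agent.Base
import Cfsg.Agent.TwoFus.HaradaDB

set_option autoImplicit false
open Cfsg

namespace Cfsg.Agent.S1235

/-- Let G be a finite group, x an involution and T ≤ G a Sylow 2-subgroup of C_G(x) (T ≤ C_G(x) with |C_G(x) : T| odd) which is the internal direct product of a subgroup D that is dihedral (of order ≥ 4) or quasi-dihedral and a Klein four-subgroup B. Suppose that for every involution b ∈ B, T ≤ C_G(b) with |C_G(b) : T| odd. Then every section of G has 2-rank at most 4. -/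
theorem result {G : Type*} [Group G] [Finite G] (x : G) (hx : orderOf x = 2) (T D B : Subgroup G) (hT : IsPGroup 2 T) (hTx : T ≤ Subgroup.centralizer ({x} : Set G)) (hTxi : Odd (T.relIndex (Subgroup.centralizer ({x} : Set G)))) (hprod : Cfsg.IsInternalDirectProduct D B T) (hD : (∃ m : ℕ, 2 ≤ m ∧ Nonempty (D ≃* DihedralGroup m)) ∨ Cfsg.IsQuasiDihedral D) (hB : IsKleinFour B) (hTb : ∀ b ∈ B, orderOf b = 2 → T ≤ Subgroup.centralizer ({b} : Set G) ∧ Odd (T.relIndex (Subgroup.centralizer ({b} : Set G)))) : Cfsg.SectionalPRankLE 2 4 G := by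
  obtain ⟨S, hS⟩ := hT.exists_le_sylow
  have hc : ∀ b ∈ B, b ≠ 1 → ∀ g ∈ (S : Subgroup G), g * b = b * g → g ∈ T := by
    intro b hb hb1 g hg hgb
    have hb2 : orderOf b = 2 := orderOf_eq_prime (by
      rw [pow_two]; exact congrArg Subtype.val (IsKleinFour.mul_self (⟨b, hb⟩ : B))) hb1
    obtain ⟨h1, h2⟩ := hTb b hb hb2
    have h3 : T ≤ (S : Subgroup G) ⊓ Subgroup.centralizer {b} := le_inf hS h1
    have h4 := Subgroup.relIndex_mul_relIndex T _ _ h3
      (inf_le_right : (S : Subgroup G) ⊓ Subgroup.centralizer {b} ≤ _)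
    obtain ⟨k, hk⟩ := (S.2.to_le (inf_le_left :
      (S : Subgroup G) ⊓ Subgroup.centralizer {b} ≤ _)).index (T.subgroupOf _)
    change T.relIndex _ = _ at hk
    rw [← h4, hk, Nat.odd_mul] at h2
    have h5 : k = 0 := by
      by_contra h0
      exact (Nat.not_even_iff_odd.2 h2.1) (Nat.even_pow.2 ⟨even_two, h0⟩)
    rw [h5, pow_zero, Subgroup.relIndex_eq_one] at hk
    exact hk ⟨hg, Subgroup.mem_centralizer_singleton_iff.2 hgb⟩
  refine CL.HaradaDB.sectionalPRankLE_of_sylow S fun X K hX _ hK => ?_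
  change _ ≤ 16 * _
  have key : ∀ a y : G, CL.IsCycExt D a y → a * y ≠ y * a → Nat.card X ≤ 16 * Nat.card K :=
    fun a y h hay => CL.HaradaDB.bound_of_le hprod h hB
      (hX.trans (CL.HaradaDB.le_of_not_comm S.2 hS hprod h hay hB hc)) hK
  rcases hD with ⟨m, hm, ⟨e⟩⟩ | hD
  · obtain ⟨a, y, h⟩ := CL.exists_isDihData_of_equiv e
    by_cases hay : a * y = y * a
    swap
    · exact key a y h.toIsCycExt hay
    have ha : a * a = 1 := by
      have h1 := h.conj
      rw [← hay, mul_inv_cancel_right] at h1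
      exact mul_eq_one_iff_eq_inv.2 h1
    have hm2 : m = 2 := by
      have h1 : orderOf a ∣ 2 := orderOf_dvd_of_pow_eq_one (by rw [pow_two, ha])
      rw [h.ord] at h1
      exact le_antisymm (Nat.le_of_dvd two_pos h1) hm
    have hBsq : ∀ b ∈ B, b * b = 1 := fun b hb =>
      congrArg Subtype.val (IsKleinFour.mul_self (⟨b, hb⟩ : B))
    refine CL.HaradaDB.Conf.bound (T := T) (B := B) ⟨S.2, hS, ?_, ?_, hprod.2.1, hB.card_four, hc⟩
      hX hK
    · rw [CL.HaradaDB.card_of_prod hprod, h.card_eq, h.ord, hm2, hB.card_four]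
    · intro t ht
      obtain ⟨d, hd, b, hb, rfl⟩ := CL.HaradaDB.exists_mul_of_prod hprod ht
      have hd2 : d * d = 1 := by
        have h1 : ∀ i : ℤ, a ^ i * a ^ i = 1 := fun i => by
          rw [← (Commute.refl a).mul_zpow, ha, one_zpow]
        obtain ⟨i, rfl | rfl⟩ := (h.mem d).1 hd
        · exact h1 i
        · have h2 : Commute (a ^ i) y := (show Commute a y from hay).zpow_left i
          calc a ^ i * y * (a ^ i * y) = a ^ i * (y * a ^ i) * y := by group
            _ = a ^ i * a ^ i * (y * y) := by rw [← h2.eq]; group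
            _ = 1 := by rw [h1, h.sq, one_mul]
      calc d * b * (d * b) = d * (b * d) * b := by group
        _ = d * d * (b * b) := by rw [← hprod.2.2.1 d hd b hb]; group
        _ = 1 := by rw [hd2, hBsq b hb, one_mul]
  · obtain ⟨k, a, y, h⟩ := CL.exists_isQDData hD
    refine key a y h.toIsCycExt fun hay => ?_
    have h1 := h.conj
    rw [← hay, mul_inv_cancel_right] at h1
    have h2 : a ^ (4 * ((2 ^ k : ℕ) : ℤ) - 1) = a ^ (1 : ℤ) := by rw [← h1, zpow_one]
    rw [h.zpow_eq_iff] at h2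
    have h3 := h.epos
    have h4 := Int.le_of_dvd (by omega) h2
    omega

end Cfsg.Agent.S1235
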