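import Cfsg.Statements.S1236
import Cfsg.Agent.TwoFus.DihFus

set_option autoImplicit false
open Cfsg

namespace Cfsg.Agent.S1236

/-- Let R be a finite group, t a central involution of R such that R ⧸ ⟨t⟩ is dihedral (of order ≥ 4) or quasi-dihedral, and A ≤ R an elementary abelian subgroup of order 8 containing t. Then C_R(A) = A. -/
theorem result {R : Type*} [Group R] [Finite R] (t : R) (ht : orderOf t = 2) (htz : t ∈ Subgroup.center R) [(Subgroup.zpowers t).Normal] (hq : (∃ m : ℕ, 2 ≤ m ∧ Nonempty (R ⧸ Subgroup.zpowers t ≃* DihedralGroup m)) ∨ Cfsg.IsQuasiDihedral (R ⧸ Subgroup.zpowers t)) (A : Subgroup R) (hA : Cfsg.IsElementaryAbelian 2 A) (hA8 : Nat.card A = 8) (htA : t ∈ A) : Subgroup.centralizer (A : Set R) = A := by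
  set π := QuotientGroup.mk' (Subgroup.zpowers t) with hπ
  have hker : π.ker ≤ A := by
    rw [hπ, QuotientGroup.ker_mk', Subgroup.zpowers_le]; exact htA
  have hK : IsKleinFour (A.map π) := by
    have hc : Nat.card (A.map π) = 4 := by
      have h1 := (π.ker.subgroupOf A).card_mul_index
      rw [Nat.card_congr (Subgroup.subgroupOfEquivOfLe hker).toEquiv, hA8] at h1
      have h2 : (π.ker.subgroupOf A).index = Nat.card (A.map π) := Subgroup.relIndex_ker A π
      rw [h2, hπ, QuotientGroup.ker_mk', Nat.card_zpowers, ht, ← hπ] at h1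
      omega
    refine ⟨hc, ?_⟩
    have : Nontrivial (A.map π) := Finite.one_lt_card_iff_nontrivial.1 (by omega)
    rw [Monoid.exponent_eq_prime_iff Nat.prime_two]
    rintro ⟨_, a, ha, rfl⟩ hg
    refine orderOf_eq_prime (Subtype.ext ?_) hg
    change π a ^ 2 = 1
    rw [← map_pow, hA.2 a ha, map_one]
  apply le_antisymm
  · intro c hc
    have h1 : π c ∈ Subgroup.centralizer ((A.map π : Subgroup _) : Set (R ⧸ Subgroup.zpowers t)) := by
      rintro _ ⟨a, ha, rfl⟩
      rw [← map_mul, hc a ha, map_mul]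
    have h2 : π c ∈ A.map π := by
      rcases hq with ⟨m, -, ⟨e⟩⟩ | hq
      · obtain ⟨x, y, h⟩ := CL.exists_isDihData_of_equiv (Subgroup.topEquiv.trans e)
        exact h.mem_four_of_mem_centralizer le_top hK (Subgroup.mem_top _) h1
      · obtain ⟨k, x, y, h⟩ := CL.exists_isQDData_top hq
        obtain ⟨i, hi⟩ := h.exists_four_data le_top hK
        exact (h.of_even i).mem_four_of_commute hi (Subgroup.mem_top _)
          (hi.mem_centralizer_iff.1 h1).2
    rw [← Subgroup.comap_map_eq_self hker]
    exact h2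
  · have := hA.1
    exact Subgroup.le_centralizer A

end Cfsg.Agent.S1236
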