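import Cfsg.Statements.S1243
import Cfsg.Agent.TwoFus.StrClosed

set_option autoImplicit false
open Cfsg

namespace Cfsg.Agent.S1243

/-- Let T be a Sylow p-subgroup of the finite group G and W ≤ T a subgroup weakly closed in T. If d and g d g⁻¹ both centralize W, then g d g⁻¹ = h d h⁻¹ for some h ∈ N_G(W). -/
theorem result {G : Type*} [Group G] [Finite G] {p : ℕ} [Fact p.Prime] (T : Sylow p G) (W : Subgroup G) (hW : Cfsg.IsWeaklyClosed W (T : Subgroup G)) (d g : G) (hd : d ∈ Subgroup.centralizer (W : Set G)) (hgd : g * d * g⁻¹ ∈ Subgroup.centralizer (W : Set G)) : ∃ h ∈ Subgroup.normalizer (W : Set G), h * d * h⁻¹ = g * d * g⁻¹ := by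
  have hWp : IsPGroup p W := T.2.to_le hW.1
  set Y := Subgroup.centralizer ({g * d * g⁻¹} : Set G)
  have h1 : W ≤ Y := fun w hw =>
    Subgroup.mem_centralizer_singleton_iff.mpr (hgd w hw)
  have h2 : W.map (MulAut.conj g).toMonoidHom ≤ Y := by
    rintro _ ⟨w, hw, rfl⟩
    rw [Subgroup.mem_centralizer_singleton_iff]
    have := hd w hw
    change g * w * g⁻¹ * (g * d * g⁻¹) = g * d * g⁻¹ * (g * w * g⁻¹)
    calc g * w * g⁻¹ * (g * d * g⁻¹) = g * (w * d) * g⁻¹ := by group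
      _ = _ := by rw [this]; group
  obtain ⟨U, hU, hWU, -, y, hy, h⟩ := CL.StrCl.exists_conj_le_pgroup hWp h1
    (CL.StrCl.isPGroup_map_conj hWp g) h2
  have h3 : W.map (MulAut.conj (y * g)).toMonoidHom = W := by
    apply CL.StrCl.map_conj_eq_of_isPGroup hW hU hWU
    rw [← CL.StrCl.map_conj_map_conj]
    rintro _ ⟨x, hx, rfl⟩
    exact h x hx
  refine ⟨y * g, CL.StrCl.map_conj_eq_iff_mem_normalizer.mp h3, ?_⟩
  have := Subgroup.mem_centralizer_singleton_iff.mp hy
  calc y * g * d * (y * g)⁻¹ = y * (g * d * g⁻¹) * y⁻¹ := by group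
    _ = _ := by rw [this, mul_inv_cancel_right]

end Cfsg.Agent.S1243
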