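import Cfsg.Statements.S1244
import Cfsg.Agent.TwoFus.TransferEval
import Cfsg.Agent.S1243

set_option autoImplicit false
open Cfsg

namespace Cfsg.Agent.S1244

open scoped IsMulCommutative


/-- Let G be a finite group with no subgroup of index 2 whose Sylow 2-subgroup S is commutative, and let R ≤ S be a subgroup whose 2-rank is exactly one less than the 2-rank r of S. Then every involution of S is conjugate, by an element of N_G(S), to an element of R. -/
theorem result {G : Type*} [Group G] [Finite G] (hG : ∀ H : Subgroup G, H.index ≠ 2) (S : Sylow 2 G) (hS : IsMulCommutative (S : Subgroup G)) (r : ℕ) (hr1 : 1 ≤ r) (hSr : Cfsg.PRankLE 2 r (S : Subgroup G) ∧ ¬ Cfsg.PRankLE 2 (r - 1) (S : Subgroup G)) (R : Subgroup G) (hRS : R ≤ S) (hRr : Cfsg.PRankLE 2 (r - 1) R ∧ (r = 1 ∨ ¬ Cfsg.PRankLE 2 (r - 2) R)) (t : G) (ht : orderOf t = 2) (htS : t ∈ S) : ∃ n ∈ Subgroup.normalizer ((S : Subgroup G) : Set G), n * t * n⁻¹ ∈ R := by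
  by_contra hne
  push Not at hne
  -- an elementary abelian subgroup of `R` of order at least `2 ^ (r - 1)`
  obtain ⟨B, hBR, hB2, hBc⟩ : ∃ B : Subgroup G, B ≤ R ∧ (∀ b ∈ B, b ^ 2 = 1) ∧
      2 ^ (r - 1) ≤ Nat.card B := by
    rcases hRr.2 with h | h
    · exact ⟨⊥, bot_le, by simp, by simp [h]⟩
    · unfold Cfsg.PRankLE at h
      push Not at h
      obtain ⟨A, -, hA2, hA⟩ := h
      refine ⟨A.map R.subtype, Subgroup.map_subtype_le _, ?_, ?_⟩
      · rintro _ ⟨a, ha, rfl⟩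
        exact congrArg Subtype.val (hA2 a ha)
      · rw [Subgroup.card_map_of_injective R.subtype_injective]
        have hp : IsPGroup 2 A := fun a => ⟨1, Subtype.ext (by simpa using hA2 a a.2)⟩
        obtain ⟨j, hj⟩ := IsPGroup.iff_card.mp hp
        rw [hj] at hA ⊢
        have := (Nat.pow_lt_pow_iff_right one_lt_two).mp hA
        exact Nat.pow_le_pow_right two_pos (by omega)
  let Ω : Subgroup S := (powMonoidHom 2 : S →* S).ker
  have hΩ : Nat.card Ω ≤ 2 ^ r := hSr.1 Ω inferInstance (fun a ha => ha)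
  have hBΩ : B.subgroupOf S ≤ Ω := fun b hb => Subtype.ext (hB2 b hb)
  have hmul : ∀ u ∈ S, ∀ v ∈ S, u ^ 2 = 1 → v ^ 2 = 1 → u ∉ R → v ∉ R → u * v ∈ R := by
    intro u hu v hv hu2 hv2 huR hvR
    have h1 := ((B.subgroupOf S).subgroupOf Ω).card_mul_index
    rw [Nat.card_congr (Subgroup.subgroupOfEquivOfLe hBΩ).toEquiv,
      Nat.card_congr (Subgroup.subgroupOfEquivOfLe (hBR.trans hRS)).toEquiv] at h1
    have h2 : ((B.subgroupOf S).subgroupOf Ω).index ≤ 2 := by
      by_contra h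
      have h3 : 2 ^ (r - 1) * 3 ≤ 2 ^ r := (Nat.mul_le_mul hBc (by omega)).trans (h1.le.trans hΩ)
      obtain ⟨k, rfl⟩ : ∃ k, r = k + 1 := ⟨r - 1, by omega⟩
      rw [Nat.add_sub_cancel, pow_succ] at h3
      have : 0 < 2 ^ k := by positivity
      omega
    have h3 : ((B.subgroupOf S).subgroupOf Ω).index ≠ 0 := Subgroup.index_ne_zero_of_finite
    have h4 : ((B.subgroupOf S).subgroupOf Ω).index ≠ 1 := by
      intro h
      rw [Subgroup.index_eq_one] at h
      have : (⟨⟨u, hu⟩, Subtype.ext hu2⟩ : Ω) ∈ (B.subgroupOf S).subgroupOf Ω := h ▸ trivial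
      exact huR (hBR this)
    have h5 := (Subgroup.mul_mem_iff_of_index_two (H := (B.subgroupOf S).subgroupOf Ω) (by omega)
      (a := ⟨⟨u, hu⟩, Subtype.ext hu2⟩) (b := ⟨⟨v, hv⟩, Subtype.ext hv2⟩)).mpr
      ⟨fun h => absurd (hBR h) huR, fun h => absurd (hBR h) hvR⟩
    exact hBR h5
  have ht2 : t ^ 2 = 1 := by rw [← ht, pow_orderOf_eq_one]
  have htR : t ∉ R := by simpa using hne 1 (Subgroup.one_mem _)
  have hSC : (S : Subgroup G) ≤ Subgroup.centralizer ((S : Subgroup G) : Set G) :=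
    Subgroup.le_centralizer_iff_isMulCommutative.mpr hS
  have hW : Cfsg.IsWeaklyClosed (S : Subgroup G) (S : Subgroup G) := ⟨le_rfl, fun g hg =>
    Subgroup.eq_of_le_of_card_ge hg (CL.StrCl.card_map_conj _ g).ge⟩
  let φ : S →* S ⧸ R.subgroupOf S := QuotientGroup.mk' _
  have hidx : Nat.Coprime 2 (S : Subgroup G).index :=
    (Nat.Prime.coprime_iff_not_dvd Nat.prime_two).mpr S.not_dvd_index
  apply CL.TwoFus.transfer_ne_one_of_control φ hidx ⟨t, htS⟩ (n := 1) (Subtype.ext ht2)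
  · intro h
    exact htR ((QuotientGroup.eq_one_iff (N := R.subgroupOf S) ⟨t, htS⟩).mp h)
  · intro k a ha
    rcases Nat.even_or_odd' k with ⟨j, rfl | rfl⟩
    · have e : t ^ (2 * j) = 1 := by rw [pow_mul, ht2, one_pow]
      have e1 : (⟨_, ha⟩ : S) = 1 := Subtype.ext (by simp [e])
      have e2 : (⟨t, htS⟩ : S) ^ (2 * j) = 1 := Subtype.ext e
      rw [e1, ← map_pow, e2]
    · have e : t ^ (2 * j + 1) = t := by rw [pow_succ, pow_mul, ht2, one_pow, one_mul]
      have e2 : (⟨t, htS⟩ : S) ^ (2 * j + 1) = ⟨t, htS⟩ := Subtype.ext e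
      rw [← map_pow, e2]
      have ha' : a⁻¹ * t * a⁻¹⁻¹ ∈ S := by
        have := ha
        simp only [e] at this
        rwa [inv_inv]
      obtain ⟨n, hn, hnt⟩ := Cfsg.Agent.S1243.result S S hW t a⁻¹ (hSC htS) (hSC ha')
      have h1 := hmul _ ha' t htS (by rw [conj_pow, ht2]; simp) ht2 (hnt ▸ hne n hn) htR
      rw [← mul_inv_eq_one, ← map_inv, ← map_mul]
      apply (QuotientGroup.eq_one_iff (N := R.subgroupOf S) _).mpr
      rw [Subgroup.mem_subgroupOf]
      have hti : t⁻¹ = t := CL.Isol.inv_eq_of_orderOf_two ht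
      simpa [e, hti] using h1
  · have htop : Cfsg.pResidual 2 G = ⊤ := CL.Transfer.pResidual_eq_top_iff.mpr (fun N _ => hG N)
    have := CL.Transfer.pResidual_le_ker (MonoidHom.transfer φ) (S.2.to_quotient _)
    exact this (htop ▸ Subgroup.mem_top _)

end Cfsg.Agent.S1244
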