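import Cfsg.Statements.S1247
import Cfsg.Agent.Base
import Cfsg.Agent.PLoc.BenderMax

set_option autoImplicit false
open Cfsg

namespace Cfsg.Agent.S1247

open Subgroup CL.PLoc

/-- Let G be a non-abelian finite simple group, A a maximal subgroup, F = F*(A) its generalized Fitting subgroup (viewed in G), and S ≤ F a subgroup subnormal in F with C_F(S) ≤ S. Let B be any subgroup of G containing S. Then (a) for every prime q not dividing |F(A)|, O_q(B) ∩ A = 1; and (b) for every prime p dividing |F(A)|, O_p(B) commutes elementwise with the subgroup of F generated by its elements of order prime to p. -/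
theorem result {G : Type*} [Group G] [Finite G] [IsSimpleGroup G] (hna : ¬ IsMulCommutative G) (A : Subgroup G) (hA : IsCoatom A) (S : Subgroup G) (hSF : S ≤ (Cfsg.generalizedFittingSubgroup ↥A).map A.subtype) (hSsn : (S.subgroupOf ((Cfsg.generalizedFittingSubgroup ↥A).map A.subtype)).IsSubnormal) (hSC : (Cfsg.generalizedFittingSubgroup ↥A).map A.subtype ⊓ Subgroup.centralizer (S : Set G) ≤ S) (B : Subgroup G) (hSB : S ≤ B) : (∀ q : ℕ, q.Prime → ¬ q ∣ Nat.card (Cfsg.fittingSubgroup ↥A) → (Cfsg.pCore q ↥B).map B.subtype ⊓ A = ⊥) ∧ (∀ p : ℕ, p.Prime → p ∣ Nat.card (Cfsg.fittingSubgroup ↥A) → ∀ x ∈ (Cfsg.pCore p ↥B).map B.subtype, ∀ y ∈ (Cfsg.pResidual p ↥(Cfsg.generalizedFittingSubgroup ↥A)).map ((Cfsg.generalizedFittingSubgroup ↥A).subtype) , x * (A.subtype y) = (A.subtype y) * x) := by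
  have h : LargeIn S A := ⟨CL.SubnIn.iff_subgroupOf.2 ⟨hSF, hSsn⟩, hSC⟩
  have hcard : Nat.card (fittingOf A) = Nat.card (fittingSubgroup A) :=
    (Nat.card_congr (equivMapOfInjective _ _ A.subtype_injective).toEquiv).symm
  refine ⟨fun q hq hq' => ?_, fun p hp hp' x hx y hy => ?_⟩
  · have : Fact q.Prime := ⟨hq⟩
    refine h.pC_inf_eq_bot ?_ hSB
    by_contra h0
    exact hq' (hcard ▸ pC_ne_bot_iff.1 h0)
  · have : Fact p.Prime := ⟨hp⟩
    have h0 : pC p A ≠ ⊥ := pC_ne_bot_iff.2 (hcard ▸ hp')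
    have key : pResidual p (generalizedFittingSubgroup A) ≤
        ((centralizer ((pC p B : Subgroup G) : Set G)).comap A.subtype).comap
          (generalizedFittingSubgroup A).subtype := by
      refine (closure_le _).2 fun z hz => ?_
      refine h.mem_centralizer_of_coprime hA h0 (isPGroup_pC B) (hSB.trans (le_normalizer_pC B))
        ⟨z, z.2, rfl⟩ ?_
      simpa using hz
    obtain ⟨z, hz, rfl⟩ := hy
    exact key hz x hx

end Cfsg.Agent.S1247
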