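import Cfsg.Agent.Base
import Cfsg.Statements.S1248
import Cfsg.Agent.TwoFus.U3Transport

set_option autoImplicit false
open Cfsg

namespace Cfsg.Agent.S1248

/-- Let F be a field with 16 elements and S a Sylow 2-subgroup of PSU(3) over F (the unitary group U₃(4)). Then |S| = 64; the centre Z(S) is a Klein four-group and coincides with the subgroup generated by the involutions of S and with the derived subgroup; and every element of S ⧸ Z(S) squares to the identity, S ⧸ Z(S) having order 16. -/
theorem result {F : Type*} [Field F] [Fintype F] (hF : Fintype.card F = 16) (S : Sylow 2 (Cfsg.PSU 3 F 4)) : Nat.card S = 64 ∧ IsKleinFour (Subgroup.center (S : Subgroup (Cfsg.PSU 3 F 4))) ∧ Subgroup.center (S : Subgroup (Cfsg.PSU 3 F 4)) = Subgroup.closure {x : (S : Subgroup (Cfsg.PSU 3 F 4)) | orderOf x = 2} ∧ Subgroup.center (S : Subgroup (Cfsg.PSU 3 F 4)) = commutator (S : Subgroup (Cfsg.PSU 3 F 4)) ∧ Nat.card ((S : Subgroup (Cfsg.PSU 3 F 4)) ⧸ Subgroup.center (S : Subgroup (Cfsg.PSU 3 F 4))) = 16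 ∧ ∀ x : (S : Subgroup (Cfsg.PSU 3 F 4)) ⧸ Subgroup.center (S : Subgroup (Cfsg.PSU 3 F 4)), x ^ 2 = 1 := by
  obtain ⟨h1, h2, -, h4, h5, h6⟩ := CL.U3.sylow_psu_structure (n := 2) le_rfl hF S
  change Nat.card S = 64 at h1
  change Nat.card (Subgroup.center (S : Subgroup (Cfsg.PSU 3 F 4))) = 4 at h2
  refine ⟨h1, ⟨h2, ?_⟩, ?_, h6.symm, ?_, ?_⟩
  · have hnt : Nontrivial (Subgroup.center (S : Subgroup (Cfsg.PSU 3 F 4))) :=
      Finite.one_lt_card_iff_nontrivial.1 (by omega)
    rw [Monoid.exponent_eq_prime_iff Nat.prime_two]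
    intro g hg
    apply orderOf_eq_prime _ hg
    apply Subtype.ext
    rw [pow_two]
    exact (h4 g.1).1 g.2
  · apply le_antisymm
    · intro x hx
      by_cases hx1 : x = 1
      · rw [hx1]; exact one_mem _
      · exact Subgroup.subset_closure (orderOf_eq_prime (by rw [pow_two]; exact (h4 x).1 hx) hx1)
    · rw [Subgroup.closure_le]
      intro x hx
      apply (h4 x).2
      have := pow_orderOf_eq_one x
      rwa [show orderOf x = 2 from hx, pow_two] at this
  · have := (Subgroup.center (S : Subgroup (Cfsg.PSU 3 F 4))).index_mul_card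
    rw [h2, h1] at this
    change (Subgroup.center (S : Subgroup (Cfsg.PSU 3 F 4))).index = 16
    omega
  · intro x
    obtain ⟨x, rfl⟩ := QuotientGroup.mk_surjective x
    rw [pow_two, ← QuotientGroup.mk_mul, QuotientGroup.eq_one_iff]
    exact h5 x

end Cfsg.Agent.S1248
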