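import Cfsg.Statements.S1250
import Cfsg.Agent.TwoFus.StrClosed

set_option autoImplicit false
open Cfsg

namespace Cfsg.Agent.S1250

/-- Let S be a Sylow p-subgroup of the finite group G, A ≤ S strongly closed in S, and N a normal subgroup. Then the image of A in G ⧸ N is strongly closed in the image of S (which is a Sylow p-subgroup of G ⧸ N). -/
theorem result {G : Type*} [Group G] [Finite G] {p : ℕ} [Fact p.Prime] (S : Sylow p G) (A : Subgroup G) (hA : Cfsg.IsStronglyClosed A (S : Subgroup G)) (N : Subgroup G) [N.Normal] : Cfsg.IsStronglyClosed (A.map (QuotientGroup.mk' N)) ((S : Subgroup G).map (QuotientGroup.mk' N)) := by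
  refine ⟨Subgroup.map_mono hA.1, ?_⟩
  rintro _ ⟨a, ha, rfl⟩ g ⟨s, hs, hsg⟩
  obtain ⟨g, rfl⟩ := QuotientGroup.mk'_surjective N g
  have hmem : g * a * g⁻¹ ∈ N ⊔ (S : Subgroup G) := by
    have h1 : (g * a * g⁻¹) * s⁻¹ ∈ N := by
      rw [← QuotientGroup.eq_one_iff]
      change QuotientGroup.mk' N _ = 1
      simp only [map_mul, map_inv]
      rw [hsg, mul_inv_cancel]
    have := Subgroup.mul_mem_sup h1 hs
    simpa using this
  have hp : IsPGroup p (Subgroup.zpowers (g * a * g⁻¹)) :=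
    CL.StrCl.isPGroup_zpowers_of_mem (CL.StrCl.isPGroup_map_conj S.2 g)
      (CL.StrCl.conj_mem_map_conj g (hA.1 ha))
  obtain ⟨y, hy, h⟩ := CL.StrCl.exists_conj_le_sylow_of_le S le_sup_right hp
    (by simpa using hmem)
  have h1 := h _ (Subgroup.mem_zpowers _)
  have e : y * (g * a * g⁻¹) * y⁻¹ = (y * g) * a * (y * g)⁻¹ := by group
  rw [e] at h1
  have h2 := hA.2 a ha _ h1
  have hy' : y ∈ ((N ⊔ (S : Subgroup G) : Subgroup G) : Set G) := hy
  rw [Subgroup.normal_mul] at hy'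
  obtain ⟨n, hn, t, ht, rfl⟩ := hy'
  have h3 : t⁻¹ * ((n * t * g) * a * (n * t * g)⁻¹) * t⁻¹⁻¹ ∈ A :=
    hA.2 _ h2 _ (Subgroup.mul_mem _ (Subgroup.mul_mem _ (Subgroup.inv_mem _ ht) h1)
      (by rw [inv_inv]; exact ht))
  refine ⟨_, h3, ?_⟩
  have hn1 : QuotientGroup.mk' N n = 1 := (QuotientGroup.eq_one_iff n).mpr hn
  simp only [map_mul, map_inv, hn1]
  group

end Cfsg.Agent.S1250
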