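import Cfsg.Statements.S1253
import Cfsg.Agent.TwoFus.IsolSylow

set_option autoImplicit false
open Cfsg

namespace Cfsg.Agent.S1253

/-- Let z be an isolated involution of the finite group G with centralizer C, p an odd prime and P a Sylow p-subgroup of G normalized by z. Then P ∩ C has p-power-free index in C (it is a Sylow p-subgroup of C), and |P : C_P(z)| equals the number of elements x ∈ P with z x z⁻¹ = x⁻¹. -/
theorem result {G : Type*} [Group G] [Finite G] (z : G) (hz : Cfsg.IsIsolatedInvolution z) {p : ℕ} [Fact p.Prime] (hp : p ≠ 2) (P : Sylow p G) (hzP : z ∈ Subgroup.normalizer ((P : Subgroup G) : Set G)) : ¬ p ∣ ((P : Subgroup G) ⊓ Subgroup.centralizer ({z} : Set G)).relIndex (Subgroup.centralizer ({z} : Set G)) ∧ ((P : Subgroup G) ⊓ Subgroup.centralizer ({z} : Set G)).relIndex (P : Subgroup G) = Nat.card {x : G // x ∈ P ∧ z * x * z⁻¹ = x⁻¹} := by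
  set C := Subgroup.centralizer ({z} : Set G) with hC
  constructor
  · obtain ⟨R₀⟩ : Nonempty (Sylow p C) := inferInstance
    set R : Subgroup G := (R₀ : Subgroup C).map C.subtype with hR
    have hRC : R ≤ C := Subgroup.map_subtype_le _
    have hzR : z ∈ Subgroup.normalizer (R : Set G) := by
      apply Subgroup.mem_normalizer_fintype
      intro x hx
      have := Subgroup.mem_centralizer_singleton_iff.mp (hRC hx)
      rw [← this, mul_inv_cancel_right]
      exact hx
    obtain ⟨Q, hRQ, hzQ⟩ := CL.Isol.exists_sylow_ge hz (R₀.2.map C.subtype) hzR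
    obtain ⟨g, hg⟩ := CL.StrCl.exists_conj_le_sylow P Q.2
    have hgQ : (Q : Subgroup G).map (MulAut.conj g).toMonoidHom = P := by
      apply Subgroup.eq_of_le_of_card_ge
      · rintro _ ⟨x, hx, rfl⟩
        exact hg x hx
      · rw [CL.StrCl.card_map_conj, P.card_eq_multiplicity, Q.card_eq_multiplicity]
    have hz' : g * z * g⁻¹ ∈ Subgroup.normalizer ((P : Subgroup G) : Set G) := by
      rw [← CL.StrCl.map_conj_eq_iff_mem_normalizer] at hzQ ⊢
      rw [← hgQ, CL.StrCl.map_conj_map_conj, inv_mul_cancel_right, ← CL.StrCl.map_conj_map_conj,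
        hzQ]
    obtain ⟨n, hn, hnz⟩ := CL.Isol.exists_conj_mem hz (isConj_iff.mpr ⟨g, rfl⟩) (IsConj.refl z)
      hz' hzP
    have hc : n * g ∈ C := by
      rw [Subgroup.mem_centralizer_singleton_iff]
      calc n * g * z = n * (g * z * g⁻¹) * n⁻¹ * (n * g) := by group
        _ = _ := by rw [hnz]
    have hle : R.map (MulAut.conj (n * g)).toMonoidHom ≤ (P : Subgroup G) ⊓ C := by
      rintro _ ⟨x, hx, rfl⟩
      refine ⟨?_, C.mul_mem (C.mul_mem hc (hRC hx)) (C.inv_mem hc)⟩
      have := (Subgroup.mem_normalizer_iff.mp hn _).mp (hg x (hRQ hx))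
      have e : (MulAut.conj (n * g)).toMonoidHom x = n * (g * x * g⁻¹) * n⁻¹ := by
        simp [mul_assoc]
      rw [e]; exact this
    have h1 := Subgroup.card_dvd_of_le hle
    rw [CL.StrCl.card_map_conj, hR, Subgroup.card_map_of_injective C.subtype_injective] at h1
    intro hdvd
    apply R₀.not_dvd_index
    have h2 := (R₀ : Subgroup C).card_mul_index
    have h3 := (((P : Subgroup G) ⊓ C).subgroupOf C).card_mul_index
    rw [Nat.card_congr (Subgroup.subgroupOfEquivOfLe inf_le_right).toEquiv] at h3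
    obtain ⟨m, hm⟩ := h1
    rw [hm, ← h2, mul_assoc] at h3
    rw [← Nat.eq_of_mul_eq_mul_left Nat.card_pos h3]
    exact Dvd.dvd.mul_left hdvd m
  · have h1 := CL.Isol.card_eq_card_inverted_mul hz hzP
    have h3 := (((P : Subgroup G) ⊓ C).subgroupOf P).card_mul_index
    rw [Nat.card_congr (Subgroup.subgroupOfEquivOfLe inf_le_left).toEquiv, h1, mul_comm] at h3
    have h4 := Nat.eq_of_mul_eq_mul_right Nat.card_pos h3
    rw [Subgroup.relIndex, h4]
    apply Nat.card_congr
    apply Equiv.subtypeEquivRight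
    intro k
    refine ⟨fun h => ⟨h.1, h.2.2⟩, fun h => ⟨h.1, ?_, h.2⟩⟩
    obtain ⟨j, hj⟩ := P.2 ⟨k, h.1⟩
    exact Odd.of_dvd_nat (((Fact.out : p.Prime).odd_of_ne_two hp).pow)
      (orderOf_dvd_of_pow_eq_one (congrArg Subtype.val hj : k ^ p ^ j = 1))

end Cfsg.Agent.S1253
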