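import Cfsg.Statements.S1254
import Cfsg.Agent.TwoFus.DihFus

set_option autoImplicit false
open Cfsg

namespace Cfsg.Agent.S1254

/-- Let X be a finite group whose Sylow 2-subgroup S is dihedral (of order at least 4). Then X has a normal 2-complement if and only if, for every Klein four-subgroup U ≤ S, the normalizer N_X(U) is generated by C_X(U) and N_S(U). -/
theorem result {X : Type*} [Group X] [Finite X] (S : Sylow 2 X) (m : ℕ) (hm : 2 ≤ m) (eS : (S : Subgroup X) ≃* DihedralGroup m) : Cfsg.HasNormalPComplement 2 X ↔ ∀ U : Subgroup X, U ≤ S → IsKleinFour U → Subgroup.normalizer (U : Set X) = Subgroup.centralizer (U : Set X) ⊔ ((S : Subgroup X) ⊓ Subgroup.normalizer (U : Set X)) := by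
  obtain ⟨x, y, h⟩ := CL.exists_isDihData_of_equiv eS
  constructor
  · intro hN U hUS hU
    have hfin : Finite U := inferInstance
    apply le_antisymm
    · intro g hg
      obtain ⟨s, hs, h1⟩ := CL.Transfer.exists_sylow_conj_of_hasNormalPComplement hN S g
      have h2 : ∀ a ∈ U, s * a * s⁻¹ = g * a * g⁻¹ := fun a ha =>
        h1 a (hUS ha) (hUS ((Subgroup.mem_normalizer_iff.1 hg a).1 ha))
      have h3 : s ∈ Subgroup.normalizer (U : Set X) := by
        apply Subgroup.mem_normalizer_fintype
        intro a ha
        rw [h2 a ha]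
        exact (Subgroup.mem_normalizer_iff.1 hg a).1 ha
      have h4 : s⁻¹ * g ∈ Subgroup.centralizer (U : Set X) := by
        intro a ha
        calc a * (s⁻¹ * g) = s⁻¹ * (s * a * s⁻¹) * g := by group
          _ = _ := by rw [h2 a ha]; group
      have h5 := mul_mem (Subgroup.mem_sup_right (S := Subgroup.centralizer (U : Set X))
        (T := (S : Subgroup X) ⊓ Subgroup.normalizer (U : Set X)) ⟨hs, h3⟩)
        (Subgroup.mem_sup_left h4)
      simpa using h5
    · exact sup_le (Subgroup.centralizer_le_normalizer _) inf_le_right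
  · intro hU
    obtain ⟨z, hzx, hz2, hz1, -⟩ := h.exists_z hm
    refine h.hasNormalPComplement hzx hz2 hz1 fun i hi => ?_
    have h' := h.of_outer i
    have hT := h'.isFourData hzx hz2 hz1
    obtain ⟨n, hn, hnz⟩ := h'.exists_move_z hm hzx hT hi
    rw [hU _ (h'.four_le hzx hT) hT.isKleinFour] at hn
    have hle : Subgroup.centralizer ((Subgroup.closure ({z, x ^ i * y} : Set X) : Subgroup X) : Set X) ⊔
        ((S : Subgroup X) ⊓ Subgroup.normalizer
          ((Subgroup.closure ({z, x ^ i * y} : Set X) : Subgroup X) : Set X)) ≤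
        Subgroup.centralizer {z} := by
      refine sup_le (fun c hc => ?_) (fun s hs => ?_)
      · exact Subgroup.mem_centralizer_singleton_iff.2 (hT.mem_centralizer_iff.1 hc).1.symm
      · exact Subgroup.mem_centralizer_singleton_iff.2 (h.commute_z hzx hz2 hs.1)
    apply hnz
    rw [Subgroup.mem_centralizer_singleton_iff.1 (hle hn)]
    group

end Cfsg.Agent.S1254
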