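import Cfsg.Statements.S1255
import Cfsg.Agent.TwoFus.DihFus

set_option autoImplicit false
open Cfsg

namespace Cfsg.Agent.S1255

/-- Let X be a finite group whose Sylow 2-subgroup S is dihedral of order 2m ≥ 4. Then X has no subgroup of index 2 and no isolated involution if and only if either all involutions of X are conjugate, or for every Klein four-subgroup U ≤ S the index |N_X(U) : C_X(U)| equals 3 when |S| = 4 and equals 6 when |S| > 4. -/
theorem result {X : Type*} [Group X] [Finite X] (S : Sylow 2 X) (m : ℕ) (hm : 2 ≤ m) (eS : (S : Subgroup X) ≃* DihedralGroup m) : ((∀ H : Subgroup X, H.index ≠ 2) ∧ (∀ z : X, ¬ Cfsg.IsIsolatedInvolution z)) ↔ ((∀ a b : X, orderOf a = 2 → orderOf b = 2 → IsConj a b) ∨ (∀ U : Subgroup X, U ≤ S → IsKleinFour U → (Subgroup.centralizer (U : Set X)).relIndex (Subgroup.normalizer (U : Set X)) = (if Nat.card S = 4 then 3 else 6))) := by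
  obtain ⟨x, y, h⟩ := CL.exists_isDihData_of_equiv eS
  obtain ⟨z, hzx, hz2, hz1, -⟩ := h.exists_z hm
  have hT := h.isFourData hzx hz2 hz1
  have hzo : orderOf z = 2 := orderOf_eq_prime (by rw [pow_two, hz2]) hz1
  constructor
  · rintro ⟨hG, -⟩
    exact Or.inl fun a b ha hb => (h.isConj_of_index_ne_two hzx hz2 hz1 hG ha).symm.trans
      (h.isConj_of_index_ne_two hzx hz2 hz1 hG hb)
  · intro hP
    have hP1 : ∀ a b : X, orderOf a = 2 → orderOf b = 2 → IsConj a b := by
      rcases hP with hP | hP
      · exact hP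
      · have key : ∀ a : X, orderOf a = 2 → IsConj z a := by
          intro a ha
          rcases h.involution_isConj hzx hz2 hz1 ha with h1 | ⟨i, h1⟩
          · exact h1
          · have h' := h.of_outer i
            have hT' := h'.isFourData hzx hz2 hz1
            obtain ⟨g, -, hg⟩ := hT'.exists_conj_of_three_dvd (by
              rw [hP _ (h'.four_le hzx hT') hT'.isKleinFour]
              split_ifs <;> norm_num)
            exact (isConj_iff.2 ⟨g, hg⟩).trans h1
        exact fun a b ha hb => (key a ha).symm.trans (key b hb)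
    constructor
    · intro H hH
      have hn : H.Normal := Subgroup.normal_of_index_eq_two hH
      have hiff : ∀ a : X, orderOf a = 2 → (a ∈ H ↔ z ∈ H) := by
        intro a ha
        obtain ⟨c, hc⟩ := isConj_iff.1 (hP1 z a hzo ha)
        rw [← hc, hn.mem_comm_iff]
        simp
      have hzH : z ∈ H := by
        have h1 := hiff y h.orderOf_y
        have h2 := hiff (z * y) (orderOf_eq_prime (by rw [pow_two, hT.ab_sq]) hT.ab_ne_one)
        rw [Subgroup.mul_mem_iff_of_index_two hH, h1] at h2
        simpa using h2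
      have hy := (hiff y h.orderOf_y).2 hzH
      have hxy := (hiff _ (h.orderOf_outer 1)).2 hzH
      rw [zpow_one, mul_mem_cancel_right hy] at hxy
      have := Subgroup.index_dvd_of_le (h.le_of_mem hxy hy)
      rw [hH] at this
      exact S.not_dvd_index this
    · rintro t ⟨ht, hiso⟩
      obtain ⟨c, hc⟩ := isConj_iff.1 (hP1 t z ht hzo)
      obtain ⟨d, hd⟩ := isConj_iff.1 (hP1 t y ht h.orderOf_y)
      have h1 : c⁻¹ * d * t * (c⁻¹ * d)⁻¹ = c⁻¹ * y * c := by rw [← hd]; group
      have h2 : t = c⁻¹ * z * c := by rw [← hc]; group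
      have := hiso (c⁻¹ * d) (by
        rw [h1, h2]
        calc c⁻¹ * z * c * (c⁻¹ * y * c) = c⁻¹ * (z * y) * c := by group
          _ = c⁻¹ * y * c * (c⁻¹ * z * c) := by rw [hT.comm]; group)
      rw [h1, h2] at this
      exact hT.ne (by simpa using this.symm)

end Cfsg.Agent.S1255
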