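import Cfsg.Statements.S1256
import Cfsg.Agent.TwoFus.DihFus

set_option autoImplicit false
open Cfsg

namespace Cfsg.Agent.S1256

/-- Let X be a finite group whose Sylow 2-subgroup S is dihedral of order 2m ≥ 4. If |S| = 4, any two Klein four-subgroups of X are conjugate; if |S| > 4, there are Klein four-subgroups U₁, U₂ of X that are not conjugate, and every Klein four-subgroup of X is conjugate to U₁ or to U₂. -/
theorem result {X : Type*} [Group X] [Finite X] (S : Sylow 2 X) (m : ℕ) (hm : 2 ≤ m) (eS : (S : Subgroup X) ≃* DihedralGroup m) : (Nat.card S = 4 → ∀ U V : Subgroup X, IsKleinFour U → IsKleinFour V → (∃ x : X, U.map (MulAut.conj x).toMonoidHom = V)) ∧ (4 < Nat.card S → ∃ U₁ U₂ : Subgroup X, IsKleinFour U₁ ∧ IsKleinFour U₂ ∧ ¬ (∃ x : X, U₁.map (MulAut.conj x).toMonoidHom = U₂) ∧ ∀ V : Subgroup X, IsKleinFour V → (∃ x : X, V.map (MulAut.conj x).toMonoidHom = U₁) ∨ (∃ x : X, V.map (MulAut.conj x).toMonoidHom = U₂)) := by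
  obtain ⟨x, y, h⟩ := CL.exists_isDihData_of_equiv eS
  obtain ⟨z, hzx, hz2, hz1, hcase⟩ := h.exists_z hm
  have hcard : Nat.card S = 2 * m := by
    rw [← h.ord]; exact h.card_eq
  constructor
  · intro h4 U V hU hV
    have key : ∀ U : Subgroup X, IsKleinFour U →
        ∃ c : X, U.map (MulAut.conj c).toMonoidHom = S := by
      intro U hU
      obtain ⟨c, hc⟩ := CL.Transfer.exists_conj_le_sylow S (CL.TF.isPGroup_of_isKleinFour hU)
      refine ⟨c, Subgroup.eq_of_le_of_card_ge hc ?_⟩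
      rw [(CL.TF.isKleinFour_map_conj hU c).card_four]
      exact h4.le
    obtain ⟨c, hc⟩ := key U hU
    obtain ⟨d, hd⟩ := key V hV
    refine ⟨d⁻¹ * c, ?_⟩
    rw [← CL.TF.map_conj_map_conj, hc, ← hd, CL.TF.map_conj_map_conj, inv_mul_cancel]
    exact CL.Transfer.conj_one_smul V
  · intro h4
    obtain ⟨⟨h4m, u, hu, huz⟩, hzsq⟩ := hcase.resolve_left (fun h1 => by omega)
    have h' : CL.IsDihData (S : Subgroup X) m x (x * y) := by simpa using h.of_outer 1
    have hT₁ := h.isFourData hzx hz2 hz1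
    have hT₂ := h'.isFourData hzx hz2 hz1
    refine ⟨_, _, hT₁.isKleinFour, hT₂.isKleinFour, ?_, ?_⟩
    · rintro ⟨g, hg⟩
      have hmem : ∀ t ∈ Subgroup.closure ({z, y} : Set X),
          g * t * g⁻¹ ∈ Subgroup.closure ({z, x * y} : Set X) := fun t ht =>
        hg ▸ Subgroup.mem_map_of_mem _ ht
      -- we may assume that `g` centralizes `z`
      obtain ⟨n, hn, hnz⟩ : ∃ n ∈ Subgroup.normalizer
          ((Subgroup.closure ({z, x * y} : Set X) : Subgroup X) : Set X),
          n * z * n⁻¹ = g * z * g⁻¹ := by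
        have hrel := hT₂.relIndex_cases (h'.u_mem_normalizer hzx hT₂ hu huz)
          (h.conj_z hzx hz2 (h.zpowers_le hu)) (by rw [h'.u_conj hu huz]; exact hT₂.ab_ne_b)
        have hmove : IsConj z (x * y) → (∃ g ∈ Subgroup.normalizer
            ((Subgroup.closure ({z, x * y} : Set X) : Subgroup X) : Set X), g * z * g⁻¹ = x * y) ∧
            ∃ g ∈ Subgroup.normalizer
            ((Subgroup.closure ({z, x * y} : Set X) : Subgroup X) : Set X),
              g * z * g⁻¹ = z * (x * y) := by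
          intro hc
          obtain ⟨n, hn, hnz⟩ := h'.exists_move_z hm hzx hT₂ hc
          exact (hrel.resolve_left (fun h1 => hnz (h1.2 n hn))).2
        rcases (hT₂.mem _).1 (hmem z hT₁.a_mem) with h1 | h1 | h1 | h1
        · exact absurd (by simpa using h1) hz1
        · exact ⟨1, one_mem _, by simp [h1]⟩
        · rw [h1]; exact (hmove (isConj_iff.2 ⟨g, h1⟩)).1
        · rw [h1]
          refine (hmove ((isConj_iff.2 ⟨g, h1⟩).trans ?_)).2
          exact (isConj_iff.2 ⟨u, h'.u_conj hu huz⟩).symm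
      obtain ⟨s, hs, h1⟩ := h.exists_conj_of_commute hzx hz2 hz1 (g := n⁻¹ * g) (by
        calc n⁻¹ * g * z = n⁻¹ * (g * z * g⁻¹) * g := by group
          _ = _ := by rw [← hnz]; group)
      have h2 : n⁻¹ * g * y * (n⁻¹ * g)⁻¹ ∈ Subgroup.closure ({z, x * y} : Set X) := by
        have := (Subgroup.mem_normalizer_iff.1 (inv_mem hn) _).1 (hmem y hT₁.b_mem)
        convert this using 1
        group
      rw [← h1 y h.y_mem (h'.four_le hzx hT₂ h2)] at h2
      obtain ⟨j, hj⟩ : ∃ j : ℤ, s * y * s⁻¹ = x ^ (2 * j) * y := by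
        obtain ⟨i, rfl | rfl⟩ := (h.mem s).1 hs
        · exact ⟨i, by simpa using h.conj_mul 0 i⟩
        · exact ⟨i, by simpa [mul_assoc] using h.conj_mul 0 i⟩
      obtain ⟨l, hl⟩ := CL.IsQDData.mem_zpowers_sq_iff.1 hzsq
      have hpar : ∀ a b : ℤ, x ^ (2 * a) ≠ x ^ (2 * b + 1) := by
        intro a b he
        rw [zpow_eq_zpow_iff_modEq, h.ord, Int.modEq_iff_dvd] at he
        have h3 : (2 : ℤ) ∣ 2 * b + 1 - 2 * a :=
          Dvd.dvd.trans (by exact_mod_cast Dvd.dvd.trans (by norm_num) h4m) he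
        omega
      rw [hj] at h2
      rcases (hT₂.mem _).1 h2 with h3 | h3 | h3 | h3
      · exact h.outer_ne_one _ h3
      · exact h.zpow_mul_notMem _ (h3 ▸ hzx)
      · exact hpar j 0 (by simpa using h3)
      · rw [hl, ← mul_assoc, mul_left_inj] at h3
        exact hpar j l (by rw [h3]; group)
    · intro V hV
      obtain ⟨c, hc⟩ := CL.Transfer.exists_conj_le_sylow S (CL.TF.isPGroup_of_isKleinFour hV)
      obtain ⟨i, hi⟩ := h.exists_four_data' hzx hz2 hz1 hc (CL.TF.isKleinFour_map_conj hV c)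
      have key : ∀ j : ℤ, CL.IsFourData (V.map (MulAut.conj (x ^ j * c)).toMonoidHom) z
          (x ^ (i + 2 * j) * y) := by
        intro j
        have := hi.map (MulAut.conj (x ^ j)).toMonoidHom (MulAut.conj _).injective
        simp only [MulEquiv.coe_toMonoidHom, MulAut.conj_apply] at this
        rw [h.conj_z hzx hz2 (h.zpow_mem' j), h.conj_mul] at this
        rwa [← CL.TF.map_conj_map_conj]
      obtain ⟨j, rfl | rfl⟩ := Int.even_or_odd' i
      · exact Or.inl ⟨_, (key (-j)).eq_of (by simpa using hT₁)⟩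
      · refine Or.inr ⟨_, (key (-j)).eq_of ?_⟩
        rwa [show 2 * j + 1 + 2 * -j = 1 by ring, zpow_one]

end Cfsg.Agent.S1256
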