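import Cfsg.Statements.S1258
import Cfsg.Agent.Base
import Cfsg.Agent.Sig.CompLayer

set_option autoImplicit false
open Cfsg

namespace Cfsg.Agent.S1258

/-- If the central quotient of a finite group X is non-abelian simple, then X = X' Z(X) and the commutator subgroup X' is quasisimple. -/
theorem result {X : Type*} [Group X] [Finite X] (hs : IsSimpleGroup (X ⧸ Subgroup.center X)) (hna : ¬ IsMulCommutative (X ⧸ Subgroup.center X)) : commutator X ⊔ Subgroup.center X = ⊤ ∧ Cfsg.IsQuasisimple ↥(commutator X) := by
  have hq : IsQuasisimple (X ⧸ Subgroup.center X) := CL.Sig.quasisimple_of_isSimpleGroup hna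
  have hsurj := QuotientGroup.mk'_surjective (Subgroup.center X)
  have hmap : (commutator X).map (QuotientGroup.mk' (Subgroup.center X)) = ⊤ := by
    rw [commutator_def, Subgroup.map_commutator, Subgroup.map_top_of_surjective _ hsurj]
    exact hq.1.commutator_eq_top
  have h1 : commutator X ⊔ Subgroup.center X = ⊤ := by
    have := congrArg (Subgroup.comap (QuotientGroup.mk' (Subgroup.center X))) hmap
    rwa [Subgroup.comap_map_eq, QuotientGroup.ker_mk', Subgroup.comap_top] at this
  refine ⟨h1, ?_⟩
  have hp : Group.IsPerfect (commutator X) := by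
    rw [Subgroup.isPerfect_iff]
    refine le_antisymm (Subgroup.commutator_le_self _) ?_
    conv_lhs => rw [commutator_def, ← h1]
    refine CL.Sig.commutator_sup_left_le (CL.Sig.commutator_sup_right_le le_rfl ?_) ?_
    · rw [Subgroup.commutator_center_right]; exact bot_le
    · rw [Subgroup.commutator_center_left]; exact bot_le
  refine CL.Sig.quasisimple_of_central_ker
    ((QuotientGroup.mk' (Subgroup.center X)).comp (commutator X).subtype) ?_ ?_ hq
  · intro y
    have : y ∈ (commutator X).map (QuotientGroup.mk' (Subgroup.center X)) := by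
      rw [hmap]; exact Subgroup.mem_top _
    obtain ⟨x, hx, rfl⟩ := this
    exact ⟨⟨x, hx⟩, rfl⟩
  · intro x hx
    have hx' : (x : X) ∈ Subgroup.center X := by
      rw [← QuotientGroup.ker_mk' (Subgroup.center X)]; exact hx
    exact Subgroup.mem_center_iff.mpr fun y => Subtype.ext (Subgroup.mem_center_iff.mp hx' y)

end Cfsg.Agent.S1258
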