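import Cfsg.Statements.S1267
import Cfsg.Agent.Base
import Cfsg.Agent.PLoc.OpE

set_option autoImplicit false
open Cfsg

namespace Cfsg.Agent.S1267

/-- Let G be finite and P ≤ O_p(G). Then E(N_G(P)) = E(G). -/
theorem result {G : Type*} [Group G] [Finite G] (p : ℕ) [Fact p.Prime] (P : Subgroup G) (hP : P ≤ Cfsg.pCore p G) : (Cfsg.layer ↥(Subgroup.normalizer ((P : Subgroup G) : Set G))).map (Subgroup.normalizer ((P : Subgroup G) : Set G)).subtype = Cfsg.layer G := by
  have hPp : IsPGroup p P := CL.PLoc.isPGroup_pCore.to_le hP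
  have hC : Subgroup.centralizer (pCore p G : Set G) ≤ Subgroup.normalizer (P : Set G) :=
    (Subgroup.centralizer_le hP).trans (Subgroup.centralizer_le_normalizer _)
  apply le_antisymm
  · rw [Subgroup.map_le_iff_le_comap]
    refine CL.Sig.layer_le_iff.2 fun K hK => ?_
    rw [← Subgroup.map_le_iff_le_comap]
    have h1 : K.map (Subgroup.normalizer (P : Set G)).subtype ≤
        Subgroup.centralizer (pCore p G : Set G) :=
      (Subgroup.map_mono ((CL.Sig.component_le_layer hK).trans CL.PLoc.layer_le_opE)).trans
        (CL.PLoc.opEOf_normalizer_le_centralizer_pCore hPp)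
    refine CL.Sig.component_le_layer (CL.Sig.component_of_subgroupOf
      (Subgroup.Normal.isSubnormal inferInstance) h1 ⟨?_, ?_⟩)
    · have h2 := hK.1.comap (Subgroup.inclusion hC)
      convert h2 using 1
      ext x
      constructor
      · rintro ⟨y, hy, hyx⟩
        have : y = Subgroup.inclusion hC x := Subtype.ext hyx
        exact Subgroup.mem_comap.2 (this ▸ hy)
      · intro hx
        exact ⟨_, hx, rfl⟩
    · rw [CL.Sig.isQuasisimple_subgroupOf_iff h1,
        CL.Sig.isQuasisimple_map_iff_of_injective _ (Subgroup.subtype_injective _)]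
      exact hK.2
  · exact CL.Sig.layer_le_map_layer
      ((Subgroup.commutator_eq_bot_iff_le_centralizer.1 CL.PLoc.layer_commute_pCore).trans hC)

end Cfsg.Agent.S1267
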