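import Cfsg.Statements.S1271
import Cfsg.Agent.Base
import Cfsg.Agent.PLoc.Balance

set_option autoImplicit false
open Cfsg

namespace Cfsg.Agent.S1271

open Subgroup CL.PLoc

/-- Let G be finite with O_{p'}(G) = 1. Suppose that for every component L of G and every subgroup H ≥ L in which L is normal, the quotient H / C_H(L) is balanced for the prime p. Then G is balanced for p. -/
theorem result {G : Type*} [Group G] [Finite G] (p : ℕ) [Fact p.Prime] (hO : Cfsg.pPrimeCore p G = ⊥) (h : ∀ L : Subgroup G, Cfsg.IsComponent L → ∀ H : Subgroup G, L ≤ H → (L.subgroupOf H).Normal → ∀ [((Subgroup.centralizer (L : Set G)).subgroupOf H).Normal], Cfsg.IsBalancedFor p (↥H ⧸ (Subgroup.centralizer (L : Set G)).subgroupOf H)) : Cfsg.IsBalancedFor p G := by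
  intro x hx
  rw [hO, le_bot_iff]
  by_contra hY1
  set Y := centralizerPPrimeCore p x with hY
  obtain ⟨L, hL, hLY⟩ := exists_component_not_commute hO hx le_rfl hY1
  obtain ⟨hxN, hxC⟩ := normalizes_of_not_commute_centralizerPPrimeCore hO hx hL hLY
  set U := Y ⊔ zpowers x with hU
  have hUx : U ≤ centralizer {x} :=
    sup_le (centralizerPPrimeCore_le x) (zpowers_le.2 (mem_centralizer_singleton_iff.2 rfl))
  have hUL : U ≤ normalizer (L : Set G) :=
    sup_le (centralizerPPrimeCore_le_normalizer_component hO hx hL) (zpowers_le.2 hxN)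
  set H := L ⊔ U with hH
  have hHL : H ≤ normalizer (L : Set G) := sup_le le_normalizer hUL
  have hLH : L ≤ H := le_sup_left
  have hxU : x ∈ U := mem_sup_right (mem_zpowers x)
  have hxH : x ∈ H := mem_sup_right hxU
  have hN : ((centralizer (L : Set G)).subgroupOf H).Normal :=
    (normal_subgroupOf_iff_le_normalizer_inf).2 (by
      exact CL.Sig.le_normalizer_inf
        (hHL.trans (CL.Sig.normalizer_le_normalizer_centralizer' L)) le_normalizer)
  have hb := h L hL H hLH ((normal_subgroupOf_iff_le_normalizer hLH).2 hHL)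
  set φ := QuotientGroup.mk' ((centralizer (L : Set G)).subgroupOf H) with hφ
  have hφs : Function.Surjective φ := QuotientGroup.mk'_surjective _
  have hker : φ.ker = (centralizer (L : Set G)).subgroupOf H := QuotientGroup.ker_mk' _
  have hxo : orderOf (φ ⟨x, hxH⟩) = p := by
    refine orderOf_eq_prime ?_ fun h1 => hxC ?_
    · rw [← map_pow, show (⟨x, hxH⟩ : H) ^ p = 1 from
        Subtype.ext (by rw [← hx]; exact pow_orderOf_eq_one x), map_one]
    · rw [← MonoidHom.mem_ker, hker] at h1
      exact h1
  have h0 := pPrimeCore_eq_bot_of_ker_eq hO hL hLH φ hφs hker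
  apply hLY
  rw [commutator_comm, commutator_eq_bot_iff_le_centralizer]
  intro y hy
  have hyH : y ∈ H := mem_sup_right (mem_sup_left hy)
  have h1 := hb _ hxo (map_mem_centralizerPPrimeCore hO hL hx hxU hUx hUL hH φ hφs
    (fun g hg => by rw [hker] at hg; exact hg) hxH (y := ⟨y, hyH⟩) hy)
  rw [h0, mem_bot, ← MonoidHom.mem_ker, hker] at h1
  exact h1

end Cfsg.Agent.S1271
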