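import Cfsg.Statements.S1273
import Cfsg.Agent.PComp.Layer

set_option autoImplicit false
open Cfsg

namespace Cfsg.Agent.S1273

/-- Let K be a p-component of the finite group X and N a normal subgroup of K whose index in K is prime to p. Then N = K. -/
theorem result {X : Type*} [Group X] [Finite X] (p : ℕ) [Fact p.Prime] (K : Subgroup X) (hK : Cfsg.IsPComponent p K) (N : Subgroup ↥K) [N.Normal] (hidx : (N.index).Coprime p) : N = ⊤ := by
  have h1 : CL.PComp.pGen p (⊤ : Subgroup K) ≤ N :=
    CL.PComp.pGen_le_iff.2 fun x _ k hk =>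
      CL.PComp.mem_of_isSubnormal_of_coprime_index (Subgroup.Normal.isSubnormal inferInstance)
        hidx hk
  have h2 := CL.PComp.map_subtype_pGen_top (p := p) K
  rw [(CL.PComp.pcomp_pQuasi hK).1] at h2
  rw [eq_top_iff, ← Subgroup.map_subtype_le_map_subtype, ← MonoidHom.range_eq_map,
    Subgroup.range_subtype]
  exact h2.ge.trans (Subgroup.map_mono h1)

end Cfsg.Agent.S1273
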