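import Cfsg.Statements.S1279
import Cfsg.Agent.Base
import Cfsg.Agent.SF.Basic

set_option autoImplicit false
open Cfsg

namespace Cfsg.Agent.S1279

open Subgroup CL CL.BG CL.SF

/-- Let A be a noncyclic elementary abelian p-subgroup of the finite group G such that C_G(a) is solvable for every non-identity a ∈ A. Then a ↦ O_{p'}(C_G(a)) is a solvable A-signalizer functor on G. -/
theorem result {G : Type*} [Group G] [Finite G] (p : ℕ) [Fact p.Prime] (A : Subgroup G) (hA : Cfsg.IsElementaryAbelian p A) (hA2 : p ^ 2 ≤ Nat.card ↥A) (hsolv : ∀ a ∈ A, a ≠ 1 → Group.IsSolvable ↥(Subgroup.centralizer ({a} : Set G))) : Cfsg.IsSolvableSignalizerFunctor p A (fun a => Cfsg.centralizerPPrimeCore p a) := by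
  have hp : p.Prime := Fact.out
  have e : ∀ a : G, centralizerPPrimeCore p a = piCoreOf {p}ᶜ 𝐂₁(a) := fun a =>
    (piCoreOf_compl_singleton hp _).symm
  have hc : ∀ a ∈ A, A ≤ 𝐂₁(a) := fun a ha => (EA.le_centralizer hA).trans (cent_le_cent1 ha)
  simp only [e]
  refine IsSF.isSolvSig hp ⟨hA, fun a _ _ => piCoreOf_le _ _, fun a _ _ => piGrp_piCoreOf _ _,
    fun a ha _ => norms_piCoreOf _ (le_norm_of_le (hc a ha)), fun a ha h1 b hb h2 => ?_,
    fun a ha h1 => solvable_of_le (hsolv a ha h1) (piCoreOf_le _ _)⟩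
  have hz : zpowers a ≤ A := zpowers_le.2 ha
  refine le_trans ?_ (core_cent_le (hsolv b hb h2) (hz.trans (hc b hb))
    ((EA.isPGroup hA).to_le hz))
  rw [cent_zpowers, inf_comm 𝐂₁(b)]
  exact le_piCoreOf ((piCoreOf_normalIn _ _).inf_inf _) ((piGrp_piCoreOf _ _).inf_left _)

end Cfsg.Agent.S1279
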