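import Cfsg.Statements.S1286
import Cfsg.Agent.Base
import Cfsg.Agent.SF.Basic

set_option autoImplicit false
open Cfsg

namespace Cfsg.Agent.S1286

open Subgroup CL CL.BG CL.SF

abbrev X5 := Equiv.Perm (Fin 5)

def s : X5 := Equiv.swap 0 1
def t : X5 := Equiv.swap 3 4
def x : X5 := Equiv.swap 0 1 * Equiv.swap 1 2
def y : X5 := Equiv.swap 2 3 * Equiv.swap 3 4

def sub (l : List X5) (h1 : 1 ∈ l) (hm : ∀ a ∈ l, ∀ b ∈ l, a * b ∈ l) (hi : ∀ a ∈ l, a⁻¹ ∈ l) :
    Subgroup X5 where
  carrier := {g | g ∈ l}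
  one_mem' := h1
  mul_mem' := fun {a b} ha hb => hm a ha b hb
  inv_mem' := fun {a} ha => hi a ha

def A4 : Subgroup X5 := sub [1, s, t, s * t] (by decide +kernel) (by decide +kernel) (by decide +kernel)
def Cx : Subgroup X5 := sub [1, x, x * x] (by decide +kernel) (by decide +kernel) (by decide +kernel)
def Cy : Subgroup X5 := sub [1, y, y * y] (by decide +kernel) (by decide +kernel) (by decide +kernel)

theorem mem_A4 {g : X5} : g ∈ A4 ↔ g ∈ [1, s, t, s * t] := Iff.rfl
theorem mem_Cx {g : X5} : g ∈ Cx ↔ g ∈ [1, x, x * x] := Iff.rfl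
theorem mem_Cy {g : X5} : g ∈ Cy ↔ g ∈ [1, y, y * y] := Iff.rfl

theorem card_sub (l : List X5) (hl : l.Nodup) (H : Subgroup X5) (h : ∀ g, g ∈ H ↔ g ∈ l) :
    Nat.card H = l.length := by
  have : (H : Set X5) = (l.toFinset : Set X5) := by ext g; simp [h]
  rw [← List.toFinset_card_of_nodup hl, ← Set.ncard_coe_finset, ← this]
  rfl

theorem card_A4 : Nat.card A4 = 4 := card_sub _ (by decide +kernel) _ fun _ => mem_A4
theorem card_Cx : Nat.card Cx = 3 := card_sub _ (by decide +kernel) _ fun _ => mem_Cx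
theorem card_Cy : Nat.card Cy = 3 := card_sub _ (by decide +kernel) _ fun _ => mem_Cy

def th (g : X5) : Subgroup X5 := if g = t then Cx else if g = s then Cy else ⊥

theorem th_t : th t = Cx := by simp [th]
theorem th_s : th s = Cy := by
  have : s ≠ t := by decide +kernel
  simp [th, this]
theorem th_st : th (s * t) = ⊥ := by
  have h1 : s * t ≠ t := by decide +kernel
  have h2 : s * t ≠ s := by decide +kernel
  simp only [th, h1, h2, if_false]

theorem cases_A4 {a : X5} (ha : a ∈ A4) (h1 : a ≠ 1) : a = s ∨ a = t ∨ a = s * t := by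
  simpa [mem_A4, h1] using ha

theorem inf_bot {a b : X5} (ha : a ∈ A4) (h1 : a ≠ 1) (hb : b ∈ A4) (h2 : b ≠ 1) (hab : a ≠ b) :
    th a ⊓ 𝐂₁(b) = ⊥ := by
  rw [eq_bot_iff]
  rintro g ⟨hg, hc⟩
  have hc' : g * b = b * g := mem_cent1.1 hc
  have k1 : ∀ g ∈ [1, y, y * y], ∀ b ∈ [1, s, t, s * t], b ≠ 1 → s ≠ b → g * b = b * g → g = 1 := by
    decide +kernel
  have k2 : ∀ g ∈ [1, x, x * x], ∀ b ∈ [1, s, t, s * t], b ≠ 1 → t ≠ b → g * b = b * g → g = 1 := by
    decide +kernel
  rcases cases_A4 ha h1 with rfl | rfl | rfl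
  · rw [th_s] at hg; exact k1 g hg b hb h2 hab hc'
  · rw [th_t] at hg; exact k2 g hg b hb h2 hab hc'
  · rw [th_st] at hg; exact hg

theorem isSF : IsSF 2 A4 th := by
  have hp : Nat.Prime 2 := Nat.prime_two
  have k0 : ∀ a ∈ [1, s, t, s * t], ∀ b ∈ [1, s, t, s * t], a * b = b * a := by decide +kernel
  have k1 : ∀ a ∈ [1, s, t, s * t], a ^ 2 = 1 := by decide +kernel
  have k2 : ∀ g ∈ [1, y, y * y], g * s = s * g := by decide +kernel
  have k3 : ∀ g ∈ [1, x, x * x], g * t = t * g := by decide +kernel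
  have k4 : ∀ a ∈ [1, s, t, s * t], ∀ g ∈ [1, y, y * y], a * g * a⁻¹ ∈ [1, y, y * y] := by decide +kernel
  have k5 : ∀ a ∈ [1, s, t, s * t], ∀ g ∈ [1, x, x * x], a * g * a⁻¹ ∈ [1, x, x * x] := by decide +kernel
  refine ⟨EA.of_comm k0 k1, fun a ha h1 => ?_, fun a ha h1 => ?_, fun a ha h1 => ?_,
    fun a ha h1 b hb h2 => ?_, fun a ha h1 => ?_⟩
  · rcases cases_A4 ha h1 with rfl | rfl | rfl
    · rw [th_s]; exact fun g hg => mem_cent1.2 (k2 g hg)
    · rw [th_t]; exact fun g hg => mem_cent1.2 (k3 g hg)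
    · rw [th_st]; exact bot_le
  · rw [piGrp_compl_singleton_iff hp]
    rcases cases_A4 ha h1 with rfl | rfl | rfl
    · rw [th_s, card_Cy]; decide
    · rw [th_t, card_Cx]; decide
    · rw [th_st, card_bot]; decide
  · rcases cases_A4 ha h1 with rfl | rfl | rfl
    · rw [th_s]; exact le_normalizer_iff.2 k4
    · rw [th_t]; exact le_normalizer_iff.2 k5
    · rw [th_st, norm_bot]; exact le_top
  · by_cases hab : a = b
    · subst hab; exact inf_le_left
    · rw [inf_bot ha h1 hb h2 hab]; exact bot_le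
  · rcases cases_A4 ha h1 with rfl | rfl | rfl
    · rw [th_s]; exact solvable_of_card_prime (by rw [card_Cy]; decide)
    · rw [th_t]; exact solvable_of_card_prime (by rw [card_Cx]; decide)
    · rw [th_st]; exact solvable_bot

/-- There exist a finite group X, an elementary abelian subgroup A of order 4 and a solvable A-signalizer functor θ on X for the prime 2 which is not complete. -/
theorem result : ∃ (X : Type) (_ : Group X) (_ : Finite X) (A : Subgroup X) (θ : X → Subgroup X), Cfsg.IsElementaryAbelian 2 A ∧ Nat.card ↥A = 4 ∧ Cfsg.IsSolvableSignalizerFunctor 2 A θ ∧ ¬ Cfsg.IsCompleteSignalizerFunctor 2 A θ := by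
  refine ⟨X5, inferInstance, inferInstance, A4, th, isSF.elem, card_A4,
    isSF.isSolvSig Nat.prime_two, ?_⟩
  rintro ⟨-, X, -, hodd, hX⟩
  have hx : x ∈ X := by
    have := hX t (by rw [mem_A4]; decide) (by decide +kernel)
    rw [th_t] at this
    exact (this.ge (show x ∈ Cx by rw [mem_Cx]; decide)).1
  have hy : y ∈ X := by
    have := hX s (by rw [mem_A4]; decide) (by decide +kernel)
    rw [th_s] at this
    exact (this.ge (show y ∈ Cy by rw [mem_Cy]; decide)).1
  have hw : x * y * x * y * y ∈ X := mul_mem (mul_mem (mul_mem (mul_mem hx hy) hx) hy) hy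
  have ho : orderOf (x * y * x * y * y) = 2 := orderOf_eq_prime (by decide +kernel) (by decide +kernel)
  exact hodd (ho ▸ orderOf_dvd_card' hw)

end Cfsg.Agent.S1286
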