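import Cfsg.Statements.S1292
import Cfsg.Agent.Base
import Cfsg.Agent.PLoc.OpE

set_option autoImplicit false
open Cfsg

namespace Cfsg.Agent.S1292

/-- Let G be a finite group such that F*(C_G(t)) = O_2(C_G(t)) for every involution t. Then F*(N_G(T)) = O_2(N_G(T)) for every nontrivial 2-subgroup T of G. -/
theorem result {G : Type*} [Group G] [Finite G] (h : ∀ t : G, orderOf t = 2 → Cfsg.generalizedFittingSubgroup ↥(Subgroup.centralizer ({t} : Set G)) = Cfsg.pCore 2 ↥(Subgroup.centralizer ({t} : Set G))) (T : Subgroup G) (hT : IsPGroup 2 ↥T) (hT1 : T ≠ ⊥) : Cfsg.generalizedFittingSubgroup ↥(Subgroup.normalizer (T : Set G)) = Cfsg.pCore 2 ↥(Subgroup.normalizer (T : Set G)) := by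
  have : Nontrivial T := (Subgroup.nontrivial_iff_ne_bot T).2 hT1
  obtain ⟨n, hn0, hn⟩ := hT.nontrivial_iff_card.1 this
  obtain ⟨t, ht⟩ := exists_prime_orderOf_dvd_card' (G := T) 2
    (by rw [hn]; exact dvd_pow_self 2 hn0.ne')
  have h1 := CL.PLoc.isCharP_iff_genFitting_eq.2 (h t (by rw [Subgroup.orderOf_coe, ht]))
  rw [← CL.PLoc.centralizer_zpowers] at h1
  exact CL.PLoc.isCharP_iff_genFitting_eq.1 ((CL.PLoc.isCharP_normalizer_iff_centralizer hT).2
    (CL.PLoc.isCharP_centralizer_mono (Subgroup.zpowers_le.2 t.2) hT h1))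

end Cfsg.Agent.S1292
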