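import Cfsg.Statements.S1327
import Cfsg.Agent.Base
import Cfsg.Agent.PLoc.OpE
import Cfsg.Agent.PLocal.Constraint
import Cfsg.Agent.PComp.Layer

set_option autoImplicit false
open Cfsg

namespace Cfsg.Agent.S1327

/-- A finite group X is p-constrained if and only if its p-layer L_{p'}(X) is trivial (equivalently X / O_{p'}(X) has trivial layer). -/
theorem result {X : Type*} [Group X] [Finite X] (p : ℕ) [Fact p.Prime] : Cfsg.IsPConstrained p X ↔ Cfsg.pLayer p X = ⊥ := by
  rw [CL.PL.isPConstrained_iff, CL.PComp.pLayer_eq_bot_iff]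
  have h := CL.PLoc.isCharP_iff_pPrimeCore_layer (p := p) (G := X ⧸ pPrimeCore p X)
  exact h.trans (and_iff_right CL.PComp.pPrimeCore_quotient_eq_bot)

end Cfsg.Agent.S1327
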