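import Cfsg.Statements.S1298
import Cfsg.Agent.Base
import Cfsg.Agent.PLoc.Balance

set_option autoImplicit false
open Cfsg

namespace Cfsg.Agent.S1298

open Subgroup CL.PLoc

theorem signalizerDelta_le {G : Type*} [Group G] {p : ℕ} {A : Subgroup G} {a : G} (ha : a ∈ A)
    (h1 : a ≠ 1) : signalizerDelta p A ≤ centralizerPPrimeCore p a :=
  iInf_le (fun b : {b : G // b ∈ A ∧ b ≠ 1} => centralizerPPrimeCore p (b : G)) ⟨a, ha, h1⟩

theorem isElementaryAbelian_map {G G' : Type*} [Group G] [Group G'] {p : ℕ} {A : Subgroup G}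
    (hA : IsElementaryAbelian p A) (f : G →* G') : IsElementaryAbelian p (A.map f) := by
  refine ⟨?_, ?_⟩
  · have := hA.1
    infer_instance
  · rintro _ ⟨a, ha, rfl⟩
    rw [← map_pow, hA.2 a ha, map_one]

theorem isElementaryAbelian_subgroupOf {G : Type*} [Group G] {p : ℕ} {A : Subgroup G}
    (hA : IsElementaryAbelian p A) (H : Subgroup G) : IsElementaryAbelian p (A.subgroupOf H) := by
  refine ⟨?_, ?_⟩
  · have := hA.1
    infer_instance
  · intro a ha
    exact Subtype.ext (hA.2 a ha)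

theorem card_map_of_inf_ker {G G' : Type*} [Group G] [Group G'] {A : Subgroup G} (f : G →* G')
    (h : ∀ a ∈ A, f a = 1 → a = 1) : Nat.card (A.map f) = Nat.card A := by
  refine (Nat.card_congr (Equiv.ofBijective (f.subgroupMap A) ⟨?_, f.subgroupMap_surjective A⟩)).symm
  rw [injective_iff_map_eq_one]
  intro a ha
  exact Subtype.ext (h a a.2 (congrArg Subtype.val ha))

theorem signalizerDelta_eq_bot {G : Type*} [Group G] [Finite G] {p k : ℕ} [hp : Fact p.Prime]
    (hk : 1 ≤ k) (hO : pPrimeCore p G = ⊥)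
    (h : ∀ K : Subgroup G, IsComponent K → IsLocallyKBalanced p k (K ⧸ center K))
    {A : Subgroup G} (hA : IsElementaryAbelian p A) (hc : Nat.card A = p ^ k) :
    signalizerDelta p A = ⊥ := by
  by_contra hY1
  set Y := signalizerDelta p A with hY
  have hA1 : A ≠ ⊥ := by
    rintro rfl
    rw [card_bot] at hc
    exact (Nat.one_lt_pow (by omega) hp.out.one_lt).ne hc
  obtain ⟨⟨a0, ha0⟩, ha01⟩ := (ne_bot_iff_exists_ne_one).1 hA1
  have ha01' : a0 ≠ 1 := fun h => ha01 (Subtype.ext h)
  have hord : ∀ a ∈ A, a ≠ 1 → orderOf a = p := fun a ha h1 => orderOf_eq_prime (hA.2 a ha) h1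
  obtain ⟨L, hL, hLY⟩ := exists_component_not_commute hO (hord a0 ha0 ha01')
    (signalizerDelta_le ha0 ha01') hY1
  have hNC : ∀ a ∈ A, a ≠ 1 → a ∈ normalizer (L : Set G) ∧ a ∉ centralizer (L : Set G) :=
    fun a ha h1 => normalizes_of_not_commute_centralizerPPrimeCore hO (hord a ha h1) hL
      fun h2 => hLY (le_bot_iff.1 (h2 ▸ commutator_mono le_rfl (signalizerDelta_le ha h1)))
  set U := Y ⊔ A with hU
  have hUx : ∀ a ∈ A, a ≠ 1 → U ≤ centralizer {a} := fun a ha h1 =>
    sup_le ((signalizerDelta_le ha h1).trans (centralizerPPrimeCore_le a)) fun b hb =>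
      mem_centralizer_singleton_iff.2 (congrArg Subtype.val (hA.1.is_comm.comm ⟨b, hb⟩ ⟨a, ha⟩))
  have hUL : U ≤ normalizer (L : Set G) := by
    refine sup_le ((signalizerDelta_le ha0 ha01').trans
      (centralizerPPrimeCore_le_normalizer_component hO (hord a0 ha0 ha01') hL)) fun a ha => ?_
    by_cases h1 : a = 1
    · rw [h1]; exact one_mem _
    · exact (hNC a ha h1).1
  set H := L ⊔ U with hH
  have hHL : H ≤ normalizer (L : Set G) := sup_le le_normalizer hUL
  have hLH : L ≤ H := le_sup_left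
  have hAH : A ≤ H := le_sup_right.trans le_sup_right
  obtain ⟨ψ, hψk, hψr⟩ := exists_hom_mulAut_quotient_center (CL.Sig.component_commutator_self hL)
    hLH hHL
  set φ := ψ.rangeRestrict with hφ
  have hφs : Function.Surjective φ := ψ.rangeRestrict_surjective
  have hker : φ.ker = (centralizer (L : Set G)).subgroupOf H := by
    rw [hφ, MonoidHom.ker_rangeRestrict, hψk]
  have hinj : ∀ a ∈ A.subgroupOf H, φ a = 1 → a = 1 := by
    intro a ha h1
    by_contra h2
    rw [← MonoidHom.mem_ker, hker] at h1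
    exact (hNC a ha fun h3 => h2 (Subtype.ext h3)).2 h1
  have h0 := h L hL ψ.range hψr ((A.subgroupOf H).map φ)
    (isElementaryAbelian_map (isElementaryAbelian_subgroupOf hA H) φ)
    (by rw [card_map_of_inf_ker φ hinj, ← hc]
        exact Nat.card_congr (subgroupOfEquivOfLe hAH).toEquiv)
  apply hLY
  rw [commutator_comm, commutator_eq_bot_iff_le_centralizer]
  intro y hy
  have hyH : y ∈ H := mem_sup_right (mem_sup_left hy)
  have h1 : φ ⟨y, hyH⟩ ∈ signalizerDelta p ((A.subgroupOf H).map φ) := by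
    refine mem_iInf.2 ?_
    rintro ⟨_, ⟨a, ha, rfl⟩, ha1⟩
    have ha1' : (a : G) ≠ 1 := fun h2 => ha1 (by rw [show a = 1 from Subtype.ext h2, map_one])
    exact map_mem_centralizerPPrimeCore hO hL (hord a ha ha1') (mem_sup_right ha) (hUx a ha ha1')
      hUL hH φ hφs (fun g hg => by rw [hker] at hg; exact hg) a.2 (y := ⟨y, hyH⟩)
      (signalizerDelta_le (A := A) (a := a) ha ha1' hy)
  rw [h0, mem_bot, ← MonoidHom.mem_ker, hker] at h1
  exact h1

/-- Let G be finite and k ≥ 1. Suppose that for every x of order p, writing C = C_G(x), every component K of C / O_{p'}(C) has K / Z(K) locally k-balanced for p. Then G is k-balanced for p. -/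
theorem result {G : Type*} [Group G] [Finite G] (p k : ℕ) [Fact p.Prime] (hk : 1 ≤ k) (h : ∀ x : G, orderOf x = p → ∀ K : Subgroup (↥(Subgroup.centralizer ({x} : Set G)) ⧸ Cfsg.pPrimeCore p ↥(Subgroup.centralizer ({x} : Set G))), Cfsg.IsComponent K → Cfsg.IsLocallyKBalanced p k (↥K ⧸ Subgroup.center ↥K)) : Cfsg.IsKBalanced p k G := by
  intro A hA hc b hb hab
  set C := centralizer ({b} : Set G) with hC
  have hAC : A ≤ C := fun a ha => mem_centralizer_singleton_iff.2 (hab a ha)
  set f := QuotientGroup.mk' (pPrimeCore p C) with hf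
  have hfs : Function.Surjective f := QuotientGroup.mk'_surjective _
  have hker : (Nat.card f.ker).Coprime p :=
    CL.PComp.coprime_card_ker_mk' CL.PComp.coprime_card_pPrimeCore'
  have hA' := isElementaryAbelian_subgroupOf hA C
  have hinj : ∀ a ∈ A.subgroupOf C, f a = 1 → a = 1 := fun a ha h1 =>
    CL.Transfer.eq_one_of_pow_eq_one_of_coprime (p := p) (k := 1) (by simpa using hA'.2 a ha)
      (Nat.Coprime.coprime_dvd_left (orderOf_dvd_natCard f.ker h1) hker)
  have h0 := signalizerDelta_eq_bot hk CL.PComp.pPrimeCore_quotient_eq_bot (h b hb)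
    (isElementaryAbelian_map hA' f)
    (by rw [card_map_of_inf_ker f hinj, ← hc]
        exact Nat.card_congr (subgroupOfEquivOfLe hAC).toEquiv)
  rintro y ⟨hy, hyC⟩
  have h1 : f ⟨y, hyC⟩ ∈ signalizerDelta p ((A.subgroupOf C).map f) := by
    refine mem_iInf.2 ?_
    rintro ⟨_, ⟨a, ha, rfl⟩, ha1⟩
    have ha1' : (a : G) ≠ 1 := fun h2 => ha1 (by rw [show a = 1 from Subtype.ext h2, map_one])
    show _ ∈ centralizerPPrimeCore p (f a)
    rw [← map_centralizerPPrimeCore_of_coprime_ker hfs hker (k := 1) (by simpa using hA'.2 a ha)]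
    exact mem_map_of_mem f (subgroupOf_centralizerPPrimeCore_le a (signalizerDelta_le (A := A) (a := a) ha ha1' hy))
  rw [h0, mem_bot, ← MonoidHom.mem_ker, hf, QuotientGroup.ker_mk'] at h1
  exact ⟨⟨y, hyC⟩, h1, rfl⟩

end Cfsg.Agent.S1298
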