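import Cfsg.Agent.Base
import Cfsg.Statements.S1300

set_option autoImplicit false
open Cfsg

namespace Cfsg.Agent.S1300

theorem core_le_centralizer {G : Type*} [Group G] (p : ℕ) (x : G) :
    Cfsg.centralizerPPrimeCore p x ≤ Subgroup.centralizer {x} :=
  Subgroup.map_subtype_le _

theorem delta_of_card_two {G : Type*} [Group G] [Finite G] (A : Subgroup G) (hA : Nat.card A = 2)
    (a : G) (ha : a ∈ A) (ha1 : a ≠ 1) :
    Cfsg.signalizerDelta 2 A = Cfsg.centralizerPPrimeCore 2 a := by
  have key : ∀ b ∈ A, b ≠ 1 → b = a := by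
    intro b hb hb1
    obtain ⟨y, hy, hy'⟩ := (Nat.card_eq_two_iff' (1 : A)).1 hA
    have h1 : (⟨b, hb⟩ : A) = y := hy' _ (fun h => hb1 (congrArg Subtype.val h))
    have h2 : (⟨a, ha⟩ : A) = y := hy' _ (fun h => ha1 (congrArg Subtype.val h))
    exact congrArg Subtype.val (h1.trans h2.symm)
  apply le_antisymm
  · exact iInf_le (fun b : {b : G // b ∈ A ∧ b ≠ 1} => Cfsg.centralizerPPrimeCore 2 (b : G))
      ⟨a, ha, ha1⟩
  · refine le_iInf fun b => ?_
    rw [key b.1 b.2.1 b.2.2]

/-- For a finite group G, balance in the sense of commuting involutions is the same as 1-balance for the prime 2. -/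
theorem result {G : Type*} [Group G] [Finite G] : Cfsg.IsBalanced G ↔ Cfsg.IsKBalanced 2 1 G := by
  constructor
  · intro h A hA hc b hb hab
    have hc' : Nat.card A = 2 := by simpa using hc
    obtain ⟨y, hy, -⟩ := (Nat.card_eq_two_iff' (1 : A)).1 hc'
    have hy1 : (y : G) ≠ 1 := fun h => hy (Subtype.ext h)
    have hoy : orderOf (y : G) = 2 := orderOf_eq_prime (hA.2 _ y.2) hy1
    rw [delta_of_card_two A hc' y y.2 hy1, h y b hoy hb (hab y y.2)]
    exact inf_le_left
  · intro h
    have key : ∀ x y : G, orderOf x = 2 → orderOf y = 2 → x * y = y * x →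
        centralizerPPrimeCore 2 x ⊓ Subgroup.centralizer {y} ≤
          centralizerPPrimeCore 2 y ⊓ Subgroup.centralizer {x} := by
      intro x y hx hy hxy
      have hx1 : x ≠ 1 := by rintro rfl; simp at hx
      have hc : Nat.card (Subgroup.zpowers x) = 2 := by rw [Nat.card_zpowers, hx]
      have hel : IsElementaryAbelian 2 (Subgroup.zpowers x) := by
        refine ⟨inferInstance, ?_⟩
        rintro a ⟨k, rfl⟩
        have : x ^ 2 = 1 := by rw [← hx]; exact pow_orderOf_eq_one x
        show (x ^ k) ^ 2 = 1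
        rw [← zpow_natCast, ← zpow_mul, mul_comm, zpow_mul, zpow_natCast, this, one_zpow]
      have h1 := h (Subgroup.zpowers x) hel (by simpa using hc) y hy (by
        rintro a ⟨k, rfl⟩
        exact (Commute.zpow_left (show Commute x y from hxy) k))
      rw [delta_of_card_two _ hc x (Subgroup.mem_zpowers x) hx1] at h1
      exact le_inf h1 (inf_le_left.trans (core_le_centralizer 2 x))
    intro x y hx hy hxy
    exact le_antisymm (key x y hx hy hxy) (key y x hy hx hxy.symm)

end Cfsg.Agent.S1300
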