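import Cfsg.Statements.S1297
import Cfsg.Agent.Base
import Cfsg.Agent.S1298
import Cfsg.Agent.S1300

set_option autoImplicit false
open Cfsg

namespace Cfsg.Agent.S1297

/-- Let G be finite. Suppose that for every involution x, writing C = C_G(x), every component K of C / O(C) has K / Z(K) locally balanced. Then G is balanced. -/
theorem result {G : Type*} [Group G] [Finite G] (h : ∀ x : G, orderOf x = 2 → ∀ K : Subgroup (↥(Subgroup.centralizer ({x} : Set G)) ⧸ Cfsg.oddCore ↥(Subgroup.centralizer ({x} : Set G))), Cfsg.IsComponent K → Cfsg.IsLocallyBalanced (↥K ⧸ Subgroup.center ↥K)) : Cfsg.IsBalanced G := by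
  refine Cfsg.Agent.S1300.result.2 (Cfsg.Agent.S1298.result 2 1 le_rfl ?_)
  intro x hx K hK H hH A hA hc
  have hc' : Nat.card A = 2 := by simpa using hc
  have : Finite A := Nat.finite_of_card_ne_zero (by omega)
  have : Finite H := inferInstance
  obtain ⟨y, hy, -⟩ := (Nat.card_eq_two_iff' (1 : A)).1 hc'
  have hy1 : (y : H) ≠ 1 := fun h => hy (Subtype.ext h)
  rw [Cfsg.Agent.S1300.delta_of_card_two A hc' y y.2 hy1]
  exact h x hx K hK H hH y (orderOf_eq_prime (hA.2 _ y.2) hy1)

end Cfsg.Agent.S1297
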