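import Cfsg.Agent.Base
import Cfsg.Statements.S1303

set_option autoImplicit false
open Cfsg

namespace Cfsg.Agent.S1303

/-- Abbreviation for the group `SL(2, 3)`. -/
abbrev X : Type := Matrix.SpecialLinearGroup (Fin 2) (ZMod 3)

theorem mul_pow_four : ∀ x y : X, x ^ 4 = 1 → y ^ 4 = 1 → (x * y) ^ 4 = 1 := by
  decide +kernel

theorem neg_one_of_ne : ∀ x : X, x = 1 ∨ x = -1 ∨ ∃ g : X, (x * (g * x⁻¹ * g⁻¹)) ^ 2 = -1 := by
  decide +kernel

theorem centralizer_four : ∀ x : X, (∀ g : X, g ^ 4 = 1 → g * x = x * g) → x ^ 4 = 1 := by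
  decide +kernel

theorem sq_central : ∀ x : X, x ^ 2 = 1 → ∀ g : X, g * x = x * g := by
  decide +kernel

theorem exists_three : ∃ x : X, x ≠ 1 ∧ x ^ 3 = 1 := by
  decide +kernel

theorem neg_one_ne : (-1 : X) ≠ 1 ∧ (-1 : X) ^ 2 = 1 := by
  decide +kernel

/-- The quaternion subgroup. -/
def Q : Subgroup X where
  carrier := {x | x ^ 4 = 1}
  mul_mem' := fun {a b} ha hb => mul_pow_four a b ha hb
  one_mem' := one_pow 4
  inv_mem' := fun {a} ha => by
    have ha' : a ^ 4 = 1 := ha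
    change a⁻¹ ^ 4 = 1
    rw [inv_pow, ha', inv_one]

theorem Q_normal : Q.Normal := ⟨fun a ha g => by
  have ha' : a ^ 4 = 1 := ha
  change (g * a * g⁻¹) ^ 4 = 1
  rw [conj_pow, ha']; group⟩

theorem Q_pgroup : IsPGroup 2 Q := fun x => ⟨2, Subtype.ext x.2⟩

theorem core_eq_bot : Cfsg.pPrimeCore 2 X = ⊥ := by
  rw [eq_bot_iff]
  apply sSup_le
  rintro N ⟨hN, hc⟩ x hx
  have hneg : (-1 : X) ∉ N := by
    intro h
    have h2 : orderOf (-1 : X) = 2 := orderOf_eq_prime neg_one_ne.2 neg_one_ne.1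
    have h3 := Subgroup.orderOf_dvd_natCard N h
    rw [h2] at h3
    have := Nat.Coprime.eq_one_of_dvd hc.symm h3
    omega
  rcases neg_one_of_ne x with h | h | ⟨g, hg⟩
  · exact h
  · exact absurd (h ▸ hx) hneg
  · exact absurd (hg ▸ N.pow_mem (N.mul_mem hx (hN.conj_mem _ (N.inv_mem hx) g)) 2) hneg

/-- The group X = SL(2, 3): it is 2-constrained, O_{2'}(X) = 1, its centre A = Z(X) contains every involution of X = C_X(A), and X has a subgroup of order 3 (normalized by A) not contained in O_{2'}(X). -/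
theorem result : Cfsg.IsPConstrained 2 (Matrix.SpecialLinearGroup (Fin 2) (ZMod 3)) ∧ Cfsg.pPrimeCore 2 (Matrix.SpecialLinearGroup (Fin 2) (ZMod 3)) = ⊥ ∧ (∀ t : Matrix.SpecialLinearGroup (Fin 2) (ZMod 3), orderOf t = 2 → t ∈ Subgroup.center (Matrix.SpecialLinearGroup (Fin 2) (ZMod 3))) ∧ ∃ Q : Subgroup (Matrix.SpecialLinearGroup (Fin 2) (ZMod 3)), Nat.card ↥Q = 3 ∧ ¬ (Q ≤ Cfsg.pPrimeCore 2 (Matrix.SpecialLinearGroup (Fin 2) (ZMod 3))) := by
  refine ⟨?_, core_eq_bot, ?_, ?_⟩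
  · intro P
    have hQ : Q ≤ pPrimePCore 2 X := by
      rw [pPrimePCore, ← Subgroup.map_le_iff_le_comap]
      exact le_sSup ⟨Q_normal.map _ (QuotientGroup.mk'_surjective _), Q_pgroup.map _⟩
    have := Q_normal
    have hQP : Q.subgroupOf (pPrimePCore 2 X) ≤ P :=
      IsPGroup.le_sylow_of_normal (Q_pgroup.comap_subtype) P
    have hQP' : Q ≤ (P : Subgroup (pPrimePCore 2 X)).map (pPrimePCore 2 X).subtype := by
      intro x hx
      exact ⟨⟨x, hQ hx⟩, hQP hx, rfl⟩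
    intro x hx
    apply hQ
    exact centralizer_four x fun g hg => Subgroup.mem_centralizer_iff.mp hx g (hQP' hg)
  · intro t ht
    rw [Subgroup.mem_center_iff]
    apply sq_central t
    have := pow_orderOf_eq_one t
    rwa [ht] at this
  · obtain ⟨x, hx1, hx3⟩ := exists_three
    refine ⟨Subgroup.zpowers x, ?_, ?_⟩
    · rw [Nat.card_zpowers]
      exact orderOf_eq_prime hx3 hx1
    · rw [core_eq_bot, le_bot_iff, Subgroup.zpowers_eq_bot]
      exact hx1

end Cfsg.Agent.S1303
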