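import Cfsg.Statements.S1304
import Cfsg.Agent.Base
import Cfsg.Agent.Sig.CompLayer

set_option autoImplicit false
open Cfsg

namespace Cfsg.Agent.S1304

/-- Let X be a perfect group and α an automorphism of X with α(x) x⁻¹ central for every x. Then α is the identity. -/
theorem result {X : Type*} [Group X] (hperf : commutator X = ⊤) (α : X ≃* X) (h : ∀ x : X, α x * x⁻¹ ∈ Subgroup.center X) : ∀ x : X, α x = x := by
  have key : commutator X ≤ α.toMonoidHom.eqLocus (MonoidHom.id X) := by
    rw [commutator_def, Subgroup.commutator_le]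
    intro x _ y _
    change α.toMonoidHom _ = _
    rw [map_commutatorElement]
    obtain ⟨z, hz, hx⟩ : ∃ z ∈ Subgroup.center X, α x = z * x := ⟨_, h x, by simp⟩
    obtain ⟨w, hw, hy⟩ : ∃ w ∈ Subgroup.center X, α y = w * y := ⟨_, h y, by simp⟩
    simp only [MulEquiv.toMonoidHom_eq_coe, MonoidHom.coe_coe, MonoidHom.id_apply, hx, hy,
      commutatorElement_def, mul_inv_rev]
    have hz' := Subgroup.mem_center_iff.mp hz
    have hw' := Subgroup.mem_center_iff.mp hw
    calc z * x * (w * y) * (x⁻¹ * z⁻¹) * (y⁻¹ * w⁻¹)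
        = z * (x * (w * y) * x⁻¹) * z⁻¹ * y⁻¹ * w⁻¹ := by group
      _ = x * (w * (y * x⁻¹ * y⁻¹) * w⁻¹) := by rw [← hz']; group
      _ = x * y * x⁻¹ * y⁻¹ := by rw [← hw']; group
  intro x
  exact key (hperf ▸ Subgroup.mem_top x)

end Cfsg.Agent.S1304
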