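import Cfsg.Agent.Base
import Cfsg.Statements.S1314

set_option autoImplicit false
open Cfsg
open scoped Pointwise commutatorElement

namespace Cfsg.Agent.S1314

/-- Let x be an involution of a group G and L a perfect subgroup with ⁅L, x L x⁻¹⁆ = 1. Then l ↦ l (x l x⁻¹) is a group homomorphism π from L to G whose kernel is central in L and whose image lies in C_G(x); and the commutator subgroup of C_{L ⊔ xLx⁻¹}(x) equals the image of π. -/
theorem result {G : Type*} [Group G] [Finite G] (x : G) (hx : orderOf x = 2) (L : Subgroup G) (hperf : ⁅L, L⁆ = L) (hcomm : ⁅L, L.map (MulAut.conj x).toMonoidHom⁆ = ⊥) : ∃ π : ↥L →* G, (∀ l : ↥L, π l = (l : G) * (x * (l : G) * x⁻¹)) ∧ π.ker ≤ Subgroup.center ↥L ∧ π.range ≤ Subgroup.centralizer ({x} : Set G) ∧ ⁅(L ⊔ L.map (MulAut.conj x).toMonoidHom) ⊓ Subgroup.centralizer ({x} : Set G), (L ⊔ L.map (MulAut.conj x).toMonoidHom) ⊓ Subgroup.centralizer ({x} : Set G)⁆ = π.range := by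
  have hx2 : x * x = 1 := by
    have := pow_orderOf_eq_one x
    rwa [hx, pow_two] at this
  have hxi : x⁻¹ = x := inv_eq_of_mul_eq_one_right hx2
  have hcc : ∀ g : G, x * (x * g * x⁻¹) * x⁻¹ = g := by
    intro g
    calc x * (x * g * x⁻¹) * x⁻¹ = (x * x) * g * (x * x)⁻¹ := by group
      _ = g := by rw [hx2]; group
  set L' : Subgroup G := L.map (MulAut.conj x).toMonoidHom with hL'
  have hLL' : L ≤ Subgroup.centralizer (L' : Set G) :=
    Subgroup.commutator_eq_bot_iff_le_centralizer.mp hcomm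
  have hc : ∀ a ∈ L, ∀ b ∈ L, a * (x * b * x⁻¹) = (x * b * x⁻¹) * a := by
    intro a ha b hb
    have h2 := (Subgroup.mem_centralizer_iff.mp (hLL' ha)) (x * b * x⁻¹) ⟨b, hb, rfl⟩
    exact h2.symm
  let π : ↥L →* G := MonoidHom.mk' (fun l => (l : G) * (x * (l : G) * x⁻¹)) (by
    intro a b
    have := hc b b.2 a a.2
    simp only [Subgroup.coe_mul]
    calc (a : G) * b * (x * (a * b) * x⁻¹) = a * (b * (x * a * x⁻¹)) * (x * b * x⁻¹) := by group
      _ = a * ((x * a * x⁻¹) * b) * (x * b * x⁻¹) := by rw [this]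
      _ = _ := by group)
  have hπ : ∀ l : ↥L, π l = (l : G) * (x * (l : G) * x⁻¹) := fun l => rfl
  have hrange : π.range ≤ Subgroup.centralizer ({x} : Set G) := by
    rintro _ ⟨l, rfl⟩
    rw [Subgroup.mem_centralizer_singleton_iff, hπ]
    have := hc l l.2 l l.2
    calc (l : G) * (x * l * x⁻¹) * x = (x * x) * l * x * l := by rw [hx2]; group
      _ = x * ((x * l * x⁻¹) * l) := by rw [hxi]; group
      _ = _ := by rw [this]
  have hrange' : π.range ≤ L ⊔ L' := by
    rintro _ ⟨l, rfl⟩
    rw [hπ]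
    exact Subgroup.mul_mem_sup l.2 ⟨l, l.2, rfl⟩
  refine ⟨π, hπ, ?_, hrange, ?_⟩
  · intro l hl
    rw [MonoidHom.mem_ker, hπ] at hl
    rw [Subgroup.mem_center_iff]
    intro g
    apply Subtype.ext
    have h1 : x * (l : G)⁻¹ * x⁻¹ = (l : G) := by
      have := eq_inv_of_mul_eq_one_left hl
      calc x * (l : G)⁻¹ * x⁻¹ = (x * (l : G) * x⁻¹)⁻¹ := by group
        _ = l := this.symm
    have := hc g g.2 _ (L.inv_mem l.2)
    rw [h1] at this
    simpa using this
  · have hLp : Group.IsPerfect L := Subgroup.isPerfect_iff.mpr hperf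
    have hDp : Group.IsPerfect π.range := Group.IsPerfect.range π
    apply le_antisymm
    · -- every element of the centralizer is `π l * w` with `w` central in `L ⊔ L'`
      have key : ∀ g ∈ (L ⊔ L') ⊓ Subgroup.centralizer ({x} : Set G),
          ∃ l : L, ∃ w : G, g = π l * w ∧ ∀ h ∈ L ⊔ L', h * w = w * h := by
        rintro g ⟨hg, hgx⟩
        have hnorm : L ≤ Subgroup.normalizer (L' : Set G) :=
          hLL'.trans (Subgroup.centralizer_le_normalizer _)
        have hg' : g ∈ (L : Set G) * (L' : Set G) := by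
          rw [← Subgroup.coe_mul_of_left_le_normalizer_right L L' hnorm]; exact hg
        obtain ⟨l, hl, _, ⟨m, hm, rfl⟩, rfl⟩ := hg'
        have hm' : (MulAut.conj x).toMonoidHom m = x * m * x⁻¹ := rfl
        simp only [hm'] at hgx ⊢
        have hgx' : x * (l * (x * m * x⁻¹)) * x⁻¹ = l * (x * m * x⁻¹) := by
          have := Subgroup.mem_centralizer_singleton_iff.mp hgx
          rw [← this]; group
        have h3 : m * (x * l * x⁻¹) = l * (x * m * x⁻¹) := by
          rw [← hgx', hc m hm l hl]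
          calc x * l * x⁻¹ * m = x * l * x⁻¹ * (x * (x * m * x⁻¹) * x⁻¹) := by rw [hcc]
            _ = _ := by group
        have h4 : l⁻¹ * m = x * (m * l⁻¹) * x⁻¹ := by
          calc l⁻¹ * m = l⁻¹ * (m * (x * l * x⁻¹)) * (x * l * x⁻¹)⁻¹ := by group
            _ = _ := by rw [h3]; group
        have hwL : x * (l⁻¹ * m) * x⁻¹ ∈ L := by
          rw [h4, hcc]; exact L.mul_mem hm (L.inv_mem hl)
        refine ⟨⟨l, hl⟩, x * (l⁻¹ * m) * x⁻¹, by rw [hπ]; group, ?_⟩
        intro h hh
        have : L ⊔ L' ≤ Subgroup.centralizer {x * (l⁻¹ * m) * x⁻¹} := by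
          apply sup_le
          · intro a ha
            rw [Subgroup.mem_centralizer_singleton_iff]
            exact hc a ha _ (L.mul_mem (L.inv_mem hl) hm)
          · rintro _ ⟨a, ha, rfl⟩
            rw [Subgroup.mem_centralizer_singleton_iff]
            exact (hc _ hwL a ha).symm
        exact Subgroup.mem_centralizer_singleton_iff.mp (this hh)
      rw [Subgroup.commutator_le]
      intro g hg g' hg'
      obtain ⟨l, w, rfl, hw⟩ := key g hg
      obtain ⟨l', w', hg'', hw'⟩ := key g' hg'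
      have e1 : ⁅π l * w, g'⁆ = ⁅π l, g'⁆ := by
        have := hw g' hg'.1
        simp only [commutatorElement_def]
        calc π l * w * g' * (π l * w)⁻¹ * g'⁻¹ = π l * (w * g') * w⁻¹ * (π l)⁻¹ * g'⁻¹ := by group
          _ = _ := by rw [← this]; group
      have e2 : ⁅π l, π l' * w'⁆ = ⁅π l, π l'⁆ := by
        have := hw' (π l)⁻¹ (Subgroup.inv_mem _ (hrange' ⟨l, rfl⟩))
        simp only [commutatorElement_def]
        calc π l * (π l' * w') * (π l)⁻¹ * (π l' * w')⁻¹
            = π l * π l' * (w' * (π l)⁻¹) * w'⁻¹ * (π l')⁻¹ := by group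
          _ = _ := by rw [← this]; group
      rw [e1, hg'', e2, ← map_commutatorElement]
      exact ⟨_, rfl⟩
    · calc π.range = ⁅π.range, π.range⁆ := (Subgroup.commutator_eq_self).symm
        _ ≤ _ := Subgroup.commutator_mono (le_inf hrange' hrange) (le_inf hrange' hrange)

end Cfsg.Agent.S1314
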