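import Cfsg.Statements.S1305
import Cfsg.Agent.Sig.Pump
import Cfsg.Agent.PLocal.ElemAb
import Cfsg.Agent.Solv.Coprime
import Cfsg.Agent.S1301

set_option autoImplicit false
open Cfsg

namespace Cfsg.Agent.S1305

open Subgroup CL CL.PComp CL.Sig
open scoped Pointwise commutatorElement

instance factTwo : Fact (Nat.Prime 2) := ⟨Nat.prime_two⟩

variable {G : Type*} [Group G]

theorem pRankLE_iff {p k : ℕ} {H : Subgroup G} : PRankLE p k H ↔
    ∀ A : Subgroup G, A ≤ H → IsElementaryAbelian p A → Nat.card A ≤ p ^ k := by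
  constructor
  · intro h A hA hE
    rw [← card_subgroupOf_of_le hA]
    exact h _ (EA.subgroupOf hE H).1 (EA.subgroupOf hE H).2
  · intro h A h1 h2
    rw [← card_map_subtype]
    exact h _ (map_subtype_le _) (EA.map ⟨h1, h2⟩ _)

variable [Finite G]

theorem le_layerIn (hO : oddCore G = ⊥) (hB : HasBProperty G) {a b : G} (ha : orderOf a = 2)
    (hb : orderOf b = 2) (hab : a ∈ centralizer {b}) {K : Subgroup G}
    (hK : CompIn K (centralizer {b} ⊓ centralizer {a})) (h2 : 2 ∣ Nat.card K) :
    K ≤ layerIn (centralizer {b}) := by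
  refine le_trans ?_ (pLayerIn_le_layerIn_of_hasBProperty hO hB hb)
  have hKb : K ≤ centralizer {b} := hK.le.trans inf_le_left
  have hT : IsPGroup 2 (zpowers (⟨a, hab⟩ : centralizer ({b} : Set G))) :=
    IsPGroup.of_card (n := 1) (by rw [Nat.card_zpowers, ← orderOf_coe, ha, pow_one])
  have h1 := Cfsg.Agent.S1301.result _ hT
  have hc : (centralizer {b} ⊓ centralizer {a}).subgroupOf (centralizer {b}) =
      centralizer (zpowers (⟨a, hab⟩ : centralizer ({b} : Set G)) : Set _) := by
    rw [centralizer_zpowers']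
    ext g
    simp only [mem_subgroupOf, mem_inf, g.2, true_and, mem_centralizer_singleton_iff,
      Subtype.ext_iff, Subgroup.coe_mul]
  have h3 := hK.subgroupOf (V := centralizer {b}) inf_le_left
  rw [hc] at h3
  have h4 : PCompIn 2 (K.subgroupOf (centralizer {b})) _ :=
    pCompIn_iff.2 ⟨h3.le, h3.isComponent.1,
      pQuasi_of_quasisimple h3.2 (by rwa [card_subgroupOf_of_le hKb])⟩
  rw [← map_subgroupOf_eq_of_le hKb]
  exact map_mono (h4.le_pLayerIn.trans h1)

theorem exists_big {H D B : Subgroup G} {a : G} (ha : a ∈ H) (hD : CompIn D H)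
    (hc : ⁅D, MulAut.conj a • D⁆ = ⊥) (π : D →* G) (hπ : ∀ d : D, π d = d * (a * d * a⁻¹))
    (hinj : Function.Injective π) (hBH : B ≤ H)
    (hBle : B ≤ centralizer {a} ⊓ centralizer (π.range : Set G)) (hB : IsElementaryAbelian 2 B)
    {E : Subgroup G} (hE : IsElementaryAbelian 2 E) (hEK : E ≤ π.range) (hE2 : 2 < Nat.card E) :
    ∃ W : Subgroup G, W ≤ H ⊓ centralizer (D : Set G) ∧ IsElementaryAbelian 2 W ∧
      Nat.card B < Nat.card W := by
  have hD' := hD.conj_of_mem ha
  have hBa : ∀ x ∈ B, x * a = a * x := fun x hx => mem_centralizer_singleton_iff.1 (hBle hx).1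
  have hBπ : ∀ x ∈ B, ∀ d ∈ D, x * (d * (a * d * a⁻¹)) = d * (a * d * a⁻¹) * x := by
    intro x hx d hd
    rw [← hπ ⟨d, hd⟩]
    exact ((hBle hx).2 _ ⟨_, rfl⟩).symm
  have hB0 : normalizer (D : Set G) ⊓ B ≤ centralizer (D : Set G) :=
    le_centralizer_of_commute_diag hD.commutator_self hc inf_le_left
      (inf_le_right.trans (hBle.trans inf_le_left)) fun x hx => hBπ x hx.2
  have horb : ∀ x ∈ B, x ∈ normalizer (D : Set G) ∨ MulAut.conj x • D = MulAut.conj a • D := by
    intro x hx
    have hx' := hD.conj_of_mem (hBH hx)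
    rcases hx'.eq_or_commute hD with h1 | h1
    · exact Or.inl (Cj.mem_normalizer_iff_conj_eq.2 h1)
    refine Or.inr ((hx'.eq_or_commute hD').resolve_right fun h2 => ?_)
    refine quasisimple_commutator_ne_bot hD.2 (commutator_eq_bot_of_forall fun d hd e he => ?_)
    have hd' : x * d * x⁻¹ ∈ MulAut.conj x • D := smul_mem_pointwise_smul _ (MulAut.conj x) _ hd
    have he' : a * e * a⁻¹ ∈ MulAut.conj a • D := smul_mem_pointwise_smul _ (MulAut.conj a) _ he
    have h3 : Commute (x * d * x⁻¹) (e * (a * e * a⁻¹)) :=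
      Commute.mul_right (commute_of_commutator_eq_bot h1 hd' he)
        (commute_of_commutator_eq_bot h2 hd' he')
    have h4 : Commute x (e * (a * e * a⁻¹)) := hBπ x hx e he
    have h5 : Commute d (e * (a * e * a⁻¹)) := by
      have := (h4.inv_left.mul_left h3).mul_left h4
      rwa [show x⁻¹ * (x * d * x⁻¹) * x = d by group] at this
    have h6 : Commute d (a * e * a⁻¹) := commute_of_commutator_eq_bot hc hd he'
    have := h5.mul_right h6.inv_right
    rwa [mul_inv_cancel_right] at this
  have hidx : (normalizer (D : Set G)).relIndex B ∣ 2 := by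
    rw [relIndex_dvd_two_iff]
    by_cases h0 : ∀ x ∈ B, x ∈ normalizer (D : Set G)
    · exact ⟨1, one_mem _, fun x hx => Or.inr (h0 x hx)⟩
    · push Not at h0
      obtain ⟨y, hy, hy'⟩ := h0
      refine ⟨y, hy, fun x hx => (horb x hx).symm.imp_left fun h => ?_⟩
      rw [Cj.mem_normalizer_iff_conj_eq, map_mul, mul_smul, (horb y hy).resolve_left hy', ← h,
        ← mul_smul, ← map_mul, ← pow_two, hB.2 x hx, map_one, one_smul]
  let ψ : D →* G := (MulAut.conj a).toMonoidHom.comp D.subtype
  have hψ : Function.Injective ψ := (MulAut.conj a).injective.comp D.subtype_injective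
  have hE' : (E.comap π).map ψ ≤ MulAut.conj a • D := by
    rintro _ ⟨d, -, rfl⟩
    exact smul_mem_pointwise_smul _ (MulAut.conj a) _ d.2
  have hcard : Nat.card ((E.comap π).map ψ) = Nat.card E := by
    rw [card_map_of_injective hψ, ← card_map_of_injective (f := π) hinj,
      map_comap_eq_self hEK]
  have hcen : normalizer (D : Set G) ⊓ B ≤ centralizer (((E.comap π).map ψ : Subgroup G) : Set G) := by
    rintro x hx _ ⟨d, -, rfl⟩
    have h1 : Commute x a := hBa x hx.2
    have h2 : Commute x d := (hB0 hx d d.2).symm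
    exact ((h1.mul_right h2).mul_right h1.inv_right).symm
  have hdis : normalizer (D : Set G) ⊓ B ⊓ (E.comap π).map ψ = ⊥ := by
    rw [eq_bot_iff]
    rintro _ ⟨hx, d, -, rfl⟩
    have h1 : a * d * a⁻¹ * a = a * (a * d * a⁻¹) := hBa _ hx.2
    have h2 : (d : G) = a * d * a⁻¹ := by
      rw [inv_mul_cancel_right] at h1
      exact mul_left_cancel h1
    have h3 : (a * d * a⁻¹) ^ 2 = 1 := hB.2 _ hx.2
    have h4 : π d = π 1 := by
      rw [map_one, hπ, ← h3, pow_two, ← h2]
    rw [hinj h4, map_one]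
    exact one_mem _
  refine ⟨(normalizer (D : Set G) ⊓ B) ⊔ (E.comap π).map ψ, sup_le (le_inf
    (inf_le_right.trans hBH) hB0) (le_inf (hE'.trans hD'.le) (hE'.trans ?_)),
    EA.sup (EA.mono hB inf_le_right) (EA.map (EA.comap_of_injective hE hinj) _) hcen, ?_⟩
  · rwa [← commutator_eq_bot_iff_le_centralizer, commutator_comm]
  · rw [EA.card_sup_of_disjoint (EA.le_normalizer_of_le_centralizer hcen) hdis, hcard,
      ← EA.card_inf_mul_relIndex (normalizer (D : Set G)) B]
    exact Nat.mul_lt_mul_of_pos_left ((Nat.le_of_dvd two_pos hidx).trans_lt hE2) Nat.card_pos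

/-- Let G be a finite group of component type with the B-property and no nontrivial normal subgroup of odd order. Let a be an involution and K a component of C_G(a) such that (a) |K| is maximal among the orders of components of centralizers of involutions of G, (b) subject to (a) the 2-rank of the centralizer of K in C_G(a) is as large as possible, and (c) K has 2-rank at least 2. If B is an elementary abelian 2-subgroup of that centralizer of the largest possible order, then K is a component of C_G(b) for every non-identity b ∈ B. -/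
theorem result {G : Type*} [Group G] [Finite G] (hO : Cfsg.oddCore G = ⊥) (hB : Cfsg.HasBProperty G) (hct : Cfsg.IsComponentType G) (a : G) (ha : orderOf a = 2) (K : Subgroup G) (hKa : K ≤ Subgroup.centralizer ({a} : Set G)) (hK : Cfsg.IsComponent (K.subgroupOf (Subgroup.centralizer ({a} : Set G)))) (hmax : ∀ y : G, orderOf y = 2 → ∀ K' : Subgroup G, K' ≤ Subgroup.centralizer ({y} : Set G) → Cfsg.IsComponent (K'.subgroupOf (Subgroup.centralizer ({y} : Set G))) → Nat.card ↥K' ≤ Nat.card ↥K ∧ (Nat.card ↥K' = Nat.card ↥K → ∀ k : ℕ, Cfsg.PRankLE 2 k ↥(Subgroup.centralizer ({a} : Set G) ⊓ Subgroup.centralizer (K : Set G)) → Cfsg.PRankLE 2 k ↥(Subgroup.centralizer ({y} : Set G) ⊓ Subgroup.centralizer (K' : Set G)))) (hrk : ¬ Cfsg.PRankLE 2 1 ↥K) (B : Subgroup G) (hBle : B ≤ Subgroup.centralizer ({a} : Set G) ⊓ Subgroup.centralizer (K : Set G)) (hBel : Cfsg.IsElementaryAbelian 2 B) (hBmax : ∀ B' : Subgroup G, B' ≤ Subgroup.centralizer ({a} : Set G) ⊓ Subgroup.centralizer (K : Set G) → Cfsg.IsElementaryAbelian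 2 B' → Nat.card ↥B' ≤ Nat.card ↥B) (b : G) (hb : b ∈ B) (hb1 : b ≠ 1) : K ≤ Subgroup.centralizer ({b} : Set G) ∧ Cfsg.IsComponent (K.subgroupOf (Subgroup.centralizer ({b} : Set G))) := by
  have hbo : orderOf b = 2 := EA.orderOf_eq hBel hb hb1
  have hKb : K ≤ centralizer {b} := fun k hk =>
    mem_centralizer_singleton_iff.2 ((hBle hb).2 k hk)
  have hab : a ∈ centralizer {b} :=
    mem_centralizer_singleton_iff.2 (mem_centralizer_singleton_iff.1 (hBle hb).1).symm
  have hK' : CompIn K (centralizer {b} ⊓ centralizer {a}) :=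
    (compIn_iff.2 ⟨hKa, hK⟩).of_le (le_inf hKb hKa) inf_le_right
  rw [pRankLE_iff] at hrk
  push Not at hrk
  obtain ⟨E, hEK, hE, hE2⟩ := hrk
  have h2 : 2 ∣ Nat.card K := by
    obtain ⟨n, hn⟩ := EA.exists_card_eq hE
    refine dvd_trans ?_ (card_dvd_of_le hEK)
    rw [hn] at hE2 ⊢
    exact dvd_pow_self 2 (by rintro rfl; simp at hE2)
  obtain ⟨D, hD, h⟩ := hK'.pumpup ha hab (le_layerIn hO hB ha hbo hab hK' h2)
  obtain ⟨hle, hr⟩ := hmax b hbo D hD.le hD.isComponent
  rcases h with ⟨h, -⟩ | ⟨hc, π, hπ, rfl, -⟩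
  · rw [eq_of_le_of_card_ge h hle]
    exact ⟨hD.le, hD.isComponent⟩
  · exfalso
    have hbij : Function.Bijective π.rangeRestrict :=
      (π.rangeRestrict_surjective.bijective_of_nat_card_le hle)
    have hinj : Function.Injective π := MonoidHom.rangeRestrict_injective_iff.1 hbij.1
    obtain ⟨r, hr'⟩ := EA.exists_card_eq hBel
    have h3 := pRankLE_iff.1 (hr (Nat.card_congr (Equiv.ofBijective _ hbij)) r
      (pRankLE_iff.2 fun A hA hAe => hr' ▸ hBmax A hA hAe))
    obtain ⟨W, hW, hWe, hlt⟩ := exists_big hab hD hc π hπ hinj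
      (fun x hx => mem_centralizer_singleton_iff.2 (EA.comm hBel hx hb)) hBle hBel hE hEK
      (by simpa using hE2)
    have := h3 W hW hWe
    omega

end Cfsg.Agent.S1305
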