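import Cfsg.Statements.S1307
import Cfsg.Agent.Base
import Cfsg.Agent.Sig.Standard
import Cfsg.Agent.Solv.UniqueSubgroupP
import Cfsg.Agent.Invol.Index2
import Cfsg.Agent.S0201

set_option autoImplicit false
open Cfsg

namespace Cfsg.Agent.S1307

open CL CL.Sig Subgroup
open scoped Pointwise IsMulCommutative

/-- A perfect group of even order and `2`-rank one has generalized quaternion Sylow `2`-subgroups. -/
theorem sylow_quaternion {L : Type*} [Group L] [Finite L] [hp : Group.IsPerfect L]
    (heven : Even (Nat.card L)) (hrk : PRankLE 2 1 L) (S : Sylow 2 L) :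
    ∃ n : ℕ, Nonempty ((S : Subgroup L) ≃* QuaternionGroup (2 ^ (n + 1))) := by
  have : Fact (Nat.Prime 2) := ⟨Nat.prime_two⟩
  rcases isCyclic_or_quaternion_of_forall_elementary S.isPGroup' (fun A hA h2 => by
    have h1 : Nat.card (A.map (S : Subgroup L).subtype) ≤ 2 ^ 1 := hrk _ inferInstance (by
      rintro _ ⟨a, ha, rfl⟩
      rw [← map_pow, h2 a ha, map_one])
    rw [card_map_of_injective (S : Subgroup L).subtype_injective] at h1
    have h3 : 0 < Nat.card A := Nat.card_pos
    by_cases h4 : Nat.card A = 1
    · have := (Nat.card_eq_one_iff_unique.mp h4).1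
      infer_instance
    · exact isCyclic_of_prime_card (p := 2) (by omega)) with h | ⟨-, n, hn, h⟩
  · obtain ⟨H, hH⟩ := Invol.exists_index_two_of_isCyclic heven S h
    have hN : H.Normal := normal_of_index_eq_two hH
    have h1 : commutator L ≤ H := by
      refine Subgroup.Normal.quotient_commutative_iff_commutator_le.mp ?_
      have : IsCyclic (L ⧸ H) := isCyclic_of_prime_card (p := 2) hH
      infer_instance
    rw [hp.commutator_eq_top, top_le_iff] at h1
    rw [h1, index_top] at hH
    exact absurd hH (by norm_num)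
  · obtain ⟨m, rfl⟩ := Nat.exists_eq_add_of_le' hn
    exact ⟨m, h⟩

/-- A quasisimple group with generalized quaternion Sylow `2`-subgroups has a central involution. -/
theorem exists_central_involution {L : Type*} [Group L] [Finite L] (hL : IsQuasisimple L)
    (heven : Even (Nat.card L)) (S : Sylow 2 L) (n : ℕ)
    (e : (S : Subgroup L) ≃* QuaternionGroup (2 ^ (n + 1))) :
    ∃ t ∈ center L, orderOf t = 2 := by
  have : Fact (Nat.Prime 2) := ⟨Nat.prime_two⟩
  have hp := hL.1
  have hcop : (Nat.card (pPrimeCore 2 L)).Coprime 2 := PComp.coprime_card_pPrimeCore'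
  have hO : pPrimeCore 2 L ≤ center L := by
    refine (quasisimple_normal hL _).resolve_left fun h => ?_
    rw [h, card_top, Nat.coprime_two_right, ← Nat.not_even_iff_odd] at hcop
    exact hcop heven
  let f := QuotientGroup.mk' (pPrimeCore 2 L)
  have hf : Function.Surjective f := QuotientGroup.mk'_surjective _
  have hinj : Function.Injective (f.subgroupMap (S : Subgroup L)) := by
    rw [injective_iff_map_eq_one]
    intro x hx
    have h1 : (x : L) ∈ pPrimeCore 2 L := by
      rw [← QuotientGroup.ker_mk' (pPrimeCore 2 L)]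
      exact congrArg Subtype.val hx
    obtain ⟨k, hk⟩ := S.isPGroup' x
    have h2 : orderOf (x : L) ∣ 2 ^ k := by
      rw [orderOf_dvd_iff_pow_eq_one]; exact congrArg Subtype.val hk
    have h3 : orderOf (x : L) ∣ Nat.card (pPrimeCore 2 L) := orderOf_dvd_natCard _ h1
    have := Nat.eq_one_of_dvd_coprimes (hcop.pow_right k) h3 h2
    exact Subtype.ext (orderOf_eq_one_iff.mp this)
  have e' : ((S : Subgroup L).map f) ≃* QuaternionGroup (2 ^ (n + 1)) :=
    (MulEquiv.ofBijective _ ⟨hinj, f.subgroupMap_surjective _⟩).symm.trans e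
  have hZ := Cfsg.Agent.S0201.result (S.mapSurjective hf) n e' (fun N hN hodd => by
    have := PComp.le_pPrimeCore' (p := 2) hN (Nat.coprime_two_right.mpr hodd)
    rwa [PComp.pPrimeCore_quotient_eq_bot, le_bot_iff] at this)
  have h1 : (center (L ⧸ pPrimeCore 2 L)).comap f ≤ center L := by
    rw [← commutator_top_right_eq_bot_iff_le_center]
    refine commutator_eq_bot_of_perfect hp.commutator_eq_top ?_
    rw [commutator_top_right_eq_bot_iff_le_center]
    refine le_trans ?_ ((QuotientGroup.ker_mk' (pPrimeCore 2 L)).le.trans hO)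
    rw [← Subgroup.map_eq_bot_iff, map_commutator,
      map_comap_eq_self_of_surjective hf, commutator_center_left]
  rw [← Invol.even_card_iff_exists_involution, even_iff_two_dvd]
  refine dvd_trans ?_ (card_dvd_of_le h1)
  have h2 := card_map_dvd ((center (L ⧸ pPrimeCore 2 L)).comap f) f
  rwa [map_comap_eq_self_of_surjective hf, hZ] at h2

/-- Let G be finite, x an involution and L ≤ C_G(x) a component of C_G(x) of even order and 2-rank 1, such that L is a component of C_G(y) for every involution y ∈ C_G(L). Then some involution of L is a classical involution of G. -/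
theorem result {G : Type*} [Group G] [Finite G] (x : G) (hx : orderOf x = 2) (L : Subgroup G) (hLx : L ≤ Subgroup.centralizer ({x} : Set G)) (hL : Cfsg.IsComponent (L.subgroupOf (Subgroup.centralizer ({x} : Set G)))) (heven : Even (Nat.card ↥L)) (hrk : Cfsg.PRankLE 2 1 ↥L) (hne : ∀ y : G, orderOf y = 2 → y ∈ Subgroup.centralizer (L : Set G) → L ≤ Subgroup.centralizer ({y} : Set G) ∧ Cfsg.IsComponent (L.subgroupOf (Subgroup.centralizer ({y} : Set G)))) : ∃ t ∈ L, Cfsg.IsClassicalInvolution t := by
  have hq : IsQuasisimple L := (compIn_iff.mpr ⟨hLx, hL⟩).2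
  have := hq.1
  let S : Sylow 2 L := default
  obtain ⟨n, ⟨e⟩⟩ := sylow_quaternion heven hrk S
  obtain ⟨t, ht, ht2⟩ := exists_central_involution hq heven S n e
  have ht2' : orderOf (t : G) = 2 := by rw [orderOf_coe, ht2]
  have htc : (t : G) ∈ centralizer (L : Set G) := fun y hy =>
    congrArg Subtype.val (mem_center_iff.mp ht ⟨y, hy⟩)
  obtain ⟨h1, h2⟩ := hne t ht2' htc
  exact ⟨t, t.2, ht2', L, h1, t.2, h2.1, S, n, ⟨e⟩⟩

end Cfsg.Agent.S1307
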