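import Cfsg.Statements.S1313
import Cfsg.Agent.Base
import Cfsg.Agent.Sig.CompLayer

set_option autoImplicit false
open Cfsg

namespace Cfsg.Agent.S1313

/-- For a finite group H, |H| ≤ |F*(H)|!. -/
theorem result {H : Type*} [Group H] [Finite H] : Nat.card H ≤ Nat.factorial (Nat.card ↥(Cfsg.generalizedFittingSubgroup H)) := by
  classical
  set F := Cfsg.generalizedFittingSubgroup H with hF
  let φ : H →* Equiv.Perm F := (MulAut.toPerm F).comp MulAut.conjNormal
  have hker : φ.ker ≤ F := by
    refine le_trans ?_ CL.Sig.centralizer_genFitting_le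
    intro x hx y hy
    have := congrArg Subtype.val (DFunLike.congr_fun (MonoidHom.mem_ker.mp hx) ⟨y, hy⟩)
    have h2 : x * y * x⁻¹ = y := this
    rw [mul_inv_eq_iff_eq_mul] at h2
    exact h2.symm
  have hrange : φ.range ≤ MulAction.stabilizer (Equiv.Perm F) (1 : F) := by
    rintro _ ⟨x, rfl⟩
    exact map_one (MulAut.conjNormal x : MulAut F)
  have h1 : Nat.card H = Nat.card φ.ker * Nat.card φ.range := by
    rw [← Subgroup.index_ker, Subgroup.card_mul_index]
  have h2 : Nat.card (MulAction.stabilizer (Equiv.Perm F) (1 : F)) * Nat.card F =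
      (Nat.card F).factorial := by
    rw [← Nat.card_perm, ← MulAction.index_stabilizer_of_transitive (Equiv.Perm F) (1 : F),
      Subgroup.card_mul_index]
  rw [h1, ← h2, mul_comm]
  exact Nat.mul_le_mul (Subgroup.card_le_of_le hrange) (Subgroup.card_le_of_le hker)

end Cfsg.Agent.S1313
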