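import Cfsg.Statements.S1316
import Cfsg.Agent.Base
import Cfsg.Agent.Sig.CompLayer

set_option autoImplicit false
open Cfsg

namespace Cfsg.Agent.S1316

/-- For a finite group X, E(X) equals the intersection of the derived series of F*(X) (its last term). -/
theorem result {X : Type*} [Group X] [Finite X] : (⨅ n : ℕ, (derivedSeries ↥(Cfsg.generalizedFittingSubgroup X) n).map (Cfsg.generalizedFittingSubgroup X).subtype) = Cfsg.layer X := by
  set F := Cfsg.generalizedFittingSubgroup X with hF
  refine le_antisymm ?_ (le_iInf fun n => ?_)
  · have key : ∀ n, (derivedSeries F n).map F.subtype ≤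
        layer X ⊔ (fittingSubgroup X).lowerCentralSeries n := by
      intro n
      induction n with
      | zero => exact Subgroup.map_subtype_le _
      | succ n ih =>
        rw [derivedSeries_succ, Subgroup.map_commutator]
        refine (Subgroup.commutator_mono ih ih).trans ?_
        refine CL.Sig.commutator_sup_left_le
          ((Subgroup.commutator_le_left _ _).trans le_sup_left)
          (CL.Sig.commutator_sup_right_le ((Subgroup.commutator_le_right _ _).trans le_sup_left) ?_)
        exact le_sup_of_le_right
          (Subgroup.commutator_mono le_rfl (Subgroup.lowerCentralSeries_le_self _ n))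
    obtain ⟨n, hn⟩ := (Subgroup.isNilpotent_iff_lowerCentralSeries _).mp
      (CL.Sig.fitting_isNilpotent (G := X))
    refine (iInf_le _ n).trans ((key n).trans ?_)
    rw [hn, sup_bot_eq]
  · induction n with
    | zero =>
      rw [derivedSeries_zero, ← MonoidHom.range_eq_map, Subgroup.range_subtype]
      exact CL.Sig.layer_le_genFitting
    | succ n ih =>
      rw [derivedSeries_succ, Subgroup.map_commutator]
      exact CL.Sig.layer_commutator_self.ge.trans (Subgroup.commutator_mono ih ih)

end Cfsg.Agent.S1316
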