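import Cfsg.Statements.S1322
import Cfsg.Agent.PComp.LBalance
import Cfsg.Agent.Sig.Pump
import Cfsg.Agent.S0205

set_option autoImplicit false
open Cfsg

namespace Cfsg.Agent.S1322

/-- Let G be finite with L_{2'}(G) = E(G), t an involution and L ≤ C_G(t) a component of C_G(t). Then there is a component D of G with: L = D; or L < D and D = ⁅D, ⟨t⟩⁆; or tDt⁻¹ ≠ D and L is the layer of C_{D ⊔ tDt⁻¹}(t). -/
theorem result {G : Type*} [Group G] [Finite G] (hL2 : Cfsg.pLayer 2 G = Cfsg.layer G) (t : G) (ht : orderOf t = 2) (L : Subgroup G) (hLt : L ≤ Subgroup.centralizer ({t} : Set G)) (hL : Cfsg.IsComponent (L.subgroupOf (Subgroup.centralizer ({t} : Set G)))) : ∃ D : Subgroup G, Cfsg.IsComponent D ∧ (L = D ∨ (L < D ∧ D = ⁅D, Subgroup.zpowers t⁆) ∨ (D.map (MulAut.conj t).toMonoidHom ≠ D ∧ L = (Cfsg.layer ↥((D ⊔ D.map (MulAut.conj t).toMonoidHom) ⊓ Subgroup.centralizer ({t} : Set G))).map ((D ⊔ D.map (MulAut.conj t).toMonoidHom) ⊓ Subgroup.centralizer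 ({t} : Set G)).subtype)) := by
  have hK : CL.Sig.CompIn L (Subgroup.centralizer {t}) := CL.Sig.compIn_iff.2 ⟨hLt, hL⟩
  have hev : 2 ∣ Nat.card (L.subgroupOf (Subgroup.centralizer ({t} : Set G))) := by
    by_contra h
    exact CL.Sig.quasisimple_not_solvable hL.2
      (Cfsg.Agent.S0205.result (Nat.odd_iff.2 (Nat.two_dvd_ne_zero.1 h)))
  have hP : CL.PComp.PCompIn 2 L (Subgroup.centralizer {t}) :=
    ⟨hLt, CL.PComp.pcomp_of_component hL hev⟩
  have hR : IsPGroup 2 (Subgroup.zpowers t) :=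
    CL.PLoc.isPGroup_zpowers (k := 1) (by rw [pow_one, ← ht, pow_orderOf_eq_one])
  have hLE : L ≤ CL.Sig.layerIn ⊤ := by
    rw [CL.Sig.layerIn_top, ← hL2]
    refine hP.le_pLayerIn.trans ?_
    rw [← CL.PComp.centralizer_zpowers_eq]
    exact CL.PComp.pLayerIn_centralizer_le_pLayer hR
  obtain ⟨D, hD, h⟩ := CL.Sig.CompIn.pumpup ht (Subgroup.mem_top t) (by rwa [top_inf_eq]) hLE
  refine ⟨D, CL.Sig.compIn_top_iff.1 hD, ?_⟩
  rcases h with ⟨h1, h2⟩ | ⟨h1, π, -, -, h2⟩
  · rcases hD.le_commutator_or_commute (V := Subgroup.zpowers t) le_top with h3 | h3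
    · rcases h1.eq_or_lt with h4 | h4
      · exact Or.inl h4
      · exact Or.inr (Or.inl ⟨h4, le_antisymm h3
          (Subgroup.le_normalizer_iff_commutator_le_left.1 (Subgroup.zpowers_le.2 h2))⟩)
    · rw [Subgroup.commutator_eq_bot_iff_le_centralizer, CL.PComp.centralizer_zpowers_eq] at h3
      exact Or.inl (hK.eq_of_le hD.2 h1 h3)
  · refine Or.inr (Or.inr ⟨fun h3 => ?_, le_antisymm ?_ ?_⟩)
    · rw [CL.Transfer.conj_smul_eq_map, h3, hD.commutator_self] at h1
      exact hD.ne_bot h1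
    · refine (hK.of_le ?_ inf_le_right).le_layerIn
      rw [← h2]
      exact Subgroup.commutator_le_self _
    · refine CL.Sig.layerIn_le_iff.2 fun M hM => ?_
      rw [← hM.commutator_self, ← h2]
      exact Subgroup.commutator_mono hM.le hM.le

end Cfsg.Agent.S1322
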