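import Cfsg.Agent.Base
import Cfsg.Statements.S1323
import Cfsg.Agent.Sig.CompLayer
import Cfsg.Agent.Invol.StrEmb

set_option autoImplicit false
open Cfsg

namespace Cfsg.Agent.S1323

open CL.Sig Subgroup Equiv Equiv.Perm
open scoped Pointwise

variable {α : Type*} [Fintype α] [DecidableEq α]

/-- The even permutations supported on `s`. -/
abbrev R (s : Finset α) : Subgroup (alternatingGroup α) := (alternatingGroup.ofSubtype s).range

theorem mem_R {s : Finset α} {k : alternatingGroup α} : k ∈ R s ↔ (k : Perm α).support ⊆ s :=
  alternatingGroup.mem_range_ofSubtype_iff s k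

theorem map_conj_R (s : Finset α) (g : alternatingGroup α) :
    (R s).map (MulAut.conj g).toMonoidHom = R (g • s) :=
  alternatingGroup.conj_smul_range_ofSubtype s g

theorem exists_threeCycle {x y z : α} (h : List.Nodup [x, y, z]) :
    ∃ c : alternatingGroup α, (c : Perm α).support = {x, y, z} := by
  have h1 : x ≠ y := by rintro rfl; simp at h
  have h2 : y ≠ z := by rintro rfl; simp at h
  exact ⟨⟨swap x y * swap y z, mul_mem_alternatingGroup_of_isSwap ⟨x, y, h1, rfl⟩ ⟨y, z, h2, rfl⟩⟩,
    support_swap_mul_swap h⟩

theorem centralizer_R (s : Finset α) (hs : 4 ≤ s.card) :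
    centralizer (R s : Set (alternatingGroup α)) = R sᶜ := by
  ext g
  rw [mem_R]
  constructor
  · intro hg x hx
    rw [Finset.mem_compl]
    intro hxs
    have key : ∀ y ∈ s, ∀ z ∈ s, List.Nodup [x, y, z] → (g : Perm α) x ∈ ({x, y, z} : Finset α) := by
      intro y hy z hz h
      obtain ⟨c, hc⟩ := exists_threeCycle h
      have hcR : c ∈ R s := by
        rw [mem_R, hc]
        intro w hw
        simp only [Finset.mem_insert, Finset.mem_singleton] at hw
        rcases hw with rfl | rfl | rfl <;> assumption
      have h1 : Commute (g : Perm α) c :=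
        congrArg Subtype.val (mem_centralizer_iff.mp hg c hcR).symm
      rw [← hc, mem_support_iff_of_commute h1, hc]
      simp
    have h3 : 2 < (s.erase x).card := by rw [Finset.card_erase_of_mem hxs]; omega
    obtain ⟨a, b, c, ha, hb, hc, hab, hac, hbc⟩ := Finset.two_lt_card_iff.mp h3
    rw [Finset.mem_erase] at ha hb hc
    have k1 := key a ha.2 b hb.2 (by simp [ha.1.symm, hb.1.symm, hab])
    have k2 := key a ha.2 c hc.2 (by simp [ha.1.symm, hc.1.symm, hac])
    have k3 := key b hb.2 c hc.2 (by simp [hb.1.symm, hc.1.symm, hbc])
    rw [mem_support] at hx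
    simp only [Finset.mem_insert, Finset.mem_singleton, hx, false_or] at k1 k2 k3
    grind
  · intro hg
    rw [mem_centralizer_iff]
    intro h hh
    apply Subtype.ext
    have : Equiv.Perm.Disjoint (h : Perm α) g := by
      rw [disjoint_iff_disjoint_support]
      exact Finset.disjoint_of_subset_left (mem_R.mp hh)
        (Finset.disjoint_of_subset_right hg disjoint_compl_right)
    exact this.commute.eq

theorem four_le_card_support {t : alternatingGroup α} (ht : orderOf t = 2) :
    4 ≤ (t : Perm α).support.card := by
  have ht' : orderOf (t : Perm α) = 2 := by rw [orderOf_coe, ht]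
  have h1 : (t : Perm α) ≠ 1 := by
    intro h; rw [h, orderOf_one] at ht'; omega
  have h2 := one_lt_card_support_of_ne_one h1
  have h3 : (t : Perm α).support.card ≠ 2 := by
    intro h
    have := (card_support_eq_two.mp h).sign_eq
    rw [mem_alternatingGroup.mp t.2] at this
    exact absurd this (by decide)
  have h4 : (t : Perm α).support.card ≠ 3 := by
    intro h
    have := (card_support_eq_three_iff.mp h).orderOf
    omega
  omega

theorem standard (s : Finset α) (hs : s.card = 4) (hα : 9 ≤ Fintype.card α) :
    IsStandardSubgroup (R sᶜ) := by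
  have hsc : 5 ≤ sᶜ.card := by rw [Finset.card_compl]; omega
  have hC : centralizer (R sᶜ : Set (alternatingGroup α)) = R s := by
    rw [centralizer_R _ (by omega), compl_compl]
  have hq : ∀ u : Finset α, 5 ≤ u.card → IsQuasisimple (R u) := by
    intro u hu
    have h5 : 5 ≤ Nat.card u := by simpa using hu
    have := alternatingGroup.isSimpleGroup h5
    refine quasisimple_of_mulEquiv (quasisimple_of_isSimpleGroup (H := alternatingGroup u) ?_)
      (MonoidHom.ofInjective alternatingGroup.ofSubtype_injective)
    rw [alternatingGroup.isMulCommutative_iff_card_le_three]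
    omega
  refine ⟨hq _ hsc, ⟨?_, ?_⟩, ?_, ?_⟩
  · rw [hC, ← Nat.card_congr (MonoidHom.ofInjective alternatingGroup.ofSubtype_injective).toEquiv]
    have : Nontrivial s := Fintype.one_lt_card_iff_nontrivial.mp (by simp [hs])
    rw [nat_card_alternatingGroup]
    simp only [Nat.card_eq_fintype_card, Fintype.card_coe, hs]
    decide
  · intro g hg
    rw [hC] at hg ⊢
    rw [CL.Invol.odd_card_iff_forall, map_conj_R]
    rintro t ⟨h1, h2⟩ ht
    apply hg
    rw [← map_conj_eq_self_iff, map_conj_R]
    have h3 := four_le_card_support ht
    have h4 : (t : Perm α).support = s := Finset.eq_of_subset_of_card_le (mem_R.mp h1) (by omega)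
    have h5 : (t : Perm α).support = g • s :=
      Finset.eq_of_subset_of_card_le (mem_R.mp h2) (by rw [Finset.card_smul_finset]; omega)
    rw [← h5, h4]
  · intro g _ h
    rw [commutator_comm, commutator_eq_bot_iff_le_centralizer, hC, map_conj_R] at h
    have h5 : 5 ≤ (g • sᶜ).card := by rwa [Finset.card_smul_finset]
    have h6 := centralizer_le (SetLike.coe_subset_coe.mpr h)
    rw [centralizer_R _ hs.ge, centralizer_R _ (by omega)] at h6
    have h7 := card_le_of_le h6
    have hcard : ∀ u : Finset α, 2 ≤ u.card → Nat.card (R u) = u.card.factorial / 2 := by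
      intro u hu
      have : Nontrivial u := Fintype.one_lt_card_iff_nontrivial.mp (by simp; omega)
      rw [← Nat.card_congr (MonoidHom.ofInjective alternatingGroup.ofSubtype_injective).toEquiv,
        nat_card_alternatingGroup]
      simp
    have h8 : (g • sᶜ)ᶜ.card = 4 := by
      rw [Finset.card_compl, Finset.card_smul_finset, Finset.card_compl]; omega
    rw [hcard _ (by omega), hcard _ (by omega), h8] at h7
    have h9 := Nat.factorial_le hsc
    simp only [Nat.factorial] at h7 h9
    omega
  · refine le_antisymm (normalizer_le_normalizer_centralizer' _) ?_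
    have := normalizer_le_normalizer_centralizer' (centralizer (R sᶜ : Set (alternatingGroup α)))
    rwa [hC, centralizer_R _ hs.ge, ← hC] at this

/-- For n ≥ 9, the subgroup of the alternating group on Fin n fixing each of the points 0, 1, 2, 3 is a standard subgroup. -/
theorem result (n : ℕ) (h4 : 4 ≤ n) (hn : 9 ≤ n) : Cfsg.IsStandardSubgroup (⨅ i : Fin 4, MulAction.stabilizer ↥(alternatingGroup (Fin n)) (Fin.castLE h4 i : Fin n)) := by
  have h := standard (α := Fin n) (Finset.univ.map (Fin.castLEEmb h4)) (by simp) (by simpa using hn)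
  convert h
  ext g
  rw [mem_R, mem_iInf]
  constructor
  · intro hg x hx
    rw [Finset.mem_compl, Finset.mem_map]
    rintro ⟨i, -, rfl⟩
    exact mem_support.mp hx (hg i)
  · intro hg i
    by_contra hi
    have := hg (mem_support.mpr hi)
    simp at this

end Cfsg.Agent.S1323
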