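import Cfsg.Statements.S1328
import Cfsg.Agent.Base
import Cfsg.Agent.PLoc.Balance
import Cfsg.Agent.Sig.CompIn

set_option autoImplicit false
open Cfsg

namespace Cfsg.Agent.S1328

open Subgroup CL.PLoc

/-- Let G be finite, H ≤ G with O(H) = 1, t an involution of G normalizing H, and Y a nontrivial subgroup of O(C_H(t)). Then some component E of H is normalized by t and by Y and centralized by neither t nor Y. -/
theorem result {G : Type*} [Group G] [Finite G] (H : Subgroup G) (hO : Cfsg.oddCore ↥H = ⊥) (t : G) (ht : orderOf t = 2) (htH : t ∈ Subgroup.normalizer (H : Set G)) (Y : Subgroup G) (hY1 : Y ≠ ⊥) (hY : Y ≤ (Cfsg.oddCore ↥(H ⊓ Subgroup.centralizer ({t} : Set G))).map (H ⊓ Subgroup.centralizer ({t} : Set G)).subtype) : ∃ E : Subgroup ↥H, Cfsg.IsComponent E ∧ (E.map H.subtype).map (MulAut.conj t).toMonoidHom = E.map H.subtype ∧ Y ≤ Subgroup.normalizer ((E.map H.subtype : Subgroup G) : Set G) ∧ ¬ (t ∈ Subgroup.centralizer ((E.map H.subtype : Subgroup G) : Set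 G)) ∧ ¬ (Y ≤ Subgroup.centralizer ((E.map H.subtype : Subgroup G) : Set G)) := by
  have : Fact (Nat.Prime 2) := ⟨Nat.prime_two⟩
  set K := H ⊔ zpowers t with hK
  have htN : zpowers t ≤ normalizer (H : Set G) := zpowers_le.2 htH
  have hKH : K ≤ normalizer (H : Set G) := sup_le le_normalizer htN
  have hHK : H ≤ K := le_sup_left
  have htK : t ∈ K := mem_sup_right (mem_zpowers t)
  have ht2 : t ^ 2 = 1 := by rw [← ht]; exact pow_orderOf_eq_one t
  have hodd : ∀ g ∈ K, (orderOf g).Coprime 2 → g ∈ H := by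
    intro g hg hc
    refine mem_of_pow_mem_of_coprime (n := 2) ?_ hc.symm
    obtain ⟨h, hh, u, hu, rfl⟩ := (CL.Sig.mem_sup_of_le_normalizer_left htN).1 hg
    have hu2 : u * u = 1 := by
      obtain ⟨n, rfl⟩ := hu
      show t ^ n * t ^ n = 1
      rw [← sq, ← zpow_natCast, ← zpow_mul, mul_comm, zpow_mul, zpow_natCast, ht2, one_zpow]
    have : (h * u) ^ 2 = h * (u * h * u⁻¹) * (u * u) := by rw [sq]; group
    rw [this, hu2, mul_one]
    exact mul_mem hh ((mem_normalizer_iff.1 (htN hu) h).1 hh)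
  have hOK : pPrimeCore 2 K = ⊥ := by
    have h1 : CL.PComp.ppCore 2 K ≤ H := fun g hg => hodd g (CL.PComp.ppCore_le K hg)
      (Nat.Coprime.coprime_dvd_left (orderOf_dvd_natCard _ hg) (CL.PComp.coprime_card_ppCore K))
    have h2 : CL.PComp.ppCore 2 K ≤ CL.PComp.ppCore 2 H :=
      (le_inf le_rfl h1).trans (CL.PComp.ppCore_inf_le hHK)
    have h3 : CL.PComp.ppCore 2 H = ⊥ := by
      show (oddCore H).map H.subtype = ⊥
      rw [hO, Subgroup.map_bot]
    rw [h3, le_bot_iff] at h2
    rw [← CL.PComp.subgroupOf_ppCore_self, h2, bot_subgroupOf]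
  set x : K := ⟨t, htK⟩ with hx
  have hxo : orderOf x = 2 := by rw [← ht, ← orderOf_coe]
  have hYH : Y ≤ H := hY.trans ((map_subtype_le _).trans inf_le_left)
  have hYK : Y ≤ K := hYH.trans hHK
  have hY' : Y.subgroupOf K ≤ centralizerPPrimeCore 2 x := by
    have h1 : CL.PComp.ppCore 2 (H ⊓ centralizer {t}) ≤
        CL.PComp.ppCore 2 (K ⊓ centralizer {t}) :=
      CL.PComp.ppCore_le_ppCore_of_le_normalizer (inf_le_inf_right _ hHK)
        (CL.Sig.le_normalizer_inf (inf_le_left.trans hKH) (inf_le_right.trans le_normalizer))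
    have h2 : (K ⊓ centralizer {t}).subgroupOf K = centralizer {x} := by
      ext y
      rw [mem_subgroupOf, mem_inf, mem_centralizer_singleton_iff, mem_centralizer_singleton_iff,
        and_iff_right y.2, Subtype.ext_iff]
      rfl
    rw [CL.PComp.centralizerPPrimeCore_eq, ← h2, ← CL.PComp.subgroupOf_ppCore inf_le_left]
    exact comap_mono (hY.trans h1)
  have hY1' : Y.subgroupOf K ≠ ⊥ := by
    intro h
    apply hY1
    rw [← map_subgroupOf_eq_of_le hYK, h, Subgroup.map_bot]
  obtain ⟨L, hL, hLY⟩ := exists_component_not_commute hOK hxo hY' hY1'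
  obtain ⟨hxN, hxC⟩ := normalizes_of_not_commute_centralizerPPrimeCore hOK hxo hL
    fun h => hLY (CL.Sig.commutator_eq_bot_mono h le_rfl hY')
  have hL' : CL.Sig.CompIn (L.map K.subtype) K := CL.Sig.compIn_map_subtype_iff.2 hL
  have hLH : L.map K.subtype ≤ H :=
    le_of_perfect_of_forall_coprime (p := 2) hL'.commutator_self fun g hg => hodd g (hL'.le hg)
  refine ⟨(L.map K.subtype).subgroupOf H, (hL'.of_le hLH hHK).isComponent, ?_⟩
  rw [map_subgroupOf_eq_of_le hLH]
  refine ⟨?_, ?_, ?_, ?_⟩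
  · exact CL.Sig.map_conj_eq_self_iff.2 (le_normalizer_map K.subtype ⟨x, hxN, rfl⟩)
  · intro y hy
    exact le_normalizer_map K.subtype ⟨⟨y, hYK hy⟩,
      centralizerPPrimeCore_le_normalizer_component hOK hxo hL (hY' hy), rfl⟩
  · intro h
    exact hxC fun l hl => Subtype.ext (h l ⟨l, hl, rfl⟩)
  · intro h
    apply hLY
    rw [commutator_comm, commutator_eq_bot_iff_le_centralizer]
    exact fun y hy l hl => Subtype.ext (h hy l ⟨l, hl, rfl⟩)

end Cfsg.Agent.S1328
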