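import Cfsg.Agent.Base
import Cfsg.Statements.S1335

set_option autoImplicit false
open Cfsg

namespace Cfsg.Agent.S1335

theorem pRankLE_of_equiv {A B : Type*} [Group A] [Group B] {p k : ℕ} (e : A ≃* B)
    (h : Cfsg.PRankLE p k B) : Cfsg.PRankLE p k A := by
  intro E hE hp
  have h1 : Nat.card E = Nat.card (E.map e.toMonoidHom) :=
    (Subgroup.card_map_of_injective e.injective).symm
  rw [h1]
  apply h
  · have := hE
    exact Subgroup.map_isMulCommutative E _
  · rintro _ ⟨a, ha, rfl⟩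
    rw [← map_pow, hp a ha, map_one]

/-- Let H be a subgroup of the finite group G, p a prime, k ≥ 1, P a Sylow p-subgroup of H of p-rank at least k, and suppose N_G(X) ≤ H for every subgroup X ≤ P of p-rank at least k. Then P is a Sylow p-subgroup of G. -/
theorem result {G : Type*} [Group G] [Finite G] {p : ℕ} [Fact p.Prime] (k : ℕ) (hk : 1 ≤ k) (H : Subgroup G) (P : Sylow p ↥H) (hP : ¬ Cfsg.PRankLE p (k - 1) ↥(P : Subgroup ↥H)) (hΓ : (∀ X : Subgroup G, X ≤ (P : Subgroup ↥H).map H.subtype → ¬ Cfsg.PRankLE p (k - 1) ↥X → Subgroup.normalizer (X : Set G) ≤ H)) : ∃ Q : Sylow p G, (Q : Subgroup G) = (P : Subgroup ↥H).map H.subtype := by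
  set X : Subgroup G := (P : Subgroup ↥H).map H.subtype with hX
  have hXp : IsPGroup p X := P.isPGroup'.map _
  have hN : Subgroup.normalizer (X : Set G) ≤ H := by
    refine hΓ X le_rfl fun h => hP ?_
    exact pRankLE_of_equiv ((P : Subgroup ↥H).equivMapOfInjective H.subtype H.subtype_injective) h
  obtain ⟨Q, hQ⟩ := hXp.exists_le_sylow
  refine ⟨Q, ?_⟩
  by_contra hne
  have : Group.IsNilpotent (Q : Subgroup G) := Q.isPGroup'.isNilpotent
  have hlt : X.subgroupOf (Q : Subgroup G) < ⊤ := by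
    rw [lt_top_iff_ne_top]
    intro h
    rw [Subgroup.subgroupOf_eq_top] at h
    exact hne (le_antisymm h hQ)
  have h1 := Group.normalizerCondition_of_isNilpotent (G := (Q : Subgroup G)) _ hlt
  rw [← Subgroup.subgroupOf_normalizer_eq hQ] at h1
  -- `N_Q(X)` is a `p`-subgroup of `H` containing `P`
  set Y : Subgroup G := Subgroup.normalizer (X : Set G) ⊓ Q with hY
  have hYH : Y ≤ H := inf_le_left.trans hN
  have hYp : IsPGroup p (Y.subgroupOf H) :=
    (Q.isPGroup'.to_le (inf_le_right : Y ≤ Q)).comap_subtype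
  have hPY : (P : Subgroup H) ≤ Y.subgroupOf H := by
    intro x hx
    have hxX : (x : G) ∈ X := ⟨x, hx, rfl⟩
    exact ⟨Subgroup.le_normalizer hxX, hQ hxX⟩
  have heq := P.is_maximal' hYp hPY
  apply h1.not_ge
  intro y hy
  have hyY : (y : G) ∈ Y := ⟨hy, y.2⟩
  have : (⟨y, hYH hyY⟩ : H) ∈ (P : Subgroup H) := by
    rw [← heq]; exact hyY
  exact ⟨_, this, rfl⟩

end Cfsg.Agent.S1335
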