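import Cfsg.Agent.Base
import Cfsg.Statements.S1336

set_option autoImplicit false
open Cfsg

namespace Cfsg.Agent.S1336

variable {G : Type*} [Group G]

/-- vertices of the rank-one commuting graph -/
def Vx (p : ℕ) (A : Subgroup G) : Prop := IsElementaryAbelian p A ∧ p ^ 1 ≤ Nat.card ↥A

/-- edges of the rank-one commuting graph -/
def Ed (p : ℕ) (A B : Subgroup G) : Prop :=
  IsElementaryAbelian p A ∧ p ^ 1 ≤ Nat.card ↥A ∧ IsElementaryAbelian p B ∧
        p ^ 1 ≤ Nat.card ↥B ∧ ∀ a ∈ A, ∀ b ∈ B, a * b = b * a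

/-- connectedness in the graph -/
def Cn (p : ℕ) (A B : Subgroup G) : Prop := Relation.ReflTransGen (Ed p) A B

theorem Ed.symm {p : ℕ} {A B : Subgroup G} (h : Ed p A B) : Ed p B A :=
  ⟨h.2.2.1, h.2.2.2.1, h.1, h.2.1, fun b hb a ha => (h.2.2.2.2 a ha b hb).symm⟩

theorem Cn.symm {p : ℕ} {A B : Subgroup G} (h : Cn p A B) : Cn p B A := by
  induction h with
  | refl => exact Relation.ReflTransGen.refl
  | tail _ h2 ih => exact Relation.ReflTransGen.head h2.symm ih

theorem Cn.trans {p : ℕ} {A B C : Subgroup G} (h : Cn p A B) (h' : Cn p B C) : Cn p A C :=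
  Relation.ReflTransGen.trans h h'

theorem Vx.map {p : ℕ} {A : Subgroup G} (h : Vx p A) (e : G ≃* G) :
    Vx p (A.map e.toMonoidHom) := by
  refine ⟨⟨?_, ?_⟩, ?_⟩
  · have := h.1.1
    exact Subgroup.map_isMulCommutative A _
  · rintro _ ⟨a, ha, rfl⟩
    rw [← map_pow, h.1.2 a ha, map_one]
  · rw [Subgroup.card_map_of_injective e.injective]; exact h.2

theorem Ed.map {p : ℕ} {A B : Subgroup G} (h : Ed p A B) (e : G ≃* G) :
    Ed p (A.map e.toMonoidHom) (B.map e.toMonoidHom) := by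
  have h1 := Vx.map (p := p) ⟨h.1, h.2.1⟩ e
  have h2 := Vx.map (p := p) ⟨h.2.2.1, h.2.2.2.1⟩ e
  refine ⟨h1.1, h1.2, h2.1, h2.2, ?_⟩
  rintro _ ⟨a, ha, rfl⟩ _ ⟨b, hb, rfl⟩
  rw [← map_mul, ← map_mul, h.2.2.2.2 a ha b hb]

theorem Cn.map {p : ℕ} {A B : Subgroup G} (h : Cn p A B) (e : G ≃* G) :
    Cn p (A.map e.toMonoidHom) (B.map e.toMonoidHom) := by
  induction h with
  | refl => exact Relation.ReflTransGen.refl
  | tail _ h2 ih => exact Relation.ReflTransGen.tail ih (h2.map e)

theorem vx_zpowers {p : ℕ} [Finite G] {x : G} (hx : orderOf x = p) : Vx p (Subgroup.zpowers x) := by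
  refine ⟨⟨inferInstance, ?_⟩, by rw [Nat.card_zpowers, hx, pow_one]⟩
  rintro a ⟨k, rfl⟩
  have : x ^ p = 1 := by rw [← hx]; exact pow_orderOf_eq_one x
  show (x ^ k) ^ p = 1
  rw [← zpow_natCast, ← zpow_mul, mul_comm, zpow_mul, zpow_natCast, this, one_zpow]

theorem Vx.isPGroup {p : ℕ} {A : Subgroup G} (h : Vx p A) : IsPGroup p A :=
  fun a => ⟨1, Subtype.ext (by simpa using h.1.2 a a.2)⟩

theorem Vx.exists_ne_one {p : ℕ} [Fact p.Prime] [Finite G] {A : Subgroup G} (h : Vx p A) :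
    ∃ a ∈ A, orderOf a = p := by
  have h2 := h.2
  have hp := (Fact.out : p.Prime).one_lt
  have : A ≠ ⊥ := by
    rintro rfl
    simp at h2
    omega
  obtain ⟨⟨a, ha⟩, ha1⟩ := Subgroup.ne_bot_iff_exists_ne_one.1 this
  exact ⟨a, ha, orderOf_eq_prime (h.1.2 a ha) (fun h => ha1 (Subtype.ext h))⟩

/-- two vertices inside one `p`-subgroup are connected -/
theorem cn_of_le {p : ℕ} [Fact p.Prime] [Finite G] {A B P : Subgroup G} (hP : IsPGroup p P)
    (hA : Vx p A) (hB : Vx p B) (hAP : A ≤ P) (hBP : B ≤ P) : Cn p A B := by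
  obtain ⟨a, ha, hao⟩ := hA.exists_ne_one
  have hp := (Fact.out : p.Prime)
  have : Nontrivial P := by
    refine ⟨⟨⟨a, hAP ha⟩, 1, fun h => ?_⟩⟩
    have : a = 1 := congrArg Subtype.val h
    rw [this, orderOf_one] at hao
    exact hp.one_lt.ne hao
  have hc := hP.center_nontrivial
  have hcp : IsPGroup p (Subgroup.center P) := hP.to_subgroup _
  have hdvd : p ∣ Nat.card (Subgroup.center P) := by
    obtain ⟨n, hn0, hn⟩ := hcp.nontrivial_iff_card.1 hc
    rw [hn]; exact dvd_pow_self p hn0.ne'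
  obtain ⟨z, hz⟩ := exists_prime_orderOf_dvd_card' p hdvd
  have hzo : orderOf ((z : P) : G) = p := by
    rw [Subgroup.orderOf_coe, Subgroup.orderOf_coe, hz]
  have hZ := vx_zpowers hzo
  have hcomm : ∀ x ∈ P, ∀ b ∈ Subgroup.zpowers ((z : P) : G), x * b = b * x := by
    rintro x hx _ ⟨k, rfl⟩
    have h1 : (⟨x, hx⟩ : P) * z = z * ⟨x, hx⟩ := Subgroup.mem_center_iff.1 z.2 _
    have h2 : Commute x ((z : P) : G) := congrArg Subtype.val h1
    exact h2.zpow_right k
  refine Cn.trans (B := Subgroup.zpowers ((z : P) : G)) (Relation.ReflTransGen.single ?_)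
    (Relation.ReflTransGen.single ?_)
  · exact ⟨hA.1, hA.2, hZ.1, hZ.2, fun x hx b hb => hcomm x (hAP hx) b hb⟩
  · exact ⟨hZ.1, hZ.2, hB.1, hB.2, fun b hb x hx => (hcomm x (hBP hx) b hb).symm⟩

theorem map_conj_mul (A : Subgroup G) (g h : G) :
    A.map (MulAut.conj (g * h)).toMonoidHom =
      (A.map (MulAut.conj h).toMonoidHom).map (MulAut.conj g).toMonoidHom := by
  rw [Subgroup.map_map]; congr 1; ext x; simp [mul_assoc]

theorem map_conj_one (A : Subgroup G) : A.map (MulAut.conj (1 : G)).toMonoidHom = A := by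
  ext x; simp

/-- stabilizer of the connected component of `E` -/
def stab (p : ℕ) (E : Subgroup G) : Subgroup G where
  carrier := {g | Cn p (E.map (MulAut.conj g).toMonoidHom) E}
  one_mem' := by
    show Cn p _ _
    rw [map_conj_one]; exact Relation.ReflTransGen.refl
  mul_mem' := by
    intro g h hg hh
    show Cn p _ _
    rw [map_conj_mul]
    exact (Cn.map hh _).trans hg
  inv_mem' := by
    intro g hg
    show Cn p _ _
    have := Cn.map hg (MulAut.conj g⁻¹)
    rw [← map_conj_mul, inv_mul_cancel, map_conj_one] at this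
    exact this.symm

/-- Let G be finite and p prime. Then G has a proper subgroup H with p ∣ |H| and p ∤ |H ∩ gHg⁻¹| for every g ∉ H (a strongly p-embedded subgroup) if and only if G is not 1-connected for p. -/
theorem result {G : Type*} [Group G] [Finite G] (p : ℕ) [Fact p.Prime] : (∃ H : Subgroup G, H ≠ ⊤ ∧ p ∣ Nat.card ↥H ∧ ∀ g : G, g ∉ H → ¬ p ∣ Nat.card ↥(H ⊓ H.map (MulAut.conj g).toMonoidHom)) ↔ ¬ Cfsg.IsKConnected p 1 G := by
  have hp := (Fact.out : p.Prime)
  constructor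
  · rintro ⟨H, hH, hpH, hse⟩ hconn
    obtain ⟨x, hx⟩ := exists_prime_orderOf_dvd_card' p hpH
    have hxo : orderOf (x : G) = p := by rw [Subgroup.orderOf_coe, hx]
    obtain ⟨g, hg⟩ : ∃ g, g ∉ H := by
      by_contra h
      push Not at h
      exact hH (eq_top_iff.2 fun g _ => h g)
    have hE := vx_zpowers hxo
    have hE' := hE.map (MulAut.conj g)
    have hcn : Cn p _ _ := hconn _ _ hE.1 hE.2 hE'.1 hE'.2
    have key : ∀ A B : Subgroup G, Cn p A B → A ≤ H → B ≤ H := by
      intro A B h hA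
      induction h with
      | refl => exact hA
      | tail _ h2 ih =>
        intro b hb
        by_contra hbH
        apply hse b hbH
        obtain ⟨a, ha, hao⟩ := Vx.exists_ne_one (p := p) ⟨h2.1, h2.2.1⟩
        rw [← hao]
        refine Subgroup.orderOf_dvd_natCard _ ⟨ih ha, a, ih ha, ?_⟩
        show b * a * b⁻¹ = a
        rw [← h2.2.2.2.2 a ha b hb, mul_inv_cancel_right]
    have h1 := key _ _ hcn (by simp)
    apply hse g hg
    have : orderOf (g * x * g⁻¹) = p := by
      rw [← hxo]; exact (MulAut.conj g).orderOf_eq x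
    rw [← this]
    refine Subgroup.orderOf_dvd_natCard _ ⟨h1 ⟨x, Subgroup.mem_zpowers _, rfl⟩, x, x.2, rfl⟩
  · intro hnc
    simp only [IsKConnected, not_forall] at hnc
    obtain ⟨E, E', hE1, hE2, hE1', hE2', hnc⟩ := hnc
    have hE : Vx p E := ⟨hE1, hE2⟩
    have hE' : Vx p E' := ⟨hE1', hE2'⟩
    obtain ⟨P, hEP⟩ := hE.isPGroup.exists_le_sylow
    have hPH : (P : Subgroup G) ≤ stab p E := by
      intro u hu
      refine cn_of_le P.isPGroup' (hE.map _) hE ?_ hEP
      rintro _ ⟨e, he, rfl⟩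
      exact P.mul_mem (P.mul_mem hu (hEP he)) (P.inv_mem hu)
    -- every vertex inside the stabilizer is connected to `E`
    have key : ∀ A : Subgroup G, Vx p A → A ≤ stab p E → Cn p A E := by
      intro A hA hAH
      have hAp : IsPGroup p (A.subgroupOf (stab p E)) := hA.isPGroup.comap_subtype
      obtain ⟨Q, hQ⟩ := hAp.exists_le_sylow
      obtain ⟨h, hh⟩ := MulAction.exists_smul_eq (stab p E) Q (P.subtype hPH)
      have h1 : A.map (MulAut.conj (h : G)).toMonoidHom ≤ P := by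
        rintro _ ⟨a, ha, rfl⟩
        have h2 : (⟨a, hAH ha⟩ : stab p E) ∈ Q := hQ (by exact ha)
        have h3 : h * ⟨a, hAH ha⟩ * h⁻¹ ∈ h • Q := by
          have : h * ⟨a, hAH ha⟩ * h⁻¹ ∈ ((h • Q : Sylow p (stab p E)) : Subgroup (stab p E)) := by
            rw [Sylow.coe_subgroup_smul]
            exact ⟨_, h2, rfl⟩
          exact this
        rw [hh] at h3
        exact h3
      have h2 : Cn p (A.map (MulAut.conj (h : G)).toMonoidHom) E :=
        cn_of_le P.isPGroup' (hA.map _) hE h1 hEP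
      have h3 := h2.map (MulAut.conj (h : G)⁻¹)
      rw [← map_conj_mul, inv_mul_cancel, map_conj_one] at h3
      exact h3.trans ((stab p E).inv_mem h.2)
    refine ⟨stab p E, ?_, ?_, ?_⟩
    · intro h
      exact hnc (key E' hE' (by rw [h]; exact le_top)).symm
    · obtain ⟨a, ha, hao⟩ := hE.exists_ne_one
      exact hao.symm.dvd.trans (Subgroup.orderOf_dvd_natCard _ (hPH (hEP ha)))
    · intro g hg hdvd
      obtain ⟨x, hx⟩ := exists_prime_orderOf_dvd_card' p hdvd
      have hxo : orderOf (x : G) = p := by rw [Subgroup.orderOf_coe, hx]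
      obtain ⟨hx1, y, hy, hyx⟩ := x.2
      have hyo : orderOf y = p := by
        rw [← hxo, ← hyx]; exact ((MulAut.conj g).orderOf_eq y).symm
      have c1 := key _ (vx_zpowers hxo) (by simpa using hx1)
      have c2 := (key _ (vx_zpowers hyo) (by simpa using hy)).map (MulAut.conj g)
      rw [MonoidHom.map_zpowers, hyx] at c2
      exact hg (c2.symm.trans c1)

end Cfsg.Agent.S1336
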