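import Cfsg.Agent.Base
import Cfsg.Statements.S1338
import Cfsg.Agent.S0122
import Cfsg.Agent.S1337

set_option autoImplicit false
open Cfsg

namespace Cfsg.Agent.S1338

open CL.SigMisc Subgroup

theorem card_le_ker_mul_card_map {V : Type*} [Group V] [Finite V] (f : V →* V) (H : Subgroup V) :
    Nat.card H ≤ Nat.card f.ker * Nat.card (H.map f) := by
  have h1 : Nat.card (f.ker.subgroupOf H) * f.ker.relIndex H = Nat.card H := card_mul_index _
  rw [relIndex_ker] at h1
  rw [← h1]
  apply Nat.mul_le_mul_right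
  rw [← card_map_of_injective H.subtype_injective, subgroupOf_map_subtype]
  exact card_le_of_le inf_le_left

/-- An element of order three acting on a normal elementary abelian subgroup of order `81` fixes
at least nine elements. -/
theorem nine_le_card {P : Type*} [Group P] [Finite P] (V : Subgroup P) (hVn : V.Normal)
    (hV : IsElementaryAbelian 3 V) (hVc : Nat.card V = 3 ^ 4) (x : P) (hx : x ^ 3 = 1) :
    3 ^ 2 ≤ Nat.card ↥(V ⊓ centralizer {x}) := by
  have : Fact (Nat.Prime 3) := ⟨Nat.prime_three⟩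
  have hc := hV.1
  let σ : V →* V := (MulAut.conjNormal x : MulAut V).toMonoidHom
  have hσ : ∀ v : V, ((σ v : V) : P) = x * v * x⁻¹ := fun v => rfl
  have hσ3 : ∀ v : V, σ (σ (σ v)) = v := by
    intro v
    apply Subtype.ext
    simp only [hσ]
    calc x * (x * (x * v * x⁻¹) * x⁻¹) * x⁻¹ = x ^ 3 * v * (x ^ 3)⁻¹ := by
          simp only [pow_succ, pow_zero, one_mul, mul_inv_rev, mul_assoc]
      _ = v := by rw [hx]; group
  have h3 : ∀ v : V, v ^ 3 = 1 := fun v => Subtype.ext (hV.2 v v.2)
  let _ : CommGroup V := { (inferInstance : Group V) with mul_comm := hc.is_comm.comm }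
  let f : V →* V := σ / MonoidHom.id V
  have hf : ∀ v : V, f v = σ v / v := fun v => rfl
  have hf3 : ∀ v : V, f (f (f v)) = 1 := by
    intro v
    simp only [hf, map_div, hσ3]
    have e1 := h3 (σ v)
    have e2 := h3 (σ (σ v))
    calc v / σ (σ v) / (σ (σ v) / σ v) / (σ (σ v) / σ v / (σ v / v))
        = (σ v) ^ 3 / (σ (σ v)) ^ 3 := by
          apply Additive.ofMul.injective
          simp only [ofMul_div, ofMul_pow]
          abel
      _ = 1 := by rw [e1, e2, div_one]
  have k1 := card_le_ker_mul_card_map f ⊤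
  have k2 := card_le_ker_mul_card_map f ((⊤ : Subgroup V).map f)
  have k3 : Nat.card (((⊤ : Subgroup V).map f).map f) ≤ Nat.card f.ker := by
    apply card_le_of_le
    rintro _ ⟨_, ⟨v, -, rfl⟩, rfl⟩
    exact hf3 v
  have k4 : Nat.card f.ker ≤ Nat.card ↥(V ⊓ centralizer {x}) := by
    rw [← card_map_of_injective V.subtype_injective]
    apply card_le_of_le
    rintro _ ⟨v, hv, rfl⟩
    refine ⟨v.2, mem_centralizer_singleton_iff.mpr ?_⟩
    have h1 : σ v = v := div_eq_one.mp ((hf v).symm.trans hv)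
    have h2 := congrArg Subtype.val h1
    rw [hσ] at h2
    exact (mul_inv_eq_iff_eq_mul.mp h2).symm
  rw [card_top, hVc] at k1
  have k5 : 3 ^ 1 < Nat.card ↥(V ⊓ centralizer {x}) := by
    by_contra hlt
    have h5 : Nat.card f.ker ≤ 3 := by omega
    have := k1.trans (Nat.mul_le_mul h5 (k2.trans (Nat.mul_le_mul h5 (k3.trans h5))))
    omega
  exact pow_succ_le_card (elemAb_isPGroup hV).to_inf_left k5

/-- A finite 3-group of 3-rank at least 4 is 2-connected for the prime 3: its commuting graph on elementary abelian subgroups of order ≥ 9 is connected. -/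
theorem result {P : Type*} [Group P] [Finite P] (hP : IsPGroup 3 P) (hrk : ¬ Cfsg.PRankLE 3 3 P) : Cfsg.IsKConnected 3 2 P := by
  have : Fact (Nat.Prime 3) := ⟨Nat.prime_three⟩
  obtain ⟨E, hE, hEc⟩ := not_pRankLE_iff'.mp hrk
  have hrk2 : ¬ Cfsg.PRankLE 3 2 P := not_pRankLE_iff'.mpr ⟨E, hE, by omega⟩
  obtain ⟨E', hE'E, hE'c⟩ := Sylow.exists_subgroup_le_card_pow_prime_of_le_card Nat.prime_three hP
    (pow_succ_le_card (elemAb_isPGroup hE) hEc)
  obtain ⟨V, hVn, hV, hVc⟩ :=
    Cfsg.Agent.S0122.result (by norm_num) hP E' (elemAb_of_le hE hE'E) hE'c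
  obtain ⟨U, -, -, -, hU⟩ := Cfsg.Agent.S1337.result 3 hP hrk2
  have hVbot : V ≠ ⊥ := by
    rintro rfl
    rw [card_bot] at hVc; omega
  obtain ⟨z, hzV, hz, hzc⟩ := exists_mem_center_of_normal hP V hVbot
  have hz3 : z ^ 3 = 1 := hz ▸ pow_orderOf_eq_one z
  have key : ∀ X : Subgroup P, IsElementaryAbelian 3 X → 3 ^ 2 ≤ Nat.card X →
      ¬ Cfsg.PRankLE 3 2 ↥(centralizer (X : Set P)) := by
    intro X hX hXc
    rw [not_pRankLE_iff]
    rcases hXc.lt_or_eq with hlt | heq
    · exact ⟨X, elemAb_le_centralizer hX, hX, hlt⟩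
    by_cases hzX : z ∈ X
    · have hnle : ¬ X ≤ zpowers z := by
        intro h
        have := card_le_of_le h
        rw [Nat.card_zpowers, hz] at this
        omega
      obtain ⟨x, hxX, hxz⟩ := SetLike.not_le_iff_exists.mp hnle
      have hle : centralizer {x} ≤ centralizer (X : Set P) := fun g hg =>
        mem_centralizer_of_card_le_sq (elemAb_isPGroup hX) heq.ge hzX hz hxX hxz
          (mem_center_iff.mp hzc g).symm (mem_centralizer_singleton_iff.mp hg).symm
      by_cases hxV : x ∈ V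
      · refine ⟨V, le_trans (fun v hv => mem_centralizer_singleton_iff.mpr
          (elemAb_comm hV hv hxV)) hle, hV, by omega⟩
      · have hx3 := hX.2 x hxX
        refine ⟨(V ⊓ centralizer {x}) ⊔ zpowers x, le_trans (sup_le inf_le_right
          (zpowers_le.mpr (mem_centralizer_singleton_iff.mpr rfl))) hle,
          elemAb_sup (elemAb_of_le hV inf_le_left) (elemAb_zpowers hx3) ?_, ?_⟩
        · rintro a ha _ ⟨k, rfl⟩
          exact ((show Commute a x from mem_centralizer_singleton_iff.mp ha.2).zpow_right k).eq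
        · refine lt_of_le_of_lt (nine_le_card V hVn hV hVc x hx3) (card_lt_of_lt ?_)
          exact left_lt_sup.mpr fun h => hxV (h (mem_zpowers x)).1
    · have hcomm : ∀ a ∈ X, ∀ b ∈ zpowers z, a * b = b * a := fun a _ b hb =>
        mem_center_iff.mp (zpowers_le.mpr hzc hb) a
      refine ⟨X ⊔ zpowers z, sup_le (elemAb_le_centralizer hX)
        (fun b hb => mem_centralizer_iff.mpr fun a ha => hcomm a ha b hb),
        elemAb_sup hX (elemAb_zpowers hz3) hcomm, ?_⟩
      exact lt_of_le_of_lt hXc (card_lt_of_lt (left_lt_sup.mpr fun h => hzX (h (mem_zpowers z))))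
  intro X Y hX hXc hY hYc
  have h1 := (hU X hX hXc).mpr (key X hX hXc)
  have h2 := (hU Y hY hYc).mpr (key Y hY hYc)
  refine h1.trans (Relation.ReflTransGen.mono ?_ _ _ h2.swap)
  rintro A B ⟨h1, h2, h3, h4, h5⟩
  exact ⟨h3, h4, h1, h2, fun a ha b hb => (h5 b hb a ha).symm⟩

end Cfsg.Agent.S1338
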