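import Cfsg.Agent.Base
import Cfsg.Statements.S1339
import Cfsg.Agent.Sig.CompLayer
import Cfsg.Agent.Solv.Fitting

set_option autoImplicit false
open Cfsg

namespace Cfsg.Agent.S1339

open Subgroup Matrix Matrix.SpecialLinearGroup

theorem genFitting_eq_pCore {G : Type*} [Group G] [Finite G] {p : ℕ} [hp : Fact p.Prime]
    (Q : Subgroup G) [hQ : Q.Normal] (hQp : IsPGroup p Q) (hC : centralizer (Q : Set G) ≤ Q) :
    generalizedFittingSubgroup G = pCore p G := by
  have h1 : Q ≤ pCore p G := CL.le_pCore hQp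
  refine le_antisymm (sup_le ((CL.Sig.layer_le_of_centralizer_le hQ.isSubnormal hC).trans h1) ?_)
    ((CL.pCore_le_fitting p).trans le_sup_right)
  rw [CL.fitting_eq_iSup_pCore]
  refine iSup_le fun q => ?_
  have : Fact (q : ℕ).Prime := ⟨q.2⟩
  by_cases h : (q : ℕ) = p
  · rw [h]
  · exact (CL.pCore_le_centralizer_pCore_of_ne h).trans
      ((centralizer_le (SetLike.coe_subset_coe.mpr h1)).trans (hC.trans h1))

theorem transvection_smul {F : Type*} [Field F] {n : ℕ} {i j : Fin n} (hij : i ≠ j)
    (v : Fin n → F) : transvection hij (1 : F) • v = v + v j • Pi.single i 1 := by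
  simp [Matrix.SpecialLinearGroup.smul_def, transvection_coe, -mulVec_single,
    add_mulVec, single_mulVec_eq]

theorem ext_smul {F : Type*} [Field F] {n : ℕ} {g h : Matrix.SpecialLinearGroup (Fin n) F}
    (H : ∀ v : Fin n → F, g • v = h • v) : g = h :=
  Subtype.ext (Matrix.ext_iff_mulVec.mpr H)

/-- Let F be a field with 2 elements, n ≥ 3, and t ∈ SL(n, F) a transvection (t = 1 + E_{ij}, i ≠ j). Then the generalized Fitting subgroup of C(t) is O_2(C(t)). -/
theorem result {F : Type*} [Field F] [Fintype F] [DecidableEq F] (hF : Fintype.card F = 2) (n : ℕ) (hn : 3 ≤ n) (i j : Fin n) (hij : i ≠ j) (t : Matrix.SpecialLinearGroup (Fin n) F) (ht : (t : Matrix (Fin n) (Fin n) F) = Matrix.transvection i j 1) : Cfsg.generalizedFittingSubgroup ↥(Subgroup.centralizer ({t} : Set (Matrix.SpecialLinearGroup (Fin n) F))) = Cfsg.pCore 2 ↥(Subgroup.centralizer ({t} : Set (Matrix.SpecialLinearGroup (Fin n) F))) := by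
  have ht' : t = transvection hij 1 := Subtype.ext ht
  have h2 : (2 : F) = 0 := by
    have := FiniteField.cast_card_eq_zero F
    rw [hF] at this
    exact_mod_cast this
  have h01 : ∀ c : F, c ≠ 0 → c = 1 := by
    intro c hc
    have := FiniteField.pow_card_sub_one_eq_one c hc
    simpa [hF] using this
  set e : Fin n → F := Pi.single i 1 with he
  have he0 : e ≠ 0 := by simp [he]
  set C := Subgroup.centralizer ({t} : Set (Matrix.SpecialLinearGroup (Fin n) F)) with hC
  have hfix : ∀ g ∈ C, g • e = e := by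
    intro g hg
    have h1 := mem_centralizer_singleton_iff.mp hg
    have h3 : g • t • (Pi.single j 1 : Fin n → F) = t • g • (Pi.single j 1 : Fin n → F) := by
      rw [← mul_smul, ← mul_smul, h1]
    rw [ht', transvection_smul, transvection_smul, smul_add, add_right_inj, Pi.single_eq_same,
      one_smul, ← he] at h3
    rw [h3, h01 ((g • (Pi.single j 1 : Fin n → F)) j) (fun h => ?_), one_smul]
    rw [h, zero_smul, smul_eq_iff_eq_inv_smul, smul_zero] at h3
    exact he0 h3
  let Q : Subgroup C :=
    { carrier := {g | ∀ v : Fin n → F, ∃ c : F, (g : Matrix.SpecialLinearGroup (Fin n) F) • v = v + c • e}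
      mul_mem' := fun {a b} ha hb v => by
        obtain ⟨c, hc⟩ := hb v
        obtain ⟨d, hd⟩ := ha ((b : Matrix.SpecialLinearGroup (Fin n) F) • v)
        refine ⟨c + d, ?_⟩
        rw [Subgroup.coe_mul, mul_smul, hd, hc, add_smul, add_assoc]
      one_mem' := fun v => ⟨0, by simp⟩
      inv_mem' := fun {a} ha v => by
        obtain ⟨c, hc⟩ := ha ((a : Matrix.SpecialLinearGroup (Fin n) F)⁻¹ • v)
        refine ⟨-c, ?_⟩
        rw [smul_inv_smul] at hc
        rw [Subgroup.coe_inv, neg_smul, ← sub_eq_add_neg, eq_sub_iff_add_eq, ← hc] }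
  have hQn : Q.Normal := ⟨fun a ha g v => by
    obtain ⟨c, hc⟩ := ha ((g : Matrix.SpecialLinearGroup (Fin n) F)⁻¹ • v)
    refine ⟨c, ?_⟩
    rw [Subgroup.coe_mul, Subgroup.coe_mul, Subgroup.coe_inv, mul_smul, mul_smul, hc, smul_add,
      smul_inv_smul, smul_comm, hfix g g.2]⟩
  have hQp : IsPGroup 2 Q := fun a => ⟨1, Subtype.ext (Subtype.ext (ext_smul fun v => by
    obtain ⟨c, hc⟩ := a.2 v
    simp only [pow_one, sq, Subgroup.coe_mul, mul_smul, OneMemClass.coe_one, one_smul]
    rw [hc, smul_add, hc, smul_comm, hfix _ a.1.2, add_assoc, ← two_smul F, h2, zero_smul,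
      add_zero]))⟩
  refine genFitting_eq_pCore Q hQp fun g hg v => ?_
  have key : ∀ l, i ≠ l → ((g : Matrix.SpecialLinearGroup (Fin n) F) • v) l = v l := by
    intro l hl
    have hT : transvection hl (1 : F) ∈ C := by
      rw [mem_centralizer_singleton_iff, ht']
      refine ext_smul fun w => ?_
      simp only [mul_smul, transvection_smul, Pi.add_apply, Pi.smul_apply,
        Pi.single_eq_of_ne hl.symm, Pi.single_eq_of_ne hij.symm, smul_zero, add_zero]
      abel
    have h1 := congrArg Subtype.val
      (mem_centralizer_iff.mp hg ⟨_, hT⟩ fun w => ⟨w l, transvection_smul hl w⟩)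
    have h3 : transvection hl (1 : F) • (g : Matrix.SpecialLinearGroup (Fin n) F) • v =
        (g : Matrix.SpecialLinearGroup (Fin n) F) • transvection hl (1 : F) • v := by
      rw [← mul_smul, ← mul_smul]
      exact congrArg (· • v) h1
    rw [transvection_smul, transvection_smul, smul_add, add_right_inj, smul_comm, ← he,
      hfix g g.2] at h3
    exact smul_left_injective F he0 h3
  refine ⟨((g : Matrix.SpecialLinearGroup (Fin n) F) • v) i - v i, funext fun l => ?_⟩
  by_cases hl : i = l
  · subst hl; simp [he]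
  · simp [he, key l hl, Pi.single_eq_of_ne (Ne.symm hl)]

end Cfsg.Agent.S1339
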