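import Cfsg.Agent.Base
import Cfsg.Statements.S1340
import Cfsg.Agent.SigMisc.Blk
import Cfsg.Agent.Sig.CompLayer
import Cfsg.Agent.Solv.PiCore
import Cfsg.Agent.Lin.SL2

set_option autoImplicit false
open Cfsg

namespace Cfsg.Agent.S1340

open CL.SigMisc CL.Sig Subgroup Matrix

/-- Let F be a finite field of odd order and n ≥ 3 with (n, |F|) ≠ (3, 3). Then GL(n, F) has a non-central involution t such that C(t) / O(C(t)) has a component. -/
theorem result {F : Type*} [Field F] [Fintype F] [DecidableEq F] (hF : Odd (Fintype.card F)) (n : ℕ) (hn : 3 ≤ n) (h33 : ¬ (n = 3 ∧ Fintype.card F = 3)) : ∃ t : Matrix.GeneralLinearGroup (Fin n) F, orderOf t = 2 ∧ t ∉ Subgroup.center (Matrix.GeneralLinearGroup (Fin n) F) ∧ Cfsg.HasComponent (↥(Subgroup.centralizer ({t} : Set (Matrix.GeneralLinearGroup (Fin n) F))) ⧸ Cfsg.oddCore ↥(Subgroup.centralizer ({t} : Set (Matrix.GeneralLinearGroup (Fin n) F)))) := by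
  obtain ⟨m, rfl⟩ : ∃ m, n = m + 1 := ⟨n - 1, by omega⟩
  have h2 : (2 : F) ≠ 0 := CL.Lin.two_ne_zero_of_odd_card hF
  have htt : blk (-1 : Matrix (Fin m) (Fin m) F) 1 * blk (-1) 1 = 1 := by
    rw [blk_mul, ← blk_one]; simp
  let t : GL (Fin (m + 1)) F := ⟨blk (-1) 1, blk (-1) 1, htt, htt⟩
  have ht : (t : Matrix (Fin (m + 1)) (Fin (m + 1)) F) = blk (-1) 1 := rfl
  have hnc : t ∉ Subgroup.center (GL (Fin (m + 1)) F) := by
    rw [GeneralLinearGroup.mem_center_iff_val_mem_range_scalar]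
    rintro ⟨r, hr⟩
    have h3 := congrFun (congrFun hr (Fin.last m)) (Fin.last m)
    have h4 := congrFun (congrFun hr (Fin.castSucc ⟨0, by omega⟩)) (Fin.castSucc ⟨0, by omega⟩)
    rw [ht, blk_ll] at h3
    rw [ht, blk_cc] at h4
    simp only [scalar_apply, diagonal_apply_eq, Matrix.neg_apply, one_apply_eq] at h3 h4
    exact h2 (by linear_combination h4 - h3)
  refine ⟨t, orderOf_eq_prime (Units.ext (by rw [sq]; exact htt)) (fun h => hnc (h ▸ one_mem _)),
    hnc, ?_⟩
  set C := Subgroup.centralizer ({t} : Set (GL (Fin (m + 1)) F)) with hC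
  have hmem : ∀ g : GL (Fin (m + 1)) F, g ∈ C ↔ g.1 * blk (-1) 1 = blk (-1) 1 * g.1 := fun g => by
    rw [mem_centralizer_singleton_iff, Units.ext_iff]; rfl
  let φ : SpecialLinearGroup (Fin m) F →* C :=
    (SpecialLinearGroup.toGL.comp slBlk).codRestrict C fun A => (hmem _).mpr (blk_commute_neg _ _)
  have hφ : Function.Injective φ := fun A B h =>
    slBlk_injective (SpecialLinearGroup.toGL_injective (congrArg Subtype.val h))
  have hn : φ.range.Normal := ⟨by
    rintro _ ⟨X, rfl⟩ g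
    obtain ⟨Y, hY⟩ := exists_conj_blk h2 ((hmem _).mp g.2) ((hmem _).mp (C.inv_mem g.2))
      (Units.mul_inv _) X
    exact ⟨Y, Subtype.ext (Units.ext hY)⟩⟩
  have hq : IsQuasisimple (SpecialLinearGroup (Fin m) F) := by
    apply isQuasisimple_SL
    have h1 : 1 < Fintype.card F := Fintype.one_lt_card
    obtain ⟨k, hk⟩ := hF
    rw [Nat.card_eq_fintype_card]
    omega
  have hK : IsComponent φ.range :=
    ⟨hn.isSubnormal, quasisimple_of_mulEquiv hq (MonoidHom.ofInjective hφ)⟩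
  refine ⟨_, component_map_of_surjective hK (QuotientGroup.mk' _) (QuotientGroup.mk'_surjective _) ?_⟩
  rw [Ne, Subgroup.map_eq_bot_iff, QuotientGroup.ker_mk']
  intro hle
  obtain ⟨d, hd⟩ := exists_involution_SL (m := m) h2 (by omega)
  have h3 := Subgroup.orderOf_dvd_natCard _ (hle ⟨d, rfl⟩)
  rw [orderOf_injective φ hφ, hd] at h3
  have := Nat.Coprime.eq_one_of_dvd (CL.pPrimeCore_coprime 2 C).symm h3
  omega

end Cfsg.Agent.S1340
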