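import Cfsg.Statements.S1343
import Cfsg.Agent.PComp.Ext

set_option autoImplicit false
open Cfsg

namespace Cfsg.Agent.S1343

/-- Let X be finite. Then L*_{2'}(X) = L_{2'}(X) ⊔ F for some subgroup F of odd order normalized by a Sylow 2-subgroup of X. -/
theorem result {X : Type*} [Group X] [Finite X] : ∃ F : Subgroup X, Odd (Nat.card ↥F) ∧ (∃ S : Sylow 2 X, (S : Subgroup X) ≤ Subgroup.normalizer (F : Set X)) ∧ Cfsg.extendedTwoLayer X = Cfsg.pLayer 2 X ⊔ F := by
  obtain ⟨S⟩ : Nonempty (Sylow 2 X) := inferInstance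
  have hN := CL.PComp.pLayer_sup_pPrimePCore_normal (p := 2) (G := X)
  have hT := CL.Transfer.isSylowIn_inf_normal S (pLayer 2 X ⊔ pPrimePCore 2 X)
  refine ⟨pPrimeCore 2 X ⊔ CL.PComp.ppCore 2 (Subgroup.centralizer
    (((S : Subgroup X) ⊓ (pLayer 2 X ⊔ pPrimePCore 2 X) : Subgroup X) : Set X)), ?_, ⟨S, ?_⟩, ?_⟩
  · rw [sup_comm]
    exact Nat.coprime_two_right.1 (CL.PComp.coprime_card_sup (CL.PComp.coprime_card_ppCore _)
      CL.PComp.coprime_card_pPrimeCore')
  · refine le_trans (le_inf ?_ ?_) (CL.Transfer.normalizer_inf_le_normalizer_sup _ _)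
    · rw [Subgroup.normalizer_eq_top]; exact le_top
    · refine le_trans ?_ (CL.PComp.normalizer_le_normalizer_ppCore _)
      refine le_trans ?_ (CL.Transfer.normalizer_le_normalizer_centralizer _)
      refine le_trans (le_inf Subgroup.le_normalizer ?_)
        (CL.Transfer.normalizer_inf_le_normalizer_inf _ _)
      rw [Subgroup.normalizer_eq_top]; exact le_top
  · rw [CL.PComp.extendedTwoLayer_eq hT, sup_assoc]

end Cfsg.Agent.S1343
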