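import Cfsg.Statements.S1346
import Cfsg.Agent.PComp.LBalance

set_option autoImplicit false
open Cfsg

namespace Cfsg.Agent.S1346

/-- Let G be a finite group all of whose 2-local subgroups have known non-abelian composition factors, and x, y commuting involutions. Then the extended 2-layer of L*_{2'}(C_G(x)) ∩ C_G(y) (as a group) is contained in L*_{2'}(C_G(y)). -/
theorem result {G : Type*} [Group G] [Finite G] (hK : ∀ T : Subgroup G, IsPGroup 2 ↥T → T ≠ ⊥ → Cfsg.IsCompositionKGroup ↥(Subgroup.normalizer (T : Set G))) (x y : G) (hx : orderOf x = 2) (hy : orderOf y = 2) (hxy : x * y = y * x) : (Cfsg.extendedTwoLayer ↥((Cfsg.extendedTwoLayer ↥(Subgroup.centralizer ({x} : Set G))).map (Subgroup.centralizer ({x} : Set G)).subtype ⊓ Subgroup.centralizer ({y} : Set G))).map ((Cfsg.extendedTwoLayer ↥(Subgroup.centralizer ({x} : Set G))).map (Subgroup.centralizer ({x} : Set G)).subtype ⊓ Subgroup.centralizer ({y} : Set G)).subtype ≤ (Cfsg.extendedTwoLayer ↥(Subgroup.centralizer ({y} : Set G))).map (Subgroup.centralizer ({y}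 : Set G)).subtype := by
  have hR : IsPGroup 2 (Subgroup.zpowers x) :=
    CL.PLoc.isPGroup_zpowers (k := 1) (by rw [pow_one, ← hx, pow_orderOf_eq_one])
  have hn := CL.PComp.extendedTwoLayer_normal' (G := Subgroup.centralizer ({x} : Set G))
  refine CL.PComp.extendedTwoLayer_map_le hR ?_ ?_ ?_
  · exact (Subgroup.zpowers_le).2 (Subgroup.mem_centralizer_singleton_iff.2 hxy)
  · rw [CL.PComp.centralizer_zpowers_eq]
    exact inf_le_inf_right _ (Subgroup.map_subtype_le _)
  · rw [CL.PComp.centralizer_zpowers_eq]
    refine le_trans (inf_le_inf ?_ Subgroup.le_normalizer)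
      (CL.Transfer.normalizer_inf_le_normalizer_inf _ _)
    refine le_trans ?_ (Subgroup.le_normalizer_map _)
    rw [Subgroup.normalizer_eq_top, ← MonoidHom.range_eq_map, Subgroup.range_subtype]

end Cfsg.Agent.S1346
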