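import Cfsg.Statements.S1347
import Cfsg.Agent.Base
import Cfsg.Agent.Sig.Standard
import Cfsg.Agent.S1322

set_option autoImplicit false
open Cfsg

namespace Cfsg.Agent.S1347

open CL CL.Sig Subgroup
open scoped Pointwise

/-- Let A be a standard subgroup of the finite group G with O(G) = 1, and t an involution of C_G(A). Then (i) A is normal in G; or (ii) there is a non-abelian simple subgroup X ≅ A with X and tXt⁻¹ commuting, meeting trivially and generating E(G), and C_G(A) = ⟨t⟩; or (iii) A ≤ E(G) and E(G) is non-abelian simple. -/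
theorem result {G : Type*} [Group G] [Finite G] (A : Subgroup G) (hA : Cfsg.IsStandardSubgroup A) (hO : Cfsg.oddCore G = ⊥) (t : G) (ht : orderOf t = 2) (htA : t ∈ Subgroup.centralizer (A : Set G)) : A.Normal ∨ (∃ X : Subgroup G, IsSimpleGroup ↥X ∧ ¬ IsMulCommutative ↥X ∧ Nonempty (↥X ≃* ↥A) ∧ (∀ a ∈ X, ∀ b ∈ X.map (MulAut.conj t).toMonoidHom, a * b = b * a) ∧ X ⊓ X.map (MulAut.conj t).toMonoidHom = ⊥ ∧ X ⊔ X.map (MulAut.conj t).toMonoidHom = Cfsg.layer G ∧ Subgroup.centralizer (A : Set G) = Subgroup.zpowers t) ∨ (A ≤ Cfsg.layer G ∧ IsSimpleGroup ↥(Cfsg.layer G) ∧ ¬ IsMulCommutative ↥(Cfsg.layer G)) := by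
  by_cases hn : A.Normal
  · exact Or.inl hn
  right
  have hc := standard_compIn hA ht htA
  obtain ⟨D, hD, h⟩ := Cfsg.Agent.S1322.result (pLayer_eq_layer_of_core_eq_bot hO) t ht A hc.le
    hc.isComponent
  have hAc : ¬ IsComponent A := fun h => hn (normal_of_forall_map_conj_le fun g => by
    by_contra hg
    have hne : A.map (MulAut.conj g).toMonoidHom ≠ A := fun e => hg e.le
    exact hA.2.2.1 g hne (component_commute h (component_conj h g) hne.symm))
  have hDt : IsComponent (MulAut.conj t • D) := component_conj hD t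
  set D0 := D ⊔ MulAut.conj t • D with hD0
  have hAD : A ≤ D0 := by
    rcases h with h | h | h
    · exact h.le.trans le_sup_left
    · exact h.1.le.trans le_sup_left
    · exact h.2.le.trans ((map_subtype_le _).trans inf_le_left)
  have hD0E : D0 ≤ layer G := sup_le (component_le_layer hD) (component_le_layer hDt)
  have hD0s : D0.IsSubnormal := isSubnormal_of_le_normalizer hD0E
    (Sig.le_normalizer_sup (layer_le_normalizer_component hD) (layer_le_normalizer_component hDt))
    layer_normal.isSubnormal
  have hodd : ∀ s ∈ centralizer (D0 : Set G), orderOf s ≠ 2 := by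
    intro s hs hs2
    refine hAc ⟨isSubnormal_of_le_normalizer hAD ?_ hD0s, hA.1⟩
    exact (le_centralizer_singleton_iff.mpr hs).trans
      (standard_centralizer_le hA hs2 (centralizer_le hAD hs))
  have hE : D0 = layer G := by
    refine le_antisymm hD0E (layer_le_iff.mpr fun K hK => ?_)
    refine (component_le_or_commute hK hD0s).resolve_right fun h1 => ?_
    obtain ⟨s, hs, hs2⟩ := (Invol.even_card_iff_exists_involution K).mp
      (even_iff_two_dvd.mpr (dvd_card_component_of_core_eq_bot hO hK))
    exact hodd s (commutator_eq_bot_iff_le_centralizer.mp h1 hs) hs2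
  have hC : centralizer (D0 : Set G) = ⊥ := by
    have h1 := (Invol.odd_card_iff_forall _).mpr hodd
    rw [hE] at h1 ⊢
    have := PComp.le_pPrimeCore' (p := 2) (N := centralizer (layer G : Set G)) inferInstance
      (Nat.coprime_two_right.mpr h1)
    exact le_bot_iff.mp (hO ▸ this)
  have hZ : D ⊓ centralizer (D : Set G) = ⊥ := by
    refine le_bot_iff.mp (hC ▸ ?_)
    rw [hE]
    exact (component_center_le_centralizer_genFitting hD).trans (centralizer_le layer_le_genFitting)
  obtain ⟨hs, hna⟩ := isSimpleGroup_of_quasisimple hD.2 hZ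
  rcases h with h | h | ⟨hne, h⟩
  · exact absurd (h ▸ hD) hAc
  · right
    have h1 : MulAut.conj t • D = D := by
      refine Cj.conj_eq_of_mem_normalizer ?_
      rw [h.2]
      exact normalizer_commutator_ge_right _ _ (mem_zpowers t)
    rw [← hE, hD0, h1, sup_idem]
    exact ⟨h.1.le, hs, hna⟩
  · left
    have hcomm : ⁅D, MulAut.conj t • D⁆ = ⊥ := component_commute hD hDt (Ne.symm hne)
    have hinf : D ⊓ MulAut.conj t • D = ⊥ := by
      refine le_bot_iff.mp (hZ ▸ inf_le_inf_left _ ?_)
      rw [← commutator_eq_bot_iff_le_centralizer, commutator_comm]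
      exact hcomm
    have htt : t * t = 1 := by rw [← pow_two, ← ht, pow_orderOf_eq_one]
    have hinj := diagHom_injective hcomm hinf
    have hA' : A = (diagHom D t hcomm).range := by
      rw [h]
      change layerIn (D0 ⊓ _) = _
      rw [hD0, ← diagHom_range htt hcomm hinf]
      exact layerIn_eq_self_of_quasisimple
        (quasisimple_of_mulEquiv hD.2 (MonoidHom.ofInjective hinj))
    refine ⟨D, hs, hna, ⟨hA' ▸ MonoidHom.ofInjective hinj⟩,
      fun a ha b hb => commute_of_commutator_eq_bot hcomm ha hb, hinf, hE, ?_⟩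
    have hcases : ∀ K : Subgroup G, IsComponent K → K = D ∨ K = MulAut.conj t • D := by
      intro K hK
      have := component_mem_of_le_sSup hK (S := {D, MulAut.conj t • D})
        (by rintro _ (rfl | rfl); exacts [hD, hDt])
        (by rw [sSup_pair]; exact (component_le_layer hK).trans hE.ge)
      simpa using this
    have key : ∀ k ∈ centralizer (A : Set G), MulAut.conj k • D = D → k = 1 := by
      intro k hk hkD
      have hkDt : MulAut.conj k • MulAut.conj t • D = MulAut.conj t • D :=
        (hcases _ (component_conj hDt k)).resolve_left fun e => hne (Cj.conj_inj.mp (e.trans hkD.symm))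
      have h1 : ∀ d ∈ D, k * d * k⁻¹ = d ∧ k * (t * d * t⁻¹) * k⁻¹ = t * d * t⁻¹ := by
        intro d hd
        have h2 := hk (d * (t * d * t⁻¹)) (by rw [hA']; exact ⟨⟨d, hd⟩, rfl⟩)
        have h3 : d⁻¹ * (k * d * k⁻¹) = t * d * t⁻¹ * (k * (t * d * t⁻¹) * k⁻¹)⁻¹ := by
          calc d⁻¹ * (k * d * k⁻¹)
              = d⁻¹ * (k * (d * (t * d * t⁻¹))) * k⁻¹ * (k * (t * d * t⁻¹) * k⁻¹)⁻¹ := by group
            _ = _ := by rw [← h2]; group
        have h4 : d⁻¹ * (k * d * k⁻¹) ∈ D ⊓ MulAut.conj t • D := by
          refine mem_inf.mpr ⟨mul_mem (inv_mem hd) (hkD ▸ Cj.conj_mem_conj k hd), ?_⟩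
          rw [h3]
          exact mul_mem (Cj.conj_mem_conj t hd)
            (inv_mem (hkDt ▸ Cj.conj_mem_conj k (Cj.conj_mem_conj t hd)))
        rw [hinf, mem_bot] at h4
        rw [h4, eq_comm, mul_inv_eq_one] at h3
        exact ⟨(inv_mul_eq_one.mp h4).symm, h3.symm⟩
      have h5 : k ∈ centralizer (D0 : Set G) := by
        refine le_centralizer_singleton_iff.mp (sup_le (fun d hd => ?_) fun d hd => ?_)
        · rw [mem_centralizer_singleton_iff, eq_comm, ← mul_inv_eq_iff_eq_mul]
          exact (h1 d hd).1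
        · obtain ⟨c, hc, rfl⟩ := Cj.exists_of_mem_conj hd
          rw [mem_centralizer_singleton_iff, eq_comm, ← mul_inv_eq_iff_eq_mul]
          exact (h1 c hc).2
      rwa [hC, mem_bot] at h5
    refine le_antisymm (fun k hk => ?_) (zpowers_le.mpr htA)
    rcases hcases _ (component_conj hD k) with h1 | h1
    · rw [key k hk h1]; exact one_mem _
    · have := key (t⁻¹ * k) (mul_mem (inv_mem htA) hk) (by
        rw [← Cj.conj_conj]
        exact (congrArg (fun X => MulAut.conj t⁻¹ • X) h1).trans (Cj.conj_inv_conj t D))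
      rw [inv_mul_eq_one] at this
      rw [← this]
      exact mem_zpowers t

end Cfsg.Agent.S1347
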