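import Cfsg.Agent.Base
import Cfsg.Statements.S1348
import Cfsg.Agent.SigMisc.Blk
import Cfsg.Agent.Sig.CompLayer
import Cfsg.Agent.Invol.StrEmb
import Cfsg.Agent.Lin.SL2

set_option autoImplicit false
open Cfsg

namespace Cfsg.Agent.S1348

open CL.SigMisc CL.Sig Subgroup Matrix

/-- Let F be a finite field of odd order, n ≥ 7 odd, and t ∈ SL(n, F) the diagonal matrix with entries −1, …, −1, 1. Then E(C(t)) is a standard subgroup of SL(n, F). -/
theorem result {F : Type*} [Field F] [Fintype F] [DecidableEq F] (hF : Odd (Fintype.card F)) (n : ℕ) (hn : 7 ≤ n) (hodd : Odd n) (t : Matrix.SpecialLinearGroup (Fin n) F) (ht : (t : Matrix (Fin n) (Fin n) F) = Matrix.diagonal (fun i : Fin n => if (i : ℕ) + 1 = n then (1 : F) else -1)) : Cfsg.IsStandardSubgroup ((Cfsg.layer ↥(Subgroup.centralizer ({t} : Set (Matrix.SpecialLinearGroup (Fin n) F)))).map (Subgroup.centralizer ({t} : Set (Matrix.SpecialLinearGroup (Fin n) F))).subtype) := by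
  obtain ⟨m, rfl⟩ : ∃ m, n = m + 1 := ⟨n - 1, by omega⟩
  have hm : Even m := by simpa [Nat.odd_add_one] using hodd
  have h2 : (2 : F) ≠ 0 := CL.Lin.two_ne_zero_of_odd_card hF
  have ht' : t.1 = blk (-1) 1 := by
    have h1 : (-1 : Matrix (Fin m) (Fin m) F) = diagonal (fun _ => -1) := by
      rw [← diagonal_one, diagonal_neg]
    rw [h1, blk_diagonal, ht]
    congr 1
    funext i
    induction i using Fin.lastCases with
    | last => simp
    | cast i => simp [i.2.ne]
  set C := Subgroup.centralizer ({t} : Set (SpecialLinearGroup (Fin (m + 1)) F)) with hC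
  have hmem : ∀ g : SpecialLinearGroup (Fin (m + 1)) F,
      g ∈ C ↔ g.1 * blk (-1) 1 = blk (-1) 1 * g.1 := fun g => by
    rw [mem_centralizer_singleton_iff, ← ht']
    exact Subtype.ext_iff
  set K : Subgroup (SpecialLinearGroup (Fin (m + 1)) F) := slBlk.range with hK
  have hKC : K ≤ C := by
    rintro _ ⟨A, rfl⟩
    exact (hmem _).mpr (blk_commute_neg _ _)
  have hCK : C ≤ normalizer (K : Set (SpecialLinearGroup (Fin (m + 1)) F)) := by
    intro g hg
    apply mem_normalizer_fintype
    rintro _ ⟨X, rfl⟩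
    obtain ⟨Y, hY⟩ := exists_conj_blk h2 ((hmem _).mp hg) ((hmem _).mp (C.inv_mem hg))
      (congrArg Subtype.val (mul_inv_cancel g)) X
    exact ⟨Y, Subtype.ext hY⟩
  have hq : IsQuasisimple K := quasisimple_of_mulEquiv (isQuasisimple_SL (Or.inl (by omega)))
    (MonoidHom.ofInjective slBlk_injective)
  have hlayer : (layer C).map C.subtype = K := by
    apply le_antisymm
    · rw [← layer_commutator_self, map_commutator, commutator_le]
      rintro _ ⟨g, -, rfl⟩ _ ⟨h, -, rfl⟩
      obtain ⟨A, a, hA⟩ := exists_blk_of_commute h2 ((hmem _).mp g.2)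
      obtain ⟨A', a', hA'⟩ := exists_blk_of_commute h2 ((hmem _).mp (C.inv_mem g.2))
      obtain ⟨B, b, hB⟩ := exists_blk_of_commute h2 ((hmem _).mp h.2)
      obtain ⟨B', b', hB'⟩ := exists_blk_of_commute h2 ((hmem _).mp (C.inv_mem h.2))
      have h3 : g.1.1 * (g.1⁻¹).1 = 1 := congrArg Subtype.val (mul_inv_cancel g.1)
      have h4 : h.1.1 * (h.1⁻¹).1 = 1 := congrArg Subtype.val (mul_inv_cancel h.1)
      rw [hA, hA', blk_mul, ← blk_one] at h3
      rw [hB, hB', blk_mul, ← blk_one] at h4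
      have h5 : (g.1 * h.1 * g.1⁻¹ * h.1⁻¹).1 = blk (A * B * A' * B') 1 := by
        change g.1.1 * h.1.1 * (g.1⁻¹).1 * (h.1⁻¹).1 = _
        rw [hA, hA', hB, hB', blk_mul, blk_mul, blk_mul]
        congr 1
        linear_combination (b * b') * (blk_inj h3).2 + (blk_inj h4).2
      have h6 := (g.1 * h.1 * g.1⁻¹ * h.1⁻¹).2
      rw [h5, det_blk, mul_one] at h6
      exact ⟨⟨_, h6⟩, Subtype.ext h5.symm⟩
    · rw [← map_subgroupOf_eq_of_le hKC]
      exact map_mono (component_le_layer ⟨(normal_subgroupOf_of_le_normalizer hCK).isSubnormal,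
        (isQuasisimple_subgroupOf_iff hKC).mpr hq⟩)
  rw [hlayer]
  have htK : t ∈ K := ⟨⟨-1, by rw [det_neg, det_one, Fintype.card_fin, hm.neg_one_pow, mul_one]⟩,
    Subtype.ext ht'.symm⟩
  set Z := centralizer (K : Set (SpecialLinearGroup (Fin (m + 1)) F)) with hZ
  have hZmem : ∀ g ∈ Z, ∃ a b : F, g.1 = blk (scalar _ a) b := by
    intro g hg
    obtain ⟨A, b, hA⟩ := exists_blk_of_commute h2 ((hmem _).mp
      (mem_centralizer_singleton_iff.mpr (mem_centralizer_iff.mp hg t htK).symm))
    obtain ⟨a, ha⟩ : A ∈ Set.range (scalar (Fin m)) := by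
      refine mem_range_scalar_of_commute_transvectionStruct fun u => ?_
      have h3 : blk u.toMatrix 1 * g.1 = g.1 * blk u.toMatrix 1 :=
        congrArg Subtype.val (mem_centralizer_iff.mp hg _ ⟨⟨u.toMatrix, by simp⟩, rfl⟩)
      rw [hA, blk_mul, blk_mul] at h3
      exact (blk_inj h3).1
    exact ⟨a, b, by rw [hA, ha]⟩
  have hZc : ∀ g ∈ Z, ∀ h ∈ Z, g * h = h * g := by
    intro g hg h hh
    obtain ⟨a, b, hab⟩ := hZmem g hg
    obtain ⟨c, d, hcd⟩ := hZmem h hh
    apply Subtype.ext
    change g.1 * h.1 = h.1 * g.1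
    rw [hab, hcd, blk_mul, blk_mul, ← map_mul, ← map_mul, mul_comm a c, mul_comm b d]
  have hZinv : ∀ g ∈ Z, orderOf g = 2 → g = t := by
    intro g hg hg2
    obtain ⟨a, b, hab⟩ := hZmem g hg
    have h3' : g * g = 1 := CL.Invol.mul_self_of_orderOf_two hg2
    have h3 : g.1 * g.1 = 1 := congrArg Subtype.val h3'
    rw [hab, blk_mul, ← blk_one, ← map_mul] at h3
    have h4 : a * a = 1 := by
      have := congrFun (congrFun (blk_inj h3).1 ⟨0, by omega⟩) ⟨0, by omega⟩
      simpa using this
    have h5 := g.2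
    rw [hab, det_blk, scalar_apply, det_diagonal, Finset.prod_const, Finset.card_univ,
      Fintype.card_fin] at h5
    rcases mul_self_eq_one_iff.mp h4 with rfl | rfl
    · rw [one_pow, one_mul] at h5
      rw [h5, map_one, blk_one] at hab
      have hg1 : g ≠ 1 := CL.Invol.ne_one_of_orderOf_two hg2
      have hg1' : g = 1 := Subtype.ext hab
      exact (hg1 hg1').elim
    · rw [hm.neg_one_pow, one_mul] at h5
      rw [h5, map_neg, map_one, ← ht'] at hab
      exact Subtype.ext hab
  have htZ : t ∈ Z := mem_centralizer_iff.mpr fun g hg => mem_centralizer_singleton_iff.mp (hKC hg)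
  have ht2 : orderOf t = 2 := by
    have h6 : t ≠ 1 := fun h => by
      have h3 : t.1 = 1 := congrArg Subtype.val h
      rw [ht', ← blk_one] at h3
      have := congrFun (congrFun (blk_inj h3).1 ⟨0, by omega⟩) ⟨0, by omega⟩
      simp only [Matrix.neg_apply, one_apply_eq] at this
      exact h2 (by linear_combination -this)
    have h7 : t.1 * t.1 = 1 := by rw [ht', blk_mul, ← blk_one]; simp
    have h8 : t * t = 1 := Subtype.ext h7
    exact CL.Invol.orderOf_two_of_mul_self h6 h8
  have hCZ := hCK.trans (normalizer_le_normalizer_centralizer' K)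
  refine ⟨hq, ⟨(CL.Invol.even_card_iff_exists_involution _).mpr ⟨t, htZ, ht2⟩, ?_⟩, ?_, ?_⟩
  · intro g hg
    rw [CL.Invol.odd_card_iff_forall]
    rintro _ ⟨h1, s, hs, rfl⟩ hs2
    have h3 := hZinv _ h1 hs2
    have h4 : orderOf s = 2 := (CL.Invol.orderOf_conj g s).symm.trans hs2
    rw [hZinv s hs h4] at h3
    exact hg (hCZ (mem_centralizer_singleton_iff.mpr (mul_inv_eq_iff_eq_mul.mp h3)))
  · intro g _ h
    rw [commutator_comm, commutator_eq_bot_iff_le_centralizer] at h
    refine quasisimple_commutator_ne_bot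
      ((isQuasisimple_map_iff_of_injective (MulAut.conj g).toMonoidHom
        (MulAut.conj g).injective).mpr hq) ?_
    exact commutator_eq_bot_of_forall fun a ha b hb => hZc a (h ha) b (h hb)
  · refine le_antisymm (normalizer_le_normalizer_centralizer' _) (le_trans (fun g hg => ?_) hCK)
    have h3 := hZinv _ ((mem_normalizer_iff.mp hg t).mp htZ) (CL.Invol.orderOf_conj_two ht2 g)
    exact mem_centralizer_singleton_iff.mpr (mul_inv_eq_iff_eq_mul.mp h3)

end Cfsg.Agent.S1348
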