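import Cfsg.Agent.Base
import Cfsg.Statements.S1349
import Cfsg.Agent.SigMisc.Homog
import Cfsg.Agent.Invol.Dihedral

set_option autoImplicit false
open Cfsg

namespace Cfsg.Agent.S1349

open CL.SigMisc CL.Sig Subgroup
open scoped commutatorElement

theorem exists_commuting {G : Type*} [Group G] [Finite G] {A : Subgroup G}
    (hA : IsElementaryAbelian 2 A) {d : ℕ} (hAd : Nat.card A = 2 ^ d) (K : Subgroup G) :
    Group.IsNilpotent K → Odd (Nat.card K) → A ≤ normalizer (K : Set G) →
    A ⊓ centralizer (K : Set G) = ⊥ → ∃ x : Fin d → G,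
      (∀ i, x i ∈ K ∧ Homog A (x i)) ∧ (∀ b ∈ A, (∀ i, b * x i * b⁻¹ = x i) → b = 1) ∧
        ∀ i j, x i * x j = x j * x i := by
  classical
  induction K using WellFoundedLT.induction with
  | ind K ih =>
  intro hKn hK hAK hf
  obtain ⟨x, hx1, hx2⟩ := exists_homog_family hA hK hAK hf d A le_rfl hAd.le
  obtain ⟨a, haA, ha1, ha2⟩ := exists_dual_basis hAd x (fun i => (hx1 i).2) hx2
  have hinv : ∀ i, a i * x i * (a i)⁻¹ = (x i)⁻¹ := fun i =>
    ((hx1 i).2 _ (haA i)).resolve_left (ha1 i)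
  by_cases h : ∀ i, a i ∈ centralizer ((⁅K, K⁆ : Subgroup G) : Set G)
  · refine ⟨x, hx1, hx2, fun i j => ?_⟩
    by_cases hij : i = j
    · rw [hij]
    have hcK : ⁅x i, x j⁆ ∈ ⁅K, K⁆ := commutator_mem_commutator (hx1 i).1 (hx1 j).1
    have hxc : ⁅x i, x j⁆ * x i * ⁅x i, x j⁆⁻¹ = x i := by
      apply conj_eq_of_conj_sq_eq hK (hx1 i).1
      have h1 : x i * a i * (x i)⁻¹ ∈ centralizer ((⁅K, K⁆ : Subgroup G) : Set G) :=
        (mem_normalizer_iff.mp (normalizer_le_normalizer_centralizer' _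
          (normalizer_commutator_ge_left K K (hx1 i).1)) _).mp (h i)
      have h2 : x i * x i = x i * a i * (x i)⁻¹ * (a i)⁻¹ := by
        calc x i * x i = x i * (a i * x i * (a i)⁻¹)⁻¹ := by rw [hinv, inv_inv]
          _ = _ := by group
      have h3 := mem_centralizer_iff.mp (mul_mem h1 (inv_mem (h i))) _ hcK
      rw [← h2] at h3
      rw [h3]; group
    have hac : a i * ⁅x i, x j⁆ * (a i)⁻¹ = ⁅x i, x j⁆ := by
      rw [← mem_centralizer_iff.mp (h i) _ hcK]; group
    rw [conjugate_commutatorElement, hinv, ha2 i j hij] at hac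
    rw [← commutatorElement_eq_one_iff_mul_comm]
    apply eq_one_of_eq_inv_of_odd hK (commutator_le_self K hcK)
    calc ⁅x i, x j⁆ = ⁅(x i)⁻¹, x j⁆ := hac.symm
      _ = (x i)⁻¹ * ⁅x i, x j⁆⁻¹ * x i := by simp only [commutatorElement_def]; group
      _ = (x i)⁻¹ * ⁅x i, x j⁆⁻¹ * (⁅x i, x j⁆ * x i * ⁅x i, x j⁆⁻¹) := by rw [hxc]
      _ = _ := by group
  · push Not at h
    obtain ⟨i, hi⟩ := h
    have hlt : K ⊓ centralizer {a i} < K := by
      refine lt_of_le_of_ne inf_le_left fun h => ha1 i ?_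
      have h1 : x i ∈ K ⊓ centralizer {a i} := by rw [h]; exact (hx1 i).1
      rw [← mem_centralizer_singleton_iff.mp h1.2]; group
    have hlt' := sup_commutator_ne hKn hlt
    have hAc : A ≤ normalizer ((centralizer {a i} : Subgroup G) : Set G) :=
      le_trans (fun b hb => mem_centralizer_singleton_iff.mpr (elemAb_comm hA hb (haA i)))
        le_normalizer
    obtain ⟨y, hy1, hy2, hy3⟩ := ih _ hlt' (isNilpotent_of_le hlt'.le hKn)
      (Odd.of_dvd_nat hK (card_dvd_of_le hlt'.le))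
      (le_normalizer_sup (le_normalizer_inf hAK hAc) (le_normalizer_commutator hAK hAK)) (by
        rw [eq_bot_iff]
        rintro b ⟨hbA, hb⟩
        have hbx : ∀ j, i ≠ j → b * x j * b⁻¹ = x j := by
          intro j hij
          have : x j ∈ K ⊓ centralizer {a i} ⊔ ⁅K, K⁆ := mem_sup_left ⟨(hx1 j).1,
            mem_centralizer_singleton_iff.mpr (mul_inv_eq_iff_eq_mul.mp (ha2 i j hij)).symm⟩
          rw [← mem_centralizer_iff.mp hb _ this]; group
        by_cases hbi : b * x i * b⁻¹ = x i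
        · exact hx2 b hbA fun j => if hij : i = j then hij ▸ hbi else hbx j hij
        · exfalso
          have hbi' := ((hx1 i).2 b hbA).resolve_left hbi
          have : (a i)⁻¹ * b = 1 := by
            refine hx2 _ (A.mul_mem (A.inv_mem (haA i)) hbA) fun j => ?_
            have h2 : b * x j * b⁻¹ = a i * x j * (a i)⁻¹ := by
              by_cases hij : i = j
              · rw [← hij, hbi', hinv]
              · rw [hbx j hij, ha2 i j hij]
            calc (a i)⁻¹ * b * x j * ((a i)⁻¹ * b)⁻¹ = (a i)⁻¹ * (b * x j * b⁻¹) * a i := by group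
              _ = _ := by rw [h2]; group
          rw [inv_mul_eq_one] at this
          exact hi (this ▸ centralizer_le (SetLike.coe_subset_coe.mpr le_sup_right) hb))
    exact ⟨y, fun j => ⟨hlt'.le (hy1 j).1, (hy1 j).2⟩, hy2, hy3⟩

/-- Let G be finite, L ≤ G solvable of odd order, and A an elementary abelian 2-subgroup of order 2^d (d ≥ 1) normalizing L with C_A(L) = 1. Then there are subgroups A_1, …, A_d of A of order 2 generating A and subgroups L_1, …, L_d of L such that each A_i ⊔ L_i is dihedral of order 2 n_i with n_i odd and at least 3, and A_i ⊔ L_i commutes elementwise with A_j ⊔ L_j for i ≠ j. -/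
theorem result {G : Type*} [Group G] [Finite G] (L A : Subgroup G) (hLs : Group.IsSolvable ↥L) (hLodd : Odd (Nat.card ↥L)) (hA : Cfsg.IsElementaryAbelian 2 A) (d : ℕ) (hd : 1 ≤ d) (hAd : Nat.card ↥A = 2 ^ d) (hAL : A ≤ Subgroup.normalizer (L : Set G)) (hfaith : A ⊓ Subgroup.centralizer (L : Set G) = ⊥) : ∃ (Ai : Fin d → Subgroup G) (Li : Fin d → Subgroup G) (n : Fin d → ℕ), (∀ i, Ai i ≤ A ∧ Nat.card ↥(Ai i) = 2 ∧ Li i ≤ L ∧ Odd (n i) ∧ 3 ≤ n i ∧ Nonempty (↥(Ai i ⊔ Li i) ≃* DihedralGroup (n i))) ∧ (⨆ i, Ai i) = A ∧ ∀ i j, i ≠ j → ∀ x ∈ Ai i ⊔ Li i, ∀ y ∈ Ai j ⊔ Li j, x * y = y * x := by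
  classical
  set K : Subgroup G := (fittingSubgroup L).map L.subtype with hKdef
  have hKL : K ≤ L := map_subtype_le _
  have hK : Odd (Nat.card K) := Odd.of_dvd_nat hLodd (card_dvd_of_le hKL)
  have hNK : normalizer (L : Set G) ≤ normalizer (K : Set G) :=
    normalizer_le_normalizer_map_char L _
  have hCK : ∀ y ∈ L, y ∈ centralizer (K : Set G) → y ∈ K := by
    intro y hy hyc
    refine ⟨⟨y, hy⟩, centralizer_fitting_le_iff.mpr (layer_eq_bot_of_solvable hLs) ?_, rfl⟩
    rw [mem_centralizer_iff]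
    intro g hg
    exact Subtype.ext (mem_centralizer_iff.mp hyc g ⟨g, hg, rfl⟩)
  have hf : A ⊓ centralizer (K : Set G) = ⊥ := by
    rw [eq_bot_iff, ← hfaith]
    rintro a ⟨haA, ha⟩
    refine ⟨haA, ?_⟩
    by_contra hna
    obtain ⟨x, hxL, hx1, -, hax⟩ := exists_homog hA hLodd hAL haA hna
    have h1 : x * a * x⁻¹ ∈ centralizer (K : Set G) :=
      (mem_normalizer_iff.mp (normalizer_le_normalizer_centralizer' _
        (hNK (le_normalizer hxL))) _).mp ha
    have h2 : x * x = x * a * x⁻¹ * a⁻¹ := by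
      calc x * x = x * (a * x * a⁻¹)⁻¹ := by rw [hax, inv_inv]
        _ = _ := by group
    have h3 : x * x ∈ K := hCK _ (L.mul_mem hxL hxL) (h2 ▸ mul_mem h1 (inv_mem ha))
    have h4 : a * x * a⁻¹ = x := by
      apply conj_eq_of_conj_sq_eq hLodd hxL
      rw [← mem_centralizer_iff.mp ha _ h3]; group
    exact hx1 (eq_one_of_eq_inv_of_odd hLodd hxL (h4.symm.trans hax))
  obtain ⟨x, hx1, hx2, hx3⟩ := exists_commuting hA hAd K
    (isNilpotent_map_subtype fitting_isNilpotent) hK (hAL.trans hNK) hf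
  obtain ⟨a, haA, ha1, ha2⟩ := exists_dual_basis hAd x (fun i => (hx1 i).2) hx2
  have hinv : ∀ i, a i * x i * (a i)⁻¹ = (x i)⁻¹ := fun i =>
    ((hx1 i).2 _ (haA i)).resolve_left (ha1 i)
  have ha_ne : ∀ i, a i ≠ 1 := fun i h => ha1 i (by rw [h]; group)
  have hx_ne : ∀ i, x i ≠ 1 := fun i h => ha1 i (by rw [h]; group)
  have hao : ∀ i, orderOf (a i) = 2 := fun i => orderOf_eq_prime (hA.2 _ (haA i)) (ha_ne i)
  have hxo : ∀ i, Odd (orderOf (x i)) := fun i =>
    Odd.of_dvd_nat hK (K.orderOf_dvd_natCard (hx1 i).1)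
  refine ⟨fun i => zpowers (a i), fun i => zpowers (x i), fun i => orderOf (x i), fun i => ?_, ?_,
    fun i j hij => ?_⟩
  · refine ⟨zpowers_le.mpr (haA i), by rw [Nat.card_zpowers, hao], zpowers_le.mpr (hKL (hx1 i).1),
      hxo i, ?_, ?_⟩
    · have h1 : orderOf (x i) ≠ 1 := fun h => hx_ne i (orderOf_eq_one_iff.mp h)
      obtain ⟨k, hk⟩ := hxo i
      simp only
      omega
    · have h1 : zpowers (a i) ⊔ zpowers (x i) = Subgroup.closure {a i, x i} := by
        rw [zpowers_eq_closure, zpowers_eq_closure, ← Subgroup.closure_union]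
        rfl
      simp only
      rw [h1]
      refine CL.Invol.nonempty_equiv_dihedral_of_inverts
        (by rw [← sq]; exact hA.2 _ (haA i)) (hinv i) fun h => ?_
      exact ha_ne i (eq_one_of_sq_of_odd hK (zpowers_le.mpr (hx1 i).1 h) (hA.2 _ (haA i)))
  · refine le_antisymm (iSup_le fun i => zpowers_le.mpr (haA i)) fun b hb => ?_
    have key : ∀ S : Finset (Fin d), ∀ b ∈ A, (∀ i ∉ S, b * x i * b⁻¹ = x i) →
        b ∈ ⨆ i, zpowers (a i) := by
      intro S
      induction S using Finset.induction_on with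
      | empty => intro b hb h; rw [hx2 b hb fun i => h i (by simp)]; exact one_mem _
      | insert i S hi ih =>
        intro b hb h
        by_cases hbi : b * x i * b⁻¹ = x i
        · exact ih b hb fun j hj => if hij : j = i then hij ▸ hbi else h j (by simp [hij, hj])
        · have hbi' := ((hx1 i).2 b hb).resolve_left hbi
          have h1 := ih ((a i)⁻¹ * b) (A.mul_mem (A.inv_mem (haA i)) hb) fun j hj => by
            have h2 : b * x j * b⁻¹ = a i * x j * (a i)⁻¹ := by
              by_cases hij : i = j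
              · rw [← hij, hbi', hinv]
              · rw [h j (by simp [Ne.symm hij, hj]), ha2 i j hij]
            calc (a i)⁻¹ * b * x j * ((a i)⁻¹ * b)⁻¹ = (a i)⁻¹ * (b * x j * b⁻¹) * a i := by group
              _ = _ := by rw [h2]; group
          have h3 : a i ∈ ⨆ i, zpowers (a i) := mem_iSup_of_mem i (mem_zpowers _)
          simpa using mul_mem h3 h1
    exact key Finset.univ b hb fun i hi => absurd (Finset.mem_univ i) hi
  · have h1 : ⁅zpowers (a i) ⊔ zpowers (x i), zpowers (a j) ⊔ zpowers (x j)⁆ = ⊥ := by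
      have hz : ∀ u v : G, u * v = v * u → ⁅zpowers u, zpowers v⁆ = ⊥ := by
        intro u v huv
        apply commutator_eq_bot_of_forall
        rintro _ ⟨k, rfl⟩ _ ⟨l, rfl⟩
        exact (Commute.zpow_zpow huv k l).eq
      exact commutator_sup_left_eq_bot
        (commutator_sup_right_eq_bot (hz _ _ (elemAb_comm hA (haA i) (haA j)))
          (hz _ _ (mul_inv_eq_iff_eq_mul.mp (ha2 i j hij))))
        (commutator_sup_right_eq_bot (hz _ _ (mul_inv_eq_iff_eq_mul.mp (ha2 j i hij.symm)).symm)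
          (hz _ _ (hx3 i j)))
    exact fun u hu v hv => commute_of_commutator_eq_bot h1 hu hv

end Cfsg.Agent.S1349
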