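import Cfsg.Statements.S1355
import Cfsg.Agent.Base
import Cfsg.Agent.BG.Frob
import Cfsg.Agent.BG.Fcore
import Cfsg.Agent.BG.QuotPi
import Cfsg.Agent.BG.A12_Basic
import Cfsg.Agent.BG.T15_2
import Cfsg.Agent.BG.T15_5

set_option autoImplicit false
open Cfsg

namespace Cfsg.Agent.S1355

/-- Let G be a minimal simple group of odd order and M a maximal subgroup. Then the largest normal nilpotent Hall subgroup M_F of M is nontrivial and contained in M_σ, M_σ is contained in the derived subgroup M', M' is proper in M, and the image of M' in M/M_F is nilpotent. -/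
theorem result {G : Type*} [Group G] [Finite G] (hG : Cfsg.IsMinSimpleOddOrder G)
    (M : Subgroup G) (hM : IsCoatom M) :
    Cfsg.fittingHallOf M ≠ ⊥ ∧ Cfsg.fittingHallOf M ≤ Cfsg.sigmaCore M ∧ Cfsg.sigmaCore M ≤ ⁅M, M⁆ ∧ ⁅M, M⁆ < M ∧
      Group.IsNilpotent ↥((commutator ↥M).map (QuotientGroup.mk' (Cfsg.fittingHall ↥M))) := by
  obtain ⟨h1, h2, h3, h4⟩ := CL.BG.t15_2_chain hG hM
  refine ⟨h1, h2, h3, h4, ?_⟩
  obtain ⟨hle, hnil⟩ := CL.BG.t15_5c hG hM
  obtain ⟨D, hD⟩ := CL.BG.exists_sdp_of_isHall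
    ((CL.BG.fcore_isHall M).restrict hle h4.le) (h4.le.trans (CL.BG.fcore_normal M).norm)
  obtain ⟨e⟩ := hD.nonempty_equiv_quot
  have hDn : Group.IsNilpotent D := Group.nilpotent_of_mulEquiv e.symm
  have hDM : D ≤ M := hD.right_le.trans h4.le
  have hDn' : Group.IsNilpotent (D.subgroupOf M) :=
    Group.nilpotent_of_mulEquiv (Subgroup.subgroupOfEquivOfLe hDM).symm
  refine CL.BG.nilpotent_of_le (CL.BG.nilpotent_map hDn' (QuotientGroup.mk' (fittingHall M))) ?_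
  rintro _ ⟨x, hx, rfl⟩
  have hx' : (x : G) ∈ ⁅M, M⁆ := by
    have : (x : G) ∈ (commutator M).map M.subtype := ⟨x, hx, rfl⟩
    rwa [Subgroup.map_subtype_commutator] at this
  obtain ⟨k, hk, y, hy, he⟩ := hD.exists_mul hx'
  refine ⟨⟨y, hDM hy⟩, hy, ?_⟩
  have hkM : k ∈ M := CL.BG.fcore_le M hk
  have : x = ⟨k, hkM⟩ * ⟨y, hDM hy⟩ := Subtype.ext he.symm
  rw [this, map_mul, QuotientGroup.mk'_apply _ (⟨k, hkM⟩ : M),
    (QuotientGroup.eq_one_iff _).2 (CL.BG.mem_fcore_iff.1 hk), one_mul]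

end Cfsg.Agent.S1355
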