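import Cfsg.Statements.S1357
import Cfsg.Agent.Base
import Cfsg.Agent.BG.Frob
import Cfsg.Agent.BG.Fcore
import Cfsg.Agent.BG.QuotPi
import Cfsg.Agent.BG.A12_Basic
import Cfsg.Agent.BG.T15_2
import Cfsg.Agent.BG.T15_7
import Cfsg.Agent.BG.A14_Sig

set_option autoImplicit false
open Cfsg

namespace Cfsg.Agent.S1357

/-- Let G be a minimal simple group of odd order and M a maximal subgroup with standard factorisation M = K U M_σ. If M_F ≠ M_σ then U = 1, the Fitting subgroup F(M) meets its conjugates by elements outside its normalizer trivially, and K has prime order. -/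
theorem result {G : Type*} [Group G] [Finite G] (hG : Cfsg.IsMinSimpleOddOrder G)
    (M : Subgroup G) (hM : IsCoatom M) (K U : Subgroup G) (hKU : Cfsg.IsSigmaDecomposition M K U) (hne : Cfsg.fittingHallOf M ≠ Cfsg.sigmaCore M) :
    U = ⊥ ∧ Cfsg.IsTISubset (Cfsg.fittingOf M : Set G) ∧ (Nat.card K).Prime := by
  have hU := CL.BG.kappaCompl_of_isSigmaDecomposition hG hM hKU
  obtain ⟨D, -, -, h⟩ := CL.BG.t15_2_ex hG hM hU.hallK hne
  refine ⟨hU.eq_bot_iff.2 h.typeP1.piGrp, ?_, h.prime_K⟩
  by_contra hn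
  refine hne (CL.BG.t15_7_facts hG hM fun hti => hn ?_).2.1
  exact (CL.BG.isTISubset_sdiff_one (one_mem _)).1 hti.isTI

end Cfsg.Agent.S1357
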