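import Cfsg.Statements.S1358
import Cfsg.Agent.Base
import Cfsg.Agent.BG.T12_10
import Cfsg.Agent.BG.T10_0
import Cfsg.Agent.BG.A14_Sig

set_option autoImplicit false
open Cfsg

namespace Cfsg.Agent.S1358

/-- Let G be a minimal simple group of odd order and M a maximal subgroup with standard factorisation M = K U M_σ. Then for every prime p, every Sylow p-subgroup of U is abelian and has no elementary abelian subgroup of order p ^ 3. -/
theorem result {G : Type*} [Group G] [Finite G] (hG : Cfsg.IsMinSimpleOddOrder G)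
    (M : Subgroup G) (hM : IsCoatom M) (K U : Subgroup G) (hKU : Cfsg.IsSigmaDecomposition M K U) :
    ∀ (p : ℕ), p.Prime → ∀ P : Sylow p U, IsMulCommutative (P : Subgroup U) ∧ Cfsg.PRankLE p 2 (P : Subgroup U) := by
  intro p hp P
  have := Fact.mk hp
  have hU := CL.BG.kappaCompl_of_isSigmaDecomposition hG hM hKU
  have hS := CL.BG.sylowOf_map_subtype P
  have hle := hS.le.trans hU.U_le
  have hπ := hU.hallU.pi.sigma_kappa'_sigma'.of_le hS.le
  refine ⟨(CL.BG.comm_map_iff U.subtype_injective).1
    (CL.BG.t12_10a hG hM hle hπ (CL.BG.nil_of_isPGroup hS.isPGroup)), ?_⟩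
  rw [← CL.BG.pRank_le_iff hp, ← CL.BG.pRank_map_subtype]
  exact (CL.BG.pRank_le_rank hp _).trans (CL.BG.rank_le_two_of_sigma_compl hG hM hle hπ)

end Cfsg.Agent.S1358
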