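import Cfsg.Statements.S1360
import Cfsg.Agent.Base
import Cfsg.Agent.BG.Frob
import Cfsg.Agent.BG.Fcore
import Cfsg.Agent.BG.QuotPi
import Cfsg.Agent.BG.A12_Basic
import Cfsg.Agent.BG.T15_1
import Cfsg.Agent.BG.A14_Sig

set_option autoImplicit false
open Cfsg

namespace Cfsg.Agent.S1360

/-- Let G be a minimal simple group of odd order and M a maximal subgroup with standard factorisation M = K U M_σ. Then U contains a subgroup U₀ with the same exponent as U such that no non-identity element of U₀ centralizes a non-identity element of M_σ. -/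
theorem result {G : Type*} [Group G] [Finite G] (hG : Cfsg.IsMinSimpleOddOrder G)
    (M : Subgroup G) (hM : IsCoatom M) (K U : Subgroup G) (hKU : Cfsg.IsSigmaDecomposition M K U) :
    ∃ U₀ : Subgroup G, U₀ ≤ U ∧ Monoid.exponent U₀ = Monoid.exponent U ∧ ∀ u ∈ U₀, u ∈ Cfsg.sigmaHat M → u = 1 := by
  obtain ⟨U₀, h1, h2, h3⟩ := CL.BG.t15_1e hG hM (CL.BG.kappaCompl_of_isSigmaDecomposition hG hM hKU)
  refine ⟨U₀, h1, h2, fun u hu ⟨_, y, hy, hy1, hc⟩ => ?_⟩
  exact (CL.BG.semiregular_iff.1 h3 u hu y hy hc).resolve_right hy1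

end Cfsg.Agent.S1360
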