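import Cfsg.Statements.S1362
import Cfsg.Agent.Base
import Cfsg.Agent.BG.Frob
import Cfsg.Agent.BG.Fcore
import Cfsg.Agent.BG.QuotPi
import Cfsg.Agent.BG.A12_Basic
import Cfsg.Agent.BG.T15_1
import Cfsg.Agent.BG.A14_Sig

set_option autoImplicit false
open Cfsg

namespace Cfsg.Agent.S1362

open CL.BG Subgroup in
theorem uniq_part {G : Type*} [Group G] [Finite G] (hG : IsMinSimpleOddOrder G)
    {M K U : Subgroup G} (hM : IsCoatom M) (hU : KappaCompl M U K) {a : G}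
    (ha : a ∈ sigmaA M U \ (sigmaCore M : Set G)) : UniqMax 𝐂₁(piPart (sigma M)ᶜ a) M := by
  obtain ⟨⟨⟨haM, y, hy, hy1, hc⟩, haU⟩, haS⟩ := ha
  obtain ⟨h1, h2, -, -⟩ := t15_1a hG hM hU
  have haU' : a ∈ sigmaCore M ⊔ U := by rw [sup_comm]; exact haU
  have hb1 : piPart (sigma M)ᶜ a ≠ 1 := fun h => haS
    (mem_sigmaCore_of_piElt hG hM haM (by simpa using piPart_eq_one_iff.1 h))
  have hUh : Hall (sigma M)ᶜ U (sigmaCore M ⊔ U) :=
    h1.hall_right hU.hallU.pi.sigma_kappa'_sigma' (piGrp_compl_compl.2 (piGrp_sigmaCore M))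
  obtain ⟨g, hg, hle⟩ := hall_conj_le (mmax_sub_sol hG hM h2.left_le) hUh
    (zpowers_le.2 (piPart_mem (sigma M)ᶜ haU')) (piGrp_zpowers.2 (piElt_piPart _ a))
  have hgM : g ∈ M := h2.left_le hg
  have hne : sigmaCore M ⊓ 𝐂(zpowers (piPart (sigma M)ᶜ a)) ≠ ⊥ := by
    rw [cent_zpowers]
    exact ne_bot_of_mem_ne_one
      ⟨hy, cent1_le_cent1_piPart _ a (mem_cent1.2 hc.symm)⟩ hy1
  have h3 := (t15_1c hG hM hU hle (by rwa [Ne, cj_eq_bot_iff, zpowers_eq_bot])
    (by rwa [Ne, s12_cent_cj_eq_bot hgM])).1.cj g⁻¹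
  rwa [← cj_cent, cj_inv_cj, cj_eq_of_mem (inv_mem hgM), cent_zpowers] at h3


/-- Let G be a minimal simple group of odd order and M a maximal subgroup with standard factorisation M = K U M_σ, and let A(M) be the set of elements of U M_σ centralizing some non-identity element of M_σ. Then A(M) with M_σ removed is a TI-subset of G. -/
theorem result {G : Type*} [Group G] [Finite G] (hG : Cfsg.IsMinSimpleOddOrder G)
    (M : Subgroup G) (hM : IsCoatom M) (K U : Subgroup G) (hKU : Cfsg.IsSigmaDecomposition M K U) :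
    Cfsg.IsTISubset (Cfsg.sigmaA M U \ (Cfsg.sigmaCore M : Set G)) := by
  have hU := CL.BG.kappaCompl_of_isSigmaDecomposition hG hM hKU
  intro g hg x hx hgx
  refine (CL.BG.normedTI_of (L := M) ⟨x, hx⟩ ?_ ?_).isTI g hg x hx hgx
  · rintro m hm a ⟨⟨⟨haM, y, hy, hy1, hc⟩, haU⟩, haS⟩
    have hn := (CL.BG.t15_1a hG hM hU).2.1.normalIn
    rw [sup_comm] at hn
    refine ⟨⟨⟨mul_mem (mul_mem hm haM) (inv_mem hm), m * y * m⁻¹,
      (CL.BG.sigmaCore_normal M).conj_mem hm hy, fun h => hy1 (by simpa using h), ?_⟩,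
      hn.conj_mem hm haU⟩, fun h => haS ?_⟩
    · calc m * a * m⁻¹ * (m * y * m⁻¹) = m * (a * y) * m⁻¹ := by group
        _ = m * y * m⁻¹ * (m * a * m⁻¹) := by rw [hc]; group
    · simpa [mul_assoc] using (CL.BG.sigmaCore_normal M).conj_mem (inv_mem hm) h
  · intro a ha g hga
    have h1 := (uniq_part hG hM hU ha).cj g
    have h2 := uniq_part hG hM hU hga
    rw [CL.BG.cj_cent1, ← CL.BG.piPart_conj] at h1
    exact (CL.BG.mmax_cj_eq_iff hG hM).1 (h1.unique h2)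

end Cfsg.Agent.S1362
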