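import Cfsg.Statements.S1363
import Cfsg.Agent.Base
import Cfsg.Agent.BG.T15_1
import Cfsg.Agent.BG.T14_12
import Cfsg.Agent.BG.A14_Sig

set_option autoImplicit false
open Cfsg

namespace Cfsg.Agent.S1363

/-- Let G be a minimal simple group of odd order and M a maximal subgroup with standard factorisation M = K U M_σ and K ≠ 1. Then U is abelian and the normalizer of U in G is not contained in M. -/
theorem result {G : Type*} [Group G] [Finite G] (hG : Cfsg.IsMinSimpleOddOrder G)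
    (M : Subgroup G) (hM : IsCoatom M) (K U : Subgroup G) (hKU : Cfsg.IsSigmaDecomposition M K U) (hK1 : K ≠ ⊥) :
    IsMulCommutative U ∧ ¬ Subgroup.normalizer (U : Set G) ≤ M := by
  have hU := CL.BG.kappaCompl_of_isSigmaDecomposition hG hM hKU
  refine ⟨(CL.BG.t15_1b hG hM hU hK1).2, fun hN => ?_⟩
  by_cases hU1 : U = ⊥
  · rw [hU1, CL.BG.norm_bot] at hN
    exact hM.1 (top_le_iff.1 hN)
  have hP2 := (hU.typeP2_iff (CL.BG.typeP_of_hall_ne_bot hM hU.hallK hK1)).2 hU1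
  obtain ⟨r, hr⟩ := CL.BG.primesOf_nonempty hU1
  have := Fact.mk hr.1
  obtain ⟨R, hR⟩ := CL.BG.sylow_exists r U
  obtain ⟨Ms, hMs, hC⟩ := CL.BG.mmax_exists (CL.BG.mFT_cent_ne_top hG hK1)
  obtain ⟨H, hH, hRH⟩ := CL.BG.mmax_exists
    (CL.BG.mFT_norm_pgroup_ne_top hG hR.isPGroup (hR.ne_bot_iff.2 hr.2))
  exact (CL.BG.t14_12 hG hP2 hU hMs hC hr.1 hR hH hRH).2.2.2.1 (inf_le_right.trans hN)

end Cfsg.Agent.S1363
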