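import Cfsg.Statements.S1372
import Cfsg.Agent.Base
import Cfsg.Agent.BG.T15_7
import Cfsg.Agent.BG.T14_2
import Cfsg.Agent.BG.A14_Sig

set_option autoImplicit false
open Cfsg

namespace Cfsg.Agent.S1372

/-- Let G be a minimal simple group of odd order and M a maximal subgroup with standard factorisation M = K U M_σ, K ≠ 1 and U ≠ 1. Then K has prime order, and the Fitting subgroup F(M) contains M_σ and is a TI-subset of G. -/
theorem result {G : Type*} [Group G] [Finite G] (hG : Cfsg.IsMinSimpleOddOrder G)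
    (M : Subgroup G) (hM : IsCoatom M) (K U : Subgroup G) (hKU : Cfsg.IsSigmaDecomposition M K U) (hK1 : K ≠ ⊥) (hU1 : U ≠ ⊥) :
    (Nat.card K).Prime ∧ Cfsg.IsTISubset (Cfsg.fittingOf M : Set G) ∧ Cfsg.sigmaCore M ≤ Cfsg.fittingOf M := by
  have hU := CL.BG.kappaCompl_of_isSigmaDecomposition hG hM hKU
  have hP2 := (hU.typeP2_iff (CL.BG.typeP_of_hall_ne_bot hM hU.hallK hK1)).2 hU1
  obtain ⟨-, h2, h3, -⟩ := CL.BG.t14_2g hG hP2 hU.hallK
  refine ⟨h2, ?_, CL.BG.le_fit (CL.BG.sigmaCore_normal M) h3⟩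
  by_contra hn
  rcases (CL.BG.t15_7_facts hG hM fun hti =>
    hn ((CL.BG.isTISubset_sdiff_one (one_mem _)).1 hti.isTI)).1 with h | h
  · exact h.not_typeP2 hP2
  · exact h.not_typeP2 hP2

end Cfsg.Agent.S1372
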