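import Cfsg.Statements.S1374
import Cfsg.Agent.BG.T14_4

set_option autoImplicit false
open Cfsg CL.BG

namespace Cfsg.Agent.S1374

/-- Let G be a minimal simple group of odd order, M a maximal subgroup and x a non-identity element of M_σ. Then C_M(x) has order coprime to its index in C_G(x), and C_G(x) has a normal subgroup R complementing C_M(x) such that for every conjugate gMg⁻¹ containing x there is exactly one r ∈ R with rMr⁻¹ = gMg⁻¹. -/
theorem result {G : Type*} [Group G] [Finite G] (hG : Cfsg.IsMinSimpleOddOrder G)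
    (M : Subgroup G) (hM : IsCoatom M) (x : G) (hx : x ∈ Cfsg.sigmaCore M) (hx1 : x ≠ 1) :
    (Nat.card ↥(M ⊓ Subgroup.centralizer ({x} : Set G))).Coprime ((M ⊓ Subgroup.centralizer ({x} : Set G)).relIndex (Subgroup.centralizer ({x} : Set G))) ∧
      ∃ R : Subgroup G, Subgroup.centralizer ({x} : Set G) ≤ Subgroup.normalizer (R : Set G) ∧ Cfsg.IsComplIn (M ⊓ Subgroup.centralizer ({x} : Set G)) R (Subgroup.centralizer ({x} : Set G)) ∧
        ∀ g : G, x ∈ M.map (MulAut.conj g).toMonoidHom → ∃! r : G, r ∈ R ∧ M.map (MulAut.conj r).toMonoidHom = M.map (MulAut.conj g).toMonoidHom := by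
  have key : ∀ g : G, x ∈ cj g M → x ∈ sigmaCore (cj g M) := fun g hg =>
    mem_sigmaCore_of_piElt hG (mmax_cj g hM) hg (by rw [sigma_cj]; exact a14_piElt_sigmaCore hx)
  by_cases hxM : Subgroup.centralizer ({x} : Set G) ≤ M
  · rw [inf_eq_right.2 hxM]
    refine ⟨by simp, ⊥, by rw [norm_bot]; exact le_top, (SDP.bot_right _).isComplIn,
      fun g hg => ⟨1, ⟨one_mem _, ?_⟩, fun r hr => Subgroup.mem_bot.1 hr.1⟩⟩
    exact (cj_one M).trans (t14_4_eq hG hM (mmax_cj g hM) hx (key g hg) hx1 hxM).symm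
  · obtain ⟨N, h⟩ := t14_4_ex hG hM hx hx1 hxM
    refine ⟨(h.sdp.hall_right_of_left h.R_hall).coprime, _, h.sdp.le_norm, h.sdp.isComplIn',
      fun g hg => ?_⟩
    obtain ⟨r, hr, hu⟩ := h.trans _ (mmax_cj g hM) (key g hg)
    exact ⟨r, ⟨hr.1, hr.2.symm⟩, fun s hs => hu s ⟨hs.1, hs.2.symm⟩⟩

end Cfsg.Agent.S1374
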