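import Cfsg.Statements.S1375
import Cfsg.Agent.BG.T14_4

set_option autoImplicit false
open Cfsg CL.BG

namespace Cfsg.Agent.S1375

/-- Let G be a minimal simple group of odd order, M a maximal subgroup, x ≠ 1 in M_σ with C_G(x) not contained in M. Then exactly one maximal subgroup N contains C_G(x); for it N_σ = N_F, C_{N_σ}(x) is a normal subgroup of C_G(x) complementing C_M(x), M ∩ N is a complement to N_σ in N, and for every standard factorisation N = K' U' N_σ one has U' ≠ 1 and x ∈ A(N) with x ∉ N_σ. -/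
theorem result {G : Type*} [Group G] [Finite G] (hG : Cfsg.IsMinSimpleOddOrder G)
    (M : Subgroup G) (hM : IsCoatom M) (x : G) (hx : x ∈ Cfsg.sigmaCore M) (hx1 : x ≠ 1) (hxM : ¬ Subgroup.centralizer ({x} : Set G) ≤ M) :
    ∃ N : Subgroup G, (IsCoatom N ∧ Subgroup.centralizer ({x} : Set G) ≤ N) ∧ (∀ L : Subgroup G, IsCoatom L → Subgroup.centralizer ({x} : Set G) ≤ L → L = N) ∧
        Cfsg.sigmaCore N = Cfsg.fittingHallOf N ∧
        Subgroup.centralizer ({x} : Set G) ≤ Subgroup.normalizer ((Cfsg.sigmaCore N ⊓ Subgroup.centralizer ({x} : Set G) : Subgroup G) : Set G) ∧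
        Cfsg.IsComplIn (M ⊓ Subgroup.centralizer ({x} : Set G)) (Cfsg.sigmaCore N ⊓ Subgroup.centralizer ({x} : Set G)) (Subgroup.centralizer ({x} : Set G)) ∧
        Cfsg.IsComplIn (M ⊓ N) (Cfsg.sigmaCore N) N ∧
        ∀ K' U' : Subgroup G, Cfsg.IsSigmaDecomposition N K' U' → U' ≠ ⊥ ∧ x ∈ Cfsg.sigmaA N U' ∧ x ∉ Cfsg.sigmaCore N := by
  obtain ⟨N, h⟩ := t14_4_ex hG hM hx hx1 hxM
  have hN := h.uniq.coatom
  refine ⟨N, ⟨hN, h.uniq.le⟩, h.uniq.uniq, h.fcore.symm, h.sdp.le_norm, h.sdp.isComplIn',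
    (sdprod_sigma hG hN h.hall).isComplIn', fun K' U' hKU => ?_⟩
  have hU := kappaCompl_of_isSigmaDecomposition hG hN hKU
  have hxN : x ∈ N := h.uniq.le (mem_cent1_self x)
  have hxσ : x ∉ sigmaCore N := fun hs =>
    hx1 ((a14_piElt_sigmaCore hs).eq_one (h.tau2_elt.mono (tau2_sub_sigma_compl N)))
  have hxU : x ∈ U' ⊔ sigmaCore N := by
    obtain ⟨-, h1, h2, -⟩ := t14_2a hG hN hU
    have h3 := (h1.assoc' h2).2
    rw [sup_comm]
    exact (h3.hall_left_of_right hU.hallK).mem_of_normal h3.le_norm hxN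
      (h.tau2_elt.mono fun p hp => not_mem_kappa_of_tau2 hp)
  obtain ⟨y, hy, hy1⟩ := exists_ne_one_of_ne_bot h.R_ne
  refine ⟨?_, ⟨⟨hxN, y, hy.1, hy1, (mem_cent1.1 hy.2).symm⟩, hxU⟩, hxσ⟩
  rintro rfl
  rw [bot_sup_eq] at hxU
  exact hxσ hxU

end Cfsg.Agent.S1375
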