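import Cfsg.Statements.S1376
import Cfsg.Agent.Base
import Cfsg.Agent.BG.T15_9
import Cfsg.Agent.BG.T14_1
import Cfsg.Agent.BG.A14_Sig
import Cfsg.Agent.BG.PAmb

set_option autoImplicit false
open Cfsg

namespace Cfsg.Agent.S1376

/-- Let G be a minimal simple group of odd order, M a maximal subgroup, x ≠ 1 in M_σ with C_G(x) not contained in M, and N a maximal subgroup containing C_G(x) with κ(N) nonempty. Then κ(M) is empty, M has a cyclic Frobenius complement (M is a Frobenius group), and M_F is not a TI-subset of G. -/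
theorem result {G : Type*} [Group G] [Finite G] (hG : Cfsg.IsMinSimpleOddOrder G)
    (M : Subgroup G) (hM : IsCoatom M) (x : G) (hx : x ∈ Cfsg.sigmaCore M) (hx1 : x ≠ 1) (hxM : ¬ Subgroup.centralizer ({x} : Set G) ≤ M)
    (N : Subgroup G) (hN : IsCoatom N) (hxN : Subgroup.centralizer ({x} : Set G) ≤ N) (hkN : (Cfsg.kappa N).Nonempty) :
    Cfsg.kappa M = ∅ ∧ (∃ E : Subgroup ↥M, Cfsg.IsFrobeniusComplement E ∧ IsCyclic E) ∧ ¬ Cfsg.IsTISubset (Cfsg.fittingHallOf M : Set G) := by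
  obtain ⟨hF, -, E, hE, hc, hFr⟩ := CL.BG.t15_9 hG hM hx hx1 hxM hN hxN
    (CL.BG.TypeP.not_typeF ⟨hN, hkN⟩)
  refine ⟨hF.kappa_eq, ⟨E.subgroupOf M, hFr.isFrobeniusComplement,
    (CL.BG.isCyclic_subgroupOf_iff hE.le).2 hc⟩, fun hti => hxM fun c hc => ?_⟩
  rw [CL.BG.fcore_eq_sigmaCore hG hM (CL.BG.t14_1_nil hG hM hF.not_typeP1)] at hti
  by_contra hcM
  refine hx1 (hti c (by rwa [CL.BG.normalizer_sigmaCore hG hM]) x hx ?_)
  rw [CL.BG.mem_cent1.1 hc, mul_inv_cancel_right]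
  exact hx

end Cfsg.Agent.S1376
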