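import Cfsg.Statements.S1384
import Cfsg.Agent.Base
import Cfsg.Agent.BG.Frob
import Cfsg.Agent.BG.Fcore
import Cfsg.Agent.BG.QuotPi
import Cfsg.Agent.BG.A12_Basic
import Cfsg.Agent.BG.T15_3
import Cfsg.Agent.BG.T15_4

set_option autoImplicit false
open Cfsg

namespace Cfsg.Agent.S1384

/-- Let G be a minimal simple group of odd order and H a nilpotent subgroup whose order is coprime to its index. If x ∈ H and gxg⁻¹ ∈ H for some g ∈ G, then nxn⁻¹ = gxg⁻¹ for some n in the normalizer of H. -/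
theorem result {G : Type*} [Group G] [Finite G] (hG : Cfsg.IsMinSimpleOddOrder G)
    (H : Subgroup G) (hHn : Group.IsNilpotent H) (hHall : (Nat.card H).Coprime H.index) :
    ∀ x ∈ H, ∀ g : G, g * x * g⁻¹ ∈ H → ∃ n ∈ Subgroup.normalizer (H : Set G), n * x * n⁻¹ = g * x * g⁻¹ := by
  intro x hx g hg
  have hH : CL.BG.IsHall H ⊤ := CL.BG.isHall_top_iff.2 hHall
  obtain ⟨M, hM, hle⟩ := CL.BG.t15_4 hG hHn hH
  obtain ⟨n, hn, he⟩ := CL.BG.t15_3b hG hM (hH.restrict hle le_top) hx hg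
  exact ⟨n, hn.2, he⟩

end Cfsg.Agent.S1384
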