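import Cfsg.Statements.S1396
import Cfsg.Agent.Base
import Cfsg.Agent.BG.T7_5
import Cfsg.Agent.BG.A7_Bridge

set_option autoImplicit false
open Cfsg

namespace Cfsg.Agent.S1396

/-- Let G be a minimal simple group of odd order, p a prime dividing the order of G and A an abelian p-subgroup. Suppose either (1) A consists exactly of the elements x of C_G(A) with x^p = 1, and every proper subgroup of G has p-length at most one, or (2) A is normal and self-centralizing in some Sylow p-subgroup of G and has rank at least 2. Then A satisfies the transitivity hypothesis. -/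
theorem result {G : Type*} [Group G] [Finite G] (hG : Cfsg.IsMinSimpleOddOrder G)
    (p : ℕ) [Fact p.Prime] (hp : p ∣ Nat.card G) (A : Subgroup G) (hAp : IsPGroup p A) (hAc : IsMulCommutative A)
    (h : (∀ x ∈ Subgroup.centralizer (A : Set G), x ^ p = 1 ↔ x ∈ A) ∧ (∀ H : Subgroup G, H ≠ ⊤ → Cfsg.PLengthLE p 1 H) ∨
      ∃ P : Sylow p G, Cfsg.IsSCN (P : Subgroup G) A ∧ ¬ Cfsg.PRankLE p 1 A) :
    Cfsg.TransitivityHypothesis A := by
  have hpp : p.Prime := Fact.out
  have key : A ≠ ⊥ ∧ CL.BG.NormedConstrained {p} A := by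
    rcases h with ⟨h, -⟩ | ⟨P, hP, hr⟩
    · have h1 : A ≠ ⊥ := by
        rintro rfl
        obtain ⟨x, hx⟩ := exists_prime_orderOf_dvd_card' p hp
        have := (h x (by rw [CL.BG.cent_bot]; trivial)).1 (hx ▸ pow_orderOf_eq_one x)
        rw [Subgroup.mem_bot.1 this, orderOf_one] at hx
        exact hpp.one_lt.ne hx
      exact ⟨h1, CL.BG.t7_5 hG h1 hAp hAc fun x hx ho => (h x hx).1 (ho ▸ pow_orderOf_eq_one x)⟩
    · have h1 : A ≠ ⊥ := by
        rintro rfl
        apply hr
        rw [← CL.BG.pRank_le_iff hpp, CL.BG.pRank_bot hpp]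
        norm_num
      exact ⟨h1, CL.BG.t7_5b hG (CL.BG.sylowOf_top P) hP h1⟩
  rw [CL.BG.transitivityHypothesis_iff, CL.BG.primesOf_eq_singleton hpp hAp key.1]
  exact key.2

end Cfsg.Agent.S1396
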