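import Cfsg.Statements.S1405
import Cfsg.Agent.Base
import Cfsg.Agent.BG.T10_2q
import Cfsg.Agent.BG.PAmb

set_option autoImplicit false
open Cfsg CL.BG

namespace Cfsg.Agent.S1405

/-- Let G be a minimal simple group of odd order and M a maximal subgroup, α(M) the set of primes p with M of p-rank at least 3, and M_α = O_{α(M)}(M). Then M_α is a Hall α(M)-subgroup of M and of G, M_α ≤ M_σ, the quotient M/M_α has no elementary abelian subgroup of order p ^ 3 for any prime p, and the image of M' in M/M_α is nilpotent. -/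
theorem result {G : Type*} [Group G] [Finite G] (hG : Cfsg.IsMinSimpleOddOrder G)
    (M : Subgroup G) (hM : IsCoatom M) :
    Cfsg.IsPiHallOf (Cfsg.alpha M) (Cfsg.alphaCore M) M ∧ Cfsg.IsPiHall (Cfsg.alpha M) (Cfsg.alphaCore M) ∧
      Cfsg.alphaCore M ≤ Cfsg.sigmaCore M ∧ Cfsg.RankLE 2 (↥M ⧸ Cfsg.piCore (Cfsg.alpha M) ↥M) ∧
      Group.IsNilpotent ↥((commutator ↥M).map (QuotientGroup.mk' (Cfsg.piCore (Cfsg.alpha M) ↥M))) := by
  have hn := (alphaCore_normal M).norm
  have e : (alphaCore M).subgroupOf M = piCore (alpha M) M := piCoreOf_subgroupOf _ _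
  have := (alphaCore_normal M).normal
  have h1 := (rank_quot_le_iff hn).1 (t10_2d_rank_quot hG hM)
  have h2 : Group.IsNilpotent
      ↥((commutator ↥M).map (QuotientGroup.mk' ((alphaCore M).subgroupOf M))) := by
    have hinj : Function.Injective
        ((quot (alphaCore M) M).subtype.comp (quotEquiv hn).toMonoidHom) :=
      (Subgroup.subtype_injective _).comp (quotEquiv hn).injective
    have e2 : ((commutator ↥M).map (QuotientGroup.mk' ((alphaCore M).subgroupOf M))).map
        ((quot (alphaCore M) M).subtype.comp (quotEquiv hn).toMonoidHom) =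
        quot (alphaCore M) ⁅M, M⁆ := by
      rw [commutator_def, Subgroup.map_commutator, Subgroup.map_commutator, quot_commutator hn hn,
        Subgroup.map_top_of_surjective _ (QuotientGroup.mk'_surjective _), ← Subgroup.map_map,
        Subgroup.map_top_of_surjective _ (quotEquiv hn).surjective, map_subtype_top']
    rw [← nilpotent_map_iff hinj, e2]
    exact t10_2d_nil_quot hG hM
  refine ⟨t10_2a hG hM, hall_top_iff.1 (t10_2a_top hG hM), alphaCore_le_sigmaCore hG hM, ?_, ?_⟩
  · convert h1 <;> exact e.symm
  · convert h2 <;> exact e.symm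

end Cfsg.Agent.S1405
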