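import Cfsg.Statements.S1414
import Cfsg.Agent.Base
import Cfsg.Agent.BG.T10_8

set_option autoImplicit false
open Cfsg CL.BG

namespace Cfsg.Agent.S1414

/-- Let G be a minimal simple group of odd order, M a maximal subgroup, β(M) the set of ideal primes in α(M), and M_β = O_{β(M)}(M). Then M_β is a Hall β(M)-subgroup of M and of G; M' and M_σ each have a nilpotent Hall β(M)'-subgroup; and for each prime p dividing the order of M with p ∉ β(M), both M' and M_σ have normal p-complements and every prime dividing the index of O_{p'}(M) in M is at most p. -/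
theorem result {G : Type*} [Group G] [Finite G] (hG : Cfsg.IsMinSimpleOddOrder G)
    (M : Subgroup G) (hM : IsCoatom M) :
    Cfsg.IsPiHallOf (Cfsg.beta M) (Cfsg.piCoreOf (Cfsg.beta M) M) M ∧ Cfsg.IsPiHall (Cfsg.beta M) (Cfsg.piCoreOf (Cfsg.beta M) M) ∧
      (∃ H : Subgroup G, Cfsg.IsPiHallOf {q | q.Prime ∧ q ∉ Cfsg.beta M} H ⁅M, M⁆ ∧ Group.IsNilpotent H) ∧
      (∃ H : Subgroup G, Cfsg.IsPiHallOf {q | q.Prime ∧ q ∉ Cfsg.beta M} H (Cfsg.sigmaCore M) ∧ Group.IsNilpotent H) ∧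
      ∀ p : ℕ, p.Prime → p ∣ Nat.card M → p ∉ Cfsg.beta M →
        Cfsg.HasNormalPComplement p ↥⁅M, M⁆ ∧ Cfsg.HasNormalPComplement p ↥(Cfsg.sigmaCore M) ∧
        ∀ q : ℕ, q.Prime → q ∣ (Cfsg.pPrimeCore p ↥M).index → q ≤ p := by
  have key : ∀ K : Subgroup G, K ≤ ⁅M, M⁆ →
      ∃ H : Subgroup G, IsPiHallOf {q | q.Prime ∧ q ∉ beta M} H K ∧ Group.IsNilpotent H := by
    intro K hK
    obtain ⟨H, hH⟩ := hall_exists (beta M)ᶜ (mmax_sub_sol hG hM (hK.trans (NormalIn.der M).le))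
    exact ⟨H, hH.congr fun p pp _ => ⟨fun h => ⟨pp, h⟩, fun h => h.2⟩,
      t10_8b hG hM (hH.le.trans hK) hH.pi⟩
  refine ⟨t10_8a hG hM, hall_top_iff.1 (t10_8a_top hG hM), key _ le_rfl, key _ (t10_2c hG hM),
    fun p pp _ hp => ?_⟩
  have := Fact.mk pp
  obtain ⟨h1, h2, h3⟩ := t10_8c hG hM hp
  refine ⟨hasNormalPComplement_iff_hall.2 h1, hasNormalPComplement_iff_hall.2 h2,
    fun q qq hq => h3 q qq ?_⟩
  rwa [piCoreOf_compl_singleton pp, Subgroup.relIndex, Subgroup.subgroupOf,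
    Subgroup.comap_map_eq_self_of_injective M.subtype_injective]

end Cfsg.Agent.S1414
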