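import Cfsg.Statements.S1441
import Cfsg.Agent.BG.T1_9
import Cfsg.Agent.BG.T1_22

set_option autoImplicit false
open Cfsg CL.BG

namespace Cfsg.Agent.S1441

/-- Let G be a finite group, H a solvable subgroup and A a subgroup normalizing H. Suppose there is a chain H = H₀ ≥ H₁ ≥ ⋯ ≥ H_n = 1 of subgroups normal in H and normalized by A such that A acts trivially on each factor H_{i-1}/H_i (that is, [H_{i-1}, A] ≤ H_i). Then every prime dividing the index of C_A(H) in A divides the order of H. -/
theorem result {G : Type*} [Group G] [Finite G] (H A : Subgroup G) (hH : Group.IsSolvable H) (hA : (A ≤ Subgroup.normalizer (H : Set G)))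
    (n : ℕ) (c : Fin (n + 1) → Subgroup G) (hc0 : c 0 = H) (hcn : c (Fin.last n) = ⊥) (hanti : Antitone c)
    (hcN : ∀ i, H ≤ Subgroup.normalizer ((c i : Subgroup G) : Set G)) (hcA : ∀ i, A ≤ Subgroup.normalizer ((c i : Subgroup G) : Set G))
    (htriv : ∀ i : Fin n, ⁅c i.castSucc, A⁆ ≤ c i.succ) :
    ∀ p : ℕ, p.Prime → p ∣ (A ⊓ Subgroup.centralizer (H : Set G)).relIndex A → p ∣ Nat.card H := by
  intro p hp hd
  by_contra hn
  have := Fact.mk hp
  obtain ⟨P, hP⟩ := sylow_exists p A
  have h1 : P ≤ 𝐂(H) := by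
    refine t1_9_series (fun i => if h : i < n + 1 then c ⟨i, h⟩ else ⊥) n (by simpa using hc0)
      (by rw [dif_pos n.lt_succ_self]; exact hcn) (fun i hi => ?_) (fun i hi => ?_)
      (coprime_card_of_isPGroup hp hP.isPGroup ((piGrp_compl_singleton_iff hp).2 hn)).symm
    · rw [dif_pos (by omega : i + 1 < n + 1), dif_pos (by omega : i < n + 1)]
      exact hanti (by simp [Fin.le_def])
    · rw [dif_pos (by omega : i + 1 < n + 1), dif_pos (by omega : i < n + 1)]
      exact (Subgroup.commutator_mono le_rfl hP.hall.le).trans (htriv ⟨i, hi⟩)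
  exact hP.not_dvd (hd.trans (Subgroup.relIndex_dvd_of_le_left A (le_inf hP.hall.le h1)))

end Cfsg.Agent.S1441
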