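import Cfsg.Statements.S1451
import Cfsg.Agent.BG.T4_20
-- import your own Cfsg.Agent.* helpers here

set_option autoImplicit false
open Cfsg

namespace Cfsg.Agent.S1451

/-- Let G be a solvable group of odd order such that G, or its Fitting subgroup, has no elementary abelian subgroup of order q ^ 3 for any prime q. Then G' is nilpotent; for every Sylow subgroup S of G, every characteristic subgroup T of S with T ≤ [S, S] is normal in G; and for every prime p, G has a characteristic subgroup that is a Hall subgroup for the set of primes greater than p. -/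
theorem result {G : Type*} [Group G] [Finite G] [Group.IsSolvable G] (hodd : Odd (Nat.card G)) (hr : Cfsg.RankLE 2 G ∨ Cfsg.RankLE 2 (Cfsg.fittingSubgroup G)) :
    Group.IsNilpotent ↥(commutator G) ∧
      (∀ (q : ℕ) [Fact q.Prime] (S : Sylow q G) (T : Subgroup ↥(S : Subgroup G)), T.Characteristic → T.map (S : Subgroup G).subtype ≤ ⁅(S : Subgroup G), (S : Subgroup G)⁆ →
        (T.map (S : Subgroup G).subtype).Normal) ∧
      ∀ p : ℕ, ∃ N : Subgroup G, N.Characteristic ∧ Cfsg.IsPiHall {q | q.Prime ∧ p < q} N := by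
  have hsol : Group.IsSolvable (⊤ : Subgroup G) := inferInstance
  have hodd' : Odd (Nat.card (⊤ : Subgroup G)) := by rwa [Subgroup.card_top]
  have hr' : CL.BG.rank (fittingOf (⊤ : Subgroup G)) ≤ 2 := by
    rcases hr with hr | hr
    · exact (CL.BG.rank_mono le_top).trans (CL.BG.rank_top_le_iff.2 hr)
    · rw [CL.BG.fit_top]; exact CL.BG.rank_le_iff.2 hr
  refine ⟨CL.BG.nil_of_le_fit (CL.BG.t4_20a hsol hodd' hr'), fun q _ S T hT hTS => ?_, fun p => ?_⟩
  · exact (CL.BG.t4_20b hsol hodd' hr' (CL.BG.sylowOf_top S) (CL.BG.CharIn.map_subtype T)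
      hTS).normal_of_top
  · have h := (CL.BG.t4_20c hsol hodd' hr' (p + 1)).congr (ρ := {q | q.Prime ∧ p < q})
      (fun q hq _ => by simp [hq])
    refine ⟨_, ?_, CL.BG.hall_top_iff.1 h⟩
    rw [Subgroup.characteristic_iff_map_eq]
    intro φ
    rw [CL.BG.map_piCoreOf φ.injective, Subgroup.map_top_of_surjective _ φ.surjective]

end Cfsg.Agent.S1451
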