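import Cfsg.Statements.S1452
import Cfsg.Agent.BG.T5_1
-- import your own Cfsg.Agent.* helpers here

set_option autoImplicit false
open Cfsg

namespace Cfsg.Agent.S1452

/-- Let p be an odd prime and R a finite p-group containing an elementary abelian subgroup of order p ^ 3. If E is a normal elementary abelian subgroup of R of order p ^ 2, then E ≤ A for some normal subgroup A of R with C_R(A) = A that contains an elementary abelian subgroup of order p ^ 3. -/
theorem result {R : Type*} [Group R] [Finite R] (p : ℕ) [Fact p.Prime] (hp : p ≠ 2) (hR : IsPGroup p R) (hr : ¬ Cfsg.PRankLE p 2 R)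
    (E : Subgroup R) [E.Normal] (hE : Cfsg.IsElementaryAbelian p E) (hE2 : Nat.card E = p ^ 2) :
    ∃ A : Subgroup R, E ≤ A ∧ A.Normal ∧ Subgroup.centralizer (A : Set R) = A ∧ ¬ Cfsg.PRankLE p 2 A := by
  have hp' : p.Prime := Fact.out
  have hR' : IsPGroup p (⊤ : Subgroup R) := hR.to_subgroup ⊤
  have hr' : 2 < CL.BG.pRank p (⊤ : Subgroup R) :=
    not_le.1 fun h => hr ((CL.BG.pRank_top_le_iff hp').1 h)
  obtain ⟨B, hB, hEB⟩ := CL.BG.t5_1b hR' (CL.BG.pg_odd hR' hp) hr' ⟨le_top, hE, hE2⟩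
    (CL.BG.NormalIn.of_normal E)
  refine ⟨B, hEB, (CL.BG.scn_normalIn hB.scn).normal_of_top, ?_,
    (CL.BG.lt_pRank_iff hp').1 (hB.le_pRank hp' hR')⟩
  have := CL.BG.scn_cent hB.scn
  rwa [top_inf_eq] at this

end Cfsg.Agent.S1452
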