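import Cfsg.Statements.S1454
import Cfsg.Agent.BG.NarrowBridge

set_option autoImplicit false
open Cfsg

namespace Cfsg.Agent.S1454

/-- Let G be a finite group, p an odd prime, R a narrow p-subgroup and A a solvable subgroup of odd order normalizing R with A ∩ C_G(R) = 1. Then [A, A] ≤ O_p(A) and the index of O_p(A) in A is coprime to p; if R has an elementary abelian subgroup of order p ^ 3 then the order of every element of A of order coprime to p divides p − 1; and if the order of A is a prime not dividing p(p − 1), then 2·#A divides p + 1, and if in addition [R, A] = R and R is non-abelian then #R = p ^ 3. -/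
theorem result {G : Type*} [Group G] [Finite G] (p : ℕ) [Fact p.Prime] (hp : p ≠ 2) (R A : Subgroup G) (hR : IsPGroup p R) (hRn : Cfsg.IsNarrow p R)
    (hA : (A ≤ Subgroup.normalizer (R : Set G))) (hAs : Group.IsSolvable A) (hAodd : Odd (Nat.card A)) (hfaith : A ⊓ Subgroup.centralizer (R : Set G) = ⊥) :
    (commutator ↥A ≤ Cfsg.pCore p ↥A ∧ ((Cfsg.pCore p ↥A).index).Coprime p) ∧
      (¬ Cfsg.PRankLE p 2 R → ∀ a ∈ A, (orderOf a).Coprime p → orderOf a ∣ p - 1) ∧
      ((Nat.card A).Prime → ¬ Nat.card A ∣ p * (p - 1) →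
        2 * Nat.card A ∣ p + 1 ∧ (⁅R, A⁆ = R → ¬ IsMulCommutative R → Nat.card R = p ^ 3)) := by
  have hp' : p.Prime := Fact.out
  have hodd := CL.BG.pg_odd hR hp
  have hn := CL.BG.narrow_of_isNarrow hR hRn
  refine ⟨?_, fun hr a ha hc => ?_, fun hq hnd => ?_⟩
  · have h1 : CL.BG.PiGrp {p} ⁅A, A⁆ := by
      have h2 := CL.BG.t5_5a' hR hodd hn hA hAs hAodd
      have h3 : Subgroup.centralizer (R : Set G) ⊓ ⁅A, A⁆ = ⊥ := le_bot_iff.1 (hfaith ▸ le_inf
        (inf_le_right.trans (CL.BG.NormalIn.der A).le) inf_le_left)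
      rwa [← Subgroup.inf_relIndex_right, h3, Subgroup.relIndex_bot_left] at h2
    obtain ⟨h2, h3⟩ := CL.BG.der_le_core_of_piGrp h1
    rw [CL.BG.piCoreOf_singleton hp'] at h2 h3
    refine ⟨?_, ?_⟩
    · rw [← Subgroup.map_subtype_commutator] at h2
      exact Subgroup.map_subtype_le_map_subtype.1 h2
    · rw [Subgroup.relIndex, Subgroup.subgroupOf, Subgroup.comap_map_eq_self_of_injective
        A.subtype_injective] at h3
      exact (CL.IsPiNum.compl_singleton_iff_coprime hp').1 h3
  · have h1 := CL.BG.t5_5b' hR hodd hn ((CL.BG.lt_pRank_iff hp').2 hr) (hA ha)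
      ((CL.IsPiNum.compl_singleton_iff_coprime hp').2 hc)
    have h2 : a ^ (p - 1) ∈ A ⊓ Subgroup.centralizer (R : Set G) := ⟨A.pow_mem ha _, h1⟩
    rw [hfaith, Subgroup.mem_bot] at h2
    exact orderOf_dvd_of_pow_eq_one h2
  · refine CL.BG.t5_5c hR hodd hn hA hq ?_ hnd
    rw [← Subgroup.inf_relIndex_right, inf_comm, hfaith, Subgroup.relIndex_bot_left]

end Cfsg.Agent.S1454
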