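import Cfsg.Statements.S1458
import Cfsg.Agent.BG.PuigMain
import Cfsg.Agent.PLocal.Thompson

set_option autoImplicit false
open Cfsg

namespace Cfsg.Agent.S1458

/-- Let G be a solvable group of odd order, p a prime and S a Sylow p-subgroup of G. Then the subgroup generated by the centre of the Thompson subgroup of S and O_{p'}(G) is normal in G. -/
theorem result {G : Type*} [Group G] [Finite G] [Group.IsSolvable G] (hodd : Odd (Nat.card G)) (p : ℕ) [Fact p.Prime] (S : Sylow p G) :
    (Cfsg.centerThompsonOf p (S : Subgroup G) ⊔ Cfsg.pPrimeCore p G).Normal := by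
  by_cases hp : p = 2
  · subst hp
    have hS : (S : Subgroup G) = ⊥ := by
      obtain ⟨k, hk⟩ := IsPGroup.iff_card.mp S.isPGroup'
      have h1 : Odd (2 ^ k) := hk ▸ hodd.of_dvd_nat (Subgroup.card_subgroup_dvd_card _)
      rcases k with _ | k
      · exact Subgroup.card_eq_one.mp hk
      · exact absurd h1 (by rw [Nat.not_odd_iff_even, pow_succ]; exact even_two.mul_left _)
    have h2 : Cfsg.centerThompsonOf 2 (S : Subgroup G) = ⊥ :=
      eq_bot_iff.mpr (inf_le_left.trans ((CL.Thompson.thompsonOf_le _).trans hS.le))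
    rw [h2, bot_sup_eq]
    infer_instance
  have hsurj := QuotientGroup.mk'_surjective (Cfsg.pPrimeCore p G)
  have hodd' := CL.BG.odd_card_quotient hodd (Cfsg.pPrimeCore p G)
  have h1 := CL.ZJ.centerThompsonOf_normal hp
    (CL.ZJ.stab_of_isPStableOn fun P _ hP => CL.BG.odd_isPStableOn hodd' P hP)
    (CL.BG.centralizer_pCore_quotient_le p) (S.mapSurjective hsurj)
  have hk : (S : Subgroup G) ⊓ (QuotientGroup.mk' (Cfsg.pPrimeCore p G)).ker = ⊥ := by
    rw [QuotientGroup.ker_mk']
    exact CL.inf_pPrimeCore_eq_bot S.isPGroup'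
  rw [Sylow.coe_mapSurjective, Cfsg.centerThompsonOf, CL.Thompson.thompsonOf_map_of_disjoint hk,
    ← CL.BG.map_center_of_inf_ker (eq_bot_iff.mpr
      ((inf_le_inf_right _ (CL.Thompson.thompsonOf_le _)).trans hk.le))] at h1
  have h2 := h1.comap (QuotientGroup.mk' (Cfsg.pPrimeCore p G))
  rwa [Subgroup.comap_map_eq, QuotientGroup.ker_mk'] at h2

end Cfsg.Agent.S1458
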