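import Cfsg.Statements.S1463
import Cfsg.Agent.BG.OddGL2
import Cfsg.Agent.BG.PFixedVec

set_option autoImplicit false
open scoped MatrixGroups
open Cfsg

namespace Cfsg.Agent.S1463

/-- Let F be a field of odd characteristic p and H a finite subgroup of odd order of GL(2, F) that leaves no 1-dimensional subspace of F² invariant. Then p does not divide the order of H. -/
theorem result {F : Type*} [Field F] (p : ℕ) [Fact p.Prime] [CharP F p] (hp : p ≠ 2)
    (H : Subgroup (GL (Fin 2) F)) [Finite H] (hodd : Odd (Nat.card H))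
    (hirr : ∀ v : Fin 2 → F, v ≠ 0 → ∃ g ∈ H, (g : Matrix (Fin 2) (Fin 2) F).mulVec v ∉ Submodule.span F {v}) :
    ¬ p ∣ Nat.card H := by
  intro hd
  obtain ⟨P⟩ : Nonempty (Sylow p H) := inferInstance
  have hc : IsPGroup p (commutator H) :=
    CL.BG.odd_GL2_commutator_isPGroup hodd p H.subtype H.subtype_injective
  have hle : commutator H ≤ (P : Subgroup H) := hc.le_sylow_of_normal P
  have hPn : (P : Subgroup H).Normal := Subgroup.Normal.of_commutator_le H hle
  have hP1 : (P : Subgroup H) ≠ ⊥ := P.ne_bot_of_dvd_card hd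
  let ρ : H →* Module.End F (Fin 2 → F) :=
    (Matrix.toLinAlgEquiv' (R := F) (n := Fin 2)).toMulEquiv.toMonoidHom.comp
      ((Units.coeHom _).comp H.subtype)
  have hρ : ∀ (g : H) (v : Fin 2 → F),
      ρ g v = ((g : GL (Fin 2) F) : Matrix (Fin 2) (Fin 2) F).mulVec v := fun g v => by
    simp [ρ, Matrix.toLinAlgEquiv'_apply]
  have hρinj : Function.Injective ρ :=
    (Matrix.toLinAlgEquiv' (R := F) (n := Fin 2)).injective.comp
      (Units.val_injective.comp H.subtype_injective)
  obtain ⟨v, hv0, hv⟩ := CL.BG.exists_fixed_ne_zero_of_isPGroup p P.isPGroup'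
    (ρ.comp (P : Subgroup H).subtype)
  obtain ⟨g, hgH, hg⟩ := hirr v hv0
  have hg' : ρ ⟨g, hgH⟩ v ∉ Submodule.span F {v} := by rwa [hρ]
  set w := ρ ⟨g, hgH⟩ v with hw
  have hwfix : ∀ x ∈ (P : Subgroup H), ρ x w = w := by
    intro x hx
    have h1 := hv ⟨_, hPn.conj_mem' x hx ⟨g, hgH⟩⟩
    have h2 : ρ ⟨g, hgH⟩ (ρ ((⟨g, hgH⟩ : H)⁻¹ * x * ⟨g, hgH⟩) v) = ρ ⟨g, hgH⟩ v := congrArg _ h1
    rw [← Module.End.mul_apply, ← map_mul, ← mul_assoc, ← mul_assoc, mul_inv_cancel, one_mul,
      map_mul, Module.End.mul_apply] at h2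
    exact h2
  have hli : LinearIndependent F ![w, v] := by
    rw [LinearIndependent.pair_iff' (fun h => hg' (by rw [h]; exact Submodule.zero_mem _))]
    intro a ha
    apply hg'
    have ha0 : a ≠ 0 := by rintro rfl; exact hv0 (by simpa using ha.symm)
    rw [Submodule.mem_span_singleton]
    exact ⟨a⁻¹, by rw [← ha, smul_smul, inv_mul_cancel₀ ha0, one_smul]⟩
  have hspan : Submodule.span F (Set.range ![w, v]) = ⊤ :=
    hli.span_eq_top_of_card_eq_finrank (by simp)
  apply hP1
  rw [eq_bot_iff]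
  intro x hx
  rw [Subgroup.mem_bot]
  apply hρinj
  rw [map_one]
  apply LinearMap.ext_on_range hspan
  intro i
  fin_cases i
  · exact hwfix x hx
  · exact hv ⟨x, hx⟩

end Cfsg.Agent.S1463
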