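import Cfsg.Statements.S1469
import Cfsg.Agent.BG.PuigMain

set_option autoImplicit false
open Cfsg

namespace Cfsg.Agent.S1469

open CL.BG in
theorem center_map_eq {G : Type*} [Group G] [Finite G] (D : Subgroup G) :
    ((Subgroup.center ↥(Cfsg.puigSubgroup ↥D)).map (Cfsg.puigSubgroup ↥D).subtype).map D.subtype
      = 𝐙(puigOf D) := by
  have h1 : (Subgroup.center ↥(Cfsg.puigSubgroup ↥D)).map (Cfsg.puigSubgroup ↥D).subtype
      = 𝐙(Cfsg.puigSubgroup ↥D) := by
    ext x
    constructor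
    · rintro ⟨y, hy, rfl⟩
      refine ⟨y.2, Subgroup.mem_centralizer_iff.mpr fun g hg => ?_⟩
      exact congrArg Subtype.val ((Subgroup.mem_center_iff.mp hy) ⟨g, hg⟩)
    · rintro ⟨hx, hc⟩
      refine ⟨⟨x, hx⟩, Subgroup.mem_center_iff.mpr fun g => Subtype.ext ?_, rfl⟩
      exact (Subgroup.mem_centralizer_iff.mp hc) g g.2
  rw [h1, map_center_of_inf_ker (by rw [Subgroup.ker_subtype, inf_bot_eq]),
    map_subtype_puigSubgroup]

/-- Let p be an odd prime, G a solvable group of odd order and S a Sylow p-subgroup, and let Z be the centre of the Puig subgroup L(S), viewed inside G. Then G is generated by O_{p'}(G) and N_G(Z); and if O_{p'}(G) = 1 then Z is normal in G. -/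
theorem result {G : Type*} [Group G] [Finite G] [Group.IsSolvable G] (hodd : Odd (Nat.card G)) (p : ℕ) [Fact p.Prime] (hp : p ≠ 2) (S : Sylow p G) :
    Cfsg.pPrimeCore p G ⊔ Subgroup.normalizer ((((Subgroup.center ↥(Cfsg.puigSubgroup ↥(S : Subgroup G))).map (Cfsg.puigSubgroup ↥(S : Subgroup G)).subtype).map (S : Subgroup G).subtype : Subgroup G) : Set G) = ⊤ ∧
      (Cfsg.pPrimeCore p G = ⊥ → (((Subgroup.center ↥(Cfsg.puigSubgroup ↥(S : Subgroup G))).map (Cfsg.puigSubgroup ↥(S : Subgroup G)).subtype).map (S : Subgroup G).subtype).Normal) := by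
  rw [center_map_eq]
  exact ⟨CL.BG.pPrimeCore_sup_normalizer_center_puigOf hodd S,
    fun hO => CL.BG.center_puigOf_sylow_normal hodd (CL.centralizer_pCore_le hO) S⟩

end Cfsg.Agent.S1469
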