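import Cfsg.Statements.S1475
import Cfsg.Agent.CN.Basic
import Cfsg.Agent.Solv.Hall

set_option autoImplicit false
open Cfsg

namespace Cfsg.Agent.S1475
theorem not_commute {G : Type*} [Group G] [Finite G] (h : ∀ g : G, IsPrimePow (orderOf g) ∨ g = 1)
    {a b : G} (ha : a ≠ 1) (hb : b ≠ 1) (hc : (orderOf a).Coprime (orderOf b)) (hab : Commute a b) :
    False := by
  have h1 := hab.orderOf_mul_eq_mul_orderOf_of_coprime hc
  have ha' : orderOf a ≠ 1 := by simpa using ha
  have hb' : orderOf b ≠ 1 := by simpa using hb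
  rcases h (a * b) with h2 | h2
  · rw [h1] at h2
    rcases hc.isPrimePow_dvd_mul h2 |>.mp dvd_rfl with h3 | h3
    · exact hb' (Nat.Coprime.eq_one_of_dvd hc.symm ((Dvd.intro_left _ rfl).trans h3))
    · exact ha' (Nat.Coprime.eq_one_of_dvd hc ((Dvd.intro _ rfl).trans h3))
  · rw [h2, orderOf_one] at h1
    exact ha' (Nat.eq_one_of_mul_eq_one_right h1.symm)

theorem fpf {G : Type*} [Group G] [Finite G] (h : ∀ g : G, IsPrimePow (orderOf g) ∨ g = 1)
    {A B : Subgroup G} (hc : (Nat.card A).Coprime (Nat.card B)) :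
    ∀ a ∈ A, a ≠ 1 → B ⊓ Subgroup.centralizer {a} = ⊥ := by
  rw [CL.Frob.fpf_iff]
  intro a ha b hb hab
  by_contra hne
  push Not at hne
  exact not_commute h hne.1 hne.2 (Nat.Coprime.coprime_dvd_left (A.orderOf_dvd_natCard ha)
    (Nat.Coprime.coprime_dvd_right (B.orderOf_dvd_natCard hb) hc)) hab

/-- Let G be a finite solvable group such that the order of every element is a prime power (1 included). Then at most two distinct primes divide the order of G. -/
theorem result {G : Type*} [Group G] [Finite G] [Group.IsSolvable G] (h : ∀ g : G, IsPrimePow (orderOf g) ∨ g = 1) :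
    (Nat.card G).primeFactors.card ≤ 2 := by
  by_contra hlt
  have hlt : 2 < (Nat.card G).primeFactors.card := not_le.mp hlt
  have hnt : Nontrivial G := by
    by_contra hn
    rw [not_nontrivial_iff_subsingleton] at hn
    rw [Nat.card_of_subsingleton (1 : G)] at hlt
    simp at hlt
  obtain ⟨p, N, hp, hN, hNe⟩ := CL.exists_normal_elementary G
  have := hN.normal
  have := Fact.mk hp
  obtain ⟨K, hK⟩ := CL.Hall.exists_isPiHall {p}ᶜ G
  have hKp : (Nat.card K).Coprime p := (CL.IsPiNum.compl_singleton_iff_coprime hp).mp (CL.PiHall.card_pi hK)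
  have hKd : ∀ q : ℕ, q.Prime → q ≠ p → q ∣ Nat.card G → q ∣ Nat.card K := fun q hq hqp hd =>
    CL.PiHall.dvd_card hK ((CL.IsPiNum.prime_iff hq).mpr hqp) hd
  have hex : ∀ q : ℕ, ∃ r : ℕ, r.Prime ∧ r ≠ p ∧ r ≠ q ∧ r ∣ Nat.card G := fun q => by
    by_contra hc
    push Not at hc
    have : (Nat.card G).primeFactors ⊆ {p, q} := fun r hr => by
      have h1 := Nat.prime_of_mem_primeFactors hr
      have h2 := Nat.dvd_of_mem_primeFactors hr
      by_contra h3
      simp only [Finset.mem_insert, Finset.mem_singleton, not_or] at h3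
      exact hc r h1 h3.1 h3.2 h2
    have := (Finset.card_le_card this).trans Finset.card_le_two
    omega
  obtain ⟨r, hr, hrp, -, hrd⟩ := hex p
  have hK1 : Nontrivial K := by
    rw [← Finite.one_lt_card_iff_nontrivial]
    exact lt_of_lt_of_le hr.one_lt (Nat.le_of_dvd Nat.card_pos (hKd r hr hrp hrd))
  obtain ⟨q, M, hq, hM, hMe⟩ := CL.exists_normal_elementary K
  have := hM.normal
  have := Fact.mk hq
  obtain ⟨s, hs, hsp, hsq, hsd⟩ := hex q
  obtain ⟨y, hyK, hy⟩ := CL.CN.exists_orderOf_eq_of_dvd hs (hKd s hs hsp hsd)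
  obtain ⟨n, hn⟩ := (CL.isPGroup_of_isElementaryAbelian hNe).exists_card_eq
  obtain ⟨m, hm⟩ := (CL.isPGroup_of_isElementaryAbelian hMe).exists_card_eq
  have hyM : Subgroup.zpowers y ≤ Subgroup.normalizer ((M.map K.subtype : Subgroup G) : Set G) :=
    (Subgroup.zpowers_le.mpr hyK).trans (CL.le_normalizer_map_subtype K M)
  have hsol : Group.IsSolvable (M.map K.subtype ⊔ Subgroup.zpowers y : Subgroup G) := inferInstance
  rcases CL.Frob.not_frobenius_of_fpf (A := K) (K := N) Subgroup.le_normalizer_of_normal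
    (fpf h (by rw [hn]; exact hKp.pow_right n)) hN.ne_bot (Subgroup.map_subtype_le M)
    (Subgroup.zpowers_le.mpr hyK) hsol hyM
    (fpf h (by
      rw [Nat.card_zpowers, hy, CL.card_map_subtype_eq, hm]
      exact ((Nat.coprime_primes hs hq).mpr hsq).pow_right m)) with h1 | h1
  · exact hM.ne_bot ((Subgroup.map_eq_bot_iff_of_injective _ K.subtype_injective).mp h1)
  · exact CL.CN.ne_one_of_orderOf_eq hs hy (by simpa using h1)

end Cfsg.Agent.S1475
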