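import Cfsg.Statements.S1476
import Cfsg.Agent.CN.Struct

set_option autoImplicit false
open Cfsg

namespace Cfsg.Agent.S1476

/-- Let G be a finite solvable group in which every non-identity element has nilpotent centralizer. Then either G is nilpotent; or G has a normal subgroup K with a Frobenius complement E (K E = G, K ∩ E = 1, E meets its conjugates by outside elements trivially) such that E is cyclic or E is generated by two elementwise-commuting subgroups, one cyclic of odd order and one isomorphic to a generalized quaternion group; or G is a three-step group with respect to some prime p. -/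
theorem result {G : Type*} [Group G] [Finite G] [Group.IsSolvable G] (hCN : Cfsg.IsCNGroup G) :
    Group.IsNilpotent G ∨
      (∃ K E : Subgroup G, K.Normal ∧ Subgroup.IsComplement' K E ∧ Cfsg.IsFrobeniusComplement E ∧
        (IsCyclic E ∨ ∃ C Q : Subgroup G, C ⊔ Q = E ∧ (∀ a ∈ C, ∀ b ∈ Q, a * b = b * a) ∧ IsCyclic C ∧ Odd (Nat.card C) ∧
          ∃ n : ℕ, Nonempty (↥Q ≃* QuaternionGroup (2 ^ n)))) ∨
      ∃ p : ℕ, p.Prime ∧ Cfsg.IsThreeStepGroup p G := by
  by_cases hnn : Group.IsNilpotent G
  · exact Or.inl hnn
  right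
  have : Nontrivial G := by
    by_contra hn
    rw [not_nontrivial_iff_subsingleton] at hn
    exact hnn inferInstance
  by_cases hns : ∀ (q : ℕ) (_ : Fact q.Prime) (Q : Sylow q G), (Q : Subgroup G) ≠ ⊥ →
      ¬ (Q : Subgroup G).Normal
  · exact Or.inr (CL.CN.exists_threeStep hCN hns)
  left
  push Not at hns
  obtain ⟨p, hp, P, hP1, hPn⟩ := hns
  have h1 := CL.CN.fittingHall_ne_bot_of_normal_sylow P hP1 hPn
  obtain ⟨E, hE, hE1, hEn, hf⟩ := CL.CN.exists_complement hCN hnn h1
  exact ⟨_, E, inferInstance, hE, (CL.Frob.isFrobeniusComplement_iff_fpf hE h1 hE1).mpr hf,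
    CL.CN.cyclic_or_quaternion Subgroup.le_normalizer_of_normal hf h1⟩

end Cfsg.Agent.S1476
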