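import Cfsg.Statements.S1480
import Cfsg.Agent.Base
import Cfsg.Agent.BG.A9_Trans

set_option autoImplicit false
open Cfsg

namespace Cfsg.Agent.S1480

/-- Let G be a finite group and p a prime such that the normalizer of every nontrivial p-subgroup of G is p-constrained; if p = 2 assume also that the Sylow 2-subgroups of G have nilpotency class at most 2. Let E be an abelian p-subgroup containing an elementary abelian subgroup of order p ^ 3 and containing every element of p-power order of C_G(E). Then for every prime q ≠ p, any two maximal E-invariant q-subgroups of G are conjugate by an element of O_{p'}(C_G(E)). -/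
theorem result {G : Type*} [Group G] [Finite G] (p : ℕ) [Fact p.Prime]
    (hloc : ∀ T : Subgroup G, IsPGroup p T → T ≠ ⊥ → Cfsg.IsPConstrained p ↥(Subgroup.normalizer (T : Set G)))
    (h2 : p = 2 → ∀ S : Sylow p G, Group.IsNilpotent (S : Subgroup G) ∧ Group.nilpotencyClass (S : Subgroup G) ≤ 2)
    (E : Subgroup G) (hEp : IsPGroup p E) (hEc : IsMulCommutative E) (hE3 : ¬ Cfsg.PRankLE p 2 E)
    (hEfull : ∀ x ∈ Subgroup.centralizer (E : Set G), IsPGroup p (Subgroup.zpowers x) → x ∈ E)
    (q : ℕ) [Fact q.Prime] (hqp : q ≠ p) :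
    ∀ Q₁ ∈ Cfsg.maxInvSubgroups ⊤ E {q}, ∀ Q₂ ∈ Cfsg.maxInvSubgroups ⊤ E {q},
        ∃ k ∈ Cfsg.piCoreOf (Cfsg.primesNotDvd p) (Subgroup.centralizer (E : Set G)), Q₂ = Q₁.map (MulAut.conj k).toMonoidHom := by
  have hp : p.Prime := Fact.out
  rw [CL.BG.piCoreOf_primesNotDvd_prime hp]
  refine CL.BG.thompson_transitivity hloc ?_ hEp hEc
    (((CL.BG.lt_pRank_iff hp).2 hE3).trans_le (CL.BG.pRank_le_rank hp E))
    (fun x hx ho => hEfull x hx ((CL.BG.piGrp_zpowers.2 ho).isPGroup hp)) hqp
  by_cases h : p = 2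
  · refine Or.inr fun S hS => ?_
    obtain ⟨T, hT⟩ := hS.exists_le_sylow
    obtain ⟨h3, h4⟩ := h2 h T
    have h5 := congrArg (Subgroup.map (T : Subgroup G).subtype)
      (Subgroup.lowerCentralSeries_eq_bot_iff_nilpotencyClass_le.2 h4)
    rw [Subgroup.top_subtype_lowerCentralSeries, Subgroup.map_bot] at h5
    rw [← CL.BG.commutator_eq_bot_iff', eq_bot_iff, ← h5]
    exact Subgroup.commutator_mono (Subgroup.commutator_mono hT hT) hT
  · exact Or.inl h

end Cfsg.Agent.S1480
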