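import Cfsg.Statements.S1481
import Cfsg.Agent.Base
import Cfsg.Agent.BG.T8_1
import Cfsg.Agent.BG.A7_Bridge

set_option autoImplicit false
open Cfsg

namespace Cfsg.Agent.S1481

open CL.BG

/-- Let G be a finite group and H a local subgroup (the normalizer of a nontrivial subgroup of prime-power order) not properly contained in any local subgroup; let F = F(H), suppose at least two primes divide #F, put X = H ∩ C_G(F), let M ≤ F with F ∩ C_G(M) ≤ M, and let R be a solvable subgroup normalized by M and by X. Then for every prime q not dividing #F there is exactly one maximal M-invariant q-subgroup of R, and it is a Sylow q-subgroup of the largest normal subgroup of R of order coprime to #F. -/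
theorem result {G : Type*} [Group G] [Finite G] (H : Subgroup G) (hH : Cfsg.IsLocalSubgroup H) (hHmax : ∀ L : Subgroup G, Cfsg.IsLocalSubgroup L → H ≤ L → L = H)
    (hF2 : 2 ≤ (Nat.card (Cfsg.fittingOf H)).primeFactors.card)
    (M : Subgroup G) (hM : M ≤ Cfsg.fittingOf H) (hCM : Cfsg.fittingOf H ⊓ Subgroup.centralizer (M : Set G) ≤ M)
    (R : Subgroup G) (hR : Group.IsSolvable R) (hMR : M ≤ Subgroup.normalizer (R : Set G))
    (hXR : H ⊓ Subgroup.centralizer (Cfsg.fittingOf H : Set G) ≤ Subgroup.normalizer (R : Set G))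
    (q : ℕ) [Fact q.Prime] (hq : ¬ q ∣ Nat.card (Cfsg.fittingOf H)) :
    ∃! Q : Subgroup G, Q ∈ Cfsg.maxInvSubgroups R M {q} ∧
      (∀ Q' : Subgroup G, Q' ∈ Cfsg.maxInvSubgroups R M {q} →
        Q' ≤ Cfsg.piCoreOf (Cfsg.primesNotDvd (Nat.card (Cfsg.fittingOf H))) R ∧
        ¬ q ∣ Q'.relIndex (Cfsg.piCoreOf (Cfsg.primesNotDvd (Nat.card (Cfsg.fittingOf H))) R)) := by
  set F := fittingOf H with hF
  set π := primesOf F with hπ
  rw [piCoreOf_primesNotDvd_card, ← hπ]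
  have hqπ : q ∉ π := not_mem_primesOf hq
  have h2 : ∀ p, ∃ r ∈ π, r ≠ p := fun p => by
    obtain ⟨r, hr, hrp⟩ := Finset.exists_mem_ne hF2 p
    exact ⟨r, ⟨Nat.prime_of_mem_primeFactors hr, Nat.dvd_of_mem_primeFactors hr⟩, hrp⟩
  have hFπ : PiGrp π F := piGrp_primesOf F
  have hMπ : PiGrp π M := hFπ.of_le hM
  have hZM : 𝐙(F) ≤ M := (inf_le_inf_left _ (cent_anti hM)).trans hCM
  have hCZ : ∀ r ∈ π, 𝐂(piCoreOf {r} 𝐙(F)) ≤ H := fun r hr => by
    haveI := Fact.mk hr.1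
    rw [← hHmax _ ⟨r, _, hr.1, pco_isPGroup r 𝐙(F), pcore_center_fit_ne_bot hr, rfl⟩
      (pcore_center_fit_normal r H).norm]
    exact cent_le_norm _
  have hXH : H ⊓ 𝐂(F) ⊴ H := NormalIn.inf_cent (fit_normal H).norm
  have hRX : R ⊓ (H ⊓ 𝐂(F)) ≤ F := by
    have hn : R ⊓ (H ⊓ 𝐂(F)) ⊴ H ⊓ 𝐂(F) := ⟨inf_le_right, norms_inf hXR (le_norm_self _)⟩
    have h1 : fittingOf (R ⊓ (H ⊓ 𝐂(F))) ≤ F :=
      (fit_le_of_normal hn).trans (fit_le_of_normal hXH)
    exact (le_fit_of_le_cent (solvable_of_le hR inf_le_left) le_rfl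
      ((inf_le_right.trans inf_le_right).trans (cent_anti h1))).trans h1
  have hinv : ∀ W : Subgroup G, W ≤ R → W ≤ H → PiGrp πᶜ W → M ≤ 𝐍(W) → W = ⊥ := by
    intro W hWR hW hWπ hn
    have hWF : W ≤ 𝐍(F) := hW.trans (fit_normal H).norm
    have hAW : M ≤ 𝐂(W) := by
      rw [← commutator_eq_bot_iff', eq_bot_iff, ← hFπ.inf_eq_bot hWπ]
      exact le_inf ((Subgroup.commutator_mono hM le_rfl).trans (commutator_le_left_of_norm hWF))
        (commutator_le_right_of_norm hn)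
    have h1 : W ≤ 𝐂(F) := t1_10 hWF (hFπ.coprime hWπ) (fit_nil H)
      ((inf_le_inf_left _ (cent_anti (le_inf hM hAW))).trans (hCM.trans (le_inf hM hAW)))
    exact hWπ.eq_bot (piGrp_compl_compl.2 (hFπ.of_le ((le_inf hWR (le_inf hW h1)).trans hRX)))
  have hMsol : Group.IsSolvable M := solvable_of_nil (nil_of_le_fit hM)
  have hT : Group.IsSolvable ↥(R ⊔ M) := solvable_sup hMR hR hMsol
  have hcore : ∀ Y : Subgroup G, Y ≤ R → PiGrp πᶜ Y → M ≤ 𝐍(Y) → Y ≤ piCoreOf πᶜ R := by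
    intro Y hY hYπ hn
    refine le_trans (le_inf ?_ hY) (pco_inf_le πᶜ (le_sup_left : R ≤ R ⊔ M))
    refine le_piCoreOf_compl_of_forall (hY.trans le_sup_left) fun p hp _ => ?_
    obtain ⟨r, hr, hrp⟩ := h2 p
    haveI := Fact.mk hr.1
    haveI := Fact.mk hp.1
    have hZp : piCoreOf {p} 𝐙(F) ≤ M := (pco_le _ _).trans hZM
    have hrp' : PiGrp {p}ᶜ (piCoreOf {r} M) := (pco_pi _ _).mono (by rintro _ rfl; exact hrp)
    have hAr : piCoreOf {r} M ≤ piCoreOf {p}ᶜ (R ⊔ M) := by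
      refine le_trans ?_ (t1_15b hT (hZp.trans le_sup_right) (pco_isPGroup p _))
      refine le_trans (le_inf (le_core_of_le_fit ((pco_le _ _).trans hM) hrp')
        (le_inf ((pco_le _ _).trans le_sup_right) ?_)) (pco_inf_le _ (inf_le_right.trans (hCZ p hp)))
      exact cent_symm (((pco_le _ _).trans inf_le_right).trans (cent_anti ((pco_le _ _).trans hM)))
    have hZr : piCoreOf {r} 𝐙(F) ≤ piCoreOf {r} M := nil_core_mono (nil_of_le_fit hM) hZM _
    have hnr : piCoreOf {r} M ≤ 𝐍(Y) := (pco_le _ _).trans hn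
    have h1 := t1_6a hnr (hYπ.coprime' (hMπ.of_le (pco_le _ _)))
      (Or.inr (solvable_of_isPGroup (pco_isPGroup r M)))
    have h0 : Y ⊓ 𝐂(piCoreOf {r} M) = ⊥ :=
      hinv _ (inf_le_left.trans hY) (inf_le_right.trans ((cent_anti hZr).trans (hCZ r hr)))
        (hYπ.inf_left _) (norms_inf_cent hn (pco_normal _ M).norm)
    rw [h0, sup_bot_eq] at h1
    rw [← h1]
    exact (Subgroup.commutator_mono (hY.trans le_sup_left) hAr).trans
      (pco_normal _ _).commutator_le'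
  have hMK : M ≤ 𝐍(piCoreOf πᶜ R) := pco_norms _ hMR
  have hcop : (Nat.card (piCoreOf πᶜ R)).Coprime (Nat.card M) := (pco_pi _ _).coprime' hMπ
  have hsyl : ∀ Q ∈ maxInvSubgroups R M {q}, SylowOf q Q (piCoreOf πᶜ R) := by
    intro Q hQ
    have hQp := maxInv_isPGroup hQ
    obtain ⟨hQ1, hQ2⟩ := mem_maxInvSubgroups.1 hQ
    obtain ⟨S, hS, hMS, hQS⟩ := t1_5b_sylow hMK hcop (Or.inr hMsol)
      (hcore Q (mem_invSubgroups.1 hQ1).1 (piGrp_compl_of_isPGroup hQp hqπ) (maxInv_norm hQ))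
      hQp (maxInv_norm hQ)
    rwa [hQ2 S (mem_invSubgroups.2 ⟨hS.hall.le.trans (pco_le _ _), hS.hall.pi, hMS⟩) hQS] at hS
  have hC : piCoreOf πᶜ R ⊓ 𝐂(M) = ⊥ := by
    obtain ⟨r, hr, -⟩ := h2 0
    exact hinv _ (inf_le_left.trans (pco_le _ _))
      (inf_le_right.trans ((cent_anti ((pco_le _ _).trans hZM)).trans (hCZ r hr)))
      ((pco_pi _ _).inf_left _) (norms_inf_cent hMK (le_norm_self M))
  obtain ⟨Q, hQ⟩ := maxInv_nonempty R M {q}
  refine ⟨Q, ⟨hQ, fun Q' hQ' => ⟨(hsyl Q' hQ').hall.le, (hsyl Q' hQ').not_dvd⟩⟩, ?_⟩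
  rintro Q' ⟨hQ', -⟩
  obtain ⟨c, hc, e⟩ := t1_5c_sylow hMK hcop (Or.inr hMsol) (hsyl Q hQ) (maxInv_norm hQ)
    (hsyl Q' hQ') (maxInv_norm hQ')
  rw [hC, Subgroup.mem_bot] at hc
  rw [← e, hc, cj_one]

end Cfsg.Agent.S1481
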