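import Cfsg.Statements.S1483
import Cfsg.Agent.CN.MinSimple

set_option autoImplicit false
open Cfsg

namespace Cfsg.Agent.S1483

/-- Let G be a minimal simple group of odd order in which every non-identity element has nilpotent centralizer. Then any two nilpotent subgroups each contained in no larger nilpotent subgroup are either conjugate or of coprime orders; and for primes p, q, r: if some elements x, y ≠ 1 of p-power and q-power order commute, and some elements y', z ≠ 1 of q-power and r-power order commute, then some elements of p-power and r-power order, both ≠ 1, commute. -/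
theorem result {G : Type*} [Group G] [Finite G] (hG : Cfsg.IsMinSimpleOddOrder G) (hCN : Cfsg.IsCNGroup G) :
    (∀ H₁ H₂ : Subgroup G, (Group.IsNilpotent ↥H₁ ∧ ∀ L : Subgroup G, Group.IsNilpotent L → H₁ ≤ L → L = H₁) → (Group.IsNilpotent ↥H₂ ∧ ∀ L : Subgroup G, Group.IsNilpotent L → H₂ ≤ L → L = H₂) → (∃ g : G, H₂ = H₁.map (MulAut.conj g).toMonoidHom) ∨ (Nat.card H₁).Coprime (Nat.card H₂)) ∧
      ∀ (p q r : ℕ), p.Prime → q.Prime → r.Prime → ∀ (x y y' z : G), x ≠ 1 → y ≠ 1 → y' ≠ 1 → z ≠ 1 →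
        IsPGroup p (Subgroup.zpowers x) → IsPGroup q (Subgroup.zpowers y) → IsPGroup q (Subgroup.zpowers y') → IsPGroup r (Subgroup.zpowers z) →
        x * y = y * x → y' * z = z * y' →
        ∃ x' z' : G, x' ≠ 1 ∧ z' ≠ 1 ∧ IsPGroup p (Subgroup.zpowers x') ∧ IsPGroup r (Subgroup.zpowers z') ∧ x' * z' = z' * x' := by
  refine ⟨fun H₁ H₂ h1 h2 => CL.CN.IsMaxNil.min_conj_or_coprime hG hCN h1 h2, ?_⟩
  intro p q r hp hq hr x y y' z hx hy hy' hz hxp hyq hyq' hzr hxy hyz
  by_cases hpr : p = r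
  · subst hpr
    exact ⟨x, x, hx, hx, hxp, hxp, rfl⟩
  obtain ⟨H, hH, hle⟩ := CL.CN.exists_isMaxNil_ge _ (hCN y hy)
  obtain ⟨L, hL, hle'⟩ := CL.CN.exists_isMaxNil_ge _ (hCN y' hy')
  obtain ⟨a, ha⟩ := CL.CN.exists_pow_eq_one_of_mem hxp (Subgroup.mem_zpowers x)
  obtain ⟨b, hb⟩ := CL.CN.exists_pow_eq_one_of_mem hyq (Subgroup.mem_zpowers y)
  obtain ⟨c, hc⟩ := CL.CN.exists_pow_eq_one_of_mem hyq' (Subgroup.mem_zpowers y')
  obtain ⟨d, hd⟩ := CL.CN.exists_pow_eq_one_of_mem hzr (Subgroup.mem_zpowers z)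
  rcases hH.min_conj_or_coprime hG hCN hL with ⟨g, hg⟩ | h
  · have := hL.1
    have hx' : (g * x * g⁻¹) ^ p ^ a = 1 := by rw [conj_pow, ha, mul_one, mul_inv_cancel]
    refine ⟨g * x * g⁻¹, z, by simpa using hx, hz, CL.CN.isPGroup_zpowers hx', hzr, ?_⟩
    refine CL.CN.commute_of_mem_of_coprime (N := L) ?_
      (hle' (Subgroup.mem_centralizer_singleton_iff.mpr hyz.symm)) ?_
    · rw [hg]
      exact CL.Transfer.conj_mem_conj_smul.mpr
        (hle (Subgroup.mem_centralizer_singleton_iff.mpr hxy))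
    · exact Nat.Coprime.coprime_dvd_left (orderOf_dvd_of_pow_eq_one hx')
        (Nat.Coprime.coprime_dvd_right (orderOf_dvd_of_pow_eq_one hd)
          (Nat.Coprime.pow _ _ ((Nat.coprime_primes hp hr).mpr hpr)))
  · exact absurd (Nat.eq_one_of_dvd_coprimes h
      (CL.CN.dvd_card_of_pow_eq_one hq (hle (Subgroup.mem_centralizer_singleton_iff.mpr rfl)) hy hb)
      (CL.CN.dvd_card_of_pow_eq_one hq (hle' (Subgroup.mem_centralizer_singleton_iff.mpr rfl)) hy' hc))
      hq.one_lt.ne'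

end Cfsg.Agent.S1483
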