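import Cfsg.Statements.S1484
import Cfsg.Agent.CN.MinSimple

set_option autoImplicit false
open Cfsg

namespace Cfsg.Agent.S1484

/-- Let G be a minimal simple group of odd order in which every non-identity element has nilpotent centralizer, and M₁, …, M_k maximal subgroups, pairwise non-conjugate, such that every maximal subgroup is conjugate to some M_i. Let H_i be the largest normal nilpotent Hall subgroup of M_i. Then the orders of the H_i are pairwise coprime, their product is the order of G, and every element of G is conjugate to an element of some H_i. -/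
theorem result {G : Type*} [Group G] [Finite G] (hG : Cfsg.IsMinSimpleOddOrder G) (hCN : Cfsg.IsCNGroup G) (k : ℕ) (Mrep : Fin k → Subgroup G) (hmax : ∀ i, IsCoatom (Mrep i))
    (hnc : ∀ i j, i ≠ j → ∀ g : G, Mrep j ≠ (Mrep i).map (MulAut.conj g).toMonoidHom) (hall : ∀ M : Subgroup G, IsCoatom M → ∃ i, ∃ g : G, M = (Mrep i).map (MulAut.conj g).toMonoidHom) :
    (∀ i j, i ≠ j → (Nat.card (Cfsg.fittingHallOf (Mrep i))).Coprime (Nat.card (Cfsg.fittingHallOf (Mrep j)))) ∧
      ∏ i, Nat.card (Cfsg.fittingHallOf (Mrep i)) = Nat.card G ∧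
      ∀ x : G, ∃ i, ∃ g : G, g * x * g⁻¹ ∈ Cfsg.fittingHallOf (Mrep i) := by
  open scoped Pointwise in
  have hH : ∀ i, CL.CN.IsMaxNil (fittingHallOf (Mrep i)) := fun i =>
    (CL.CN.min_coatom hG hCN (hmax i)).1
  have hN := fun i => (CL.CN.min_coatom hG hCN (hmax i)).2
  have hcop : ∀ i j, i ≠ j → (Nat.card (Cfsg.fittingHallOf (Mrep i))).Coprime
      (Nat.card (Cfsg.fittingHallOf (Mrep j))) := fun i j hij => by
    refine ((hH i).min_conj_or_coprime hG hCN (hH j)).resolve_left ?_
    rintro ⟨g, hg⟩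
    refine hnc i j hij g ?_
    rw [← hN j, hg, ← CL.Transfer.conj_smul_normalizer, hN i, CL.Transfer.conj_smul_eq_map]
  have hcov : ∀ x : G, ∃ i, ∃ g : G, g * x * g⁻¹ ∈ Cfsg.fittingHallOf (Mrep i) := fun x => by
    obtain ⟨H, h1, h2⟩ := CL.CN.exists_isMaxNil_ge (Subgroup.zpowers x)
      (CL.isNilpotent_of_isMulCommutative _)
    obtain ⟨i, g, hg⟩ := hall _ (h1.min_isCoatom hG hCN)
    refine ⟨i, g⁻¹, ?_⟩
    rw [(h1.conj g⁻¹).min_fittingHallOf_eq hG hCN (M := Mrep i) (by
      rw [← CL.Transfer.conj_smul_normalizer, hg, ← CL.Transfer.conj_smul_eq_map,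
        CL.Transfer.conj_inv_smul_conj_smul]) (hmax i).1]
    exact CL.Transfer.conj_mem_conj_smul.mpr (h2 (Subgroup.mem_zpowers x))
  refine ⟨hcop, Nat.dvd_antisymm ?_ ?_, hcov⟩
  · exact Finset.prod_dvd_of_isRelPrime
      (fun i _ j _ hij => Nat.coprime_iff_isRelPrime.mp (hcop i j hij))
      fun i _ => Subgroup.card_subgroup_dvd_card _
  · refine (Nat.dvd_iff_prime_pow_dvd_dvd _ _).mpr fun p n hp hn => ?_
    rcases n with _ | n
    · simp
    have := Fact.mk hp
    obtain ⟨x, hx⟩ := exists_prime_orderOf_dvd_card' (G := G) p ((dvd_pow_self p n.succ_ne_zero).trans hn)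
    obtain ⟨i, g, hg⟩ := hcov x
    refine dvd_trans ?_ (Finset.dvd_prod_of_mem _ (Finset.mem_univ i))
    have h1 : p ∣ Nat.card (fittingHallOf (Mrep i)) := by
      have := (fittingHallOf (Mrep i)).orderOf_dvd_natCard hg
      rwa [← MulAut.conj_apply, MulEquiv.orderOf_eq, hx] at this
    rw [← (fittingHallOf (Mrep i)).card_mul_index] at hn
    exact (Nat.Coprime.pow_left _ (Nat.Coprime.coprime_dvd_left h1 ((hH i).coprime hCN))).dvd_of_dvd_mul_right hn

end Cfsg.Agent.S1484
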