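import Cfsg.Agent.Base
import Cfsg.Statements.S1495

set_option autoImplicit false
open Cfsg

namespace Cfsg.Agent.S1495

/-- Let p be a prime, ε = exp(2πi/p), and n an integer such that n = (1 − ε) * ω for some algebraic integer ω. Then p divides n. -/
theorem result (p : ℕ) (hp : p.Prime) (n : ℤ) (ω : ℂ) (hω : IsIntegral ℤ ω) (h : (n : ℂ) = (1 - Complex.exp (2 * Real.pi * Complex.I / p)) * ω) : (p : ℤ) ∣ n := by
  have hζ : IsPrimitiveRoot (Complex.exp (2 * Real.pi * Complex.I / p)) p :=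
    Complex.isPrimitiveRoot_exp p hp.ne_zero
  set ε := Complex.exp (2 * Real.pi * Complex.I / p) with hε
  have hεi : IsIntegral ℤ ε := hζ.isIntegral hp.pos
  let A := integralClosure ℤ ℂ
  let e : A := ⟨ε, hεi⟩
  let w : A := ⟨ω, hω⟩
  have he : IsPrimitiveRoot e p := by
    exact IsPrimitiveRoot.of_map_of_injective (f := A.val) hζ Subtype.val_injective
  have h1 : (1 - e) ∣ (n : A) := ⟨w, Subtype.ext (by simpa [e, w] using h)⟩
  obtain ⟨m, hm⟩ : ∃ m, p = m + 1 := ⟨p - 1, by have := hp.pos; omega⟩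
  have he' : IsPrimitiveRoot e (m + 1) := hm ▸ he
  have h2 := he'.prod_one_sub_pow_eq_order
  have h3 : (∏ k ∈ Finset.range m, (1 - e ^ (k + 1))) ∣ ∏ _k ∈ Finset.range m, (n : A) := by
    apply Finset.prod_dvd_prod_of_dvd
    intro k hk
    have hk' : k < m := Finset.mem_range.mp hk
    have hc : (k + 1).Coprime p := by
      apply Nat.Coprime.symm
      rw [Nat.Prime.coprime_iff_not_dvd hp]
      intro hd
      have := Nat.le_of_dvd (by omega) hd
      omega
    have := (he.associated_sub_one_pow_sub_one_of_coprime hc).symm.dvd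
    have h4 : (1 - e ^ (k + 1)) ∣ (1 - e) := by
      rw [← neg_sub (e ^ (k + 1)), ← neg_sub e]
      exact (neg_dvd.mpr (dvd_neg.mpr this))
    exact h4.trans h1
  rw [h2, Finset.prod_const, Finset.card_range] at h3
  obtain ⟨c, hc⟩ := h3
  have hc' : (n : ℂ) ^ m = (p : ℂ) * (c : ℂ) := by
    have := congrArg (Subtype.val : A → ℂ) hc
    rw [hm]; simpa using this
  have hp0 : (p : ℂ) ≠ 0 := by exact_mod_cast hp.ne_zero
  have hq : ∃ q : ℚ, (c : ℂ) = q := ⟨(n : ℚ) ^ m / p, by push_cast; rw [hc']; field_simp⟩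
  obtain ⟨k, hk⟩ := (c.2.exists_int_iff_exists_rat).mp hq
  have h5 : n ^ m = p * k := by
    have : ((n ^ m : ℤ) : ℂ) = ((p * k : ℤ) : ℂ) := by push_cast; rw [hc', hk]
    exact_mod_cast this
  exact (Nat.prime_iff_prime_int.mp hp).dvd_of_dvd_pow ⟨k, h5⟩

end Cfsg.Agent.S1495
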