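import Cfsg.Statements.S1504
import Cfsg.Agent.Base
import Cfsg.Agent.PF.CycBridge

set_option autoImplicit false
open Cfsg

namespace Cfsg.Agent.S1504

/-- Let W₁, W₂ be subgroups of a finite group with W₁ ⊓ W₂ = ⊥ whose elements commute, and W = W₁ ⊔ W₂. For linear characters φ, ψ of W with φ trivial on W₂ and ψ trivial on W₁, the function (1 − φ)(1 − ψ) vanishes on W₁ ∪ W₂; and the family of these functions, indexed by pairs (φ, ψ) with φ ≠ 1 ≠ ψ, is linearly independent over ℂ. -/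
theorem result {G : Type*} [Group G] [Finite G] (W₁ W₂ : Subgroup G) (hdisj : W₁ ⊓ W₂ = ⊥) (hcomm : ∀ a ∈ W₁, ∀ b ∈ W₂, a * b = b * a) : (∀ φ ψ : ↥(W₁ ⊔ W₂) →* ℂˣ, (∀ w : ↥(W₁ ⊔ W₂), (w : G) ∈ W₂ → φ w = 1) → (∀ w : ↥(W₁ ⊔ W₂), (w : G) ∈ W₁ → ψ w = 1) → ∀ w : ↥(W₁ ⊔ W₂), ((w : G) ∈ W₁ ∨ (w : G) ∈ W₂) → (1 - (φ w : ℂ) - (ψ w : ℂ) + (φ w : ℂ) * (ψ w : ℂ)) = 0) ∧ LinearIndependent ℂ (fun p : {p : (↥(W₁ ⊔ W₂) →* ℂˣ) × (↥(W₁ ⊔ W₂) →* ℂˣ) // p.1 ≠ 1 ∧ p.2 ≠ 1 ∧ (∀ w : ↥(W₁ ⊔ W₂), (w : G) ∈ W₂ → p.1 w = 1) ∧ (∀ w : ↥(W₁ ⊔ W₂), (w : G) ∈ W₁ → p.2 w = 1)} => fun w : ↥(W₁ ⊔ W₂) => 1 - (p.1.1 w : ℂ) - (p.1.2 w : ℂ) + (p.1.1 w : ℂ) * (p.1.2 w : ℂ)) := by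
  open CL.PF CL.Char in
  focus
    classical
    refine ⟨fun φ ψ hφ hψ w hw => ?_, ?_⟩
    · rcases hw with hw | hw
      · simp [hψ w hw]
      · simp [hφ w hw]
    have := Fintype.ofFinite ↥(W₁ ⊔ W₂)
    have ext : ∀ {ω ω' : ↥(W₁ ⊔ W₂) →* ℂˣ}, dualL ω = dualL ω' → dualR ω = dualR ω' → ω = ω' := by
      intro ω ω' h1 h2
      have : (⊤ : Subgroup ↥(W₁ ⊔ W₂)) ≤ ω.eqLocus ω' := by
        rw [← Subgroup.subgroupOf_self, Subgroup.subgroupOf_sup le_sup_left le_sup_right]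
        exact sup_le (fun w hw => dualL_eq_iff.1 h1 w hw) (fun w hw => dualR_eq_iff.1 h2 w hw)
      exact MonoidHom.ext fun w => this (Subgroup.mem_top w)
    rw [linearIndependent_iff']
    rintro s c hc ⟨⟨φ, ψ⟩, q1, q2, q3, q4⟩ hq
    have q3' := dualR_eq_one_iff.2 q3
    have q4' := dualL_eq_one_iff.2 q4
    have := congrArg (fun f => classInner f (fun w => ((φ * ψ) w : ℂ))) hc
    simp only [classInner_sum_left, classInner_smul_left, classInner_zero_left] at this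
    rw [Finset.sum_eq_single_of_mem _ hq] at this
    all_goals
      have key : ∀ a b : ↥(W₁ ⊔ W₂) →* ℂˣ, dualR a = 1 → dualL b = 1 →
          classInner (fun w => 1 - (a w : ℂ) - (b w : ℂ) + (a w : ℂ) * (b w : ℂ))
            (fun w => ((φ * ψ) w : ℂ)) = if a * b = φ * ψ then 1 else 0 := by
        intro a b ha hb
        have e : (fun w => 1 - (a w : ℂ) - (b w : ℂ) + (a w : ℂ) * (b w : ℂ)) =
            (fun w => (((1 : ↥(W₁ ⊔ W₂) →* ℂˣ) w : ℂˣ) : ℂ)) - (fun w => (a w : ℂ)) -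
              (fun w => (b w : ℂ)) + fun w => ((a * b) w : ℂ) := by
          funext w; simp
        have n1 : ∀ t, dualL t = 1 → t ≠ φ * ψ := fun t ht e => q1 (ext (by
          rw [e, dualL_mul, q4', dual_mul_one] at ht; exact ht) q3')
        have n2 : ∀ t, dualR t = 1 → t ≠ φ * ψ := fun t ht e => q2 (ext q4' (by
          rw [e, dualR_mul, q3', dual_one_mul] at ht; exact ht))
        rw [e, classInner_add_left, classInner_sub_left, classInner_sub_left, classInner_linear,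
          classInner_linear, classInner_linear, classInner_linear, if_neg (n1 1 rfl),
          if_neg (n2 a ha), if_neg (n1 b hb)]
        simp
    · rwa [key φ ψ q3' q4', if_pos rfl, mul_one] at this
    · rintro ⟨⟨a, b⟩, p1, p2, p3, p4⟩ - hne
      have p3' := dualR_eq_one_iff.2 p3
      have p4' := dualL_eq_one_iff.2 p4
      rw [key a b p3' p4', if_neg, mul_zero]
      intro e
      refine hne (Subtype.ext (Prod.ext (ext ?_ (p3'.trans q3'.symm)) (ext (p4'.trans q4'.symm) ?_)))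
      · simpa only [dualL_mul, p4', q4', dual_mul_one] using congrArg dualL e
      · simpa only [dualR_mul, p3', q3', dual_one_mul] using congrArg dualR e

end Cfsg.Agent.S1504
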