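import Cfsg.Statements.S1505
import Cfsg.Agent.Base
import Cfsg.Agent.PF.CycBridge

set_option autoImplicit false
open Cfsg

namespace Cfsg.Agent.S1505

open Classical in
/-- Let W₁, W₂ ≤ G form a self-normalising cyclic subgroup W = W₁ ⊔ W₂. For nontrivial linear characters φ, φ' of W trivial on W₂ and ψ, ψ' trivial on W₁, put α = (1 − φ)(1 − ψ) and α' = (1 − φ')(1 − ψ'). Then the function induced from α to G has inner product 1 with the principal character, and the inner product of the functions induced from α and α' is 1 + a + b + ab where a = 1 if φ = φ' (else 0) and b = 1 if ψ = ψ' (else 0). -/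
theorem result {G : Type*} [Group G] [Fintype G] (W₁ W₂ : Subgroup G) (hW : Cfsg.IsSelfNormalizingCyclic W₁ W₂) (φ φ' ψ ψ' : ↥(W₁ ⊔ W₂) →* ℂˣ) (hφ : φ ≠ 1) (hφ' : φ' ≠ 1) (hψ : ψ ≠ 1) (hψ' : ψ' ≠ 1) (hφ₂ : ∀ w : ↥(W₁ ⊔ W₂), (w : G) ∈ W₂ → φ w = 1 ∧ φ' w = 1) (hψ₁ : ∀ w : ↥(W₁ ⊔ W₂), (w : G) ∈ W₁ → ψ w = 1 ∧ ψ' w = 1) : Cfsg.classInner (Cfsg.indFun (W₁ ⊔ W₂) (fun w => 1 - (φ w : ℂ) - (ψ w : ℂ) + (φ w : ℂ) * (ψ w : ℂ))) (fun _ => 1) = 1 ∧ Cfsg.classInner (Cfsg.indFun (W₁ ⊔ W₂) (fun w => 1 - (φ w : ℂ) - (ψ w : ℂ) + (φ w : ℂ) * (ψ w : ℂ))) (Cfsg.indFun (W₁ ⊔ W₂) (fun w => 1 - (φ' w : ℂ) - (ψ' w : ℂ) + (φ' w : ℂ) * (ψ' w : ℂ))) = 1 + (if φ = φ' then 1 else 0) + (if ψ = ψ' then 1 else 0) + (if φ = φ' then 1 else 0) * (if ψ = ψ' then 1 else 0) := by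
  open CL.PF CL.Char in
  focus
    have h := tiPair_subtype hW
    have r1 : dualR φ = 1 := dualR_eq_one_iff.2 fun w hw => (hφ₂ w hw).1
    have r2 : dualR φ' = 1 := dualR_eq_one_iff.2 fun w hw => (hφ₂ w hw).2
    have l1 : dualL ψ = 1 := dualL_eq_one_iff.2 fun w hw => (hψ₁ w hw).1
    have l2 : dualL ψ' = 1 := dualL_eq_one_iff.2 fun w hw => (hψ₁ w hw).2
    rw [h.indFun_alpha r1 l1, h.indFun_alpha r2 l2, h.inner_indHom (alphaF_supp _ _),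
      classInner_indHom_left h.iota_injective _ (isClassFunction_const 1),
      inner_alphaF_one (h.dualL_ne_one hφ r1) (h.dualR_ne_one hψ l1),
      inner_alphaF (h.dualL_ne_one hφ r1) (h.dualL_ne_one hφ' r2) (h.dualR_ne_one hψ l1)
        (h.dualR_ne_one hψ' l2)]
    have e1 : dualL φ = dualL φ' ↔ φ = φ' :=
      ⟨fun e => h.dual_ext e (r1.trans r2.symm), fun e => e ▸ rfl⟩
    have e2 : dualR ψ = dualR ψ' ↔ ψ = ψ' :=
      ⟨fun e => h.dual_ext (l1.trans l2.symm) e, fun e => e ▸ rfl⟩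
    simp only [e1, e2, true_and]
    ring

end Cfsg.Agent.S1505
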