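import Cfsg.Statements.S1507
import Cfsg.Agent.Base
import Cfsg.Agent.PF.CycBridge

set_option autoImplicit false
open Cfsg

namespace Cfsg.Agent.S1507

open Classical in
/-- Let W₁, W₂ ≤ G form a self-normalising cyclic subgroup W = W₁ ⊔ W₂ of odd order with Nat.card W₁ < Nat.card W₂, and χ an orthonormal family of irreducible characters of G up to sign, indexed by the linear characters ω of W, with χ_1 = 1, χ_ω = ω on W outside W₁ ∪ W₂, and the induction identity for (1 − φ)(1 − ψ). Let θ be a class function of G vanishing on W outside W₁ ∪ W₂, and suppose fewer than 2 · Nat.card W₁ linear characters ω of W have ⟨θ, χ ω⟩ ≠ 0. Then one of: all ⟨θ, χ ω⟩ vanish; or there are ψ₀ and a with ⟨θ, χ ω⟩ = a when ω ψ₀⁻¹ is trivial on W₂ and 0 otherwise; or there are φ₀ and a with ⟨θ, χ ω⟩ = a when ω φ₀⁻¹ is trivial on W₁ and 0 otherwise. -/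
theorem result {G : Type*} [Group G] [Fintype G] (W₁ W₂ : Subgroup G) (hW : Cfsg.IsSelfNormalizingCyclic W₁ W₂) (hodd : Odd (Nat.card ↥(W₁ ⊔ W₂))) (χ : (↥(W₁ ⊔ W₂) →* ℂˣ) → (G → ℂ)) (hχ : Cfsg.IsCyclicTIFamily W₁ W₂ χ) (hlt : Nat.card W₁ < Nat.card W₂) (θ : G → ℂ) (hθ : Cfsg.IsClassFunction G θ) (hθV : ∀ w : ↥(W₁ ⊔ W₂), (w : G) ∉ W₁ → (w : G) ∉ W₂ → θ w = 0) (hfew : Nat.card {ω : ↥(W₁ ⊔ W₂) →* ℂˣ // Cfsg.classInner θ (χ ω) ≠ 0} < 2 * Nat.card W₁) : (∀ ω, Cfsg.classInner θ (χ ω) = 0) ∨ (∃ (ψ₀ : ↥(W₁ ⊔ W₂) →* ℂˣ) (a : ℂ), ∀ ω, Cfsg.classInner θ (χ ω) = if (∀ w : ↥(W₁ ⊔ W₂), (w : G) ∈ W₂ → (ω * ψ₀⁻¹) w = 1) then a else 0) ∨ (∃ (φ₀ : ↥(W₁ ⊔ W₂) →* ℂˣ) (a : ℂ), ∀ ω, Cfsg.classInner θ (χ ω) = if (∀ w : ↥(W₁ ⊔ W₂), (w : G) ∈ W₁ → (ω * φ₀⁻¹) w = 1) then a else 0) := by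
  open CL.PF CL.Char in
  focus
    have hc := cycTI_subtype hW hodd
    have h := tiPair_subtype hW
    have hr := (h.etaFam_of_family hχ).rect hθ (h.vanish_of hθV)
    have hlt' : Nat.card W₁ + 2 ≤ Nat.card W₂ := by
      have := hc.card_cases
      omega
    have hq : ∀ a b : ↥(W₁ ⊔ W₂) →* ℂˣ, ∀ w, (a * b⁻¹) w = 1 ↔ a w = b w := fun a b w => by
      simp [mul_inv_eq_one]
    rcases hr.trichotomy (by rwa [hc.fintype_card_dual₁, hc.fintype_card_dual₂]) (by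
      rw [hc.fintype_card_dual₁]
      refine lt_of_eq_of_lt ?_ hfew
      exact (Nat.card_congr (h.dualEquiv.subtypeEquiv fun ω => by
        simp only [TIPair.dualEquiv, Equiv.coe_fn_mk, h.dualMk_dual])).symm)
      with h0 | ⟨j₀, a, h1, h2⟩ | ⟨i₀, a, h1, h2⟩
    · exact Or.inl fun ω => by simpa only [h.dualMk_dual] using h0 (dualL ω) (dualR ω)
    · refine Or.inr (Or.inl ⟨h.dualMk 1 j₀, a, fun ω => ?_⟩)
      simp only [hq, ← dualR_eq_iff, h.dualR_dualMk]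
      split_ifs with e
      · rw [← h1 (dualL ω), ← e, h.dualMk_dual]
      · simpa only [h.dualMk_dual] using h2 (dualL ω) _ e
    · refine Or.inr (Or.inr ⟨h.dualMk i₀ 1, a, fun ω => ?_⟩)
      simp only [hq, ← dualL_eq_iff, h.dualL_dualMk]
      split_ifs with e
      · rw [← h1 (dualR ω), ← e, h.dualMk_dual]
      · simpa only [h.dualMk_dual] using h2 _ (dualR ω) e

end Cfsg.Agent.S1507
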