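import Cfsg.Statements.S1508
import Cfsg.Agent.Base
import Cfsg.Agent.PF.CycBridge

set_option autoImplicit false
open Cfsg

namespace Cfsg.Agent.S1508

/-- Let W₁, W₂ ≤ G form a self-normalising cyclic subgroup W = W₁ ⊔ W₂ of odd order and χ an orthonormal family of irreducible characters of G up to sign, indexed by the linear characters ω of W, with χ_1 = 1, χ_ω = ω on W outside W₁ ∪ W₂, and the induction identity for (1 − φ)(1 − ψ). Let ω be a linear character of W and g an element of G whose order is coprime to the order of ω. Then χ ω g is an integer. -/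
theorem result {G : Type*} [Group G] [Fintype G] (W₁ W₂ : Subgroup G) (hW : Cfsg.IsSelfNormalizingCyclic W₁ W₂) (hodd : Odd (Nat.card ↥(W₁ ⊔ W₂))) (χ : (↥(W₁ ⊔ W₂) →* ℂˣ) → (G → ℂ)) (hχ : Cfsg.IsCyclicTIFamily W₁ W₂ χ) (ω : ↥(W₁ ⊔ W₂) →* ℂˣ) (g : G) (hg : Nat.Coprime (orderOf g) (orderOf ω)) : ∃ n : ℤ, χ ω g = n := by
  open CL.PF CL.Char in
  focus
    have hc := cycTI_subtype hW hodd
    have h := tiPair_subtype hW
    have e : χ ω = eta W₁.subtype W₂.subtype (dualL ω) (dualR ω) :=
      hc.eq_eta (hχ.irr_or_neg ω) _ _ fun x y hx hy => by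
        have := (h.etaFam_of_family hχ).apply_eq (dualL ω) (dualR ω) hx hy
        rwa [h.dualMk_dual] at this
    rw [e]
    refine hc.eta_int _ _ (Nat.Coprime.mul_right ?_ ?_)
    · refine hg.coprime_dvd_right (orderOf_dvd_of_pow_eq_one ?_)
      refine MonoidHom.ext fun x => ?_
      exact DFunLike.congr_fun (pow_orderOf_eq_one ω) (Subgroup.inclusion le_sup_left x)
    · refine hg.coprime_dvd_right (orderOf_dvd_of_pow_eq_one ?_)
      refine MonoidHom.ext fun x => ?_
      exact DFunLike.congr_fun (pow_orderOf_eq_one ω) (Subgroup.inclusion le_sup_right x)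

end Cfsg.Agent.S1508
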