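import Cfsg.Statements.S1511
import Cfsg.Agent.Base
import Cfsg.Agent.PF.CycBridge

set_option autoImplicit false
open Cfsg

namespace Cfsg.Agent.S1511

/-- Let L be a finite group with K normal with complement W₁ ≠ 1 a cyclic Hall subgroup, and W₂ ≠ 1 a cyclic subgroup of K equal to C_K(x) for every non-identity x ∈ W₁, with W₁W₂ of odd order. Then there are a map μ from the linear characters of W = W₁ ⊔ W₂ to irreducible characters of L, injective, and a sign δ(ω) ∈ {1, −1} depending only on the values of ω on W₂, such that: for ω, ω' agreeing on W₂, the function induced to L from ω − ω' equals δ(ω) • (μ ω − μ ω'); μ ω x = δ(ω) ω x for x ∈ W outside W₂; every irreducible character of L not of the form μ ω vanishes on W outside W₂; and μ ω 1 − δ(ω) is an integer multiple of Nat.card W₁. -/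
theorem result {L : Type*} [Group L] [Fintype L] (K W₁ W₂ : Subgroup L) [hK : K.Normal] (hKW₁ : K ⊓ W₁ = ⊥) (hKW₁' : K ⊔ W₁ = ⊤) (hW₁ : W₁ ≠ ⊥) (hW₁c : IsCyclic W₁) (hHall : Nat.Coprime (Nat.card W₁) W₁.index) (hW₂ : W₂ ≠ ⊥) (hW₂c : IsCyclic W₂) (hW₂K : W₂ ≤ K) (hC : ∀ x ∈ W₁, x ≠ 1 → K ⊓ Subgroup.centralizer ({x} : Set L) = W₂) (hodd : Odd (Nat.card ↥(W₁ ⊔ W₂))) : ∃ (μ : (↥(W₁ ⊔ W₂) →* ℂˣ) → (L → ℂ)) (δ : (↥(W₁ ⊔ W₂) →* ℂˣ) → ℂ), Function.Injective μ ∧ (∀ ω, Cfsg.IsIrrCharacter L (μ ω)) ∧ (∀ ω, δ ω = 1 ∨ δ ω = -1) ∧ (∀ ω ω' : ↥(W₁ ⊔ W₂) →* ℂˣ, (∀ w : ↥(W₁ ⊔ W₂), (w : L) ∈ W₂ → ω w = ω' w) → δ ω = δ ω' ∧ Cfsg.indFun (W₁ ⊔ W₂) (fun w => (ω w : ℂ) - (ω' w : ℂ)) = δ ω • (μ ω - μ ω')) ∧ (∀ ω, ∀ w : ↥(W₁ ⊔ W₂), (w : L) ∉ W₂ → μ ω w = δ ω * (ω w : ℂ)) ∧ (∀ θ : L → ℂ, Cfsg.IsIrrCharacter L θ → (∀ ω, θ ≠ μ ω) → ∀ w : ↥(W₁ ⊔ W₂), (w : L) ∉ W₂ → θ w = 0) ∧ (∀ ω, ∃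 n : ℤ, μ ω 1 - δ ω = n * (Nat.card W₁ : ℂ)) := by
  open CL.PF CL.Char in
  focus
    have hp := primeTI_subtype hK hKW₁ hKW₁' hW₁ hW₁c hHall hW₂ hW₂c hW₂K hC hodd
    have h := hp.tiPair
    refine ⟨fun ω => mu W₁.subtype W₂.subtype (dualL ω) (dualR ω),
      fun ω => delta W₁.subtype W₂.subtype (dualR ω), fun ω ω' e => ?_, fun ω => hp.mu_irr _ _,
      fun ω => delta_cast_eq _, fun ω ω' e => ?_, fun ω w hw => ?_, fun θ hθ hne w hw => ?_,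
      fun ω => ?_⟩
    · exact h.dual_ext (hp.mu_inj e).1 (hp.mu_inj e).2
    · have e' := dualR_eq_iff.2 e
      refine ⟨by simp only [e'], ?_⟩
      simp only [← e', smul_sub, ← eta_eq_delta_smul_mu]
      rw [← hp.indHom_omega_sub, h.indFun_eq_indHom]
      congr 1
      funext p
      simp only [h.apply_wEquiv, e', omegaF, Pi.sub_apply, Units.val_mul]
    · obtain ⟨p, rfl⟩ := h.wEquiv.surjective w
      rw [h.apply_wEquiv, Units.val_mul]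
      exact hp.mu_apply _ _ (mt h.wEquiv_mem₂.2 hw) p.2
    · obtain ⟨p, rfl⟩ := h.wEquiv.surjective w
      refine hp.irr_eq_zero hθ (fun i j e => hne (h.dualMk i j) ?_)
        (mt hp.mul_mem_iff.1 (mt h.wEquiv_mem₂.2 hw))
      simp only [h.dualL_dualMk, h.dualR_dualMk, e]
    · obtain ⟨n, hn⟩ := hp.mu_apply_one_modEq (dualL ω) (dualR ω)
      exact ⟨n, by simp only [hn]; ring⟩

end Cfsg.Agent.S1511
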