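import Cfsg.Statements.S1513
import Cfsg.Agent.Base
import Cfsg.Agent.PF.CycBridge

set_option autoImplicit false
open Cfsg

namespace Cfsg.Agent.S1513

/-- Let L be a finite group with K normal with complement W₁ ≠ 1 a cyclic Hall subgroup, and W₂ ≠ 1 a cyclic subgroup of K equal to C_K(x) for every non-identity x ∈ W₁, with W₁W₂ of odd order. For an irreducible character θ of K: if θ is not fixed under conjugation by some element of W₁, then the function induced from θ to L is an irreducible character of L; and the irreducible characters of K fixed by all of W₁ are exactly Nat.card W₂ in number, each inducing to the sum of Nat.card W₁ pairwise distinct irreducible characters of L. -/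
theorem result {L : Type*} [Group L] [Fintype L] (K W₁ W₂ : Subgroup L) [hK : K.Normal] (hKW₁ : K ⊓ W₁ = ⊥) (hKW₁' : K ⊔ W₁ = ⊤) (hW₁ : W₁ ≠ ⊥) (hW₁c : IsCyclic W₁) (hHall : Nat.Coprime (Nat.card W₁) W₁.index) (hW₂ : W₂ ≠ ⊥) (hW₂c : IsCyclic W₂) (hW₂K : W₂ ≤ K) (hC : ∀ x ∈ W₁, x ≠ 1 → K ⊓ Subgroup.centralizer ({x} : Set L) = W₂) (hodd : Odd (Nat.card ↥(W₁ ⊔ W₂))) : (∀ θ : K → ℂ, Cfsg.IsIrrCharacter K θ → (∃ x ∈ W₁, (fun k : K => θ ⟨x * k * x⁻¹, hK.conj_mem (k : L) k.2 x⟩) ≠ θ) → Cfsg.IsIrrCharacter L (Cfsg.indFun K θ)) ∧ Nat.card {θ : Cfsg.IrrCharacter K // ∀ x ∈ W₁, (fun k : K => (θ : K → ℂ) ⟨x * k * x⁻¹, hK.conj_mem (k : L) k.2 x⟩) = θ} = Nat.card W₂ ∧ (∀ θ : K → ℂ, Cfsg.IsIrrCharacter K θ → (∀ x ∈ W₁, (fun k : K => θ ⟨x * k * x⁻¹, hK.conj_mem (k : L) k.2 x⟩) = θ) → ∃ C : Finset (L → ℂ), C.card = Nat.card W₁ ∧ (∀ μ ∈ C, Cfsg.IsIrrCharacter L μ) ∧ Cfsg.indFun K θ = ∑ μ ∈ C, μ) := by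
  open CL.PF CL.Char in
  focus
    classical
    have hp := primeTI_subtype hK hKW₁ hKW₁' hW₁ hW₁c hHall hW₂ hW₂c hW₂K hC hodd
    have key : ∀ θ : K → ℂ, IsIrrCharacter K θ →
        ((∀ x ∈ W₁, (fun k : K => θ ⟨x * k * x⁻¹, hK.conj_mem (k : L) k.2 x⟩) = θ) ↔
          ∃ j, θ = chiRes K W₁.subtype W₂.subtype j) := fun θ hθ => by
      rw [hp.exists_eq_chiRes_iff hθ]
      exact ⟨fun e x k => congrFun (e x x.2) k, fun e x hx => funext (e ⟨x, hx⟩)⟩
    refine ⟨fun θ hθ ⟨x, hx, hne⟩ => hp.irr_indFun hθ fun j e =>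
      hne ((key θ hθ).2 ⟨j, e⟩ x hx), ?_, fun θ hθ hfix => ?_⟩
    · rw [← hp.cycTI.card_dual₂]
      symm
      refine Nat.card_eq_of_bijective (fun j => ⟨⟨_, hp.chiRes_irr j⟩,
        (key _ (hp.chiRes_irr j)).2 ⟨j, rfl⟩⟩) ⟨fun j k e => ?_, fun θ => ?_⟩
      · exact hp.chiRes_inj (congrArg (fun t => (t.1 : K → ℂ)) e)
      · obtain ⟨j, hj⟩ := (key _ θ.1.2).1 θ.2
        exact ⟨j, Subtype.ext (Subtype.ext hj.symm)⟩
    · obtain ⟨j, rfl⟩ := (key θ hθ).1 hfix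
      have inj : Function.Injective fun i => mu W₁.subtype W₂.subtype i j :=
        fun i i' e => (hp.mu_inj e).1
      refine ⟨Finset.univ.image fun i => mu W₁.subtype W₂.subtype i j, ?_, fun μ hμ => ?_, ?_⟩
      · rw [Finset.card_image_of_injective _ inj, Finset.card_univ, hp.cycTI.fintype_card_dual₁]
      · obtain ⟨i, -, rfl⟩ := Finset.mem_image.1 hμ
        exact hp.mu_irr i j
      · rw [Finset.sum_image inj.injOn, hp.indFun_chiRes, muCol]

end Cfsg.Agent.S1513
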