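import Cfsg.Agent.Base
import Cfsg.Statements.S1527
import Cfsg.Agent.PF.TICount

set_option autoImplicit false
open Cfsg

namespace Cfsg.Agent.S1527

open CL.PF

/-- Let G be a finite group and H i (i in a finite index type) subgroups of pairwise coprime orders, each of whose underlying sets is a TI-subset of G, such that every non-identity element of G is conjugate to an element of some H i. Then Nat.card G − 1 = Σ_i [G : N_G(H i)] · (Nat.card (H i) − 1). -/
theorem result {G : Type*} [Group G] [Finite G] {ι : Type*} [Fintype ι] (H : ι → Subgroup G) (hcop : ∀ i j, i ≠ j → Nat.Coprime (Nat.card (H i)) (Nat.card (H j))) (hTI : ∀ i, Cfsg.IsTISubset (H i : Set G)) (hcover : ∀ g : G, g ≠ 1 → ∃ i, ∃ x : G, x * g * x⁻¹ ∈ H i) : Nat.card G - 1 = ∑ i, (Subgroup.normalizer (H i : Set G)).index * (Nat.card (H i) - 1) := by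
  classical
  have := Fintype.ofFinite G
  have h1 : ∀ i, (Subgroup.normalizer (H i : Set G)).index * (Nat.card (H i) - 1) =
      (Finset.univ.filter (· ∈ conjSupport ((H i : Set G) \ {1}))).card := by
    intro i
    obtain ⟨ha, hb⟩ := TI_sharp_of_isTISubset (hTI i)
    rw [← ncard_sharp, ← ncard_conjSupport_TI ha hb, Set.ncard_eq_toFinset_card']
    congr 1; ext; simp
  rw [Finset.sum_congr rfl fun i _ => h1 i, ← Finset.card_biUnion]
  · rw [Nat.card_eq_fintype_card, ← Finset.card_univ, ← Finset.card_erase_of_mem (Finset.mem_univ (1 : G))]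
    congr 1
    ext g
    simp only [Finset.mem_erase, ne_eq, Finset.mem_univ, and_true, Finset.mem_biUnion,
      Finset.mem_filter, true_and]
    constructor
    · intro hg
      obtain ⟨i, x, hx⟩ := hcover g hg
      exact ⟨i, x, hx, by simpa using hg⟩
    · rintro ⟨i, x, hx⟩ rfl
      exact hx.2 (by simp)
  · intro i _ j _ hij
    rw [Function.onFun, Finset.disjoint_left]
    intro g hi hj
    simp only [Finset.mem_filter, Finset.mem_univ, true_and] at hi hj
    obtain ⟨x, hx⟩ := hi
    obtain ⟨y, hy⟩ := hj
    have h2 : orderOf g ∣ Nat.card (H i) := by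
      have := Subgroup.orderOf_dvd_natCard (H i) hx.1
      rwa [show x * g * x⁻¹ = MulAut.conj x g from rfl, MulEquiv.orderOf_eq] at this
    have h3 : orderOf g ∣ Nat.card (H j) := by
      have := Subgroup.orderOf_dvd_natCard (H j) hy.1
      rwa [show y * g * y⁻¹ = MulAut.conj y g from rfl, MulEquiv.orderOf_eq] at this
    have h4 : orderOf g = 1 := Nat.eq_one_of_dvd_coprimes (hcop i j hij) h2 h3
    apply hx.2
    rw [orderOf_eq_one_iff.mp h4]; simp

end Cfsg.Agent.S1527
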