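import Cfsg.Statements.S1531
import Cfsg.Agent.Base
import Cfsg.Agent.PF.CohIrr

set_option autoImplicit false
open Cfsg CL.Char CL.PF

namespace Cfsg.Agent.S1531

/-- Let N be a subgroup of the finite group G, S a set of irreducible characters of N, and α a linear isometry on the integer combinations of S vanishing at 1 with values virtual characters of G vanishing at 1. Let X, Y ⊆ S be disjoint, each with at least two members, and σ, τ linear isometries on ℤ[X], ℤ[Y] into virtual characters agreeing with α on the members vanishing at 1. Then ⟨σ χ, τ η⟩ = 0 for χ ∈ X, η ∈ Y; and if for some χ₀ ∈ X, η₀ ∈ Y with degrees c = χ₀ 1, e = η₀ 1 one has α (c • η₀ − e • χ₀) = c • τ η₀ − e • σ χ₀, then (X ∪ Y, N minus 1, α) is coherent. -/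
theorem result {G : Type*} [Group G] [Fintype G] (N : Subgroup G) [Fintype N] (S X Y : Set (N → ℂ)) (hirr : ∀ ξ ∈ S, Cfsg.IsIrrCharacter N ξ) (hXS : X ⊆ S) (hYS : Y ⊆ S) (hXY : Disjoint X Y) (hX2 : ∃ a ∈ X, ∃ b ∈ X, a ≠ b) (hY2 : ∃ a ∈ Y, ∃ b ∈ Y, a ≠ b) (α : (N → ℂ) → (G → ℂ)) (hα : Cfsg.IsLinearIsometryOn (Cfsg.zspanOn S {1}ᶜ) α) (hα1 : ∀ θ ∈ Cfsg.zspanOn S {1}ᶜ, α θ 1 = 0) (σ τ : (N → ℂ) → (G → ℂ)) (hσ : Cfsg.IsLinearIsometryOn (Cfsg.zspan X) σ) (hσα : ∀ θ ∈ Cfsg.zspanOn X {1}ᶜ, σ θ = α θ) (hτ : Cfsg.IsLinearIsometryOn (Cfsg.zspan Y) τ) (hτα : ∀ θ ∈ Cfsg.zspanOn Y {1}ᶜ, τ θ = α θ) : (∀ χ ∈ X, ∀ η ∈ Y, Cfsg.classInner (σ χ) (τ η) = 0) ∧ ((∃ χ₀ ∈ X, ∃ η₀ ∈ Y, α (χ₀ 1 • η₀ - η₀ 1 • χ₀) = χ₀ 1 • τ η₀ - η₀ 1 • σ χ₀) → Cfsg.IsCoherent (X ∪ Y) {1}ᶜ α) := by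
  have h1 : CoherentWith X α σ := ⟨hσ, hσα⟩
  have h2 : CoherentWith Y α τ := ⟨hτ, hτα⟩
  have hne : ∀ χ ∈ X, ∀ η ∈ Y, χ ≠ η := fun χ hχ η hη e =>
    Set.disjoint_left.mp hXY hχ (e ▸ hη)
  have key : ∀ χ ∈ X, ∀ η ∈ Y, classInner (σ χ) (τ η) = 0 := by
    intro χ hχ η hη
    obtain ⟨χ', hχ', n1⟩ : ∃ χ' ∈ X, χ ≠ χ' := by
      obtain ⟨a, ha, b, hb, hab⟩ := hX2
      by_cases h : χ = a
      exacts [⟨b, hb, h ▸ hab⟩, ⟨a, ha, h⟩]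
    obtain ⟨η', hη', n2⟩ : ∃ η' ∈ Y, η ≠ η' := by
      obtain ⟨a, ha, b, hb, hab⟩ := hY2
      by_cases h : η = a
      exacts [⟨b, hb, h ▸ hab⟩, ⟨a, ha, h⟩]
    exact irr_coherent_ortho hα hα1 hXS hYS h1 h2 hχ hχ' hη hη' (hirr _ (hXS hχ))
      (hirr _ (hXS hχ')) (hirr _ (hYS hη)) (hirr _ (hYS hη')) n1 n2 (hne _ hχ _ hη)
      (hne _ hχ _ hη') (hne _ hχ' _ hη) (hne _ hχ' _ hη')
  refine ⟨key, fun ⟨χ₀, hχ₀, η₀, hη₀, hb⟩ => ?_⟩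
  obtain ⟨a, ha, ha'⟩ := irr_apply_one (hirr _ (hXS hχ₀))
  obtain ⟨b, hb0, hb'⟩ := irr_apply_one (hirr _ (hYS hη₀))
  rw [ha', hb'] at hb
  have hα' := iso_mono hα (zspanOn_mono (Set.union_subset hYS hXS))
  obtain ⟨ν, hν, -⟩ := glue_coherentWith hα'
    (fun χ hχ => gen_apply_one (gen_of_irr (hirr _ (hYS hχ)))) h2 h1
    (fun η hη χ hχ => by
      rw [classInner_eq_zero_comm.mp (key χ hχ η hη),
        irr_inner_of_ne (hirr _ (hYS hη)) (hirr _ (hXS hχ)) (hne _ hχ _ hη).symm])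
    (zc_natCast_smul a (mem_zspan hη₀)) (zc_natCast_smul b (mem_zspan hχ₀))
    (by simp [ha', hb', mul_comm]) (by simp [hb', ha.ne', hb0.ne'])
    (by rw [hb, iso_natCast_smul hτ a (mem_zspan hη₀), iso_natCast_smul hσ b (mem_zspan hχ₀)])
  rw [Set.union_comm]
  exact hν.isCoherent (exists_ne_zero_of_two_irr (Or.inl hη₀) (Or.inr hχ₀) (hirr _ (hYS hη₀))
    (hirr _ (hXS hχ₀)) (hne _ hχ₀ _ hη₀).symm)

end Cfsg.Agent.S1531
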