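import Cfsg.Statements.S1532
import Cfsg.Agent.Base
import Cfsg.Agent.PF.Feit

set_option autoImplicit false
open Cfsg

namespace Cfsg.Agent.S1532

/-- Let G be a finite group, p an odd prime and P a Sylow p-subgroup that is non-abelian, whose underlying set is a TI-subset of G, with P properly contained in its set normaliser N and C_G(x) ≤ P for every non-identity x ∈ P. Let Z be a nontrivial subgroup of the centre of P normalised by N. Then the set of irreducible characters χ of N with χ z ≠ χ 1 for some z ∈ Z is coherent for the map induced by induction from N to G. -/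
theorem result {G : Type*} [Group G] [Fintype G] (p : ℕ) [Fact p.Prime] (hp : p ≠ 2) (P : Sylow p G) (hna : ¬ IsMulCommutative (P : Subgroup G)) (hTI : Cfsg.IsTISubset ((P : Subgroup G) : Set G)) (hlt : (P : Subgroup G) < Subgroup.normalizer ((P : Subgroup G) : Set G)) (hC : ∀ k ∈ (P : Subgroup G), k ≠ 1 → Subgroup.centralizer ({k} : Set G) ≤ (P : Subgroup G)) [Fintype ↥(Subgroup.normalizer ((P : Subgroup G) : Set G))] (Z : Subgroup G) (hZ1 : Z ≠ ⊥) (hZP : ∀ z ∈ Z, z ∈ (P : Subgroup G) ∧ ∀ y ∈ (P : Subgroup G), z * y = y * z) (hZn : ∀ x ∈ Subgroup.normalizer ((P : Subgroup G) : Set G), ∀ z ∈ Z, x * z * x⁻¹ ∈ Z) : Cfsg.IsCoherent {χ : ↥(Subgroup.normalizer ((P : Subgroup G) : Set G)) → ℂ | Cfsg.IsIrrCharacter ↥(Subgroup.normalizer ((P : Subgroup G) : Set G)) χ ∧ ∃ z : ↥(Subgroup.normalizer ((P : Subgroup G) : Set G)), (z : G) ∈ Z ∧ χ z ≠ χ 1} {1}ᶜ (fun α => Cfsg.indFun (Subgroup.normalizer ((P : Subgroup G) : Set G)) α) := by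
  have hle : (P : Subgroup G) ≤ Subgroup.normalizer ((P : Subgroup G) : Set G) := hlt.le
  have h := CL.PF.tiNormal_subgroupOf hle hTI rfl
  have hF := CL.PF.fpfMod_subgroupOf (L := Subgroup.normalizer ((P : Subgroup G) : Set G)) hC
  have := h.normal
  have hZ : (Z.subgroupOf (Subgroup.normalizer ((P : Subgroup G) : Set G))).Normal :=
    ⟨fun z hz g => hZn g g.2 z hz⟩
  have hZH : Z.subgroupOf (Subgroup.normalizer ((P : Subgroup G) : Set G)) ≤
      (P : Subgroup G).subgroupOf _ := fun z hz => (hZP z hz).1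
  have key := h.coherent_central hF (Fact.out : p.Prime) hp
    (P.isPGroup'.of_equiv (Subgroup.subgroupOfEquivOfLe hle).symm)
    (fun hc => hna ⟨⟨fun a b => Subtype.ext (congrArg (fun x => ((x.1 : Subgroup.normalizer _) : G))
      (hc.is_comm.comm ⟨⟨a, hle a.2⟩, a.2⟩ ⟨⟨b, hle b.2⟩, b.2⟩))⟩⟩)
    (fun h0 => hZ1 (eq_bot_iff.2 fun z hz => by
      have : (⟨z, hle (hZP z hz).1⟩ : Subgroup.normalizer ((P : Subgroup G) : Set G)) ∈
          Z.subgroupOf _ := hz
      rw [h0, Subgroup.mem_bot] at this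
      exact (Subgroup.mem_bot).2 (congrArg Subtype.val this)))
    hZH (fun z hz k hk => Subtype.ext ((hZP z hz).2 k hk))
  rw [hF.seqIndD_eq' hZH] at key
  exact key

end Cfsg.Agent.S1532
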