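import Cfsg.Statements.S1551
import Cfsg.Agent.Base
import Cfsg.Agent.M24S.Sextet

set_option autoImplicit false
open scoped Pointwise
open Cfsg

namespace Cfsg.Agent.S1551
open CL.Golay CL.M24S Finset

/-- the tetrads of the standard sextet -/
def ym : List ℕ := [147496, 268544, 1082880, 2621632, 4268048, 8388615]

/-- lifts of the adjacent transpositions -/
def lf : Fin 5 → ℕ := ![17671304813783941225027647845238839, 21550310477331270802334229358741218,
  104238447789628355293612904213021409, 108652131099792273362221873180541975,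
  542086993551906272381398020577083542]

/-- generators of the kernel on the tetrads -/
def gK : List ℕ := [47608177535463599580242061265668119, 104156091331014642415949135445690080,
  28826665701071936886111872293045335, 104101027238228805653690046702214145]

theorem unp_cS : unp 6 cS = ym := by decide +kernel

theorem lift0 (q : Equiv.Perm (Fin 6)) :
    ∃ h : M24, ∀ a : Fin 6, h • ofMask (ym.getD a 0) = ofMask (ym.getD (q a) 0) := by
  refine forall_perm_of_adjacent (compat M24 (Equiv.Perm (Fin 6))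
    fun a : Fin 6 => ofMask (ym.getD a 0)) (fun i => ?_) q
  have h1 : ∀ i, isM24 (lf i) = true ∧ ∀ a : Fin 6, act (lf i) (ym.getD a 0) =
      ym.getD (Equiv.swap i.castSucc i.succ a) 0 := by decide +kernel
  refine ⟨⟨_, toPerm_mem_M24 (h1 i).1⟩, fun a => ?_⟩
  rw [M24_smul_def, (rep_of_isM24 (h1 i).1).smul_ofMask, (h1 i).2]; rfl

theorem part1 {S : Finset (Finset GolayPt)} (hS : S ∈ sextets) (e : Equiv.Perm S) :
    ∃ g ∈ MulAction.stabilizer M24 S, ∀ t : S,
      (g : Equiv.Perm GolayPt) • (t : Finset GolayPt) = ((e t : S) : Finset GolayPt) := by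
  obtain ⟨g, rfl⟩ := exists_smul_S0' hS
  refine induces_all (fun a : Fin 6 => g • ofMask (ym.getD a 0)) (fun a b h => ?_) (fun s => ?_)
    (fun q => ?_) e
  · have h1 : ∀ a : Fin 6, ym.getD a 0 < 2 ^ 24 := by decide +kernel
    have h2 : ∀ a b : Fin 6, ym.getD a 0 = ym.getD b 0 → a = b := by decide +kernel
    exact h2 a b ((ofMask_inj (h1 a) (h1 b)).1 (MulAction.injective g h))
  · rw [mem_smul_finset]
    simp only [mem_dec, unp_cS]
    constructor
    · rintro ⟨_, ⟨m, hm, rfl⟩, rfl⟩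
      have h1 : ∀ m ∈ ym, ∃ a : Fin 6, ym.getD a 0 = m := by decide +kernel
      obtain ⟨a, rfl⟩ := h1 m hm
      exact ⟨a, rfl⟩
    · rintro ⟨a, rfl⟩
      exact ⟨_, ⟨_, by revert a; decide +kernel, rfl⟩, rfl⟩
  · obtain ⟨h, hh⟩ := lift0 q
    exact ⟨g * h * g⁻¹, fun a => by simp only [mul_smul, inv_smul_smul, hh]⟩

/-- the action of the stabiliser on the family -/
def famHom (S : Finset (Finset GolayPt)) : MulAction.stabilizer M24 S →* Equiv.Perm S where
  toFun g := (MulAction.toPerm g.1).subtypePerm fun t => by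
    have h := smul_mem_smul_finset_iff (s := S) (b := t) g.1
    rwa [MulAction.mem_stabilizer_iff.1 g.2] at h
  map_one' := Equiv.ext fun t => Subtype.ext (one_smul M24 t.1)
  map_mul' a b := Equiv.ext fun t => Subtype.ext (mul_smul a.1 b.1 t.1)

theorem part2 {S : Finset (Finset GolayPt)} (hS : S ∈ sextets) :
    Nat.card {g : ↥(MulAction.stabilizer M24 S) //
      ∀ t ∈ S, ((g : M24) : Equiv.Perm GolayPt) • t = t} = 192 := by
  have h1 := (famHom S).ker.card_mul_index
  have h2 : (famHom S).range = ⊤ := MonoidHom.range_eq_top.2 fun e => by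
    obtain ⟨g, hg, h⟩ := part1 hS e
    exact ⟨⟨g, hg⟩, Equiv.ext fun t => Subtype.ext (h t)⟩
  rw [Subgroup.index_ker, h2, Subgroup.card_top, Nat.card_perm, Nat.card_eq_fintype_card (α := S),
    Fintype.card_coe, hS.1, card_stab_sextet hS] at h1
  have h3 : Nat.card (famHom S).ker = 192 := by
    rw [show Nat.factorial 6 = 720 from rfl] at h1; omega
  rw [← h3]
  exact Nat.card_congr (Equiv.subtypeEquivRight fun g =>
    ⟨fun h => Equiv.ext fun t => Subtype.ext (h t t.2),
      fun h t ht => congrArg Subtype.val (Equiv.congr_fun h ⟨t, ht⟩)⟩)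

theorem mem_K {g : Equiv.Perm GolayPt} :
    g ∈ CL.Chain.fix M24 (ym.map ofMask) ↔ g ∈ M24 ∧ ∀ t ∈ dec 6 cS, g • t = t := by
  rw [forall_dec, unp_cS, CL.Chain.mem_fix, List.forall_mem_map]

theorem stab_of_K {g : Equiv.Perm GolayPt} (h : ∀ t ∈ dec 6 cS, g • t = t) :
    g • dec 6 cS = dec 6 cS := by
  apply eq_of_subset_of_card_le _ (card_smul_finset g _).ge
  intro s hs
  obtain ⟨t, ht, rfl⟩ := mem_smul_finset.1 hs
  rwa [h t ht]

theorem card_K : Nat.card (CL.Chain.fix M24 (ym.map ofMask)) ≤ 192 := by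
  rw [← part2 S0_mem]
  exact Nat.card_le_card_of_injective
    (fun g => ⟨⟨⟨g.1, g.2.1⟩, stab_of_K (mem_K.1 g.2).2⟩, (mem_K.1 g.2).2⟩)
    fun a b h => Subtype.ext (congrArg (fun z => z.1.1.1) h)

theorem good : GensIn (CL.Chain.fix M24 (ym.map ofMask)) gK := gensIn_fix (by decide +kernel)

theorem enum : orbCount mulP gK 192 idP (fun _ => true) 192 = true := by decide +kernel

/-- the test `x * x = 1` -/
noncomputable def sq1 (x : ℕ) : Bool := Nat.beq (mulP x x) idP

theorem sq1_iff (σ : Equiv.Perm GolayPt) : sq1 (codeP σ) = true ↔ σ * σ = 1 := by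
  rw [sq1, Nat.beq_eq, codeP_mul, codeP_eq_idP]

attribute [local irreducible] codeP mulP idP sq1

theorem closed : CL.M24S.allL (fun x => CL.M24S.allL (fun y => force (mulP x y) sq1) (filL sq1 (elts gK 192)))
    (filL sq1 (elts gK 192)) = true := by decide +kernel

/-- the normal subgroup of order 64 -/
noncomputable def N0 : Subgroup (MulAction.stabilizer M24 (dec 6 cS)) where
  carrier := {g | g.1.1 ∈ CL.Chain.fix M24 (ym.map ofMask) ∧ g.1.1 * g.1.1 = 1}
  one_mem' := ⟨one_mem _, mul_one _⟩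
  mul_mem' := fun {a b} ha hb => ⟨mul_mem ha.1 hb.1, by
    have h := CL.M24S.allL_iff.1 (CL.M24S.allL_iff.1 closed _
      (mem_filL.2 ⟨mem_elts good enum card_K ha.1, (sq1_iff _).2 ha.2⟩)) _
      (mem_filL.2 ⟨mem_elts good enum card_K hb.1, (sq1_iff _).2 hb.2⟩)
    rwa [force_eq, codeP_mul, sq1_iff] at h⟩
  inv_mem' := fun {a} ha => ⟨inv_mem ha.1, by
    have := congrArg Inv.inv ha.2
    rwa [mul_inv_rev, inv_one] at this⟩

theorem N0_normal : N0.Normal := ⟨fun n hn g => ⟨mem_K.2 ⟨(g * n * g⁻¹).1.2, fun t ht => by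
    have h1 : g.1⁻¹ • t ∈ dec 6 cS := by
      have h := smul_mem_smul_finset (a := g.1⁻¹) ht
      rwa [show g.1⁻¹ • dec 6 cS = dec 6 cS from g⁻¹.2] at h
    change (g.1 * n.1 * g.1⁻¹) • t = t
    rw [mul_smul, mul_smul, show n.1 • g.1⁻¹ • t = g.1⁻¹ • t from (mem_K.1 hn.1).2 _ h1,
      smul_inv_smul]⟩, by
    have := hn.2
    change g.1.1 * n.1.1 * g.1.1⁻¹ * (g.1.1 * n.1.1 * g.1.1⁻¹) = 1
    rw [conj_mul, this, mul_one, mul_inv_cancel]⟩⟩

theorem card_N0 : Nat.card N0 = 64 := by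
  have h := ncard_of_enum good enum card_K (f := sq1)
    (S := {σ | σ ∈ CL.Chain.fix M24 (ym.map ofMask) ∧ σ * σ = 1}) fun σ => by
      rw [sq1_iff]; rfl
  rw [show CL.M24S.cntL sq1 (elts gK 192) = 64 by decide +kernel] at h
  rw [← h, ← Nat.card_coe_set_eq]
  exact Nat.card_congr ⟨fun g => ⟨g.1.1.1, g.2⟩,
    fun g => ⟨⟨⟨g.1, g.2.1.1⟩, stab_of_K (mem_K.1 g.2.1).2⟩, g.2⟩, fun _ => rfl, fun _ => rfl⟩

/-- Structure of a sextet stabiliser: it induces every permutation of the six tetrads, the subgroup fixing each tetrad setwise has order 192, and there is a normal subgroup of order 64 consisting of elements squaring to the identity. -/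
theorem result (S : Finset (Finset Cfsg.GolayPt)) (hS : S ∈ Cfsg.sextets) : (∀ e : Equiv.Perm ↥S, ∃ g ∈ MulAction.stabilizer Cfsg.M24 S, ∀ t : ↥S, (g : Equiv.Perm Cfsg.GolayPt) • (t : Finset Cfsg.GolayPt) = ((e t : ↥S) : Finset Cfsg.GolayPt)) ∧ Nat.card {g : ↥(MulAction.stabilizer Cfsg.M24 S) // ∀ t ∈ S, ((g : Cfsg.M24) : Equiv.Perm Cfsg.GolayPt) • t = t} = 192 ∧ ∃ N : Subgroup ↥(MulAction.stabilizer Cfsg.M24 S), N.Normal ∧ Nat.card N = 64 ∧ ∀ x ∈ N, x * x = 1 := by
  refine ⟨part1 hS, part2 hS, ?_⟩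
  obtain ⟨g, rfl⟩ := exists_smul_S0' hS
  let e := CL.Chain.equivOfConj _ _ g (mem_stabilizer_conj g (dec 6 cS))
  refine ⟨N0.map e.toMonoidHom, N0_normal.map _ e.surjective,
    (Subgroup.card_map_of_injective e.injective).trans card_N0, ?_⟩
  rintro _ ⟨x, hx, rfl⟩
  rw [← map_mul, show x * x = 1 from Subtype.ext (Subtype.ext hx.2), map_one]

end Cfsg.Agent.S1551
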