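import Cfsg.Statements.S1552
import Cfsg.Agent.Base
import Cfsg.Agent.M24S.Sextet

set_option autoImplicit false
open scoped Pointwise
open Cfsg

namespace Cfsg.Agent.S1552
open CL.Golay CL.M24S Finset

/-- generators of the stabiliser -/
def gens : List ℕ := [219402484113217564051883884039212590, 504427619144404192881581671929880946]

/-- orbit representatives -/
def rp : Fin 4 → ℕ := ![cS, 11150427435294991104236103652999386573717510, 11150387722154438044499046504969320890639680, 11150406163585501068896520124106678678553600]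

/-- orbit lengths -/
def ln : Fin 4 → ℕ := ![1, 90, 240, 1440]

theorem good : GensIn ((MulAction.stabilizer M24 (dec 6 cS)).map M24.subtype) gens :=
  gensIn_map ((gensIn_M24 (by decide +kernel)).stabS (k := 6) (c := cS) (by decide +kernel))
    fun _ h => ⟨h.1, h.2⟩

theorem can : ∀ i, canon 6 (rp i) = true := by decide +kernel

theorem mem (i : Fin 4) : dec 6 (rp i) ∈ sextets := dec_mem_sextets (can i) (by revert i; decide +kernel)

theorem lb : ∀ i, orbGe (actS 6) gens (ln i) (rp i) (canon 6) (ln i) = true := by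
  decide +kernel

theorem std : (∀ i j, dec 6 (rp j) ∈ MulAction.orbit (MulAction.stabilizer M24 (dec 6 cS))
      (dec 6 (rp i)) → i = j) ∧
    (∀ i, (MulAction.orbit (MulAction.stabilizer M24 (dec 6 cS)) (dec 6 (rp i))).ncard = ln i) ∧
    sextets = ⋃ i, MulAction.orbit (MulAction.stabilizer M24 (dec 6 cS)) (dec 6 (rp i)) :=
  suborbits good canon_cS (fun _ h => h) (Ω := sextets)
  (fun g _ _ hX => smul_mem_sextets g.2 hX) rp ln mem can lb (by decide +kernel)
  (by rw [ncard_sextets]; decide +kernel)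

theorem coat : IsCoatom (MulAction.stabilizer M24 (dec 6 cS)) := by
  refine isCoatom_of_orbits _ (fun i => dec 6 (rp i)) ln (by rw [orbit_sextet S0_mem]; exact std.2.2)
    std.2.1 std.1 0 rfl ?_ (by decide +kernel)
  obtain ⟨g, hg⟩ := exists_smul_S0' (mem 1)
  exact ⟨g, fun h => absurd (dec_inj (can 1) canon_cS (hg.symm.trans h)) (by decide +kernel)⟩

/-- A sextet stabiliser has four orbits on the 1771 sextets, of sizes 1, 90, 240, 1440; and the stabiliser is a maximal proper subgroup. -/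
theorem result (S : Finset (Finset Cfsg.GolayPt)) (hS : S ∈ Cfsg.sextets) : ∃ X₁ ∈ Cfsg.sextets, ∃ X₂ ∈ Cfsg.sextets, ∃ X₃ ∈ Cfsg.sextets, (MulAction.orbit ↥(MulAction.stabilizer Cfsg.M24 S) X₁).ncard = 90 ∧ (MulAction.orbit ↥(MulAction.stabilizer Cfsg.M24 S) X₂).ncard = 240 ∧ (MulAction.orbit ↥(MulAction.stabilizer Cfsg.M24 S) X₃).ncard = 1440 ∧ Cfsg.sextets = {S} ∪ MulAction.orbit ↥(MulAction.stabilizer Cfsg.M24 S) X₁ ∪ MulAction.orbit ↥(MulAction.stabilizer Cfsg.M24 S) X₂ ∪ MulAction.orbit ↥(MulAction.stabilizer Cfsg.M24 S) X₃ ∧ IsCoatom (MulAction.stabilizer Cfsg.M24 S) := by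
  obtain ⟨g, rfl⟩ := exists_smul_S0' hS
  have hc := mem_stabilizer_conj g (dec 6 cS)
  have hm : ∀ i, g • dec 6 (rp i) ∈ sextets := fun i => smul_mem_sextets g.2 (mem i)
  have hn := fun i => (ncard_orbit_conj g _ _ hc (dec 6 (rp i))).trans (std.2.1 i)
  refine ⟨_, hm 1, _, hm 2, _, hm 3, hn 1, hn 2, hn 3, ?_, isCoatom_conj g _ _ hc coat⟩
  simp only [orbit_conj g _ _ hc]
  rw [← Set.image_singleton (f := fun z => g • z)]
  simp only [← Set.image_union]
  have h0 : MulAction.orbit (MulAction.stabilizer M24 (dec 6 cS)) (dec 6 (rp 0)) = {dec 6 cS} :=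
    Set.eq_singleton_iff_unique_mem.2 ⟨MulAction.mem_orbit_self _, by
      rintro _ ⟨x, rfl⟩; exact x.2⟩
  have h1 := std.2.2
  simp only [Set.iUnion_fin_add_one_eq_iUnion_succ, Function.comp, Set.iUnion_of_empty,
    Set.union_empty, h0, ← Set.union_assoc] at h1
  refine Eq.trans ?_ (congrArg _ h1)
  rw [← orbit_sextet S0_mem]
  exact (MulAction.smul_orbit g _).symm

end Cfsg.Agent.S1552
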