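import Cfsg.Statements.S1555
import Cfsg.Agent.Base
import Cfsg.Agent.M24S.Std

set_option autoImplicit false
open scoped Pointwise
open Cfsg

namespace Cfsg.Agent.S1555
open CL.Golay CL.M24S Finset

theorem univ_sub4 : Univ {s : Finset GolayPt | s.card = 4} (subL 4) := univ_sub (by decide +kernel)
theorem cr2 : checkReps (subL 2) (sgM [8536111]) gO [8388609] 29 = true := by decide +kernel
theorem cr4 : checkReps (subL 4) (sgM [8536111]) gO [8388615] 71 = true := by decide +kernel

/-- Bottom row of the Leech triangle: an octad is met in a prescribed pair of its points by exactly 16 octads and in a prescribed 4-subset by exactly 4 octads. -/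
theorem result (o : Finset Cfsg.GolayPt) (ho : o ∈ Cfsg.octads) (s : Finset Cfsg.GolayPt) (hs : s ⊆ o) : (s.card = 2 → {o' : Finset Cfsg.GolayPt | o' ∈ Cfsg.octads ∧ o ∩ o' = s}.ncard = 16) ∧ (s.card = 4 → {o' : Finset Cfsg.GolayPt | o' ∈ Cfsg.octads ∧ o ∩ o' = s}.ncard = 4) := by
  have key : ∀ (m : ℕ), Orb [s, o] ([m, 8536111].map ofMask) → ∀ k, s.card = k →
      {o' : Finset GolayPt | o' ∈ octads ∧ o ∩ o' = s}.ncard =
        CL.M24S.cntL (fun w => force w fun w => Nat.beq (sgM [m, 8536111] w) (k + 32 * k)) octL := by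
    intro m hm k hk
    rw [← count univ_oct (inv_sg _) hm fun v => Nat.beq v (k + 32 * k)]
    congr 1
    ext x
    simp only [Set.mem_ofPred_eq, Nat.beq_eq, sg, and_congr_right_iff]
    intro _
    constructor
    · intro h
      have : s ∩ x = s := inter_eq_left.2 (h ▸ inter_subset_right)
      rw [this, h, hk]; rfl
    · intro h
      have h1 : (s ∩ x).card ≤ k := hk ▸ card_le_card inter_subset_left
      have h2 : (s ∩ x).card ≤ (o ∩ x).card := card_le_card (inter_subset_inter_right hs)
      have h0 := card_le_24 s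
      have h3 : (s ∩ x).card = k ∧ (o ∩ x).card = k := by omega
      have h4 : s ∩ x = s := eq_of_subset_of_card_le inter_subset_left (by omega)
      symm
      apply eq_of_subset_of_card_le (subset_inter hs (inter_eq_left.1 h4)) (by omega)
  have h1 : sg [o] s = s.card := by
    show (o ∩ s).card + 0 = _
    rw [inter_eq_right.2 hs]; rfl
  constructor
  · intro h2
    rw [key 8388609 (step univ_sub2 (inv_sg _) ggO cr2 (orb_o ho) h2 (by decide)
      (by rw [h1, h2]; decide +kernel)) 2 h2]
    decide +kernel
  · intro h2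
    rw [key 8388615 (step univ_sub4 (inv_sg _) ggO cr4 (orb_o ho) h2 (by decide)
      (by rw [h1, h2]; decide +kernel)) 4 h2]
    decide +kernel

end Cfsg.Agent.S1555
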