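import Cfsg.Statements.S1558
import Cfsg.Agent.Base
import Cfsg.Agent.M24S.Sextet

set_option autoImplicit false
open scoped Pointwise
open Cfsg

namespace Cfsg.Agent.S1558
open CL.Golay CL.M24S Finset

open Matrix

/-- the octads of the standard trio -/
def om : List ℕ := [337856, 7903248, 8536111]

/-- the seven sextets refining the trio, and an invariant family for the zero vector -/
def sxL : List ℕ := [21851656918626858752329617932230792780785600,
  11150387722154438044499046504969320890639680, 11150423486532947792874164732049264467837760,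
  11346378319048940866623047481557647318057005, 11172157898587740639779818102986437847745920,
  11324641575652839040024170371860777698082830, 11324613454659843396271567844159595460167360,
  11172204297114735201797565455274081750360960]

/-- the code attached to a vector -/
def sx (v : Fin 3 → ZMod 2) : ℕ := sxL.getD ((v 0).val + 2 * (v 1).val + 4 * (v 2).val) 0

/-- lifts of the identity and the transvections -/
def L1 : List ℕ := [984818244535754528103549039458486304, 70961993786708677763020351326930659,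
  56644579028505922709603559234603747, 597904693643860357473242800300524087,
  722636434521558978934529804066786754, 712135215739107579582337670369217541,
  213674797361158287666042395421640145]

/-- lifts of the adjacent transpositions -/
def L2 : List ℕ := [605275694257335491820083618877964834, 873242094853618069302343092540002710]

/-- generators of the kernel -/
def gN : List ℕ := [47521257928566290314400023806220003, 69704482381948469544503674567399139,
  109512821988822896330201145185721518, 139732462221108256447615327779144705,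
  112512365560916772520529720748072110, 15117335252818615994979033626490999]

/-- the standard stabiliser -/
noncomputable abbrev H0 : Subgroup M24 := MulAction.stabilizer M24 (dec 3 cT)

theorem unp_cT : unp 3 cT = om := by decide +kernel

theorem good : GensIn (M24 ⊓ MulAction.stabilizer (Equiv.Perm GolayPt) (dec 3 cT))
    (L1 ++ L2 ++ gN) := (gensIn_M24 (by decide +kernel)).stabS (by decide +kernel)

/-- the graph -/
noncomputable def Gam : Subgroup (H0 × (GL (Fin 3) (ZMod 2) × Equiv.Perm (Fin 3))) :=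
  (compat H0 (GL (Fin 3) (ZMod 2)) fun v : Fin 3 → ZMod 2 => dec 6 (sx v)).comap
      ((MonoidHom.id _).prodMap (MonoidHom.fst _ _)) ⊓
    (compat H0 (Equiv.Perm (Fin 3)) fun a : Fin 3 => ofMask (om.getD a 0)).comap
      ((MonoidHom.id _).prodMap (MonoidHom.snd _ _))

theorem exists_lift {g : ℕ} (hg : g ∈ L1 ++ L2 ++ gN) {f : (Fin 3 → ZMod 2) → Fin 3 → ZMod 2}
    {f' : Fin 3 → Fin 3} (h : ∀ v, actS 6 g (sx v) = sx (f v))
    (h' : ∀ a : Fin 3, act g (om.getD a 0) = om.getD (f' a) 0) :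
    ∃ x : H0, x.1.1 = toPerm g ∧ (∀ v, x • dec 6 (sx v) = dec 6 (sx (f v))) ∧
      ∀ a : Fin 3, x • ofMask (om.getD a 0) = ofMask (om.getD (f' a) 0) :=
  ⟨⟨⟨_, (good g hg).2.1⟩, (good g hg).2.2⟩, rfl,
    fun v => (smul_dec (good g hg).1 6 _).trans (congrArg _ (h v)),
    fun a => ((good g hg).1.smul_ofMask _).trans (congrArg _ (h' a))⟩

theorem om_inj : Function.Injective fun a : Fin 3 => ofMask (om.getD a 0) := fun a b h => by
  have h1 : ∀ a : Fin 3, om.getD a 0 < 2 ^ 24 := by decide +kernel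
  have h2 : ∀ a b : Fin 3, om.getD a 0 = om.getD b 0 → a = b := by decide +kernel
  exact h2 a b ((ofMask_inj (h1 a) (h1 b)).1 h)

theorem sx_inj : Function.Injective fun v => dec 6 (sx v) := fun a b h => by
  have h1 : ∀ v, canon 6 (sx v) = true := by decide +kernel
  have h2 : ∀ a b, sx a = sx b → a = b := by decide +kernel
  exact h2 a b (dec_inj (h1 a) (h1 b) h)

theorem mem_Gam {x : H0} {a : GL (Fin 3) (ZMod 2)} {b : Equiv.Perm (Fin 3)} : (x, (a, b)) ∈ Gam ↔
    (∀ v, x • dec 6 (sx v) = dec 6 (sx (a.1 *ᵥ v))) ∧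
      ∀ i : Fin 3, x • ofMask (om.getD i 0) = ofMask (om.getD (b i) 0) := Iff.rfl

attribute [local irreducible] Gam

theorem lift1 (a : GL (Fin 3) (ZMod 2)) : ∃ h, (h, (a, 1)) ∈ Gam := by
  simp only [mem_Gam]
  refine forall_GL (fun M : Matrix (Fin 3) (Fin 3) (ZMod 2) => ∃ x : H0,
    (∀ v, x • dec 6 (sx v) = dec 6 (sx (M *ᵥ v))) ∧
      ∀ a : Fin 3, x • ofMask (om.getD a 0) = ofMask (om.getD a 0)) ?_ ?_ ?_ a
  · rintro A B ⟨x, h1, h2⟩ ⟨y, h3, h4⟩
    exact ⟨x * y, fun v => by rw [mul_smul, h3, h1, mulVec_mulVec],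
      fun a => by rw [mul_smul, h4, h2]⟩
  · intro D hD
    have key : ∀ D : Fin 3 → ZMod 2, (∀ i, D i ≠ 0) → ∃ g ∈ L1 ++ L2 ++ gN,
        (∀ v, actS 6 g (sx v) = sx (diagonal D *ᵥ v)) ∧
          ∀ a : Fin 3, act g (om.getD a 0) = om.getD a 0 := by decide +kernel
    obtain ⟨g, hg, h1, h2⟩ := key D hD
    obtain ⟨x, -, hx⟩ := exists_lift hg h1 (f' := id) h2
    exact ⟨x, hx⟩
  · intro i j hij c
    have key : ∀ i j : Fin 3, i ≠ j → ∀ c : ZMod 2, ∃ g ∈ L1 ++ L2 ++ gN,
        (∀ v, actS 6 g (sx v) = sx (transvection i j c *ᵥ v)) ∧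
          ∀ a : Fin 3, act g (om.getD a 0) = om.getD a 0 := by decide +kernel
    obtain ⟨g, hg, h1, h2⟩ := key i j hij c
    obtain ⟨x, -, hx⟩ := exists_lift hg h1 (f' := id) h2
    exact ⟨x, hx⟩

theorem lift2 (b : Equiv.Perm (Fin 3)) : ∃ h, (h, (1, b)) ∈ Gam := by
  refine forall_perm_of_adjacent (Gam.comap ((MonoidHom.id _).prodMap (MonoidHom.inr _ _)))
    (fun i => ?_) b
  have key : ∀ i : Fin 2, ∃ g ∈ L1 ++ L2 ++ gN, (∀ v, actS 6 g (sx v) = sx v) ∧
      ∀ a : Fin 3, act g (om.getD a 0) = om.getD (Equiv.swap i.castSucc i.succ a) 0 := by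
    decide +kernel
  obtain ⟨g, hg, h1, h2⟩ := key i
  obtain ⟨x, -, h3, h4⟩ := exists_lift hg (f := id) h1 h2
  exact ⟨x, mem_Gam.2 ⟨fun v => (h3 v).trans (by simp), h4⟩⟩

theorem part1 {T : Finset (Finset GolayPt)} (hT : T ∈ trios) (e : Equiv.Perm T) :
    ∃ g ∈ MulAction.stabilizer M24 T, ∀ t : T,
      (g : Equiv.Perm GolayPt) • (t : Finset GolayPt) = ((e t : T) : Finset GolayPt) := by
  obtain ⟨g, rfl⟩ := exists_smul_T0 hT
  refine induces_all (fun a : Fin 3 => g • ofMask (om.getD a 0))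
    (fun a b h => om_inj (MulAction.injective g h)) (fun s => ?_) (fun q => ?_) e
  · rw [mem_smul_finset]
    simp only [mem_dec, unp_cT]
    constructor
    · rintro ⟨_, ⟨m, hm, rfl⟩, rfl⟩
      have h1 : ∀ m ∈ om, ∃ a : Fin 3, om.getD a 0 = m := by decide +kernel
      obtain ⟨a, rfl⟩ := h1 m hm
      exact ⟨a, rfl⟩
    · rintro ⟨a, rfl⟩
      exact ⟨_, ⟨_, by revert a; decide +kernel, rfl⟩, rfl⟩
  · obtain ⟨h, hh⟩ := lift2 q
    replace hh := (mem_Gam.1 hh).2
    refine ⟨g * h.1 * g⁻¹, fun a => ?_⟩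
    simp only [mul_smul, inv_smul_smul]
    exact congrArg _ (hh a)

/-- the kernel -/
noncomputable def N0 : Subgroup H0 := Gam.comap (MonoidHom.inl _ _)

theorem goodN : GensIn ((N0.map H0.subtype).map M24.subtype) gN := fun g hg => by
  have hg' : g ∈ L1 ++ L2 ++ gN := List.mem_append_right _ hg
  have key : ∀ g ∈ gN, (∀ v, actS 6 g (sx v) = sx v) ∧
      ∀ a : Fin 3, act g (om.getD a 0) = om.getD a 0 := by decide +kernel
  obtain ⟨x, hx, h3, h4⟩ := exists_lift hg' (f := id) (f' := id) (key g hg).1 (key g hg).2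
  exact ⟨(good g hg').1, x.1, ⟨x, mem_Gam.2 ⟨fun v => (h3 v).trans (by simp), h4⟩, rfl⟩, hx⟩

theorem enum : orbCount mulP gN 64 idP (fun x => Nat.beq (mulP x x) idP) 64 = true := by
  decide +kernel

theorem card_map : Nat.card ((N0.map H0.subtype).map M24.subtype) = Nat.card N0 := by
  rw [Subgroup.card_map_of_injective M24.subtype_injective,
    Subgroup.card_map_of_injective H0.subtype_injective]

theorem card_Q : Nat.card (GL (Fin 3) (ZMod 2) × Equiv.Perm (Fin 3)) = 1008 := by
  rw [Nat.card_prod, card_GL_field, Nat.card_perm, ZMod.card, Nat.card_fin]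
  decide +kernel

theorem transport {H H' Q : Type*} [Group H] [Group H'] [Group Q] (e : H ≃* H') (φ : H →* Q)
    (hs : Function.Surjective φ) {n : ℕ} (hc : Nat.card φ.ker = n) (hx : ∀ x ∈ φ.ker, x * x = 1) :
    ∃ (N : Subgroup H') (_ : N.Normal), Nat.card N = n ∧ (∀ x ∈ N, x * x = 1) ∧
      Nonempty (H' ⧸ N ≃* Q) := by
  refine ⟨(φ.comp e.symm.toMonoidHom).ker, inferInstance, ?_, fun x h => ?_,
    ⟨QuotientGroup.quotientKerEquivOfSurjective _ (hs.comp e.symm.surjective)⟩⟩
  · rw [← hc]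
    exact Nat.card_congr (e.symm.toEquiv.subtypeEquiv fun _ => Iff.rfl)
  · apply e.symm.injective
    rw [map_mul, map_one]
    exact hx _ h

theorem std : ∃ φ : H0 →* GL (Fin 3) (ZMod 2) × Equiv.Perm (Fin 3), Function.Surjective φ ∧
    Nat.card φ.ker = 64 ∧ ∀ x ∈ φ.ker, x * x = 1 := by
  have h1 := le_card_of_enum goodN enum
  rw [card_map] at h1
  have := faithfulSMul_GL (Fin 3) (ZMod 2)
  obtain ⟨φ, hs, hk, -⟩ := exists_hom_of_graph Gam
    (fun q h => Prod.ext (compat_one (H := H0) sx_inj _ (mem_Gam.1 h).1)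
      (compat_one (H := H0) om_inj _ (mem_Gam.1 h).2))
    (fun q => by
      obtain ⟨a, ha⟩ := lift1 q.1
      obtain ⟨b, hb⟩ := lift2 q.2
      exact ⟨a * b, by simpa using Gam.mul_mem ha hb⟩) N0 (fun _ h => h)
    (by rw [card_stab_trio T0_mem, card_Q]; omega)
  have h2 := φ.ker.card_mul_index
  rw [Subgroup.index_ker, MonoidHom.range_eq_top.2 hs, Subgroup.card_top, card_Q,
    card_stab_trio T0_mem] at h2
  refine ⟨φ, hs, by omega, fun x hx => ?_⟩
  rw [hk] at hx h2
  have h3 := forall_of_enum goodN enum (by rw [card_map]; omega) (σ := x.1.1)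
    ⟨x.1, ⟨x, hx, rfl⟩, rfl⟩
  rw [Nat.beq_eq, codeP_mul, codeP_eq_idP] at h3
  exact Subtype.ext (Subtype.ext h3)

/-- Structure of a trio stabiliser: every permutation of the three octads is induced, and there is a normal subgroup of order 64 of elements squaring to the identity whose quotient is isomorphic to the product of GL(3, 2) with the symmetric group of degree 3. -/
theorem result (T : Finset (Finset Cfsg.GolayPt)) (hT : T ∈ Cfsg.trios) : (∀ e : Equiv.Perm ↥T, ∃ g ∈ MulAction.stabilizer Cfsg.M24 T, ∀ o : ↥T, (g : Equiv.Perm Cfsg.GolayPt) • (o : Finset Cfsg.GolayPt) = ((e o : ↥T) : Finset Cfsg.GolayPt)) ∧ ∃ (N : Subgroup ↥(MulAction.stabilizer Cfsg.M24 T)) (_ : N.Normal), Nat.card N = 64 ∧ (∀ x ∈ N, x * x = 1) ∧ Nonempty (↥(MulAction.stabilizer Cfsg.M24 T) ⧸ N ≃* GL (Fin 3) (ZMod 2) × Equiv.Perm (Fin 3)) := by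
  refine ⟨part1 hT, ?_⟩
  obtain ⟨g, rfl⟩ := exists_smul_T0 hT
  obtain ⟨φ, hs, hc, hx⟩ := std
  exact transport (CL.Chain.equivOfConj _ _ g (mem_stabilizer_conj g (dec 3 cT))) φ hs hc hx

end Cfsg.Agent.S1558
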