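import Cfsg.Statements.S1559
import Cfsg.Agent.Base
import Cfsg.Agent.M24S.Sextet

set_option autoImplicit false
open scoped Pointwise
open Cfsg

namespace Cfsg.Agent.S1559
open CL.Golay CL.M24S Finset

/-- generators of the stabiliser -/
def gens : List ℕ := [218449687308139981624200200665465879, 547086995251630097416275005345900104]

/-- orbit representatives -/
def rp : Fin 5 → ℕ := ![cT, 2363870615631978513060, 2363870591683577842320, 2362080938057826935040, 2362080943076328149130]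

/-- orbit lengths -/
def ln : Fin 5 → ℕ := ![1, 42, 56, 1008, 2688]

theorem good : GensIn ((MulAction.stabilizer M24 (dec 3 cT)).map M24.subtype) gens :=
  gensIn_map ((gensIn_M24 (by decide +kernel)).stabS (k := 3) (c := cT) (by decide +kernel))
    fun _ h => ⟨h.1, h.2⟩

theorem can : ∀ i, canon 3 (rp i) = true := by decide +kernel

theorem mem (i : Fin 5) : dec 3 (rp i) ∈ trios := dec_mem_trios (can i) (by revert i; decide +kernel)

theorem lb : ∀ i, orbGe (actS 3) gens (ln i) (rp i) (canon 3) (ln i) = true := by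
  decide +kernel

theorem std : (∀ i j, dec 3 (rp j) ∈ MulAction.orbit (MulAction.stabilizer M24 (dec 3 cT))
      (dec 3 (rp i)) → i = j) ∧
    (∀ i, (MulAction.orbit (MulAction.stabilizer M24 (dec 3 cT)) (dec 3 (rp i))).ncard = ln i) ∧
    trios = ⋃ i, MulAction.orbit (MulAction.stabilizer M24 (dec 3 cT)) (dec 3 (rp i)) :=
  suborbits good canon_cT (fun _ h => h) (Ω := trios)
  (fun g _ _ hX => smul_mem_trios g.2 hX) rp ln mem can lb (by decide +kernel)
  (by rw [ncard_trios]; decide +kernel)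

theorem coat : IsCoatom (MulAction.stabilizer M24 (dec 3 cT)) := by
  refine isCoatom_of_orbits _ (fun i => dec 3 (rp i)) ln (by rw [orbit_trio T0_mem]; exact std.2.2)
    std.2.1 std.1 0 rfl ?_ (by decide +kernel)
  obtain ⟨g, hg⟩ := exists_smul_T0 (mem 1)
  exact ⟨g, fun h => absurd (dec_inj (can 1) canon_cT (hg.symm.trans h)) (by decide +kernel)⟩

/-- A trio stabiliser has five orbits on the 3795 trios, of sizes 1, 42, 56, 1008, 2688; and the stabiliser is a maximal proper subgroup. -/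
theorem result (T : Finset (Finset Cfsg.GolayPt)) (hT : T ∈ Cfsg.trios) : ∃ X₁ ∈ Cfsg.trios, ∃ X₂ ∈ Cfsg.trios, ∃ X₃ ∈ Cfsg.trios, ∃ X₄ ∈ Cfsg.trios, (MulAction.orbit ↥(MulAction.stabilizer Cfsg.M24 T) X₁).ncard = 42 ∧ (MulAction.orbit ↥(MulAction.stabilizer Cfsg.M24 T) X₂).ncard = 56 ∧ (MulAction.orbit ↥(MulAction.stabilizer Cfsg.M24 T) X₃).ncard = 1008 ∧ (MulAction.orbit ↥(MulAction.stabilizer Cfsg.M24 T) X₄).ncard = 2688 ∧ Cfsg.trios = {T} ∪ MulAction.orbit ↥(MulAction.stabilizer Cfsg.M24 T) X₁ ∪ MulAction.orbit ↥(MulAction.stabilizer Cfsg.M24 T) X₂ ∪ MulAction.orbit ↥(MulAction.stabilizer Cfsg.M24 T) X₃ ∪ MulAction.orbit ↥(MulAction.stabilizer Cfsg.M24 T) X₄ ∧ IsCoatom (MulAction.stabilizer Cfsg.M24 T) := by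
  obtain ⟨g, rfl⟩ := exists_smul_T0 hT
  have hc := mem_stabilizer_conj g (dec 3 cT)
  have hm : ∀ i, g • dec 3 (rp i) ∈ trios := fun i => smul_mem_trios g.2 (mem i)
  have hn := fun i => (ncard_orbit_conj g _ _ hc (dec 3 (rp i))).trans (std.2.1 i)
  refine ⟨_, hm 1, _, hm 2, _, hm 3, _, hm 4, hn 1, hn 2, hn 3, hn 4, ?_, isCoatom_conj g _ _ hc coat⟩
  simp only [orbit_conj g _ _ hc]
  rw [← Set.image_singleton (f := fun z => g • z)]
  simp only [← Set.image_union]
  have h0 : MulAction.orbit (MulAction.stabilizer M24 (dec 3 cT)) (dec 3 (rp 0)) = {dec 3 cT} :=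
    Set.eq_singleton_iff_unique_mem.2 ⟨MulAction.mem_orbit_self _, by
      rintro _ ⟨x, rfl⟩; exact x.2⟩
  have h1 := std.2.2
  simp only [Set.iUnion_fin_add_one_eq_iUnion_succ, Function.comp, Set.iUnion_of_empty,
    Set.union_empty, h0, ← Set.union_assoc] at h1
  refine Eq.trans ?_ (congrArg _ h1)
  rw [← orbit_trio T0_mem]
  exact (MulAction.smul_orbit g _).symm

end Cfsg.Agent.S1559
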