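import Cfsg.Statements.S1560
import Cfsg.Agent.Base
import Cfsg.Agent.M24S.Rank

set_option autoImplicit false
open scoped Pointwise
open Cfsg

namespace Cfsg.Agent.S1560
open CL.Golay CL.M24S Finset

/-- Intersection numbers of dodecads: a dodecad meets every other dodecad in 0, 4, 6 or 8 points, meeting 495 of them in 4 points, 1584 in 6 points and 495 in 8 points. -/
theorem result (d : Finset Cfsg.GolayPt) (hd : d ∈ Cfsg.dodecads) : (∀ d' ∈ Cfsg.dodecads, d' ≠ d → (d ∩ d').card = 0 ∨ (d ∩ d').card = 4 ∨ (d ∩ d').card = 6 ∨ (d ∩ d').card = 8) ∧ {d' : Finset Cfsg.GolayPt | d' ∈ Cfsg.dodecads ∧ (d ∩ d').card = 4}.ncard = 495 ∧ {d' : Finset Cfsg.GolayPt | d' ∈ Cfsg.dodecads ∧ (d ∩ d').card = 6}.ncard = 1584 ∧ {d' : Finset Cfsg.GolayPt | d' ∈ Cfsg.dodecads ∧ (d ∩ d').card = 8}.ncard = 495 := by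
  have hc : ∀ k : ℕ, {d' : Finset GolayPt | d' ∈ dodecads ∧ (d ∩ d').card = k}.ncard =
      CL.M24S.cntL (fun w => force w fun w => Nat.beq (sgM [8449646] w) k) dodL := by
    intro k
    rw [← count univ_dod (inv_sg _) (orb_d hd) fun v => Nat.beq v k]
    simp only [Nat.beq_eq, sg_one]
  refine ⟨fun d' hd' hne => ?_, by rw [hc]; decide +kernel, by rw [hc]; decide +kernel,
    by rw [hc]; decide +kernel⟩
  have h := forall_class univ_dod (inv_sg _) (orb_d hd)
    (P := fun v => decide (v = 0 ∨ v = 4 ∨ v = 6 ∨ v = 8 ∨ v = 12)) (by decide +kernel) hd'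
  rw [decide_eq_true_eq, sg_one] at h
  rcases h with h | h | h | h | h
  · exact Or.inl h
  · exact Or.inr (Or.inl h)
  · exact Or.inr (Or.inr (Or.inl h))
  · exact Or.inr (Or.inr (Or.inr h))
  · exfalso
    have h10 : d ∩ d' = d := eq_of_subset_of_card_le inter_subset_left (by rw [h, hd.2])
    exact hne (eq_of_subset_of_card_le (inter_eq_left.1 h10) (by rw [hd'.2, hd.2])).symm

end Cfsg.Agent.S1560
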