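import Cfsg.Statements.S1562
import Cfsg.Agent.Base
import Cfsg.Agent.M24S.Rank

set_option autoImplicit false
open scoped Pointwise
open Cfsg

namespace Cfsg.Agent.S1562
open CL.Golay CL.M24S Finset
open Classical in

/-- Orbits of a triad stabiliser on the triads disjoint from it: the 210 triads inside a common octad with it form one orbit and the remaining 1120 another. -/
theorem result (T : Finset Cfsg.GolayPt) (hT : T.card = 3) : {U : Finset Cfsg.GolayPt | U.card = 3 ∧ Disjoint T U ∧ (∃ o ∈ Cfsg.octads, T ∪ U ⊆ o)}.ncard = 210 ∧ {U : Finset Cfsg.GolayPt | U.card = 3 ∧ Disjoint T U ∧ ¬ (∃ o ∈ Cfsg.octads, T ∪ U ⊆ o)}.ncard = 1120 ∧ ∀ U U' : Finset Cfsg.GolayPt, U.card = 3 → U'.card = 3 → Disjoint T U → Disjoint T U' → ((∃ o ∈ Cfsg.octads, T ∪ U ⊆ o) ↔ (∃ o ∈ Cfsg.octads, T ∪ U' ⊆ o)) → ∃ g : Equiv.Perm Cfsg.GolayPt, g ∈ Cfsg.M24 ∧ g • T = T ∧ g • U = U' := by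
  have hs : ∀ U : Finset GolayPt, sgo [T] U = 2 * (T ∩ U).card +
      if ∃ o ∈ octads, T ∪ U ⊆ o then 1 else 0 := by
    intro U
    unfold sgo
    rw [sg_one, show unL [T] = T from union_empty T]
  have hd : ∀ U : Finset GolayPt, Disjoint T U ↔ (T ∩ U).card = 0 := fun U => by
    rw [card_eq_zero, disjoint_iff_inter_eq_empty]
  refine ⟨?_, ?_, fun U U' hU hU' h1 h2 h3 => ?_⟩
  · have := count univ_sub3 (inv_sgo _) (orb_s3 hT) fun v => Nat.beq v 1
    rw [show CL.M24S.cntL _ _ = 210 by decide +kernel] at this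
    rw [← this]
    congr 1
    ext U
    simp only [Set.mem_ofPred_eq, Nat.beq_eq, hs, hd]
    split_ifs with h <;> simp only [h, and_true, and_false, false_iff, not_and] <;> omega
  · have := count univ_sub3 (inv_sgo _) (orb_s3 hT) fun v => Nat.beq v 0
    rw [show CL.M24S.cntL _ _ = 1120 by decide +kernel] at this
    rw [← this]
    congr 1
    ext U
    simp only [Set.mem_ofPred_eq, Nat.beq_eq, hs, hd]
    split_ifs with h <;> simp only [h, not_true, not_false_iff, and_true, and_false, false_iff,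
      not_and] <;> omega
  · obtain ⟨g, hg, h4, h5⟩ := rank univ_sub3 (inv_sgo _) ggS3 crS3 acS3 (orb_s3 hT) hU hU' rfl (by
      rw [hs, hs, (hd U).1 h1, (hd U').1 h2]
      by_cases h : ∃ o ∈ octads, T ∪ U ⊆ o
      · rw [if_pos h, if_pos (h3.1 h)]
      · rw [if_neg h, if_neg fun h' => h (h3.2 h')])
    exact ⟨g, hg, h4 T (by simp), h5⟩

end Cfsg.Agent.S1562
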