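import Cfsg.Statements.S1566
import Cfsg.Agent.Base
import Cfsg.Agent.M24S.Rank

set_option autoImplicit false
open scoped Pointwise
open Cfsg

namespace Cfsg.Agent.S1566
open CL.Golay CL.M24S Finset

/-- The setwise stabiliser of a dodecad together with its complement is a maximal proper subgroup of the group of the length-24 code. -/
theorem result (d : Finset Cfsg.GolayPt) (hd : d ∈ Cfsg.dodecads) : IsCoatom (MulAction.stabilizer Cfsg.M24 ({d, dᶜ} : Finset (Finset Cfsg.GolayPt))) := by
  have hne : d ≠ dᶜ := by
    intro h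
    have h1 : d ∩ dᶜ = d := by rw [← h, inter_self]
    rw [inter_compl] at h1
    have := hd.2
    rw [← h1] at this
    exact absurd this (by simp)
  have key : ∀ k : Cfsg.M24, k ∈ MulAction.stabilizer Cfsg.M24 ({d, dᶜ} : Finset (Finset GolayPt)) ↔
      k • d = d ∨ k • d = dᶜ := by
    intro k
    have hc : k • dᶜ = (k • d)ᶜ := smul_compl' (k : Equiv.Perm GolayPt) d
    rw [MulAction.mem_stabilizer_iff, smul_finset_insert, smul_finset_singleton, hc]
    constructor
    · intro h
      have : k • d ∈ ({d, dᶜ} : Finset (Finset GolayPt)) := h ▸ mem_insert_self _ _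
      simpa using this
    · rintro (h | h)
      · rw [h]
      · rw [h, compl_compl, pair_comm]
  have hle : MulAction.stabilizer Cfsg.M24 d ≤
      MulAction.stabilizer Cfsg.M24 ({d, dᶜ} : Finset (Finset GolayPt)) :=
    fun k hk => (key k).2 (Or.inl hk)
  refine ⟨fun h => ?_, fun K hK => ?_⟩
  · have h4 : {x | x ∈ dodecads ∧ (fun v => Nat.beq v 4) (sg [d] x) = true}.ncard = 495 := by
      rw [count univ_dod (inv_sg _) (orb_d hd) fun v => Nat.beq v 4]; decide +kernel
    obtain ⟨x, hx, hx4⟩ := Set.nonempty_of_ncard_ne_zero (by rw [h4]; norm_num)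
    simp only [Nat.beq_eq, sg_one] at hx4
    obtain ⟨g, hg, rfl⟩ := dodecad_trans hd hx
    rcases (key ⟨g, hg⟩).1 (h ▸ Subgroup.mem_top _) with h1 | h1
    · rw [show g • d = d from h1, inter_self, hd.2] at hx4; omega
    · rw [show g • d = dᶜ from h1, inter_compl] at hx4; simp at hx4
  · rcases overgroup_stab_dod hd K (hle.trans hK.le) with h | h
    · exact h
    · exact absurd (fun k hk => (key k).2 (h k hk)) hK.not_ge

end Cfsg.Agent.S1566
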