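import Cfsg.Statements.S1568
import Cfsg.Agent.Base
import Cfsg.Agent.Spor.LeechCount

set_option autoImplicit false
open Cfsg

namespace Cfsg.Agent.S1568

open CL.Leech

theorem ncard_exists (a : ℤ) (n m : ℕ) (hnm : n + m = 16773120)
    (h : (genF ((Finset.Icc (-6 : ℤ) 6).filter fun y => |y| ≠ a)
      (fun y => ((2 ^ 100 : ℕ) : ℤ) ^ y.natAbs ^ 2) / 2).toNat / (2 ^ 100) ^ 48 % 2 ^ 100 = n) :
    {x : GolayPt → ℤ | x ∈ leechLattice ∧ sqNorm x = 48 ∧ ∃ i, |x i| = a}.ncard = m := by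
  have h1 := (ncard_norm_eq_digit ((Finset.Icc (-6 : ℤ) 6).filter fun y => |y| ≠ a) (2 ^ 100)
    (lt_of_le_of_lt (Nat.pow_le_pow_left (Finset.card_filter_le _ _) 24) (by decide +kernel))
    48).trans h
  have h2 := ncard_norm48
  have h3 : {x : GolayPt → ℤ | x ∈ leechLattice ∧ sqNorm x = 48} =
      {x : GolayPt → ℤ | x ∈ leechLattice ∧ sqNorm x = (48 : ℕ) ∧
        ∀ i, x i ∈ (Finset.Icc (-6 : ℤ) 6).filter fun y => |y| ≠ a} ∪
      {x : GolayPt → ℤ | x ∈ leechLattice ∧ sqNorm x = 48 ∧ ∃ i, |x i| = a} := by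
    ext x
    simp only [Set.mem_ofPred_eq, Set.mem_union, Finset.mem_filter, Finset.mem_Icc, Nat.cast_ofNat]
    constructor
    · rintro ⟨hx, hn⟩
      by_cases he : ∃ i, |x i| = a
      · exact Or.inr ⟨hx, hn, he⟩
      · push Not at he
        exact Or.inl ⟨hx, hn, fun i =>
          ⟨abs_le_of_sqNorm_le (B := 6) (by norm_num) (by rw [hn]; norm_num) i, he i⟩⟩
    · rintro (h | h) <;> exact ⟨h.1, h.2.1⟩
  rw [h3, Set.ncard_union_eq _ ((finite_sqNorm_eq 48).subset fun x hx => ⟨hx.1, hx.2.1⟩)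
    ((finite_sqNorm_eq 48).subset fun x hx => ⟨hx.1, hx.2.1⟩), h1] at h2
  · omega
  · rw [Set.disjoint_left]
    rintro x ⟨-, -, h4⟩ ⟨-, -, i, h5⟩
    exact (Finset.mem_filter.1 (h4 i)).2 h5


/-- Shape census of the lattice vectors of sum of squares 48 (customary norm 6): the four families (2^12, 0^12), (±3^3, ±1^21), (±4, ±2^8, 0^15) and (±5, ±1^23) have 5275648, 8290304, 3108864 and 98304 members. -/
theorem result : {x : Cfsg.GolayPt → ℤ | x ∈ Cfsg.leechLattice ∧ Cfsg.sqNorm x = 48 ∧ ∀ i, x i = 0 ∨ x i = 2 ∨ x i = -2}.ncard = 5275648 ∧ {x : Cfsg.GolayPt → ℤ | x ∈ Cfsg.leechLattice ∧ Cfsg.sqNorm x = 48 ∧ ∃ i j k, i ≠ j ∧ j ≠ k ∧ i ≠ k ∧ |x i| = 3 ∧ |x j| = 3 ∧ |x k| = 3}.ncard = 8290304 ∧ {x : Cfsg.GolayPt → ℤ | x ∈ Cfsg.leechLattice ∧ Cfsg.sqNorm x = 48 ∧ ∃ i, |x i| = 4}.ncard = 3108864 ∧ {x : Cfsg.GolayPt → ℤ | x ∈ Cfsg.leechLattice ∧ Cfsg.sqNorm x = 48 ∧ ∃ i, |x i| = 5}.ncard = 98304 := by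
  refine ⟨?_, ?_, ?_, ?_⟩
  · have := ncard_norm_eq_digit {0, 2, -2} (2 ^ 100) (by decide +kernel) 48
    simp only [Finset.mem_insert, Finset.mem_singleton] at this
    exact this.trans (by decide +kernel)
  · have := ncard_norm_eq_digit {1, -1, 3, -3} (2 ^ 100) (by decide +kernel) 48
    refine Eq.trans (congrArg Set.ncard ?_) (this.trans (by decide +kernel))
    ext x
    simp only [Set.mem_ofPred_eq, Finset.mem_insert, Finset.mem_singleton, Nat.cast_ofNat]
    refine and_congr_right fun hx => and_congr_right fun hn => ?_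
    constructor
    · rintro ⟨i, j, k, hij, hjk, hik, hi, hj, hk⟩
      have hodd : ∀ i, x i % 2 = 1 := by
        rcases even_or_odd hx with h | h
        · have := h i; rcases abs_eq (by norm_num : (0 : ℤ) ≤ 3) |>.1 hi with h' | h' <;> omega
        · exact h
      obtain ⟨c, -, S, T, -, h3, h4⟩ := odd_shape hx hodd (by omega)
      have habs : ∀ l, |x l| = |oddNF S T l| := fun l => by rw [h3, abs_signFun]
      have hS : ∀ l, |x l| = 3 → l ∈ S := by
        intro l hl; rw [habs] at hl; by_contra h; unfold oddNF at hl; rw [if_neg h] at hl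
        split_ifs at hl <;> simp at hl
      have h5 : 2 < S.card := Finset.two_lt_card_iff.2 ⟨i, j, k, hS i hi, hS j hj, hS k hk, hij, hik, hjk⟩
      obtain rfl : T = ∅ := Finset.card_eq_zero.1 (by omega)
      intro l
      have := habs l
      unfold oddNF at this
      split_ifs at this with h1 h2
      · rcases abs_eq (by norm_num : (0 : ℤ) ≤ 3) |>.1 this with h' | h' <;> omega
      · simp at h2
      · rcases abs_eq (by norm_num : (0 : ℤ) ≤ 1) |>.1 this with h' | h' <;> omega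
    · intro h
      have hsq : ∀ l, x l ^ 2 = 1 + if |x l| = 3 then 8 else 0 := by
        intro l; rcases h l with h | h | h | h <;> simp [h]
      simp only [sqNorm, hsq, Finset.sum_add_distrib, sum_ite_card, Finset.sum_const,
        Finset.card_univ, card_golayPt] at hn
      obtain ⟨i, j, k, hi, hj, hk, h1, h2, h3⟩ := Finset.two_lt_card_iff.1
        (show 2 < (Finset.univ.filter fun l => |x l| = 3).card by simp at hn; omega)
      exact ⟨i, j, k, h1, h3, h2, (Finset.mem_filter.1 hi).2, (Finset.mem_filter.1 hj).2,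
        (Finset.mem_filter.1 hk).2⟩
  · exact ncard_exists 4 13664256 3108864 (by norm_num) (by decide +kernel)
  · exact ncard_exists 5 16674816 98304 (by norm_num) (by decide +kernel)

end Cfsg.Agent.S1568
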