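import Cfsg.Statements.S1578
import Cfsg.Agent.Base
import Cfsg.Agent.Spor.CoOrbSmall

set_option autoImplicit false
open Cfsg

namespace Cfsg.Agent.S1578

theorem sub_iff {u : leechLattice} (hu : sqNorm (u : GolayPt → ℤ) = 48) {x : leechLattice}
    (hx : sqNorm (x : GolayPt → ℤ) = 32) :
    sqNorm ((u - x) : GolayPt → ℤ) = 32 ↔ CL.Co.ip u x = 24 := by
  rw [CL.Leech.sqNorm_sub, hu, hx, CL.Co.ip]; omega

/-- A lattice vector of customary norm 6 is the sum of an unordered pair of minimal vectors in exactly 276 ways (552 ordered summands). -/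
theorem result (u : ↥Cfsg.leechLattice) (hu : Cfsg.sqNorm (u : Cfsg.GolayPt → ℤ) = 48) : {v : ↥Cfsg.leechLattice | Cfsg.sqNorm (v : Cfsg.GolayPt → ℤ) = 32 ∧ Cfsg.sqNorm ((u - v) : Cfsg.GolayPt → ℤ) = 32}.ncard = 552 := by
  rw [← CL.Co.ncard_552 hu]
  congr 1
  ext x
  exact and_congr_right fun hx => sub_iff hu hx

end Cfsg.Agent.S1578
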