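import Cfsg.Statements.S1580
import Cfsg.Agent.Base
import Cfsg.Agent.Spor.CoOrbSmall

set_option autoImplicit false
open Cfsg

namespace Cfsg.Agent.S1580

theorem sub_iff {u : leechLattice} (hu : sqNorm (u : GolayPt → ℤ) = 48) {x : leechLattice}
    (hx : sqNorm (x : GolayPt → ℤ) = 32) :
    sqNorm ((u - x) : GolayPt → ℤ) = 32 ↔ CL.Co.ip u x = 24 := by
  rw [CL.Leech.sqNorm_sub, hu, hx, CL.Co.ip]; omega

/-- The McLaughlin configuration: for u of customary norm 6 and v minimal with u − v minimal, there are 275 further such summands x of customary inner product 2 with v, permuted transitively by the stabiliser of u and v. -/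
theorem result (u v : ↥Cfsg.leechLattice) (hu : Cfsg.sqNorm (u : Cfsg.GolayPt → ℤ) = 48) (hv : Cfsg.sqNorm (v : Cfsg.GolayPt → ℤ) = 32 ∧ Cfsg.sqNorm ((u - v) : Cfsg.GolayPt → ℤ) = 32) : {x : ↥Cfsg.leechLattice | Cfsg.sqNorm (x : Cfsg.GolayPt → ℤ) = 32 ∧ Cfsg.sqNorm ((u - x) : Cfsg.GolayPt → ℤ) = 32 ∧ Cfsg.dotInt (v : Cfsg.GolayPt → ℤ) (x : Cfsg.GolayPt → ℤ) = 16}.ncard = 275 ∧ ∀ x ∈ {x : ↥Cfsg.leechLattice | Cfsg.sqNorm (x : Cfsg.GolayPt → ℤ) = 32 ∧ Cfsg.sqNorm ((u - x) : Cfsg.GolayPt → ℤ) = 32 ∧ Cfsg.dotInt (v : Cfsg.GolayPt → ℤ) (x : Cfsg.GolayPt → ℤ) = 16}, ∀ x' ∈ {x : ↥Cfsg.leechLattice | Cfsg.sqNorm (x : Cfsg.GolayPt → ℤ) = 32 ∧ Cfsg.sqNorm ((u - x) : Cfsg.GolayPt → ℤ) = 32 ∧ Cfsg.dotInt (v : Cfsg.GolayPt → ℤ) (x : Cfsg.GolayPt → ℤ) = 16}, ∃ g : ↥Cfsg.Co0, g • u = u ∧ g • v = v ∧ g • x = x' := by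
  have hd := (sub_iff hu hv.1).1 hv.2
  refine ⟨?_, fun x hx x' hx' => CL.Co.trans_275 hu hv.1 hd
    ⟨hx.1, (sub_iff hu hx.1).1 hx.2.1, hx.2.2⟩ ⟨hx'.1, (sub_iff hu hx'.1).1 hx'.2.1, hx'.2.2⟩⟩
  rw [← CL.Co.ncard_275 hu hv.1 hd]
  congr 1
  ext x
  exact and_congr_right fun hx => and_congr_left' (sub_iff hu hx)

end Cfsg.Agent.S1580
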