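import Cfsg.Statements.S1581
import Cfsg.Agent.Base
import Cfsg.Agent.Spor.CoOrbSmall

set_option autoImplicit false
open Cfsg

namespace Cfsg.Agent.S1581

theorem sub_iff {u : leechLattice} (hu : sqNorm (u : GolayPt → ℤ) = 48) {x : leechLattice}
    (hx : sqNorm (x : GolayPt → ℤ) = 32) :
    sqNorm ((u - x) : GolayPt → ℤ) = 32 ↔ CL.Co.ip u x = 24 := by
  rw [CL.Leech.sqNorm_sub, hu, hx, CL.Co.ip]; omega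

/-- The McLaughlin group acts with rank 3 and subdegrees 1, 112, 162 on its 275 points: the point stabiliser has two orbits on the remaining points, distinguished by customary inner product 1 or 2 with the fixed point. -/
theorem result (u v x : ↥Cfsg.leechLattice) (hu : Cfsg.sqNorm (u : Cfsg.GolayPt → ℤ) = 48) (hv : Cfsg.sqNorm (v : Cfsg.GolayPt → ℤ) = 32 ∧ Cfsg.sqNorm ((u - v) : Cfsg.GolayPt → ℤ) = 32) (hx : x ∈ {x : ↥Cfsg.leechLattice | Cfsg.sqNorm (x : Cfsg.GolayPt → ℤ) = 32 ∧ Cfsg.sqNorm ((u - x) : Cfsg.GolayPt → ℤ) = 32 ∧ Cfsg.dotInt (v : Cfsg.GolayPt → ℤ) (x : Cfsg.GolayPt → ℤ) = 16}) : {y : ↥Cfsg.leechLattice | y ∈ {x : ↥Cfsg.leechLattice | Cfsg.sqNorm (x : Cfsg.GolayPt → ℤ) = 32 ∧ Cfsg.sqNorm ((u - x) : Cfsg.GolayPt → ℤ) = 32 ∧ Cfsg.dotInt (v : Cfsg.GolayPt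 → ℤ) (x : Cfsg.GolayPt → ℤ) = 16} ∧ Cfsg.dotInt (x : Cfsg.GolayPt → ℤ) (y : Cfsg.GolayPt → ℤ) = 8}.ncard = 112 ∧ {y : ↥Cfsg.leechLattice | y ∈ {x : ↥Cfsg.leechLattice | Cfsg.sqNorm (x : Cfsg.GolayPt → ℤ) = 32 ∧ Cfsg.sqNorm ((u - x) : Cfsg.GolayPt → ℤ) = 32 ∧ Cfsg.dotInt (v : Cfsg.GolayPt → ℤ) (x : Cfsg.GolayPt → ℤ) = 16} ∧ y ≠ x ∧ Cfsg.dotInt (x : Cfsg.GolayPt → ℤ) (y : Cfsg.GolayPt → ℤ) = 16}.ncard = 162 ∧ ∀ y ∈ {x : ↥Cfsg.leechLattice | Cfsg.sqNorm (x : Cfsg.GolayPt → ℤ) = 32 ∧ Cfsg.sqNorm ((u - x) : Cfsg.GolayPt → ℤ) = 32 ∧ Cfsg.dotInt (v : Cfsg.GolayPt → ℤ) (x : Cfsg.GolayPt → ℤ) = 16}, ∀ y' ∈ {x : ↥Cfsg.leechLattice | Cfsg.sqNorm (x : Cfsg.GolayPt → ℤ) = 32 ∧ Cfsg.sqNorm ((u - x) : Cfsg.GolayPt → ℤ) = 32 ∧ Cfsg.dotInt (v : Cfsg.GolayPt → ℤ) (x : Cfsg.GolayPt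 → ℤ) = 16}, y ≠ x → y' ≠ x → Cfsg.dotInt (x : Cfsg.GolayPt → ℤ) (y : Cfsg.GolayPt → ℤ) = Cfsg.dotInt (x : Cfsg.GolayPt → ℤ) (y' : Cfsg.GolayPt → ℤ) → ∃ g : ↥Cfsg.Co0, g • u = u ∧ g • v = v ∧ g • x = x ∧ g • y = y' := by
  have hd := (sub_iff hu hv.1).1 hv.2
  have hx' : CL.Co.nrm x = 32 ∧ CL.Co.ip u x = 24 ∧ CL.Co.ip v x = 16 :=
    ⟨hx.1, (sub_iff hu hx.1).1 hx.2.1, hx.2.2⟩
  obtain ⟨h1, h2⟩ := CL.Co.sub_275_ncard hu hv.1 hd hx'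
  refine ⟨?_, ?_, fun y hy y' hy' _ _ e => CL.Co.sub_275_trans hu hv.1 hd hx'
    ⟨hy.1, (sub_iff hu hy.1).1 hy.2.1, hy.2.2⟩ ⟨hy'.1, (sub_iff hu hy'.1).1 hy'.2.1, hy'.2.2⟩ e⟩
  · rw [← h1]
    congr 1
    ext y
    exact ⟨fun ⟨⟨a, b, c⟩, d⟩ => ⟨a, ⟨(sub_iff hu a).1 b, c⟩, d⟩,
      fun ⟨a, ⟨b, c⟩, d⟩ => ⟨⟨a, (sub_iff hu a).2 b, c⟩, d⟩⟩
  · rw [← h2]
    congr 1
    ext y
    refine ⟨fun ⟨⟨a, b, c⟩, _, d⟩ => ⟨a, ⟨(sub_iff hu a).1 b, c⟩, d⟩,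
      fun ⟨a, ⟨b, c⟩, d⟩ => ⟨⟨a, (sub_iff hu a).2 b, c⟩, ?_, d⟩⟩
    rintro rfl
    rw [CL.Co.ip_self, a] at d
    omega

end Cfsg.Agent.S1581
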