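import Cfsg.Statements.S1584
import Cfsg.Agent.Base
import Cfsg.Agent.Spor.CoOrbSmall

set_option autoImplicit false
open Cfsg

namespace Cfsg.Agent.S1584

/-- The Higman–Sims group acts with rank 3 and subdegrees 1, 22, 77 on its 100 points, the orbits of a point stabiliser being distinguished by customary inner product 1 with the fixed point. -/
theorem result (v w x : ↥Cfsg.leechLattice) (hv : Cfsg.sqNorm (v : Cfsg.GolayPt → ℤ) = 48) (hw : Cfsg.sqNorm (w : Cfsg.GolayPt → ℤ) = 48) (hvw : Cfsg.dotInt (v : Cfsg.GolayPt → ℤ) (w : Cfsg.GolayPt → ℤ) = -32) (hx : x ∈ {x : ↥Cfsg.leechLattice | Cfsg.sqNorm (x : Cfsg.GolayPt → ℤ) = 32 ∧ Cfsg.dotInt (v : Cfsg.GolayPt → ℤ) (x : Cfsg.GolayPt → ℤ) = 24 ∧ Cfsg.dotInt (w : Cfsg.GolayPt → ℤ) (x : Cfsg.GolayPt → ℤ) = -24}) : {y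 : ↥Cfsg.leechLattice | y ∈ {x : ↥Cfsg.leechLattice | Cfsg.sqNorm (x : Cfsg.GolayPt → ℤ) = 32 ∧ Cfsg.dotInt (v : Cfsg.GolayPt → ℤ) (x : Cfsg.GolayPt → ℤ) = 24 ∧ Cfsg.dotInt (w : Cfsg.GolayPt → ℤ) (x : Cfsg.GolayPt → ℤ) = -24} ∧ Cfsg.dotInt (x : Cfsg.GolayPt → ℤ) (y : Cfsg.GolayPt → ℤ) = 8}.ncard = 22 ∧ {y : ↥Cfsg.leechLattice | y ∈ {x : ↥Cfsg.leechLattice | Cfsg.sqNorm (x : Cfsg.GolayPt → ℤ) = 32 ∧ Cfsg.dotInt (v : Cfsg.GolayPt → ℤ) (x : Cfsg.GolayPt → ℤ) = 24 ∧ Cfsg.dotInt (w : Cfsg.GolayPt → ℤ) (x : Cfsg.GolayPt → ℤ) = -24} ∧ y ≠ x ∧ Cfsg.dotInt (x : Cfsg.GolayPt → ℤ) (y : Cfsg.GolayPt → ℤ) ≠ 8}.ncard = 77 ∧ ∀ y ∈ {x : ↥Cfsg.leechLattice | Cfsg.sqNorm (x : Cfsg.GolayPt → ℤ) = 32 ∧ Cfsg.dotInt (v : Cfsg.GolayPt → ℤ) (x : Cfsg.GolayPt → ℤ) = 24 ∧ Cfsg.dotInt (w :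 Cfsg.GolayPt → ℤ) (x : Cfsg.GolayPt → ℤ) = -24}, ∀ y' ∈ {x : ↥Cfsg.leechLattice | Cfsg.sqNorm (x : Cfsg.GolayPt → ℤ) = 32 ∧ Cfsg.dotInt (v : Cfsg.GolayPt → ℤ) (x : Cfsg.GolayPt → ℤ) = 24 ∧ Cfsg.dotInt (w : Cfsg.GolayPt → ℤ) (x : Cfsg.GolayPt → ℤ) = -24}, y ≠ x → y' ≠ x → (Cfsg.dotInt (x : Cfsg.GolayPt → ℤ) (y : Cfsg.GolayPt → ℤ) = 8 ↔ Cfsg.dotInt (x : Cfsg.GolayPt → ℤ) (y' : Cfsg.GolayPt → ℤ) = 8) → ∃ g : ↥Cfsg.Co0, g • v = v ∧ g • w = w ∧ g • x = x ∧ g • y = y' := by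
  obtain ⟨h1, h2⟩ := CL.Co.sub_100_ncard hv hw hvw hx
  have key : ∀ y : leechLattice, CL.Co.nrm y = 32 ∧ CL.Co.ip v y = 24 ∧ CL.Co.ip w y = -24 →
      y ≠ x → CL.Co.ip x y = 8 ∨ CL.Co.ip x y = 16 := fun y hy hne =>
    (CL.Co.sub_100_ip hv hw hvw hx hy).resolve_left fun e => hne (CL.Co.eq_of_ip hx.1 hy.1 e)
  refine ⟨?_, ?_, fun y hy y' hy' hn hn' e => CL.Co.sub_100_trans hv hw hvw hx hy hy' ?_⟩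
  · refine Eq.trans ?_ h1
    congr 1
    ext y
    exact ⟨fun ⟨⟨a, b, c⟩, d⟩ => ⟨a, ⟨b, c⟩, d⟩, fun ⟨a, ⟨b, c⟩, d⟩ => ⟨⟨a, b, c⟩, d⟩⟩
  · rw [← h2]
    congr 1
    ext y
    refine ⟨fun ⟨⟨a, b, c⟩, d, e⟩ => ⟨a, ⟨b, c⟩, (key y ⟨a, b, c⟩ d).resolve_left e⟩,
      fun ⟨a, ⟨b, c⟩, d⟩ => ⟨⟨a, b, c⟩, ?_, ?_⟩⟩
    · rintro rfl
      rw [CL.Co.ip_self, a] at d
      omega
    · rw [CL.Co.ip] at d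
      omega
  · have e1 := key y hy hn
    have e2 := key y' hy' hn'
    simp only [CL.Co.ip] at e1 e2 ⊢
    omega

end Cfsg.Agent.S1584
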