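import Cfsg.Statements.S1591
import Cfsg.Agent.Base
import Cfsg.Agent.Spor.TernBasic
-- import your own Cfsg.Agent.* helpers here

set_option autoImplicit false
open Cfsg

namespace Cfsg.Agent.S1591

open CL.Tern

/-- Any two words of the length-12 ternary code have dot product zero. -/
theorem result (x y : Cfsg.ArrayPt → ZMod 3) (hx : x ∈ Cfsg.ternaryGolayCode) (hy : y ∈ Cfsg.ternaryGolayCode) : ∑ p, x p * y p = 0 := by
  obtain ⟨h1, h2, h3, h4, h5, h6⟩ := (mem_code_iff_check x).1 hx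
  obtain ⟨k1, k2, k3, k4, k5, k6⟩ := (mem_code_iff_check y).1 hy
  rw [Fintype.sum_prod_type, Fin.sum_univ_four]
  simp only [sum_zmod3]
  rw [h1, h2, h3, h4, h5, h6, k1, k2, k3, k4, k5, k6]
  grind

end Cfsg.Agent.S1591
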