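import Cfsg.Statements.S1598
import Cfsg.Agent.Base
import Cfsg.Agent.M24S.Quartet

set_option autoImplicit false
open scoped Pointwise
open Cfsg

namespace Cfsg.Agent.S1598
open CL.Golay CL.M24S Finset

open Matrix

/-- the translations -/
def tL : List ℕ := [984818244535754528103549039458486304, 42413869875647896927920742493183044,
  89145731456267218201035621118838518, 64462596273715700333837305573104711,
  93043177966791148879115196279391980, 971812251004514116818272506944522289,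
  107309457825005489667718594769028851, 980919927366413515622611667978094644,
  68361282387764239535576676996078674]

/-- the translation attached to a vector -/
def tv (v : Fin 2 → ZMod 3) : ℕ := tL.getD ((v 0).val + 3 * (v 1).val) 0

/-- lifts of the diagonal matrices and the transvections -/
def L1 : List ℕ := [984818244535754528103549039458486304, 441995147034522529950089767545810034,
  486153693989900211719953377975642212, 108597963420864372395464867256294450,
  236923367625373762721298395963627808, 441685261705767801085985833020992626,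
  549433205184300888876737214859164148, 466680023247385975053967766501959780]

/-- the standard stabiliser -/
noncomputable abbrev K0 : Subgroup (Equiv.Perm GolayPt) :=
  CL.Chain.fix M24 ([8449646].map ofMask) ⊓ MulAction.stabilizer (Equiv.Perm GolayPt) (dec 4 cQ)

theorem good : GensIn K0 (L1 ++ tL) :=
  (gensIn_fix (by decide +kernel)).stabS (by decide +kernel)

theorem rep_tv (v : Fin 2 → ZMod 3) : Rep (toPerm (tv v)) (tv v) :=
  (good _ (by revert v; decide +kernel)).1

/-- the graph -/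
noncomputable def Gam : Subgroup (K0 × GL (Fin 2) (ZMod 3)) :=
  compatC K0 (GL (Fin 2) (ZMod 3)) fun v : Fin 2 → ZMod 3 => toPerm (tv v)

theorem mem_Gam {x : K0} {a : GL (Fin 2) (ZMod 3)} : (x, a) ∈ Gam ↔
    ∀ v, x.1 * toPerm (tv v) = toPerm (tv (a.1 *ᵥ v)) * x.1 := Iff.rfl

attribute [local irreducible] Gam

theorem lift_eq {g : ℕ} (hg : g ∈ L1 ++ tL) {v w : Fin 2 → ZMod 3}
    (h : mulP g (tv v) = mulP (tv w) g) : toPerm g * toPerm (tv v) = toPerm (tv w) * toPerm g :=
  codeP_injective ((mulP_eq_codeP (good g hg).1 (rep_tv v)).symm.trans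
    (h.trans (mulP_eq_codeP (rep_tv w) (good g hg).1)))

theorem tv_inj : Function.Injective fun v => toPerm (tv v) := fun a b h => by
  have h2 : ∀ a b, eqP (tv a) (tv b) = true → a = b := by decide +kernel
  exact h2 a b (((rep_tv a).eq_iff_eqP (rep_tv b)).1 h)

theorem lift1 (a : GL (Fin 2) (ZMod 3)) : ∃ h, (h, a) ∈ Gam := by
  simp only [mem_Gam]
  refine forall_GL (fun M : Matrix (Fin 2) (Fin 2) (ZMod 3) => ∃ x : K0,
    ∀ v, x.1 * toPerm (tv v) = toPerm (tv (M *ᵥ v)) * x.1) ?_ ?_ ?_ a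
  · rintro A B ⟨x, h1⟩ ⟨y, h3⟩
    exact ⟨x * y, fun v => by
      rw [Subgroup.coe_mul, mul_assoc, h3, ← mul_assoc, h1, mulVec_mulVec, mul_assoc]⟩
  · intro D hD
    have key : ∀ D : Fin 2 → ZMod 3, (∀ i, D i ≠ 0) → ∃ g ∈ L1 ++ tL,
        ∀ v, mulP g (tv v) = mulP (tv (diagonal D *ᵥ v)) g := by decide +kernel
    obtain ⟨g, hg, h1⟩ := key D hD
    exact ⟨⟨_, (good g hg).2⟩, fun v => lift_eq hg (h1 v)⟩
  · intro i j hij c
    have key : ∀ i j : Fin 2, i ≠ j → ∀ c : ZMod 3, ∃ g ∈ L1 ++ tL,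
        ∀ v, mulP g (tv v) = mulP (tv (transvection i j c *ᵥ v)) g := by decide +kernel
    obtain ⟨g, hg, h1⟩ := key i j hij c
    exact ⟨⟨_, (good g hg).2⟩, fun v => lift_eq hg (h1 v)⟩

/-- the kernel -/
noncomputable def N0 : Subgroup K0 := Gam.comap (MonoidHom.inl _ _)

theorem goodN : GensIn (N0.map K0.subtype) tL := fun g hg => by
  have hg' : g ∈ L1 ++ tL := List.mem_append_right _ hg
  have key : ∀ g ∈ tL, ∀ v, mulP g (tv v) = mulP (tv v) g := by decide +kernel
  exact ⟨(good g hg').1, ⟨_, (good g hg').2⟩,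
    mem_Gam.2 fun v => (lift_eq hg' (key g hg v)).trans (by simp), rfl⟩

theorem card_Q : Nat.card (GL (Fin 2) (ZMod 3)) = 48 := by
  rw [card_GL_field, ZMod.card]
  decide +kernel

theorem std : ∃ φ : K0 →* GL (Fin 2) (ZMod 3), Function.Surjective φ ∧ Nat.card φ.ker = 9 := by
  have h1 := le_card_of_enum goodN (fuel := 9) (n := 9) (ok := fun _ => true) (by decide +kernel)
  rw [Subgroup.card_map_of_injective K0.subtype_injective] at h1
  have := faithfulSMul_GL (Fin 2) (ZMod 3)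
  obtain ⟨φ, hs, hk, -⟩ := exists_hom_of_graph Gam
    (fun q h => compatC_one (H := K0) tv_inj _ (mem_Gam.1 h)) lift1 N0 (fun _ h => h)
    (by rw [quartet_std.2, card_Q]; omega)
  have h2 := φ.ker.card_mul_index
  rw [Subgroup.index_ker, MonoidHom.range_eq_top.2 hs, Subgroup.card_top, card_Q,
    quartet_std.2] at h2
  exact ⟨φ, hs, by omega⟩

theorem transport {H H' Q : Type*} [Group H] [Group H'] [Group Q] (e : H' ≃* H) (φ : H →* Q)
    (hs : Function.Surjective φ) {n : ℕ} (hc : Nat.card φ.ker = n) :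
    ∃ (N : Subgroup H') (_ : N.Normal), Nat.card N = n ∧ Nonempty (H' ⧸ N ≃* Q) := by
  refine ⟨(φ.comp e.toMonoidHom).ker, inferInstance, ?_,
    ⟨QuotientGroup.quotientKerEquivOfSurjective _ (hs.comp e.surjective)⟩⟩
  rw [← hc]
  exact Nat.card_congr (e.toEquiv.subtypeEquiv fun _ => Iff.rfl)

theorem trans0 {p : GolayPt} (hp : p ∈ ofMask 8449646) :
    ∃ g ∈ MulAction.stabilizer M24 (ofMask 8449646) ⊓ MulAction.stabilizer M24 (dec 4 cQ),
      g • pt 23 = p := by
  obtain ⟨σ, hσ, h⟩ := orbPt_sound (fun c hc => ⟨_, (gensIn_gQ c hc).2, (gensIn_gQ c hc).1⟩)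
    (i := 23) (by norm_num) (q := p) (by rwa [show orbPt gQ 23 = 8449646 by decide +kernel])
  exact ⟨⟨σ, hσ.1.1⟩, ⟨hσ.1.2 _ (by simp), hσ.2⟩, h⟩

/-- A quartet stabiliser inside the dodecad stabiliser has order 432, a normal subgroup of order 9 with quotient GL(2, 3), and is transitive on the dodecad. -/
theorem result (d : Finset Cfsg.GolayPt) (hd : d ∈ Cfsg.dodecads) (Q : Finset (Finset Cfsg.GolayPt)) (hQ : Q ∈ Cfsg.quartets d) : Nat.card ↥(MulAction.stabilizer Cfsg.M24 d ⊓ MulAction.stabilizer Cfsg.M24 Q) = 432 ∧ (∃ (N : Subgroup ↥(MulAction.stabilizer Cfsg.M24 d ⊓ MulAction.stabilizer Cfsg.M24 Q)) (_ : N.Normal), Nat.card N = 9 ∧ Nonempty (↥(MulAction.stabilizer Cfsg.M24 d ⊓ MulAction.stabilizer Cfsg.M24 Q) ⧸ N ≃* GL (Fin 2) (ZMod 3))) ∧ ∀ p ∈ d, ∀ q ∈ d, ∃ g ∈ (MulAction.stabilizer Cfsg.M24 d ⊓ MulAction.stabilizer Cfsg.M24 Q), ((g : ↥Cfsg.M24) : Equiv.Perm Cfsg.GolayPt) p = q := by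
  obtain ⟨g, rfl, rfl⟩ := exists_smul_Q0 hd hQ
  have hc := mem_inf_conj g (ofMask 8449646) (dec 4 cQ)
  have e := (CL.Chain.equivOfConj _ _ g hc).symm.trans stabQEquiv
  obtain ⟨φ, hs, hk⟩ := std
  refine ⟨(Nat.card_congr e.toEquiv).trans quartet_std.2, transport e φ hs hk,
    fun p hp q hq => ?_⟩
  obtain ⟨a, ha, h1⟩ := trans0 (inv_smul_mem_iff.2 hp)
  obtain ⟨b, hb, h2⟩ := trans0 (inv_smul_mem_iff.2 hq)
  refine ⟨_, (hc _).1 (mul_mem hb (inv_mem ha)), ?_⟩
  change (g * (b * a⁻¹) * g⁻¹) • p = q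
  rw [mul_smul, mul_smul, mul_smul, ← h1, inv_smul_smul, h2, smul_inv_smul]

end Cfsg.Agent.S1598
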