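import Cfsg.Statements.S1599
import Cfsg.Agent.Base
import Cfsg.Agent.M24S.Quartet

set_option autoImplicit false
open scoped Pointwise
open Cfsg

namespace Cfsg.Agent.S1599
open CL.Golay CL.M24S Finset

/-- orbit representatives -/
def rp : Fin 5 → ℕ := ![cQ, 39614109600574704567648789536, 39614128492335220023088909316, 39614128490039510275171812896, 39614128490740945745940063296]

/-- orbit lengths -/
def ln : Fin 5 → ℕ := ![1, 12, 27, 72, 108]

/-- the standard stabiliser -/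
noncomputable abbrev K0 : Subgroup M24 :=
  MulAction.stabilizer M24 (ofMask 8449646) ⊓ MulAction.stabilizer M24 (dec 4 cQ)

theorem good : GensIn (K0.map M24.subtype) gQ :=
  gensIn_map gensIn_gQ fun _ h => ⟨h.1.1, h.1.2 _ (by simp), h.2⟩

theorem can : ∀ i, canon 4 (rp i) = true := by decide +kernel

theorem mem (i : Fin 5) : dec 4 (rp i) ∈ quartets (ofMask 8449646) :=
  dec_mem_quartets (can i) (by revert i; decide +kernel)

theorem lb : ∀ i, orbGe (actS 4) gQ (ln i) (rp i) (canon 4) (ln i) = true := by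
  decide +kernel

theorem std : (∀ i j, dec 4 (rp j) ∈ MulAction.orbit K0 (dec 4 (rp i)) → i = j) ∧
    (∀ i, (MulAction.orbit K0 (dec 4 (rp i))).ncard = ln i) ∧
    quartets (ofMask 8449646) = ⋃ i, MulAction.orbit K0 (dec 4 (rp i)) :=
  suborbits good canon_cQ (fun _ h => h.2) (Ω := quartets (ofMask 8449646))
    (fun g hg X hX => by
      have : g • X ∈ quartets (g • ofMask 8449646) := smul_mem_quartets g.2 hX
      rwa [MulAction.mem_stabilizer_iff.1 hg.1] at this) rp ln mem can lb (by decide +kernel)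
    (by rw [quartet_std.1]; decide +kernel)

/-- A quartet stabiliser has five orbits on the quartets of its dodecad, of sizes 1, 12, 27, 72, 108. -/
theorem result (d : Finset Cfsg.GolayPt) (hd : d ∈ Cfsg.dodecads) (Q : Finset (Finset Cfsg.GolayPt)) (hQ : Q ∈ Cfsg.quartets d) : ∃ X₁ ∈ Cfsg.quartets d, ∃ X₂ ∈ Cfsg.quartets d, ∃ X₃ ∈ Cfsg.quartets d, ∃ X₄ ∈ Cfsg.quartets d, (MulAction.orbit ↥(MulAction.stabilizer Cfsg.M24 d ⊓ MulAction.stabilizer Cfsg.M24 Q) X₁).ncard = 12 ∧ (MulAction.orbit ↥(MulAction.stabilizer Cfsg.M24 d ⊓ MulAction.stabilizer Cfsg.M24 Q) X₂).ncard = 27 ∧ (MulAction.orbit ↥(MulAction.stabilizer Cfsg.M24 d ⊓ MulAction.stabilizer Cfsg.M24 Q) X₃).ncard = 72 ∧ (MulAction.orbit ↥(MulAction.stabilizer Cfsg.M24 d ⊓ MulAction.stabilizer Cfsg.M24 Q) X₄).ncard = 108 ∧ Cfsg.quartets d = {Q} ∪ MulAction.orbit ↥(MulAction.stabilizer Cfsg.M24 d ⊓ MulAction.stabilizer Cfsg.M24 Q) X₁ ∪ MulAction.orbit ↥(MulAction.stabilizer Cfsg.M24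 d ⊓ MulAction.stabilizer Cfsg.M24 Q) X₂ ∪ MulAction.orbit ↥(MulAction.stabilizer Cfsg.M24 d ⊓ MulAction.stabilizer Cfsg.M24 Q) X₃ ∪ MulAction.orbit ↥(MulAction.stabilizer Cfsg.M24 d ⊓ MulAction.stabilizer Cfsg.M24 Q) X₄ := by
  obtain ⟨g, rfl, rfl⟩ := exists_smul_Q0 hd hQ
  have hc := mem_inf_conj g (ofMask 8449646) (dec 4 cQ)
  have hm : ∀ i, g • dec 4 (rp i) ∈ quartets (g • ofMask 8449646) := fun i =>
    smul_mem_quartets g.2 (mem i)
  have hn := fun i => (ncard_orbit_conj g _ _ hc (dec 4 (rp i))).trans (std.2.1 i)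
  refine ⟨_, hm 1, _, hm 2, _, hm 3, _, hm 4, hn 1, hn 2, hn 3, hn 4, ?_⟩
  simp only [orbit_conj g _ _ hc]
  rw [← Set.image_singleton (f := fun z => g • z)]
  simp only [← Set.image_union]
  have h0 : MulAction.orbit K0 (dec 4 (rp 0)) = {dec 4 cQ} :=
    Set.eq_singleton_iff_unique_mem.2 ⟨MulAction.mem_orbit_self _, by
      rintro _ ⟨x, rfl⟩; exact x.2.2⟩
  have h1 := std.2.2
  simp only [Set.iUnion_fin_add_one_eq_iUnion_succ, Function.comp, Set.iUnion_of_empty,
    Set.union_empty, h0, ← Set.union_assoc] at h1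
  exact (image_quartets g _).symm.trans (congrArg _ h1)

end Cfsg.Agent.S1599
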