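import Cfsg.Statements.S1600
import Cfsg.Agent.Base
import Cfsg.Agent.M24S.Std

set_option autoImplicit false
open scoped Pointwise
open Cfsg

namespace Cfsg.Agent.S1600
open CL.Golay CL.M24S Finset

/-- generators of the stabiliser of the dodecad and three of its points (order 72) -/
def gens : List ℕ := [961397085139272402850506549856897072, 966263699687720815505257242823854116]
theorem gg : goodGens [4, 2, 8388608, 8449646] gens = true := by decide +kernel
theorem cr : checkReps (subL 1) (sgM [4, 2, 8388608, 8449646]) gens [1] 13 = true := by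
  decide +kernel

/-- The pointwise stabiliser of three points of a dodecad inside the dodecad stabiliser (order 72) is transitive on the complementary dodecad. -/
theorem result (d : Finset Cfsg.GolayPt) (hd : d ∈ Cfsg.dodecads) (p q r : Cfsg.GolayPt) (hp : p ∈ d) (hq : q ∈ d) (hr : r ∈ d) (hpq : p ≠ q) (hpr : p ≠ r) (hqr : q ≠ r) : Nat.card ↥(MulAction.stabilizer Cfsg.M24 d ⊓ MulAction.stabilizer Cfsg.M24 p ⊓ MulAction.stabilizer Cfsg.M24 q ⊓ MulAction.stabilizer Cfsg.M24 r) = 72 ∧ ∀ x ∉ d, ∀ y ∉ d, ∃ g ∈ (MulAction.stabilizer Cfsg.M24 d ⊓ MulAction.stabilizer Cfsg.M24 p ⊓ MulAction.stabilizer Cfsg.M24 q ⊓ MulAction.stabilizer Cfsg.M24 r), ((g : ↥Cfsg.M24) : Equiv.Perm Cfsg.GolayPt) x = y := by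
  have ho := orb_rqpd hd hp hq hr hpq hpr hqr
  have hm : ∀ g : Cfsg.M24, g ∈ (MulAction.stabilizer Cfsg.M24 d ⊓ MulAction.stabilizer Cfsg.M24 p ⊓
      MulAction.stabilizer Cfsg.M24 q ⊓ MulAction.stabilizer Cfsg.M24 r) ↔
      (g : Equiv.Perm GolayPt) ∈ CL.Chain.fix Cfsg.M24 [{r}, {q}, {p}, d] := by
    intro g
    simp only [Subgroup.mem_inf, MulAction.mem_stabilizer_iff, CL.Chain.mem_fix, g.2, true_and,
      List.mem_cons, List.not_mem_nil, or_false, forall_eq_or_imp, forall_eq, smul_singleton_eq_iff]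
    exact ⟨fun h => ⟨h.2, h.1.2, h.1.1.2, h.1.1.1⟩, fun h => ⟨⟨⟨h.2.2.2, h.2.2.1⟩, h.2.1⟩, h.1⟩⟩
  refine ⟨?_, fun x hx y hy => ?_⟩
  · rw [Nat.card_congr (CL.Chain.equivOfMemIff _ _ (CL.Chain.fix_le _ _) hm).toEquiv, ho.card_fix,
      card_fix_rqpD]
  · have key : ∀ x ∉ d, Orb [{x}, {r}, {q}, {p}, d] ([1, 4, 2, 8388608, 8449646].map ofMask) := by
      intro x hx
      have h1 : x ≠ p := fun h => hx (h ▸ hp)
      have h2 : x ≠ q := fun h => hx (h ▸ hq)
      have h3 : x ≠ r := fun h => hx (h ▸ hr)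
      exact step univ_sub1 (inv_sg _) gg cr ho (sing_mem x) (by decide)
        (by simp only [sg, card_inter_singleton, hx, mem_singleton, h1, h2, h3]; decide +kernel)
    obtain ⟨g, hg, h1, h2⟩ := ((key x hx).trans (key y hy).symm).exists_fix
    exact ⟨⟨g, hg⟩, (hm _).2 ⟨hg, h1⟩, smul_singleton_eq_iff.1 h2⟩

end Cfsg.Agent.S1600
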