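import Cfsg.Statements.S1601
import Cfsg.Agent.Base
import Cfsg.Agent.M24S.Enum
import Cfsg.Agent.Spor.M24Simple
import Cfsg.Agent.Small.PSL2Rec3

set_option autoImplicit false
open scoped Pointwise
open Cfsg

namespace Cfsg.Agent.S1601
open CL.Golay CL.M24S Finset

/-- generators of the standard group of order 660 -/
def gL : List ℕ := [965219759660607054210269833500722624, 979423032155675520829089696230582752]

/-- an element of order 11 -/
def t0 : ℕ := 961083534562537462455978635216520640

/-- the standard copy of the group -/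
abbrev G0 : Subgroup (Equiv.Perm GolayPt) := CL.Chain.fix M24 ([1, 8388608, 8449646].map ofMask)

theorem good : GensIn G0 gL := gensIn_fix (by decide +kernel)

theorem good_t : GensIn G0 [t0] := gensIn_fix (by decide +kernel)

theorem rep_t : Rep (toPerm t0) t0 := (good_t _ List.mem_cons_self).1

/-- the element of order 11 in the group -/
noncomputable def T0 : G0 := ⟨toPerm t0, (good_t _ List.mem_cons_self).2⟩

theorem order_T0 : orderOf T0 = 11 := by
  rw [← Subgroup.orderOf_coe]
  exact CL.M24.orderOf_eq_prime_of_rep (by norm_num) rep_t (by decide +kernel) (by decide +kernel)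

theorem enum : orbCount mulP gL 660 idP (fun x => !Nat.beq (mulP x t0) (mulP t0 x) ||
    anyTo (fun k => eqP x (powP t0 k)) 11) 660 = true := by decide +kernel

attribute [local irreducible] codeP mulP idP powP

theorem cent (g : G0) (h : g * T0 = T0 * g) : g ∈ Subgroup.zpowers T0 := by
  have h1 := forall_of_enum good enum card_fix_xpD.le g.2
  have h2 : g.1 * toPerm t0 = toPerm t0 * g.1 := congrArg Subtype.val h
  rw [mulP_eq_codeP (rep_codeP _) rep_t, mulP_eq_codeP rep_t (rep_codeP _), h2, Nat.beq_refl,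
    Bool.not_true, Bool.false_or, anyTo_iff] at h1
  obtain ⟨k, -, hk⟩ := h1
  exact ⟨k, Subtype.ext (by
    simpa [T0] using (((rep_codeP _).eq_iff_eqP (rep_t.pow k)).2 hk).symm)⟩

theorem simple0 : IsSimpleGroup G0 := by
  refine CL.SimpleCrit.isSimpleGroup_of_selfCentralizing (p := 11) (r := 5) (m := 12) (by norm_num)
    (by norm_num) (by norm_num) (by norm_num) (by norm_num) card_fix_xpD T0 order_T0 cent ?_
  intro N hN hN0
  by_contra h
  have : Fact (Nat.Prime 11) := ⟨by norm_num⟩
  have h1 := CL.SimpleCrit.pow_factorization_modEq_one T0 order_T0 N h fun x hx hc => by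
    have h2 := orderOf_dvd_natCard (⟨x, cent x hc.symm⟩ : Subgroup.zpowers T0)
    rw [Nat.card_zpowers, order_T0, Subgroup.orderOf_mk] at h2
    have h3 := orderOf_dvd_natCard (⟨x, hx⟩ : N)
    rw [Subgroup.orderOf_mk] at h3
    rcases (Nat.dvd_prime this.out).1 h2 with h4 | h4
    · exact orderOf_eq_one_iff.1 h4
    · exact absurd (h4 ▸ h3) h
  have h2 : Nat.card N ∣ 660 := card_fix_xpD ▸ N.card_subgroup_dvd_card
  obtain ⟨q, hq, hqN⟩ := Nat.exists_prime_and_dvd fun h => hN0 (Subgroup.card_eq_one.1 h)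
  have h3 := h1 q hq
  have h4 : q ^ (Nat.card N).factorization q ∣ 660 := (Nat.ordProj_dvd _ _).trans h2
  have h5 : 0 < (Nat.card N).factorization q := hq.factorization_pos_of_dvd Nat.card_pos.ne' hqN
  exact CL.SimpleCrit.primePow_check (n := 660) (p := 11) 11 10 (by decide +kernel) (by norm_num)
    (by norm_num) (by decide +kernel) q _ hq h5 h4 h3

/-- In the 3-transitive action of the smallest Mathieu group on the complementary dodecad, a point stabiliser is isomorphic to PSL(2, 11). -/
theorem result (d : Finset Cfsg.GolayPt) (hd : d ∈ Cfsg.dodecads) (p q : Cfsg.GolayPt) (hp : p ∈ d) (hq : q ∉ d) : Nonempty (↥(MulAction.stabilizer Cfsg.M24 d ⊓ MulAction.stabilizer Cfsg.M24 p ⊓ MulAction.stabilizer Cfsg.M24 q) ≃* Matrix.ProjectiveSpecialLinearGroup (Fin 2) (ZMod 11)) := by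
  obtain ⟨e1⟩ := (orb_xpd hd hp hq).fix_equiv
  have := simple0
  have : Fact (Nat.Prime 11) := ⟨by norm_num⟩
  obtain ⟨e'⟩ := CL.PSL2Rec.equiv_of_simple_card (G := G0) (p := 11) (by norm_num) (by norm_num)
    (by rw [card_fix_xpD]; norm_num) (F := ZMod 11) (ZMod.card 11)
  refine ⟨(CL.Chain.equivOfMemIff _ _ (CL.Chain.fix_le _ _) fun g => ?_).trans (e1.trans e')⟩
  simp only [Subgroup.mem_inf, MulAction.mem_stabilizer_iff, CL.Chain.mem_fix, List.mem_cons,
    List.not_mem_nil, or_false, forall_eq_or_imp, forall_eq, smul_singleton_eq_iff, g.2, true_and]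
  exact ⟨fun h => ⟨h.2, h.1.2, h.1.1⟩, fun h => ⟨⟨h.2.2, h.2.1⟩, h.1⟩⟩

end Cfsg.Agent.S1601
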