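import Cfsg.Statements.S1602
import Cfsg.Agent.Base
import Cfsg.Agent.M24S.Enum

set_option autoImplicit false
open scoped Pointwise
open Cfsg

namespace Cfsg.Agent.S1602
open CL.Golay CL.M24S Finset

/-- the five points -/
def fv : Fin 5 → ℕ := ![2, 5, 6, 10, 11]

/-- lifts of the adjacent transpositions -/
def lf : Fin 4 → ℕ := ![981656685562189615248658689813878052, 966442380241599584825775134538238052,
  980921607903411053474913943822830052, 983544255672816783687828976074918180]

theorem cr : checkReps (subL 2) (sgM [8388608, 8449646]) gpD [17] 67 = true := by decide +kernel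

theorem card0 : Nat.card (CL.Chain.fix M24 ([17, 8388608, 8449646].map ofMask)) = 120 := by
  have := card_fix_step univ_sub2 (inv_sg _) ggpD cr (r := 17) (by decide) (by decide +kernel)
    (n := 66) (by decide +kernel)
  rw [card_fix_pD] at this
  omega

theorem std : Nonempty (CL.Chain.fix M24 ([17, 8388608, 8449646].map ofMask) ≃*
    Equiv.Perm (Fin 5)) := by
  refine nonempty_equiv_of_graph (compat _ (Equiv.Perm (Fin 5)) fun a : Fin 5 => pt (fv a))
    (compat_one (by decide +kernel)) (forall_perm_of_adjacent _ fun i => ?_)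
    (by rw [card0, Nat.card_perm, Nat.card_fin]; decide)
  have h := gensIn_fix (l0 := [17, 8388608, 8449646]) (gens := List.ofFn lf) (by decide +kernel)
    (lf i) (by revert i; decide +kernel)
  have key : ∀ (i : Fin 4) (a : Fin 5), pt (app (lf i) (idx (pt (fv a)))) =
      pt (fv (Equiv.swap i.castSucc i.succ a)) := by decide +kernel
  exact ⟨⟨_, h.2⟩, fun a => (h.1.apply _).trans (key i a)⟩

/-- In the 12-point action of the smallest Mathieu group the setwise stabiliser of a pair is isomorphic to the symmetric group of degree 5. -/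
theorem result (d : Finset Cfsg.GolayPt) (hd : d ∈ Cfsg.dodecads) (p q q' : Cfsg.GolayPt) (hp : p ∈ d) (hq : q ∉ d) (hq' : q' ∉ d) (hqq' : q ≠ q') : Nonempty (↥(MulAction.stabilizer Cfsg.M24 d ⊓ MulAction.stabilizer Cfsg.M24 p ⊓ MulAction.stabilizer Cfsg.M24 ({q, q'} : Finset Cfsg.GolayPt)) ≃* Equiv.Perm (Fin 5)) := by
  have h1 : Orb [{q, q'}, {p}, d] ([17, 8388608, 8449646].map ofMask) := by
    refine step univ_sub2 (inv_sg _) ggpD cr (orb_pd hd hp) (card_pair hqq') (by decide) ?_
    have h2 : d ∩ {q, q'} = ∅ := by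
      rw [← disjoint_iff_inter_eq_empty]; simp [hq, hq']
    have h3 : p ∉ ({q, q'} : Finset GolayPt) := fun h => by
      have := mem_inter.2 ⟨hp, h⟩
      rw [h2] at this; exact notMem_empty _ this
    simp only [sg, h2, card_singleton_inter, h3, card_empty]
    decide +kernel
  obtain ⟨e⟩ := h1.fix_equiv
  obtain ⟨e'⟩ := std
  refine ⟨(CL.Chain.equivOfMemIff _ _ (CL.Chain.fix_le _ _) fun g => ?_).trans (e.trans e')⟩
  simp only [Subgroup.mem_inf, MulAction.mem_stabilizer_iff, CL.Chain.mem_fix, List.mem_cons,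
    List.not_mem_nil, or_false, forall_eq_or_imp, forall_eq, smul_singleton_eq_iff, g.2, true_and]
  exact ⟨fun h => ⟨h.2, h.1.2, h.1.1⟩, fun h => ⟨⟨h.2.2, h.2.1⟩, h.1⟩⟩

end Cfsg.Agent.S1602
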