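import Cfsg.Statements.S1603
import Cfsg.Agent.Base
import Cfsg.Agent.M24S.Enum
import Cfsg.Agent.Small.Count

set_option autoImplicit false
open scoped Pointwise
open Cfsg

namespace Cfsg.Agent.S1603
open CL.Golay CL.M24S Finset

open Matrix

/-- the standard involution -/
def x0 : ℕ := 980717513807977534628435478231451680

/-- the point attached to a vector -/
def lab (v : Fin 2 → ZMod 3) : GolayPt :=
  pt ([23, 3, 10, 5, 6, 14, 15, 9, 13].getD ((v 0).val + 3 * (v 1).val) 0)

/-- lifts of the diagonal matrices and the transvections -/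
def L1 : List ℕ := [984818244535754528103549039458486304, 984595137648923788561440491536746848,
  980907660773371473550124337591552352, 980717513807977534628435478231451680,
  982201734081778350379833493391770988, 961454968681708368370907770783902792,
  984639497875399983922638325170777152, 984123559771289953397454551729341792]

/-- the standard copy of the group -/
abbrev G0 : Subgroup (Equiv.Perm GolayPt) := CL.Chain.fix M24 ([8388608, 8449646].map ofMask)

theorem good : GensIn G0 L1 := gensIn_fix (by decide +kernel)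

theorem x0_mem : x0 ∈ L1 := by decide +kernel

/-- the involution as a group element -/
noncomputable def X0 : G0 := ⟨toPerm x0, (good _ x0_mem).2⟩

theorem x0_eq : x0 = codeP (toPerm x0) := by
  have := mulP_eq_codeP (good _ x0_mem).1 rep_one
  rw [mul_one] at this
  exact Eq.trans (by decide +kernel) this

theorem enum : orbCount mulP gpD 7920 idP (fun x => !Nat.beq (mulP x x) idP || Nat.beq x idP ||
    BT.mem x (bfs conjP gpD 165 x0)) 7920 = true := by decide +kernel

attribute [local irreducible] codeP mulP idP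

theorem conj0 {σ : G0} (h : orderOf σ = 2) : ∃ τ : G0, τ⁻¹ * σ * τ = X0 := by
  have h1 := forall_of_enum (gensIn_fix ggpD) enum card_fix_pD.le σ.2
  have h2 : σ.1 * σ.1 = 1 := by
    have := pow_orderOf_eq_one σ
    rw [h, pow_two] at this
    exact congrArg Subtype.val this
  have h3 : σ.1 ≠ 1 := fun h' => by
    rw [show σ = 1 from Subtype.ext h', orderOf_one] at h
    exact absurd h (by norm_num)
  rw [codeP_mul, h2, ← idP_eq_codeP, Nat.beq_refl, Bool.not_true, Bool.false_or, Bool.or_eq_true,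
    Nat.beq_eq, codeP_eq_idP] at h1
  obtain ⟨τ, hτ, e⟩ := bfs_sound (conj_reach (gensIn_fix ggpD) (toPerm x0))
    ⟨1, one_mem _, by simpa using x0_eq⟩ (BT.in_of_mem (h1.resolve_left h3))
  refine ⟨⟨τ, hτ⟩, Subtype.ext ?_⟩
  change τ⁻¹ * σ.1 * τ = toPerm x0
  rw [codeP_injective e]
  simp [mul_assoc]

theorem card0 : Nat.card (Subgroup.centralizer ({X0} : Set G0)) ≤ 48 := by
  have h1 := CL.SG.ncard_isConj_mul_card_centralizer X0
  have h2 := le_ncard_conj (gensIn_fix ggpD) x0_eq (fuel := 165) (n := 165) (ok := fun _ => true)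
    (by decide +kernel)
  have h3 : {ρ | ∃ σ ∈ G0, ρ = σ * toPerm x0 * σ⁻¹} = Subtype.val '' {g : G0 | IsConj X0 g} := by
    ext ρ
    constructor
    · rintro ⟨σ, hσ, rfl⟩
      exact ⟨_, isConj_iff.2 ⟨⟨σ, hσ⟩, rfl⟩, rfl⟩
    · rintro ⟨g, hg, rfl⟩
      obtain ⟨σ, rfl⟩ := isConj_iff.1 hg
      exact ⟨σ, σ.2, rfl⟩
  rw [h3, Set.ncard_image_of_injective _ Subtype.val_injective] at h2
  rw [card_fix_pD] at h1
  nlinarith

theorem exists_lift {g : ℕ} (hg : g ∈ L1) {f : (Fin 2 → ZMod 3) → Fin 2 → ZMod 3}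
    (h : ∀ v, pt (app g (idx (lab v))) = lab (f v)) :
    ∃ x : Subgroup.centralizer ({X0} : Set G0), ∀ v, x • lab v = lab (f v) := by
  have key : ∀ g ∈ L1, mulP g x0 = mulP x0 g := by decide +kernel
  refine ⟨⟨⟨_, (good g hg).2⟩, Subgroup.mem_centralizer_singleton_iff.2 (Subtype.ext ?_)⟩,
    fun v => ((good g hg).1.apply _).trans (h v)⟩
  exact codeP_injective ((mulP_eq_codeP (good g hg).1 (good _ x0_mem).1).symm.trans
    ((key g hg).trans (mulP_eq_codeP (good _ x0_mem).1 (good g hg).1)))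

theorem std : Nonempty (Subgroup.centralizer ({X0} : Set G0) ≃* GL (Fin 2) (ZMod 3)) := by
  have := faithfulSMul_GL (Fin 2) (ZMod 3)
  refine nonempty_equiv_of_graph (compat _ (GL (Fin 2) (ZMod 3)) lab)
    (compat_one (by decide +kernel)) (fun a => ?_)
    (card0.trans (by rw [card_GL_field, ZMod.card]; decide +kernel))
  refine forall_GL (fun M : Matrix (Fin 2) (Fin 2) (ZMod 3) =>
    ∃ x : Subgroup.centralizer ({X0} : Set G0), ∀ v, x • lab v = lab (M *ᵥ v)) ?_ ?_ ?_ a
  · rintro A B ⟨x, h1⟩ ⟨y, h3⟩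
    exact ⟨x * y, fun v => by rw [mul_smul, h3, h1, mulVec_mulVec]⟩
  · intro D hD
    have key : ∀ D : Fin 2 → ZMod 3, (∀ i, D i ≠ 0) → ∃ g ∈ L1,
        ∀ v, pt (app g (idx (lab v))) = lab (diagonal D *ᵥ v) := by decide +kernel
    obtain ⟨g, hg, h1⟩ := key D hD
    exact exists_lift hg h1
  · intro i j hij c
    have key : ∀ i j : Fin 2, i ≠ j → ∀ c : ZMod 3, ∃ g ∈ L1,
        ∀ v, pt (app g (idx (lab v))) = lab (transvection i j c *ᵥ v) := by decide +kernel
    obtain ⟨g, hg, h1⟩ := key i j hij c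
    exact exists_lift hg h1

/-- centralisers correspond under an isomorphism -/
def centEquiv {G G' : Type*} [Group G] [Group G'] (e : G ≃* G') (x : G) (y : G') (h : e x = y) :
    Subgroup.centralizer ({x} : Set G) ≃* Subgroup.centralizer ({y} : Set G') :=
  { e.toEquiv.subtypeEquiv fun g => by
      rw [Subgroup.mem_centralizer_singleton_iff, Subgroup.mem_centralizer_singleton_iff, ← h]
      exact ⟨fun h => by simpa using congrArg e h, fun h => e.injective (by simpa using h)⟩ with
    map_mul' := fun a b => Subtype.ext (map_mul e a.1 b.1) }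

/-- Involution centralisers in the smallest Mathieu group are isomorphic to GL(2, 3). -/
theorem result (d : Finset Cfsg.GolayPt) (hd : d ∈ Cfsg.dodecads) (p : Cfsg.GolayPt) (hp : p ∈ d) (x : ↥(MulAction.stabilizer Cfsg.M24 d ⊓ MulAction.stabilizer Cfsg.M24 p)) (hx : orderOf x = 2) : Nonempty (↥(Subgroup.centralizer ({x} : Set ↥(MulAction.stabilizer Cfsg.M24 d ⊓ MulAction.stabilizer Cfsg.M24 p))) ≃* GL (Fin 2) (ZMod 3)) := by
  obtain ⟨e1⟩ := (orb_pd hd hp).fix_equiv
  have e0 : ↥(MulAction.stabilizer M24 d ⊓ MulAction.stabilizer M24 p) ≃*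
      CL.Chain.fix M24 [{p}, d] := by
    refine CL.Chain.equivOfMemIff _ _ (CL.Chain.fix_le _ _) fun g => ?_
    simp only [Subgroup.mem_inf, MulAction.mem_stabilizer_iff, CL.Chain.mem_fix, List.mem_cons,
      List.not_mem_nil, or_false, forall_eq_or_imp, forall_eq, smul_singleton_eq_iff, g.2, true_and]
    exact ⟨fun h => ⟨h.2, h.1⟩, fun h => ⟨h.2, h.1⟩⟩
  obtain ⟨τ, hτ⟩ := conj0 (σ := e0.trans e1 x) (by rw [MulEquiv.orderOf_eq, hx])
  obtain ⟨e'⟩ := std
  exact ⟨(centEquiv ((e0.trans e1).trans (MulAut.conj τ⁻¹)) x X0 (by simpa using hτ)).trans e'⟩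

end Cfsg.Agent.S1603
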