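import Cfsg.Statements.S1604
import Cfsg.Agent.Base
import Cfsg.Agent.M24S.Std

set_option autoImplicit false
open scoped Pointwise
open Cfsg

namespace Cfsg.Agent.S1604
open CL.Golay CL.M24S Finset

/-- generators of the stabiliser of an octad and two of its points (order 5760) -/
def gens : List ℕ := [983012862033617200569687607063644608, 975226716054837502162111984334605344]
theorem gg : goodGens [1, 8388608, 8536111] gens = true := by decide +kernel
theorem cr : checkReps octL (sgM [1, 8388608, 8536111]) gens [8499969, 8391797, 8536111] 61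
    = true := by decide +kernel
theorem ac : allClasses octL (sgM [1, 8388608, 8536111]) (fun v => Nat.beq (v % 1024) 33)
    [8499969, 8391797, 8536111] = true := by decide +kernel

/-- A hexad stabiliser in the two-point stabiliser has orbits of sizes 1, 16, 60 on the 77 hexads: the 16 hexads disjoint from it and the 60 meeting it in two points. -/
theorem result (p q : Cfsg.GolayPt) (hpq : p ≠ q) (o o' o'' : Finset Cfsg.GolayPt) (ho : o ∈ Cfsg.octads) (ho' : o' ∈ Cfsg.octads) (ho'' : o'' ∈ Cfsg.octads) (hp : p ∈ o ∧ p ∈ o' ∧ p ∈ o'') (hq : q ∈ o ∧ q ∈ o' ∧ q ∈ o'') (h : (o ∩ o').card = (o ∩ o'').card) : {x : Finset Cfsg.GolayPt | x ∈ Cfsg.octads ∧ p ∈ x ∧ q ∈ x ∧ (o ∩ x).card = 2}.ncard = 16 ∧ {x : Finset Cfsg.GolayPt | x ∈ Cfsg.octads ∧ p ∈ x ∧ q ∈ x ∧ (o ∩ x).card = 4}.ncard = 60 ∧ ∃ g : Equiv.Perm Cfsg.GolayPt, g ∈ Cfsg.M24 ∧ g p = p ∧ g q = q ∧ g • o = o ∧ g • o' = o'' := by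
  have hO := orb_qpo ho hp.1 hq.1 hpq
  have hc : ∀ k : ℕ, {x : Finset GolayPt | x ∈ octads ∧ p ∈ x ∧ q ∈ x ∧ (o ∩ x).card = k}.ncard =
      CL.M24S.cntL (fun w => force w fun w =>
        Nat.beq (sgM [1, 8388608, 8536111] w) (33 + 1024 * k)) octL := by
    intro k
    rw [← count univ_oct (inv_sg _) hO fun v => Nat.beq v (33 + 1024 * k)]
    congr 1
    ext x
    simp only [Set.mem_ofPred_eq, Nat.beq_eq, sg, card_singleton_inter, and_congr_right_iff]
    intro _
    split_ifs with h1 h2 <;> simp only [*, true_and, false_and, false_iff] <;> omega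
  refine ⟨by rw [hc]; decide +kernel, by rw [hc]; decide +kernel, ?_⟩
  obtain ⟨g, hg, h1, h2⟩ := rank univ_oct (inv_sg _) gg cr ac hO ho' ho''
    (by simp only [sg, card_singleton_inter, hp.2.1, hq.2.1, if_true, Nat.beq_eq]; omega)
    (by simp only [sg, card_singleton_inter, hp.2.1, hq.2.1, hp.2.2, hq.2.2, h])
  exact ⟨g, hg, smul_singleton_eq_iff.1 (h1 {p} (by simp)),
    smul_singleton_eq_iff.1 (h1 {q} (by simp)), h1 o (by simp), h2⟩

end Cfsg.Agent.S1604
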