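import Cfsg.Statements.S1605
import Cfsg.Agent.Base
import Cfsg.Agent.M24S.Std

set_option autoImplicit false
open scoped Pointwise
open Cfsg

namespace Cfsg.Agent.S1605
open CL.Golay CL.M24S Finset

/-- generators of the stabiliser of an octad, a point on it and a point off it (order 2520) -/
def gens : List ℕ := [976525307611553695139911453085107749, 976583413493024582960672026495322577]
theorem gg : goodGens [16, 8388608, 8536111] gens = true := by decide +kernel
theorem cr : checkReps octL (sgM [16, 8388608, 8536111]) gens [8490656, 8394986, 8536111] 106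
    = true := by decide +kernel
theorem ac : allClasses octL (sgM [16, 8388608, 8536111]) (fun v => Nat.beq (v % 1024) 32)
    [8490656, 8394986, 8536111] = true := by decide +kernel

/-- The two-point stabiliser acts on the 176 octads through the first point avoiding the second with rank 3 and subdegrees 1, 70, 105 (intersections 8, 2, 4). -/
theorem result (p q : Cfsg.GolayPt) (hpq : p ≠ q) : {x : Finset Cfsg.GolayPt | (x ∈ Cfsg.octads ∧ p ∈ x ∧ q ∉ x)}.ncard = 176 ∧ (∀ o o' : Finset Cfsg.GolayPt, (o ∈ Cfsg.octads ∧ p ∈ o ∧ q ∉ o) → (o' ∈ Cfsg.octads ∧ p ∈ o' ∧ q ∉ o') → ∃ g : Equiv.Perm Cfsg.GolayPt, g ∈ Cfsg.M24 ∧ g p = p ∧ g q = q ∧ g • o = o') ∧ ∀ o : Finset Cfsg.GolayPt, (o ∈ Cfsg.octads ∧ p ∈ o ∧ q ∉ o) → {x : Finset Cfsg.GolayPt | (x ∈ Cfsg.octads ∧ p ∈ x ∧ q ∉ x) ∧ (o ∩ x).card = 2}.ncard = 70 ∧ {x : Finset Cfsg.GolayPt | (x ∈ Cfsg.octads ∧ p ∈ x ∧ q ∉ x) ∧ (o ∩ x).card = 4}.ncard = 105 ∧ ∀ o' o'' : Finset Cfsg.GolayPt, (o'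 ∈ Cfsg.octads ∧ p ∈ o' ∧ q ∉ o') → (o'' ∈ Cfsg.octads ∧ p ∈ o'' ∧ q ∉ o'') → (o ∩ o').card = (o ∩ o'').card → ∃ g : Equiv.Perm Cfsg.GolayPt, g ∈ Cfsg.M24 ∧ g p = p ∧ g q = q ∧ g • o = o ∧ g • o' = o'' := by
  refine ⟨?_, fun o o' ho ho' => ?_, fun o ho => ?_⟩
  · have := count univ_oct (inv_sg _) (orb_qp hpq) fun v => Nat.beq v 32
    rw [show CL.M24S.cntL _ _ = 176 by decide +kernel] at this
    rw [← this]
    congr 1
    ext x
    simp only [Set.mem_ofPred_eq, Nat.beq_eq, sg, card_singleton_inter, and_congr_right_iff]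
    intro _
    split_ifs with h1 h2 <;> simp [*]
  · obtain ⟨g, hg, h⟩ := (orb_xpo ho.1 ho.2.1 ho.2.2).trans (orb_xpo ho'.1 ho'.2.1 ho'.2.2).symm
    simp only [smulL_cons, List.cons.injEq, smul_singleton_eq_iff] at h
    exact ⟨g, hg, h.2.1, h.1, h.2.2.1⟩
  have hO := orb_xpo ho.1 ho.2.1 ho.2.2
  have hc : ∀ k : ℕ, {x : Finset GolayPt | (x ∈ octads ∧ p ∈ x ∧ q ∉ x) ∧ (o ∩ x).card = k}.ncard =
      CL.M24S.cntL (fun w => force w fun w =>
        Nat.beq (sgM [16, 8388608, 8536111] w) (32 + 1024 * k)) octL := by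
    intro k
    rw [← count univ_oct (inv_sg _) hO fun v => Nat.beq v (32 + 1024 * k)]
    congr 1
    ext x
    simp only [Set.mem_ofPred_eq, Nat.beq_eq, sg, card_singleton_inter, and_assoc,
      and_congr_right_iff]
    intro _
    split_ifs with h1 h2 <;>
      simp only [*, true_and, false_and, false_iff, not_true, not_false_iff, and_false] <;> omega
  refine ⟨by rw [hc]; decide +kernel, by rw [hc]; decide +kernel, fun o' o'' ho' ho'' h => ?_⟩
  obtain ⟨g, hg, h1, h2⟩ := rank univ_oct (inv_sg _) gg cr ac hO ho'.1 ho''.1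
    (by simp only [sg, card_singleton_inter, ho'.2.1, ho'.2.2, if_true, if_false, Nat.beq_eq]; omega)
    (by simp only [sg, card_singleton_inter, ho'.2.1, ho'.2.2, ho''.2.1, ho''.2.2, h])
  exact ⟨g, hg, smul_singleton_eq_iff.1 (h1 {p} (by simp)),
    smul_singleton_eq_iff.1 (h1 {q} (by simp)), h1 o (by simp), h2⟩

end Cfsg.Agent.S1605
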