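import Cfsg.Statements.S1607
import Cfsg.Agent.Base
import Cfsg.Agent.M24S.Std

set_option autoImplicit false
open scoped Pointwise
open Cfsg

namespace Cfsg.Agent.S1607
open CL.Golay CL.M24S Finset

theorem cr : checkReps octL (sgM [8388608, 8536111]) gpO [8401364, 8391797, 8536111] 141
    = true := by decide +kernel
theorem ac : allClasses octL (sgM [8388608, 8536111]) (fun v => Nat.beq (v % 32) 1)
    [8401364, 8391797, 8536111] = true := by decide +kernel

/-- The point stabiliser acts on the 253 heptads of its S(4, 7, 23) with rank 3 and subdegrees 1, 112, 140 (intersections 8, 2, 4). -/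
theorem result (x : Cfsg.GolayPt) (o : Finset Cfsg.GolayPt) (ho : o ∈ Cfsg.octads) (hx : x ∈ o) : {o' : Finset Cfsg.GolayPt | o' ∈ Cfsg.octads ∧ x ∈ o' ∧ (o ∩ o').card = 2}.ncard = 112 ∧ {o' : Finset Cfsg.GolayPt | o' ∈ Cfsg.octads ∧ x ∈ o' ∧ (o ∩ o').card = 4}.ncard = 140 ∧ ∀ o' o'' : Finset Cfsg.GolayPt, o' ∈ Cfsg.octads → o'' ∈ Cfsg.octads → x ∈ o' → x ∈ o'' → (o ∩ o').card = (o ∩ o'').card → ∃ g : Equiv.Perm Cfsg.GolayPt, g ∈ Cfsg.M24 ∧ g x = x ∧ g • o = o ∧ g • o' = o'' := by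
  have hO := orb_po ho hx
  have hc : ∀ k : ℕ, {o' : Finset GolayPt | o' ∈ octads ∧ x ∈ o' ∧ (o ∩ o').card = k}.ncard =
      CL.M24S.cntL (fun w => force w fun w =>
        Nat.beq (sgM [8388608, 8536111] w) (1 + 32 * k)) octL := by
    intro k
    rw [← count univ_oct (inv_sg _) hO fun v => Nat.beq v (1 + 32 * k)]
    congr 1
    ext y
    simp only [Set.mem_ofPred_eq, Nat.beq_eq, sg, card_singleton_inter, and_congr_right_iff]
    intro _
    split_ifs with h1 <;> simp only [*, true_and, false_and, false_iff] <;> omega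
  refine ⟨by rw [hc]; decide +kernel, by rw [hc]; decide +kernel, fun o' o'' ho' ho'' h1 h2 h => ?_⟩
  obtain ⟨g, hg, h3, h4⟩ := rank univ_oct (inv_sg _) ggpO cr ac hO ho' ho''
    (by simp only [sg, card_singleton_inter, h1, if_true, Nat.beq_eq]; omega)
    (by simp only [sg, card_singleton_inter, h1, h2, h])
  exact ⟨g, hg, smul_singleton_eq_iff.1 (h3 {x} (by simp)), h3 o (by simp), h4⟩

end Cfsg.Agent.S1607
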