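import Cfsg.Statements.S1608
import Cfsg.Agent.Base
import Cfsg.Agent.M24S.Std

set_option autoImplicit false
open scoped Pointwise
open Cfsg

namespace Cfsg.Agent.S1608
open CL.Golay CL.M24S Finset

/-- generators of the stabiliser of an octad and a point off it (order 20160) -/
def gens : List ℕ := [735135035419660366850249860338323170, 139643772955639399839377558436611808]
theorem gg : goodGens [16, 8536111] gens = true := by decide +kernel
theorem cr : checkReps octL (sgM [16, 8536111]) gens [337856, 15777, 18147, 8536111] 281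
    = true := by decide +kernel
theorem ac : allClasses octL (sgM [16, 8536111]) (fun v => Nat.beq (v % 32) 0)
    [337856, 15777, 18147, 8536111] = true := by decide +kernel

/-- The point stabiliser acts on the 506 octads avoiding the point with rank 4 and subdegrees 1, 15, 210, 280, the suborbits being given by intersection size with the fixed octad. -/
theorem result (x : Cfsg.GolayPt) (o : Finset Cfsg.GolayPt) (ho : o ∈ Cfsg.octads) (hx : x ∉ o) : {o' : Finset Cfsg.GolayPt | o' ∈ Cfsg.octads ∧ x ∉ o' ∧ (o ∩ o').card = 0}.ncard = 15 ∧ {o' : Finset Cfsg.GolayPt | o' ∈ Cfsg.octads ∧ x ∉ o' ∧ (o ∩ o').card = 4}.ncard = 210 ∧ {o' : Finset Cfsg.GolayPt | o' ∈ Cfsg.octads ∧ x ∉ o' ∧ (o ∩ o').card = 2}.ncard = 280 ∧ ∀ o' o'' : Finset Cfsg.GolayPt, o' ∈ Cfsg.octads → o'' ∈ Cfsg.octads → x ∉ o' → x ∉ o'' → (o ∩ o').card = (o ∩ o'').card → ∃ g : Equiv.Perm Cfsg.GolayPt, g ∈ Cfsg.M24 ∧ g x = x ∧ g • o = o ∧ g • o' = o'' := by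
  have hO := orb_xo ho hx
  have hc : ∀ k : ℕ, {o' : Finset GolayPt | o' ∈ octads ∧ x ∉ o' ∧ (o ∩ o').card = k}.ncard =
      CL.M24S.cntL (fun w => force w fun w =>
        Nat.beq (sgM [16, 8536111] w) (32 * k)) octL := by
    intro k
    rw [← count univ_oct (inv_sg _) hO fun v => Nat.beq v (32 * k)]
    congr 1
    ext y
    simp only [Set.mem_ofPred_eq, Nat.beq_eq, sg, card_singleton_inter, and_congr_right_iff]
    intro _
    split_ifs with h1 <;>
      simp only [*, true_and, false_and, false_iff, not_true, not_false_iff] <;> omega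
  refine ⟨by rw [hc]; decide +kernel, by rw [hc]; decide +kernel, by rw [hc]; decide +kernel,
    fun o' o'' ho' ho'' h1 h2 h => ?_⟩
  obtain ⟨g, hg, h3, h4⟩ := rank univ_oct (inv_sg _) gg cr ac hO ho' ho''
    (by simp only [sg, card_singleton_inter, h1, if_false, Nat.beq_eq]; omega)
    (by simp only [sg, card_singleton_inter, h1, h2, h])
  exact ⟨g, hg, smul_singleton_eq_iff.1 (h3 {x} (by simp)), h3 o (by simp), h4⟩

end Cfsg.Agent.S1608
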