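import Cfsg.Statements.S1618
import Cfsg.Agent.Base
import Cfsg.Agent.S1187
import Cfsg.Agent.S0007

set_option autoImplicit false
open Cfsg

namespace Cfsg.Agent.S1618

/-- An isolated involution normalises a Sylow `q`-subgroup. -/
theorem exists_sylow_inv {G : Type*} [Group G] [Finite G] (z : G)
    (hz : Cfsg.IsIsolatedInvolution z) (q : ℕ) [Fact q.Prime] :
    ∃ P : Sylow q G, z ∈ Subgroup.normalizer ((P : Subgroup G) : Set G) := by
  obtain ⟨Q, hQ, hmax⟩ := (Set.toFinite
    {Q : Subgroup G | IsPGroup q Q ∧ z ∈ Subgroup.normalizer (Q : Set G)}).exists_maximal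
    ⟨⊥, IsPGroup.of_bot, by
      rw [Subgroup.normalizer_eq_top_iff.mpr inferInstance]; trivial⟩
  obtain ⟨P, hP⟩ := Cfsg.Agent.S1187.result z hz Q hQ.1 hQ.2
    (fun R hR hzR hle => le_antisymm (hmax ⟨hR, hzR⟩ hle) hle)
  exact ⟨P, hP ▸ hQ.2⟩

/-- A group generated by a class of involutions whose pairwise products (of distinct members) have p-power order for a fixed odd prime p has nilpotent derived subgroup. -/
theorem result {G : Type*} [Group G] [Finite G] (p : ℕ) (hp : p.Prime) (hodd : p ≠ 2) {D : Set G} (hinv : ∀ d ∈ D, orderOf d = 2) (hconj : ∃ d ∈ D, D = conjugatesOf d) (hgen : Subgroup.closure D = ⊤) (hprod : ∀ x ∈ D, ∀ y ∈ D, x ≠ y → ∃ k : ℕ, orderOf (x * y) = p ^ k) : Group.IsNilpotent ↥(commutator G) := by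
  obtain ⟨z, hzD, hD⟩ := hconj
  haveI : Fact p.Prime := ⟨hp⟩
  have hz2 : orderOf z = 2 := hinv z hzD
  have hzz : z * z = 1 := by rw [← pow_two, ← hz2, pow_orderOf_eq_one]
  have hzi : z⁻¹ = z := inv_eq_of_mul_eq_one_right hzz
  have hcD : ∀ g : G, g * z * g⁻¹ ∈ D := fun g => by
    rw [hD]; exact isConj_iff.mpr ⟨g, rfl⟩
  -- a product of two members of `D` whose order is a power of another prime is trivial
  have key : ∀ (q : ℕ), q.Prime → q ≠ p → ∀ g : G, ∀ n : ℕ, (g * z * g⁻¹ * z) ^ (q ^ n) = 1 →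
      g * z * g⁻¹ = z := by
    intro q hq hqp g n hn
    by_contra hne
    obtain ⟨k, hk⟩ := hprod _ (hcD g) _ hzD hne
    have h1 : orderOf (g * z * g⁻¹ * z) ∣ q ^ n := orderOf_dvd_of_pow_eq_one hn
    have h2 : Nat.Coprime (p ^ k) (q ^ n) :=
      Nat.Coprime.pow _ _ ((Nat.coprime_primes hp hq).mpr hqp.symm)
    rw [hk] at h1
    have h3 : p ^ k = 1 := Nat.Coprime.eq_one_of_dvd h2 h1
    rw [h3, orderOf_eq_one_iff] at hk
    apply hne
    rw [eq_inv_of_mul_eq_one_left hk, hzi]
  have hiso : Cfsg.IsIsolatedInvolution z := by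
    refine ⟨hz2, fun g hg => key 2 Nat.prime_two (Ne.symm hodd) g 1 ?_⟩
    rw [pow_one, hg.symm.mul_pow, pow_two, pow_two, hzz, mul_one]
    calc g * z * g⁻¹ * (g * z * g⁻¹) = g * (z * z) * g⁻¹ := by group
      _ = 1 := by rw [hzz]; group
  set C := Subgroup.centralizer ({z} : Set G) with hC
  have hidx : ∀ q : ℕ, q.Prime → q ≠ p → ¬ q ∣ C.index := by
    intro q hq hqp
    haveI : Fact q.Prime := ⟨hq⟩
    obtain ⟨Q, hQ⟩ := exists_sylow_inv z hiso q
    have hle : (Q : Subgroup G) ≤ C := by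
      intro x hx
      have hmem : x * z * x⁻¹ * z ∈ (Q : Subgroup G) := by
        have h1 : z * x⁻¹ * z⁻¹ ∈ (Q : Subgroup G) :=
          (Subgroup.mem_normalizer_iff.mp hQ _).mp ((Q : Subgroup G).inv_mem hx)
        have : x * z * x⁻¹ * z = x * (z * x⁻¹ * z⁻¹) := by rw [hzi]; group
        rw [this]
        exact (Q : Subgroup G).mul_mem hx h1
      obtain ⟨n, hn⟩ := Q.2 ⟨_, hmem⟩
      have := key q hq hqp x n (congrArg Subtype.val hn)
      rw [hC, Subgroup.mem_centralizer_singleton_iff]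
      calc x * z = x * z * x⁻¹ * x := by group
        _ = z * x := by rw [this]
    exact fun h => Q.not_dvd_index (h.trans (Subgroup.index_dvd_of_le hle))
  obtain ⟨P, hP⟩ := exists_sylow_inv z hiso p
  have hcop : (P : Subgroup G).index.Coprime C.index := by
    apply Nat.coprime_of_dvd
    intro q hq h1 h2
    by_cases hqp : q = p
    · subst hqp; exact P.not_dvd_index h1
    · exact hidx q hq hqp h2
  have hfac := (Cfsg.Agent.S0007.result _ _ hcop).2
  -- every member of `D` has the form `u * z` with `u ∈ P`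
  have hDform : ∀ d ∈ D, ∃ u ∈ (P : Subgroup G), d = u * z := by
    intro d hd
    rw [hD] at hd
    obtain ⟨g, rfl⟩ := isConj_iff.mp hd
    obtain ⟨u, hu, c, hc, rfl⟩ := hfac g
    have hcz : c * z = z * c := Subgroup.mem_centralizer_singleton_iff.mp hc
    refine ⟨u * (z * u⁻¹ * z⁻¹), (P : Subgroup G).mul_mem hu
      ((Subgroup.mem_normalizer_iff.mp hP _).mp ((P : Subgroup G).inv_mem hu)), ?_⟩
    calc u * c * z * (u * c)⁻¹ = u * (c * z) * c⁻¹ * u⁻¹ := by group
      _ = u * z * u⁻¹ := by rw [hcz]; group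
      _ = _ := by group
  have hnorm : (P : Subgroup G).Normal := by
    rw [← Subgroup.normalizer_eq_top_iff, eq_top_iff, ← hgen, Subgroup.closure_le]
    intro d hd
    obtain ⟨u, hu, rfl⟩ := hDform d hd
    exact Subgroup.mul_mem _ (Subgroup.le_normalizer hu) hP
  have hcomm : commutator G ≤ (P : Subgroup G) := by
    have hall : ∀ g : G, (QuotientGroup.mk g : G ⧸ (P : Subgroup G)) ∈
        Subgroup.zpowers (QuotientGroup.mk z : G ⧸ (P : Subgroup G)) := by
      intro g
      have hg : g ∈ Subgroup.closure D := hgen ▸ Subgroup.mem_top g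
      have : Subgroup.closure D ≤ (Subgroup.zpowers
          (QuotientGroup.mk z : G ⧸ (P : Subgroup G))).comap (QuotientGroup.mk' _) := by
        rw [Subgroup.closure_le]
        intro d hd
        obtain ⟨u, hu, rfl⟩ := hDform d hd
        have : (QuotientGroup.mk (u * z) : G ⧸ (P : Subgroup G)) = QuotientGroup.mk z := by
          rw [QuotientGroup.mk_mul, (QuotientGroup.eq_one_iff u).mpr hu, one_mul]
        show (QuotientGroup.mk (u * z) : G ⧸ (P : Subgroup G)) ∈ Subgroup.zpowers _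
        rw [this]
        exact Subgroup.mem_zpowers _
      exact this hg
    rw [commutator, Subgroup.commutator_le]
    intro a _ b _
    rw [← QuotientGroup.eq_one_iff]
    obtain ⟨m, hm⟩ := Subgroup.mem_zpowers_iff.mp (hall a)
    obtain ⟨n, hn⟩ := Subgroup.mem_zpowers_iff.mp (hall b)
    have : Commute (QuotientGroup.mk a : G ⧸ (P : Subgroup G)) (QuotientGroup.mk b) := by
      rw [← hm, ← hn]; exact (Commute.refl _).zpow_zpow m n
    have h2 := commutatorElement_eq_one_iff_commute.mpr this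
    rw [← h2]; rfl
  exact (P.2.to_le hcomm).isNilpotent

end Cfsg.Agent.S1618
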