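import Cfsg.Statements.S1628
import Cfsg.Agent.Spor.RuLat

set_option autoImplicit false
open Cfsg

namespace Cfsg.Agent.S1628

/-- The Conway–Wales lattice as stored is even with no vectors of true norm 2: stored norms are multiples of 8, never equal to 8, and the minimum over nonzero vectors is 16. -/
theorem result : (∀ x ∈ Cfsg.Spor.ruLattice, (8 : ℤ) ∣ Cfsg.Spor.ruNorm x) ∧ (∀ x ∈ Cfsg.Spor.ruLattice, Cfsg.Spor.ruNorm x ≠ 8) ∧ (∀ x ∈ Cfsg.Spor.ruLattice, x ≠ 0 → 16 ≤ Cfsg.Spor.ruNorm x) ∧ ∃ x ∈ Cfsg.Spor.ruLattice, Cfsg.Spor.ruNorm x = 16 := by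
  have h1 := fun x (hx : x ∈ Cfsg.Spor.ruLattice) => CL.RuLat.eight_dvd_norm (CL.RuLat.ruLattice_le hx)
  have h2 := fun x (hx : x ∈ Cfsg.Spor.ruLattice) => CL.RuLat.norm_ne_eight (CL.RuLat.ruLattice_le hx)
  refine ⟨h1, h2, fun x hx h0 => ?_, Cfsg.Spor.ruTable.getD 0 0, ?_, by decide +kernel⟩
  · have h3 := h1 x hx
    have h4 := h2 x hx
    have h5 := CL.RuLat.norm_nonneg x
    have h6 : Cfsg.Spor.ruNorm x ≠ 0 := fun h => h0 (CL.RuLat.eq_zero_of_norm h)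
    omega
  · exact AddSubgroup.mem_sInf.2 fun L hL => hL.1 _ List.mem_cons_self

end Cfsg.Agent.S1628
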