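import Cfsg.Statements.S1635
import Cfsg.Agent.Base
import Cfsg.Agent.M24S.Coset

set_option autoImplicit false
open Cfsg

namespace Cfsg.Agent.S1635
open CL.Golay CL.M24S Finset

/-- Coset leaders of the length-24 code: a coset contains a unique word of weight ≤ 3, or else exactly six words of weight 4 and none lighter. -/
theorem result (w : Cfsg.GolayPt → ZMod 2) : ({v : Cfsg.GolayPt → ZMod 2 | hammingNorm v ≤ 4 ∧ w - v ∈ Cfsg.golayCode}.ncard = 1 ∧ ∃ v : Cfsg.GolayPt → ZMod 2, hammingNorm v ≤ 3 ∧ w - v ∈ Cfsg.golayCode) ∨ ({v : Cfsg.GolayPt → ZMod 2 | hammingNorm v ≤ 4 ∧ w - v ∈ Cfsg.golayCode}.ncard = 6 ∧ ∀ v : Cfsg.GolayPt → ZMod 2, w - v ∈ Cfsg.golayCode → hammingNorm v ≤ 4 → hammingNorm v = 4) := by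
  have e : {v : GolayPt → ZMod 2 | hammingNorm v ≤ 4 ∧ w - v ∈ golayCode}.ncard =
      {t : Finset GolayPt | t.card ≤ 4 ∧ symmDiff (support₂ w) t ∈ CSet}.ncard := by
    rw [← ncard_words]
    simp only [card_support₂, sub_mem_iff]
  rw [e]
  obtain ⟨t, ht, h⟩ := exists_leader (support₂ w)
  by_cases h3 : t.card ≤ 3
  · left
    refine ⟨Set.ncard_eq_one.2 ⟨t, Set.eq_singleton_iff_unique_mem.2 ⟨⟨ht, h⟩, fun u hu =>
      eq_of_symmDiff_mem (symmDiff_mem_of hu.2 h) (by have := hu.1; omega)⟩⟩, ind t, ?_, ?_⟩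
    · rwa [← card_support₂, support_ind]
    · rwa [sub_mem_iff, support_ind]
  · right
    obtain ⟨S, ⟨hS, htS⟩, -⟩ := existsUnique_sextet (show t.card = 4 by omega)
    have key : ∀ u : Finset GolayPt, u.card ≤ 4 ∧ symmDiff (support₂ w) u ∈ CSet ↔ u ∈ S := by
      intro u
      rw [mem_sextet_iff hS htS]
      refine and_congr_right fun _ => ⟨symmDiff_mem_of h, fun h' => ?_⟩
      have := symmDiff_mem_CSet h h'
      rwa [symmDiff_assoc, symmDiff_symmDiff_cancel_left] at this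
    refine ⟨?_, fun v hv h4 => ?_⟩
    · simp only [key]
      rw [← hS.1]; exact Set.ncard_coe_finset S
    · rw [← card_support₂] at h4 ⊢
      exact hS.2.1 _ ((key _).1 ⟨h4, (sub_mem_iff _ _).1 hv⟩)

end Cfsg.Agent.S1635
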