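import Cfsg.Statements.S1637
import Cfsg.Agent.Base
import Cfsg.Agent.M24S.Coset

set_option autoImplicit false
open Cfsg

namespace Cfsg.Agent.S1637
open CL.Golay CL.M24S Finset

/-- The punctured length-23 code is a perfect 3-error-correcting code: each word of length 23 is within distance 3 of exactly one codeword. -/
theorem result (u : ZMod 23 → ZMod 2) : ∃! c : ZMod 23 → ZMod 2, c ∈ {u : ZMod 23 → ZMod 2 | ∃ w ∈ Cfsg.golayCode, ∀ x : ZMod 23, u x = w (some x)} ∧ hammingDist u c ≤ 3 := by
  have hex : ∃ s : Finset GolayPt, punc s = u ∧ Odd s.card := by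
    have h1 : punc ((support₂ u).map Function.Embedding.some) = u := by
      funext x
      conv_rhs => rw [← ind_support u]
      simp [punc, ind]
    rcases Nat.even_or_odd ((support₂ u).map Function.Embedding.some).card with h | h
    · refine ⟨insert none ((support₂ u).map Function.Embedding.some), ?_, ?_⟩
      · rw [← h1]; funext x; simp [punc, ind]
      · rw [card_insert_of_notMem (by simp)]; exact h.add_one
    · exact ⟨_, h1, h⟩
  obtain ⟨s, rfl, hs⟩ := hex
  obtain ⟨t, ht, h⟩ := exists_leader s
  refine existsUnique_of_exists_of_unique ⟨punc (symmDiff s t), mem_punc_iff.2 ⟨_, h, rfl⟩, ?_⟩ ?_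
  · rw [hammingDist_eq_hammingNorm, neg_add_eq_sub, ← punc_symmDiff,
      symmDiff_symmDiff_self', hammingNorm_punc]
    have h1 := card_symmDiff_add s t
    have h2 := four_dvd_card_of_mem_CSet h
    have h3 := card_erase_le (s := t) (a := none)
    obtain ⟨k, hk⟩ := hs
    omega
  · rintro a b ⟨ha, ha'⟩ ⟨hb, hb'⟩
    obtain ⟨x, hx, rfl⟩ := mem_punc_iff.1 ha
    obtain ⟨y, hy, rfl⟩ := mem_punc_iff.1 hb
    by_contra hne
    have h1 := seven_le (symmDiff_mem_CSet hx hy) (by rw [punc_symmDiff]; exact sub_ne_zero.2 hne)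
    have h2 := hammingDist_triangle_left (punc x) (punc y) (punc s)
    rw [punc_symmDiff, ← neg_add_eq_sub, ← hammingDist_eq_hammingNorm, hammingDist_comm] at h1
    omega

end Cfsg.Agent.S1637
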