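import Cfsg.Statements.S1638
import Cfsg.Agent.Base
import Cfsg.Agent.M24S.Rank

set_option autoImplicit false
open scoped Pointwise
open Cfsg

namespace Cfsg.Agent.S1638
open CL.Golay CL.M24S Finset

/-- generators of the stabiliser of two points (order 443520) -/
def gens1 : List ℕ := [982854446595668055083072674758480384, 957061274987137721876757164795072832]
theorem gg1 : goodGens [1, 8388608] gens1 = true := by decide +kernel
theorem cr1 : checkReps (subL 2) (sgM [1, 8388608]) gens1 [6] 232 = true := by decide +kernel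

/-- generators of the stabiliser of two points and a duad (order 1920) -/
def gens : List ℕ := [965094465281548659659880837065902112, 979567274227303435457170383282766912]
theorem gg : goodGens [6, 1, 8388608] gens = true := by decide +kernel
theorem cr : checkReps (subL 2) (sgoM [6, 1, 8388608]) gens [24, 40, 10, 6] 161 = true := by
  decide +kernel
theorem ac : allClasses (subL 2) (sgoM [6, 1, 8388608]) (fun v => Nat.beq (v / 64) 0)
    [24, 40, 10, 6] = true := by decide +kernel

open Classical in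

/-- Fix two points p ≠ q and a pair s of two further points. Among the pairs avoiding p, q and disjoint from s, exactly 30 lie in an octad together with p, q and s and exactly 160 do not; and any two pairs other than s that meet s in equally many points and agree on that octad property are carried to one another by an element of the group of the length-24 code fixing p, q and s. -/
theorem result (p q : Cfsg.GolayPt) (hpq : p ≠ q) (s : Finset Cfsg.GolayPt) (hs : (s.card = 2 ∧ p ∉ s ∧ q ∉ s)) : {t : Finset Cfsg.GolayPt | (t.card = 2 ∧ p ∉ t ∧ q ∉ t) ∧ Disjoint s t ∧ (∃ o ∈ Cfsg.octads, p ∈ o ∧ q ∈ o ∧ s ∪ t ⊆ o)}.ncard = 30 ∧ {t : Finset Cfsg.GolayPt | (t.card = 2 ∧ p ∉ t ∧ q ∉ t) ∧ Disjoint s t ∧ ¬ (∃ o ∈ Cfsg.octads, p ∈ o ∧ q ∈ o ∧ s ∪ t ⊆ o)}.ncard = 160 ∧ ∀ t t' : Finset Cfsg.GolayPt, (t.card = 2 ∧ p ∉ t ∧ q ∉ t) → (t'.card = 2 ∧ p ∉ t' ∧ q ∉ t') → t ≠ s → t' ≠ s → (s ∩ t).card = (s ∩ t').card → ((∃ o ∈ Cfsg.octads, p ∈ o ∧ q ∈ o ∧ s ∪ t ⊆ o) ↔ (∃ o ∈ Cfsg.octads, p ∈ o ∧ q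 ∈ o ∧ s ∪ t' ⊆ o)) → ∃ g : Equiv.Perm Cfsg.GolayPt, g ∈ Cfsg.M24 ∧ g p = p ∧ g q = q ∧ g • s = s ∧ g • t = t' := by
  have hO : Orb [s, {q}, {p}] ([6, 1, 8388608].map ofMask) :=
    step univ_sub2 (inv_sg _) gg1 cr1 (orb_qp hpq) hs.1 (by decide)
      (by simp only [sg, card_singleton_inter, hs.2.1, hs.2.2]; decide +kernel)
  have hs' : ∀ t : Finset GolayPt, sgo [s, {q}, {p}] t = 2 * ((s ∩ t).card +
      32 * ((if q ∈ t then 1 else 0) + 32 * (if p ∈ t then 1 else 0))) +
      if ∃ o ∈ octads, p ∈ o ∧ q ∈ o ∧ s ∪ t ⊆ o then 1 else 0 := by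
    intro t
    unfold sgo
    have : (∃ o ∈ octads, unL [s, {q}, {p}] ∪ t ⊆ o) ↔
        ∃ o ∈ octads, p ∈ o ∧ q ∈ o ∧ s ∪ t ⊆ o := by
      simp only [unL, List.foldr, union_subset_iff, singleton_subset_iff, empty_subset, and_true]
      exact exists_congr fun o => by tauto
    simp only [sg, card_singleton_inter, mul_zero, add_zero]
    congr 1
    by_cases h : ∃ o ∈ octads, p ∈ o ∧ q ∈ o ∧ s ∪ t ⊆ o
    · rw [if_pos h, if_pos (this.2 h)]
    · rw [if_neg h, if_neg fun h' => h (this.1 h')]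
  have hd : ∀ U : Finset GolayPt, Disjoint s U ↔ (s ∩ U).card = 0 := fun U => by
    rw [card_eq_zero, disjoint_iff_inter_eq_empty]
  refine ⟨?_, ?_, fun t t' ht ht' _ _ h1 h3 => ?_⟩
  · have := count univ_sub2 (inv_sgo _) hO fun v => Nat.beq v 1
    rw [show CL.M24S.cntL _ _ = 30 by decide +kernel] at this
    rw [← this]
    congr 1
    ext U
    simp only [Set.mem_ofPred_eq, Nat.beq_eq, hs', hd, and_assoc, and_congr_right_iff]
    intro _
    split_ifs <;> simp only [*, not_true, not_false_iff, true_and, and_true, false_and, and_false,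
      false_iff] <;> omega
  · have := count univ_sub2 (inv_sgo _) hO fun v => Nat.beq v 0
    rw [show CL.M24S.cntL _ _ = 160 by decide +kernel] at this
    rw [← this]
    congr 1
    ext U
    simp only [Set.mem_ofPred_eq, Nat.beq_eq, hs', hd, and_assoc, and_congr_right_iff]
    intro _
    split_ifs <;> simp only [*, not_true, not_false_iff, true_and, and_true, false_and, and_false,
      false_iff] <;> omega
  · obtain ⟨g, hg, h4, h5⟩ := rank univ_sub2 (inv_sgo _) gg cr ac hO ht.1 ht'.1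
      (by
        have := card_le_24 (s ∩ t)
        rw [hs', if_neg ht.2.1, if_neg ht.2.2, Nat.beq_eq]
        split_ifs <;> omega)
      (by
        rw [hs', hs', h1, if_neg ht.2.1, if_neg ht.2.2, if_neg ht'.2.1, if_neg ht'.2.2]
        by_cases h : ∃ o ∈ octads, p ∈ o ∧ q ∈ o ∧ s ∪ t ⊆ o
        · rw [if_pos h, if_pos (h3.1 h)]
        · rw [if_neg h, if_neg fun h' => h (h3.2 h')])
    exact ⟨g, hg, smul_singleton_eq_iff.1 (h4 {p} (by simp)),
      smul_singleton_eq_iff.1 (h4 {q} (by simp)), h4 s (by simp), h5⟩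

end Cfsg.Agent.S1638
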