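import Cfsg.Statements.S1639
import Cfsg.Agent.Base
import Cfsg.Agent.M24S.Std

set_option autoImplicit false
open scoped Pointwise
open Cfsg

namespace Cfsg.Agent.S1639
open CL.Golay CL.M24S Finset

theorem cr : checkReps dodL (sgM [8388608, 8449646]) gpD [8861075, 8460281, 8419127, 8449646] 793
    = true := by decide +kernel
theorem ac : allClasses dodL (sgM [8388608, 8449646]) (fun v => Nat.beq (v % 32) 1)
    [8861075, 8460281, 8419127, 8449646] = true := by decide +kernel

/-- The point stabiliser acts on the 1288 dodecads through the point with rank 4 and subdegrees 1, 165, 330, 792, distinguished by intersection 4, 8, 6 with the fixed dodecad. -/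
theorem result (x : Cfsg.GolayPt) (d : Finset Cfsg.GolayPt) (hd : d ∈ Cfsg.dodecads) (hx : x ∈ d) : {d' : Finset Cfsg.GolayPt | d' ∈ Cfsg.dodecads ∧ x ∈ d' ∧ (d ∩ d').card = 4}.ncard = 165 ∧ {d' : Finset Cfsg.GolayPt | d' ∈ Cfsg.dodecads ∧ x ∈ d' ∧ (d ∩ d').card = 8}.ncard = 330 ∧ {d' : Finset Cfsg.GolayPt | d' ∈ Cfsg.dodecads ∧ x ∈ d' ∧ (d ∩ d').card = 6}.ncard = 792 ∧ ∀ d' d'' : Finset Cfsg.GolayPt, d' ∈ Cfsg.dodecads → d'' ∈ Cfsg.dodecads → x ∈ d' → x ∈ d'' → (d ∩ d').card = (d ∩ d'').card → ∃ g : Equiv.Perm Cfsg.GolayPt, g ∈ Cfsg.M24 ∧ g x = x ∧ g • d = d ∧ g • d' = d'' := by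
  have hO := orb_pd hd hx
  have hc : ∀ k : ℕ, {o' : Finset GolayPt | o' ∈ dodecads ∧ x ∈ o' ∧ (d ∩ o').card = k}.ncard =
      CL.M24S.cntL (fun w => force w fun w =>
        Nat.beq (sgM [8388608, 8449646] w) (1 + 32 * k)) dodL := by
    intro k
    rw [← count univ_dod (inv_sg _) hO fun v => Nat.beq v (1 + 32 * k)]
    congr 1
    ext y
    simp only [Set.mem_ofPred_eq, Nat.beq_eq, sg, card_singleton_inter, and_congr_right_iff]
    intro _
    split_ifs with h1 <;> simp only [*, true_and, false_and, false_iff] <;> omega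
  refine ⟨by rw [hc]; decide +kernel, by rw [hc]; decide +kernel, by rw [hc]; decide +kernel,
    fun o' o'' ho' ho'' h1 h2 h => ?_⟩
  obtain ⟨g, hg, h3, h4⟩ := rank univ_dod (inv_sg _) ggpD cr ac hO ho' ho''
    (by simp only [sg, card_singleton_inter, h1, if_true, Nat.beq_eq]; omega)
    (by simp only [sg, card_singleton_inter, h1, h2, h])
  exact ⟨g, hg, smul_singleton_eq_iff.1 (h3 {x} (by simp)), h3 d (by simp), h4⟩

end Cfsg.Agent.S1639
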