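import Cfsg.Statements.S1641
import Cfsg.Agent.Base
import Cfsg.Agent.Spor.CoOrbSmall

set_option autoImplicit false
open Cfsg

namespace Cfsg.Agent.S1641

/-- The third Conway group acts on the 11178 cosets of the Higman–Sims group with rank 5 and subdegrees 1, 352, 1100, 4125, 5600. -/
theorem result (u x : ↥Cfsg.leechLattice) (hu : Cfsg.sqNorm (u : Cfsg.GolayPt → ℤ) = 48) (hx : x ∈ {x : ↥Cfsg.leechLattice | Cfsg.sqNorm (x : Cfsg.GolayPt → ℤ) = 32 ∧ Cfsg.dotInt (u : Cfsg.GolayPt → ℤ) (x : Cfsg.GolayPt → ℤ) = -16}) : ∃ y₁ ∈ {x : ↥Cfsg.leechLattice | Cfsg.sqNorm (x : Cfsg.GolayPt → ℤ) = 32 ∧ Cfsg.dotInt (u : Cfsg.GolayPt → ℤ) (x : Cfsg.GolayPt → ℤ) = -16}, ∃ y₂ ∈ {x : ↥Cfsg.leechLattice | Cfsg.sqNorm (x : Cfsg.GolayPt → ℤ) = 32 ∧ Cfsg.dotInt (u : Cfsg.GolayPt → ℤ) (x : Cfsg.GolayPt → ℤ)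 = -16}, ∃ y₃ ∈ {x : ↥Cfsg.leechLattice | Cfsg.sqNorm (x : Cfsg.GolayPt → ℤ) = 32 ∧ Cfsg.dotInt (u : Cfsg.GolayPt → ℤ) (x : Cfsg.GolayPt → ℤ) = -16}, ∃ y₄ ∈ {x : ↥Cfsg.leechLattice | Cfsg.sqNorm (x : Cfsg.GolayPt → ℤ) = 32 ∧ Cfsg.dotInt (u : Cfsg.GolayPt → ℤ) (x : Cfsg.GolayPt → ℤ) = -16}, (MulAction.orbit ↥(MulAction.stabilizer ↥Cfsg.Co0 u ⊓ MulAction.stabilizer ↥Cfsg.Co0 x) y₁).ncard = 352 ∧ (MulAction.orbit ↥(MulAction.stabilizer ↥Cfsg.Co0 u ⊓ MulAction.stabilizer ↥Cfsg.Co0 x) y₂).ncard = 1100 ∧ (MulAction.orbit ↥(MulAction.stabilizer ↥Cfsg.Co0 u ⊓ MulAction.stabilizer ↥Cfsg.Co0 x) y₃).ncard = 4125 ∧ (MulAction.orbit ↥(MulAction.stabilizer ↥Cfsg.Co0 u ⊓ MulAction.stabilizer ↥Cfsg.Co0 x) y₄).ncard = 5600 ∧ {x : ↥Cfsg.leechLattice | Cfsg.sqNorm (x : Cfsg.GolayPt → ℤ) = 32 ∧ Cfsg.dotInt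 (u : Cfsg.GolayPt → ℤ) (x : Cfsg.GolayPt → ℤ) = -16} = {x} ∪ MulAction.orbit ↥(MulAction.stabilizer ↥Cfsg.Co0 u ⊓ MulAction.stabilizer ↥Cfsg.Co0 x) y₁ ∪ MulAction.orbit ↥(MulAction.stabilizer ↥Cfsg.Co0 u ⊓ MulAction.stabilizer ↥Cfsg.Co0 x) y₂ ∪ MulAction.orbit ↥(MulAction.stabilizer ↥Cfsg.Co0 u ⊓ MulAction.stabilizer ↥Cfsg.Co0 x) y₃ ∪ MulAction.orbit ↥(MulAction.stabilizer ↥Cfsg.Co0 u ⊓ MulAction.stabilizer ↥Cfsg.Co0 x) y₄ := by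
  have key : ∀ (c : ℤ) (n : ℕ), {y | CL.Co.nrm y = 32 ∧ CL.Co.ip u y = -16 ∧
      CL.Co.ip x y = c}.ncard = n + 1 → ∃ y, (CL.Co.nrm y = 32 ∧ CL.Co.ip u y = -16) ∧
        MulAction.orbit ↥(MulAction.stabilizer Co0 u ⊓ MulAction.stabilizer Co0 x) y =
        {y | CL.Co.nrm y = 32 ∧ CL.Co.ip u y = -16 ∧ CL.Co.ip x y = c} := by
    intro c n h
    obtain ⟨y, hy, hy1, hy3⟩ := Set.nonempty_of_ncard_ne_zero (h.trans_ne (Nat.succ_ne_zero n))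
    refine ⟨y, ⟨hy, hy1⟩, CL.Co.orbit_eq_of ?_ ?_⟩
    · rintro g ⟨g1, g3⟩
      simp only [Set.mem_ofPred_eq, CL.Co.nrm_smul, CL.Co.ip_smul_of_fix g1,
        CL.Co.ip_smul_of_fix g3]
      exact ⟨hy, hy1, hy3⟩
    · rintro z ⟨hz, hz1, hz3⟩
      obtain ⟨g, g1, g3, g4⟩ := CL.Co.sub_11178_trans hu hx.1 hx.2 hy hy1 hz hz1
        (hy3.trans hz3.symm)
      exact ⟨g, ⟨g1, g3⟩, g4⟩
  obtain ⟨h1, h2, h3, h4⟩ := CL.Co.sub_11178_ncard hu hx.1 hx.2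
  obtain ⟨y1, a1, b1⟩ := key _ _ h1
  obtain ⟨y2, a2, b2⟩ := key _ _ h2
  obtain ⟨y3, a3, b3⟩ := key _ _ h3
  obtain ⟨y4, a4, b4⟩ := key _ _ h4
  refine ⟨y1, a1, y2, a2, y3, a3, y4, a4, by rw [b1, h1], by rw [b2, h2], by rw [b3, h3],
    by rw [b4, h4], ?_⟩
  rw [b1, b2, b3, b4]
  ext y
  simp only [Set.mem_union, Set.mem_singleton_iff, Set.mem_ofPred_eq]
  constructor
  · rintro ⟨hy, hy1⟩
    rcases CL.Co.sub_11178_ip hu hx.1 hx.2 hy hy1 with e | e | e | e | e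
    · exact Or.inl (Or.inl (Or.inl (Or.inl (CL.Co.eq_of_ip hx.1 hy e))))
    · exact Or.inl (Or.inl (Or.inl (Or.inr ⟨hy, hy1, e⟩)))
    · exact Or.inl (Or.inl (Or.inr ⟨hy, hy1, e⟩))
    · exact Or.inl (Or.inr ⟨hy, hy1, e⟩)
    · exact Or.inr ⟨hy, hy1, e⟩
  · rintro ((((rfl | h) | h) | h) | h)
    · exact hx
    all_goals exact ⟨h.1, h.2.1⟩

end Cfsg.Agent.S1641
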