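import Cfsg.Statements.S1717
import Cfsg.Agent.S1339
import Cfsg.Agent.Transfer.SylowIn

set_option autoImplicit false
open Cfsg

namespace Cfsg.Agent.S1717

open Subgroup Matrix Matrix.SpecialLinearGroup Cfsg.Agent.S1339

abbrev SL5 := Matrix.SpecialLinearGroup (Fin 5) (ZMod 2)

theorem h01 : (0 : Fin 5) ≠ 1 := by decide

/-- an element of a Sylow 2-subgroup of `C(s)` central in it is `1` or `s` -/
theorem center_sylow {F : Type*} [Field F] (hz : ∀ c : F, c ≠ 0 → c = 1) (h2 : (2 : F) = 0)
    {n : ℕ} {i j : Fin n} (hij : i ≠ j) (s : (Matrix.SpecialLinearGroup (Fin n) F)) (hs : s = transvection hij 1)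
    (C : Subgroup (Matrix.SpecialLinearGroup (Fin n) F)) (hC : ∀ x, x ∈ C ↔ x * s = s * x) (T : Sylow 2 C) (g : C)
    (hg : ∀ x ∈ (T : Subgroup C), x * g = g * x) :
    (g : (Matrix.SpecialLinearGroup (Fin n) F)) = 1 ∨ (g : (Matrix.SpecialLinearGroup (Fin n) F)) = s := by
  set e : Fin n → F := Pi.single i 1 with he
  have he0 : e ≠ 0 := by simp [he]
  have hcomm : ∀ g ∈ C, ∀ v : Fin n → F, v j • g • e = (g • v) j • e := by
    intro g hg v
    have h1 := (hC g).1 hg
    have h3 : g • s • v = s • g • v := by rw [← mul_smul, ← mul_smul, h1]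
    rwa [hs, transvection_smul, transvection_smul, smul_add, add_right_inj, smul_comm, ← he] at h3
  have hfix : ∀ g ∈ C, g • e = e := by
    intro g hg
    have h3 := hcomm g hg (Pi.single j 1)
    rw [Pi.single_eq_same, one_smul] at h3
    rw [h3, hz ((g • (Pi.single j 1 : Fin n → F)) j) (fun h => ?_), one_smul]
    rw [h, zero_smul, smul_eq_iff_eq_inv_smul, smul_zero] at h3
    exact he0 h3
  have hfun : ∀ g ∈ C, ∀ v : Fin n → F, (g • v) j = v j := by
    intro g hg v
    have h3 := hcomm g hg v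
    rw [hfix g hg] at h3
    exact (smul_left_injective _ he0 h3).symm
  let A : Subgroup C :=
    { carrier := {g | ∀ v : Fin n → F, ∃ c : F, (g : (Matrix.SpecialLinearGroup (Fin n) F)) • v = v + c • e}
      mul_mem' := fun {a b} ha hb v => by
        obtain ⟨c, hc⟩ := hb v
        obtain ⟨d, hd⟩ := ha ((b : (Matrix.SpecialLinearGroup (Fin n) F)) • v)
        refine ⟨c + d, ?_⟩
        rw [Subgroup.coe_mul, mul_smul, hd, hc, add_smul, add_assoc]
      one_mem' := fun v => ⟨0, by simp⟩
      inv_mem' := fun {a} ha v => by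
        obtain ⟨c, hc⟩ := ha ((a : (Matrix.SpecialLinearGroup (Fin n) F))⁻¹ • v)
        refine ⟨-c, ?_⟩
        rw [smul_inv_smul] at hc
        rw [Subgroup.coe_inv, neg_smul, ← sub_eq_add_neg, eq_sub_iff_add_eq, ← hc] }
  have hAn : A.Normal := ⟨fun a ha g v => by
    obtain ⟨c, hc⟩ := ha ((g : (Matrix.SpecialLinearGroup (Fin n) F))⁻¹ • v)
    refine ⟨c, ?_⟩
    rw [Subgroup.coe_mul, Subgroup.coe_mul, Subgroup.coe_inv, mul_smul, mul_smul, hc, smul_add,
      smul_inv_smul, smul_comm, hfix g g.2]⟩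
  have hAp : IsPGroup 2 A := fun a => ⟨1, Subtype.ext (Subtype.ext (ext_smul fun v => by
    obtain ⟨c, hc⟩ := a.2 v
    simp only [pow_one, sq, Subgroup.coe_mul, mul_smul, OneMemClass.coe_one, one_smul]
    rw [hc, smul_add, hc, smul_comm, hfix _ a.1.2, add_assoc, ← two_smul F, h2, zero_smul,
      add_zero]))⟩
  let B : Subgroup C :=
    { carrier := {g | ∃ w : Fin n → F, ∀ v : Fin n → F, (g : (Matrix.SpecialLinearGroup (Fin n) F)) • v = v + v j • w}
      mul_mem' := fun {a b} ⟨w, hw⟩ ⟨u, hu⟩ => ⟨u + w, fun v => by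
        rw [Subgroup.coe_mul, mul_smul, hw, hfun _ b.2, hu, smul_add, add_assoc]⟩
      one_mem' := ⟨0, by simp⟩
      inv_mem' := fun {a} ⟨w, hw⟩ => ⟨-w, fun v => by
        have h := hw ((a : (Matrix.SpecialLinearGroup (Fin n) F))⁻¹ • v)
        rw [smul_inv_smul, hfun _ (C.inv_mem a.2)] at h
        rw [Subgroup.coe_inv, smul_neg, ← sub_eq_add_neg, eq_sub_iff_add_eq, ← h]⟩ }
  have hBn : B.Normal := ⟨fun a ⟨w, hw⟩ g => ⟨(g : (Matrix.SpecialLinearGroup (Fin n) F)) • w, fun v => by
    rw [Subgroup.coe_mul, Subgroup.coe_mul, Subgroup.coe_inv, mul_smul, mul_smul, hw, smul_add,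
      smul_inv_smul, smul_comm, hfun _ (C.inv_mem g.2)]⟩⟩
  have hBp : IsPGroup 2 B := fun a => ⟨1, Subtype.ext (Subtype.ext (ext_smul fun v => by
    obtain ⟨w, hw⟩ := a.2
    simp only [pow_one, sq, Subgroup.coe_mul, mul_smul, OneMemClass.coe_one, one_smul]
    rw [hw, hfun _ a.1.2, hw, add_assoc, ← two_smul F, h2, zero_smul, add_zero]))⟩
  have hAT := hAp.le_sylow_of_normal T
  have hBT := hBp.le_sylow_of_normal T
  have key : ∀ (v : Fin n → F) (l : Fin n), i ≠ l → ((g : (Matrix.SpecialLinearGroup (Fin n) F)) • v) l = v l := by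
    intro v l hl
    have hT : transvection hl (1 : F) ∈ C := by
      rw [hC, hs]
      refine ext_smul fun w => ?_
      simp only [mul_smul, transvection_smul, Pi.add_apply, Pi.smul_apply,
        Pi.single_eq_of_ne hl.symm, Pi.single_eq_of_ne hij.symm, smul_zero, add_zero]
      abel
    have h1 := congrArg Subtype.val
      (hg ⟨_, hT⟩ (hAT fun w => ⟨w l, transvection_smul hl w⟩))
    have h3 : transvection hl (1 : F) • (g : (Matrix.SpecialLinearGroup (Fin n) F)) • v =
        (g : (Matrix.SpecialLinearGroup (Fin n) F)) • transvection hl (1 : F) • v := by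
      rw [← mul_smul, ← mul_smul]
      exact congrArg (· • v) h1
    rw [transvection_smul, transvection_smul, smul_add, add_right_inj, smul_comm, ← he,
      hfix g g.2] at h3
    exact smul_left_injective _ he0 h3
  have key2 : ∀ k : Fin n, k ≠ j →
      (g : (Matrix.SpecialLinearGroup (Fin n) F)) • (Pi.single k 1 : Fin n → F) = Pi.single k 1 := by
    intro k hk
    have hT : transvection hk (1 : F) ∈ C := by
      rw [hC, hs]
      refine ext_smul fun w => ?_
      simp only [mul_smul, transvection_smul, Pi.add_apply, Pi.smul_apply,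
        Pi.single_eq_of_ne hk.symm, Pi.single_eq_of_ne hij.symm, smul_zero, add_zero]
      abel
    have h1 := congrArg Subtype.val
      (hg ⟨_, hT⟩ (hBT ⟨Pi.single k 1, fun w => transvection_smul hk w⟩))
    have h3 : transvection hk (1 : F) • (g : (Matrix.SpecialLinearGroup (Fin n) F)) • (Pi.single j 1 : Fin n → F) =
        (g : (Matrix.SpecialLinearGroup (Fin n) F)) • transvection hk (1 : F) • (Pi.single j 1 : Fin n → F) := by
      rw [← mul_smul, ← mul_smul]
      exact congrArg (· • (Pi.single j 1 : Fin n → F)) h1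
    rw [transvection_smul, transvection_smul, smul_add, add_right_inj, hfun _ g.2,
      Pi.single_eq_same, one_smul] at h3
    exact h3.symm
  have hent : ∀ k l : Fin n, ((g : (Matrix.SpecialLinearGroup (Fin n) F)) : Matrix (Fin n) (Fin n) F) l k =
      ((g : (Matrix.SpecialLinearGroup (Fin n) F)) • (Pi.single k 1 : Fin n → F)) l := by
    intro k l
    simp [Matrix.SpecialLinearGroup.smul_def]
  have hgen : ∀ k l : Fin n, ¬ (l = i ∧ k = j) →
      ((g : (Matrix.SpecialLinearGroup (Fin n) F)) : Matrix (Fin n) (Fin n) F) l k = (1 : Matrix (Fin n) (Fin n) F) l k := by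
    intro k l hkl
    rw [hent, Matrix.one_apply]
    by_cases hl : l = i
    · rw [key2 k fun h => hkl ⟨hl, h⟩, Pi.single_apply]
    · rw [key _ l (Ne.symm hl), Pi.single_apply]
  by_cases hc : ((g : (Matrix.SpecialLinearGroup (Fin n) F)) : Matrix (Fin n) (Fin n) F) i j = 0
  · left
    ext l k
    by_cases hkl : l = i ∧ k = j
    · rw [hkl.1, hkl.2, hc]; simp [hij]
    · exact hgen k l hkl
  · right
    ext l k
    rw [hs, transvection_coe, Matrix.add_apply]
    by_cases hkl : l = i ∧ k = j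
    · rw [hkl.1, hkl.2, hz _ hc]; simp [hij]
    · rw [hgen k l hkl, Matrix.single_apply_of_ne _ _ _ _ _ fun h => hkl ⟨h.1.symm, h.2.symm⟩,
        add_zero]

/-- Let G be a finite group with an involution z whose centraliser C is isomorphic to the centraliser of a transvection of SL(5, 2). Then a Sylow 2-subgroup of C, viewed in G, is a Sylow 2-subgroup of G (its index in G is odd). -/
theorem result {G : Type*} [Group G] [Finite G] (s : Matrix.SpecialLinearGroup (Fin 5) (ZMod 2)) (hs : (s : Matrix (Fin 5) (Fin 5) (ZMod 2)) = Matrix.transvection 0 1 1) (z : G) (hz : orderOf z = 2) (e : (Subgroup.centralizer ({z} : Set G)) ≃* Subgroup.centralizer ({s} : Set (Matrix.SpecialLinearGroup (Fin 5) (ZMod 2)))) (T : Sylow 2 (Subgroup.centralizer ({z} : Set G))) : ¬ 2 ∣ ((T : Subgroup (Subgroup.centralizer ({z} : Set G))).map (Subgroup.subtype (Subgroup.centralizer ({z} : Set G)))).index := by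
  have hs' : s = transvection h01 1 := Subtype.ext hs
  let C := centralizer ({z} : Set G)
  have hzC : z ∈ C := mem_centralizer_singleton_iff.2 rfl
  have hz1 : z ≠ 1 := fun h => by rw [h, orderOf_one] at hz; exact absurd hz (by decide)
  have key : ∀ g : C, (∀ x ∈ (T : Subgroup C), x * g = g * x) → g ≠ 1 →
      (e g : SL5) = s := by
    intro g hg hg1
    refine (center_sylow (by decide) rfl h01 s hs' _ (fun _ => mem_centralizer_singleton_iff)
      (T.mapSurjective (f := (e : C →* _)) e.surjective) (e g) ?_).resolve_left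
      fun h => hg1 (e.injective (by rw [map_one]; exact Subtype.ext h))
    rintro _ ⟨x, hx, rfl⟩
    exact (map_mul e x g).symm.trans ((congrArg e (hg x hx)).trans (map_mul e g x))
  have hzc : ∀ x : C, x * ⟨z, hzC⟩ = ⟨z, hzC⟩ * x := fun x =>
    Subtype.ext (mem_centralizer_singleton_iff.1 x.2)
  have hzT : (⟨z, hzC⟩ : C) ∈ (T : Subgroup C) := by
    have hn : (zpowers (⟨z, hzC⟩ : C)).Normal := ⟨by
      rintro _ ⟨k, rfl⟩ g
      have : Commute g ⟨z, hzC⟩ := hzc g
      rw [(this.zpow_right k).eq, mul_inv_cancel_right]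
      exact ⟨k, rfl⟩⟩
    have hp : IsPGroup 2 (zpowers (⟨z, hzC⟩ : C)) := IsPGroup.of_card (n := 1)
      (by rw [Nat.card_zpowers, ← orderOf_coe, hz, pow_one])
    exact hp.le_sylow_of_normal T (mem_zpowers _)
  let T0 := (T : Subgroup C).map C.subtype
  have hT0p : IsPGroup 2 T0 := T.isPGroup'.map _
  obtain ⟨S, hS⟩ := hT0p.exists_le_sylow
  have hST : T0 = S := by
    by_contra hne
    obtain ⟨x, ⟨hxS, hxN⟩, hxT⟩ := SetLike.exists_of_lt
      (CL.Transfer.lt_inf_normalizer S.isPGroup' (lt_of_le_of_ne hS hne))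
    obtain ⟨y, hy, hyx⟩ : x * z * x⁻¹ ∈ T0 := (hxN z).1 ⟨_, hzT, rfl⟩
    have hyx' : (y : G) = x * z * x⁻¹ := hyx
    have h1 : e y = e ⟨z, hzC⟩ := by
      apply Subtype.ext
      rw [key ⟨z, hzC⟩ (fun x _ => hzc x) (fun h => hz1 (congrArg Subtype.val h)), key y]
      · intro w hw
        obtain ⟨u, -, hu⟩ : x⁻¹ * w * x ∈ T0 := (mem_normalizer_iff''.1 hxN w).1 ⟨w, hw, rfl⟩
        have hu' : (u : G) = x⁻¹ * w * x := hu
        have h2 := mem_centralizer_singleton_iff.1 u.2
        apply Subtype.ext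
        rw [Subgroup.coe_mul, Subgroup.coe_mul, hyx']
        rw [hu'] at h2
        calc (w : G) * (x * z * x⁻¹) = x * (x⁻¹ * w * x * z) * x⁻¹ := by group
          _ = x * (z * (x⁻¹ * w * x)) * x⁻¹ := by rw [h2]
          _ = x * z * x⁻¹ * w := by group
      · intro h
        rw [h, OneMemClass.coe_one, eq_comm, mul_inv_eq_one, mul_eq_left] at hyx'
        exact hz1 hyx'
    have h2 : x * z * x⁻¹ = z := hyx'.symm.trans (congrArg Subtype.val (e.injective h1))
    have hxC : x ∈ C := mem_centralizer_singleton_iff.2 (mul_inv_eq_iff_eq_mul.1 h2)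
    have h3 : (S : Subgroup G).subgroupOf C = T :=
      T.is_maximal' S.isPGroup'.comap_subtype (map_le_iff_le_comap.1 hS)
    exact hxT ⟨⟨x, hxC⟩, h3 ▸ hxS, rfl⟩
  have h := S.not_dvd_index
  rw [← hST] at h
  exact h

end Cfsg.Agent.S1717
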