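import Cfsg.Statements.S1755
import Cfsg.Agent.Base
import Cfsg.Agent.ClsK.Large

set_option autoImplicit false
open Cfsg

namespace Cfsg.Agent.S1755

/-- Let G be a finite group and let z be an involution of G such that Q, the generalized Fitting subgroup of the centralizer C of z, is a 2-group of symplectic type (every characteristic abelian subgroup of Q is cyclic). Let B be a characteristic abelian subgroup of Q, viewed as a subgroup of G. Then for every g in G, the conjugate of B by g either equals B or meets B trivially. -/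
theorem result {G : Type*} [Group G] [Finite G] (z : G) (hz : orderOf z = 2) (hQ : Cfsg.IsOfSymplecticType ↥(Cfsg.generalizedFittingSubgroup ↥(Subgroup.centralizer ({z} : Set G))))
    (B : Subgroup ↥(Cfsg.generalizedFittingSubgroup ↥(Subgroup.centralizer ({z} : Set G)))) (hBc : B.Characteristic) (hBa : IsMulCommutative ↥B) (g : G) :
    ((B.map (Cfsg.generalizedFittingSubgroup ↥(Subgroup.centralizer ({z} : Set G))).subtype).map (Subgroup.centralizer ({z} : Set G)).subtype).map (MulAut.conj g).toMonoidHom =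
        (B.map (Cfsg.generalizedFittingSubgroup ↥(Subgroup.centralizer ({z} : Set G))).subtype).map (Subgroup.centralizer ({z} : Set G)).subtype ∨
      ((B.map (Cfsg.generalizedFittingSubgroup ↥(Subgroup.centralizer ({z} : Set G))).subtype).map (Subgroup.centralizer ({z} : Set G)).subtype).map (MulAut.conj g).toMonoidHom ⊓
        (B.map (Cfsg.generalizedFittingSubgroup ↥(Subgroup.centralizer ({z} : Set G))).subtype).map (Subgroup.centralizer ({z} : Set G)).subtype = ⊥ := by
  have : Fact (Nat.Prime 2) := ⟨Nat.prime_two⟩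
  let C := Subgroup.centralizer ({z} : Set G)
  have hC : C = Subgroup.centralizer ({z} : Set G) := rfl
  let B' := (B.map (Cfsg.generalizedFittingSubgroup C).subtype).map C.subtype
  have hB' : B' = (B.map (Cfsg.generalizedFittingSubgroup C).subtype).map C.subtype := rfl
  have hinj : Function.Injective (C.subtype.comp (Cfsg.generalizedFittingSubgroup C).subtype) :=
    C.subtype_injective.comp (Subgroup.subtype_injective _)
  have hB'2 : B' = B.map (C.subtype.comp (Cfsg.generalizedFittingSubgroup C).subtype) := by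
    rw [hB', Subgroup.map_map]
  obtain ⟨z₁, hz₁, hzz⟩ := CL.ClsK.self_mem_fstarOf_centralizer z
  have hzz' : (z₁ : G) = z := hzz
  have hzc : (⟨z₁, hz₁⟩ : Cfsg.generalizedFittingSubgroup C) ∈ Subgroup.center _ := by
    rw [Subgroup.mem_center_iff]
    intro g
    apply Subtype.ext; apply Subtype.ext
    show ((g : C) : G) * z₁ = z₁ * ((g : C) : G)
    rw [hzz']
    exact Subgroup.mem_centralizer_singleton_iff.1 (g : C).2
  have hz1 : (⟨z₁, hz₁⟩ : Cfsg.generalizedFittingSubgroup C) ≠ 1 := by
    intro h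
    have : (z₁ : G) = 1 := congrArg (fun x : Cfsg.generalizedFittingSubgroup C => ((x : C) : G)) h
    rw [← hzz', this] at hz
    simp at hz
  have hz2 : (⟨z₁, hz₁⟩ : Cfsg.generalizedFittingSubgroup C) * ⟨z₁, hz₁⟩ = 1 := by
    apply Subtype.ext; apply Subtype.ext
    show (z₁ : G) * z₁ = 1
    rw [hzz', ← sq, ← hz, pow_orderOf_eq_one]
  have hinv : ∀ x ∈ B', orderOf x = 2 → x = z := by
    rw [hB'2]
    rintro _ ⟨b, hb, rfl⟩ hx
    rw [orderOf_injective _ hinj] at hx
    have hb2 : b * b = 1 := by rw [← sq, ← hx, pow_orderOf_eq_one]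
    rcases CL.ClsK.eq_of_symplectic hQ hzc hz1 hz2 B hBc hBa hb hb2 with h | h
    · rw [h] at hx; simp at hx
    · rw [h]; exact hzz'
  have hB2 : IsPGroup 2 B' := by
    rw [hB'2]; exact (hQ.1.to_subgroup B).map _
  by_cases hbot : CL.ClsK.cj g B' ⊓ B' = ⊥
  · exact Or.inr hbot
  left
  obtain ⟨x, hx, hxo⟩ := CL.ClsK.exists_orderOf_eq_of_ne_bot (hB2.to_le inf_le_right) hbot
  have h1 := hinv x hx.2 hxo
  have h2 := hinv _ (CL.ClsK.mem_cj.1 hx.1) (by
    rw [← hxo]
    exact (SemiconjBy.orderOf_eq g⁻¹ (by simp [SemiconjBy])).symm)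
  rw [h1] at h2
  have hg : g ∈ C := by
    rw [hC, Subgroup.mem_centralizer_singleton_iff]
    calc g * z = g * (g⁻¹ * z * g) := by rw [h2]
      _ = z * g := by group
  have hN : (B.map (Cfsg.generalizedFittingSubgroup C).subtype).Normal :=
    ConjAct.normal_of_characteristic_of_normal
  refine CL.ClsK.cj_eq_iff.2 (CL.ClsK.mem_normalizer_of_conj_mem ?_)
  rintro _ ⟨b, hb, rfl⟩
  exact ⟨_, hN.conj_mem b hb ⟨g, hg⟩, rfl⟩

end Cfsg.Agent.S1755
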