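import Cfsg.Statements.S1756
import Cfsg.Agent.Base
import Cfsg.Agent.ClsK.Large

set_option autoImplicit false
open Cfsg

namespace Cfsg.Agent.S1756

/-- Let Q be an extraspecial 2-subgroup of the finite group G (special with centre of order 2) and t an involution of G normalizing Q such that the centralizer of t in Q has index at most 2 in Q. Then t lies in the product of Q with the centralizer of Q. -/
theorem result {G : Type*} [Group G] [Finite G] (Q : Subgroup G)
    (hQ : Cfsg.IsExtraspecial 2 ↥Q) (t : G) (ht : orderOf t = 2) (htN : t ∈ Subgroup.normalizer (Q : Set G))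
    (hi : (Subgroup.centralizer ({t} : Set G) ⊓ Q).relIndex Q ≤ 2) :
    t ∈ Q ⊔ Subgroup.centralizer (Q : Set G) := by
  obtain ⟨z, h, hZ⟩ := CL.ClsK.exists_isXS_of_extraspecial hQ
  have ht2 : t * t = 1 := by rw [← sq, ← ht, pow_orderOf_eq_one]
  have htz := h.conj_z htN
  have hM : ∀ x ∈ Q, ∀ y ∈ Q, t * x ≠ x * t → t * y ≠ y * t → t * (x * y) = x * y * t := by
    intro x hx y hy h1 h2
    have hmem : ∀ a : Q, a ∈ (Subgroup.centralizer ({t} : Set G) ⊓ Q).subgroupOf Q ↔
        t * a = a * t := by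
      intro a
      rw [Subgroup.mem_subgroupOf, Subgroup.mem_inf, Subgroup.mem_centralizer_singleton_iff]
      exact ⟨fun h => h.1.symm, fun h => ⟨h.symm, a.2⟩⟩
    have hne1 : ((Subgroup.centralizer ({t} : Set G) ⊓ Q).subgroupOf Q).index ≠ 1 := by
      intro h3
      rw [Subgroup.index_eq_one] at h3
      exact h1 ((hmem ⟨x, hx⟩).1 (h3 ▸ Subgroup.mem_top _))
    have hne0 : ((Subgroup.centralizer ({t} : Set G) ⊓ Q).subgroupOf Q).index ≠ 0 :=
      Subgroup.index_ne_zero_of_finite
    have h2' : ((Subgroup.centralizer ({t} : Set G) ⊓ Q).subgroupOf Q).index = 2 := by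
      unfold Subgroup.relIndex at hi
      omega
    have := (Subgroup.mul_mem_iff_of_index_two h2' (a := ⟨x, hx⟩) (b := ⟨y, hy⟩)).2
      (by rw [hmem, hmem]; exact ⟨fun h => absurd h h1, fun h => absurd h h2⟩)
    exact (hmem _).1 this
  obtain ⟨a, ha, hc⟩ := h.exists_inner (h.comm_of_index_two htN ht2 hM)
    (fun c hc hcb => h.zp_comm (hZ c hc hcb) htz)
  have : t = a * (a⁻¹ * t) := by group
  rw [this]
  exact Subgroup.mul_mem_sup ha fun q hq => (hc q hq).symm

end Cfsg.Agent.S1756
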