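import Cfsg.Statements.S1774
import Cfsg.Agent.Base
import Cfsg.Agent.ClsK.Large2

set_option autoImplicit false
open Cfsg

namespace Cfsg.Agent.S1774

/-- Let G be a finite group and let z be an involution of G such that Q, the generalized Fitting subgroup of the centralizer C of z, is a 2-group of symplectic type (every characteristic abelian subgroup of Q is cyclic); suppose every element of Q has order dividing 4. Let g ∈ G with z' = g z g⁻¹ ≠ z and z' ∈ Q. Then z lies in the conjugate g Q g⁻¹, and the subgroup X generated by Q and g Q g⁻¹ induces every automorphism of the four-group generated by z and z': for any two distinct non-identity elements u, v of that four-group there is x ∈ X with x z x⁻¹ = u and x z' x⁻¹ = v. -/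
theorem result {G : Type*} [Group G] [Finite G] (z : G) (hz : orderOf z = 2) (hQ : Cfsg.IsOfSymplecticType ↥(Cfsg.generalizedFittingSubgroup ↥(Subgroup.centralizer ({z} : Set G))))
    (h4 : ∀ q ∈ (Cfsg.generalizedFittingSubgroup ↥(Subgroup.centralizer ({z} : Set G))).map (Subgroup.centralizer ({z} : Set G)).subtype, q ^ 4 = 1) (g : G) (hne : g * z * g⁻¹ ≠ z) (hin : g * z * g⁻¹ ∈ (Cfsg.generalizedFittingSubgroup ↥(Subgroup.centralizer ({z} : Set G))).map (Subgroup.centralizer ({z} : Set G)).subtype) :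
    z ∈ ((Cfsg.generalizedFittingSubgroup ↥(Subgroup.centralizer ({z} : Set G))).map (Subgroup.centralizer ({z} : Set G)).subtype).map (MulAut.conj g).toMonoidHom ∧
      ∀ u ∈ Subgroup.closure ({z, g * z * g⁻¹} : Set G), ∀ v ∈ Subgroup.closure ({z, g * z * g⁻¹} : Set G),
        u ≠ 1 → v ≠ 1 → u ≠ v →
          ∃ x ∈ (Cfsg.generalizedFittingSubgroup ↥(Subgroup.centralizer ({z} : Set G))).map (Subgroup.centralizer ({z} : Set G)).subtype ⊔ ((Cfsg.generalizedFittingSubgroup ↥(Subgroup.centralizer ({z} : Set G))).map (Subgroup.centralizer ({z} : Set G)).subtype).map (MulAut.conj g).toMonoidHom, x * z * x⁻¹ = u ∧ x * (g * z * g⁻¹) * x⁻¹ = v := by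
  have hL := CL.ClsK.isLarge_fstarOf (CL.ClsK.isXS_fstarOf_of_symplectic hz hQ h4)
  have hzP := hL.mem_cj_of_conj_mem hne hin
  refine ⟨hzP, ?_⟩
  have h := hL.xs
  have h' := (hL.cj g).xs
  set Q := CL.ClsK.fstarOf (Subgroup.centralizer ({z} : Set G)) with hQdef
  set P := CL.ClsK.cj g Q with hP
  set z' := g * z * g⁻¹ with hz'
  have hzz : z * z' = z' * z := (h.central _ hin).symm
  obtain ⟨q, hq, hqc⟩ : ∃ q ∈ Q, z' * q ≠ q * z' := by
    by_contra h1
    push Not at h1
    rcases h.omega _ hin h1 h'.sq with h2 | h2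
    · exact h'.ne_one h2
    · exact hne h2
  obtain ⟨p, hp, hpc⟩ : ∃ p ∈ P, z * p ≠ p * z := by
    by_contra h1
    push Not at h1
    rcases h'.omega _ hzP h1 h.sq with h2 | h2
    · exact h.ne_one h2
    · exact hne h2.symm
  have q1 : q * z * q⁻¹ = z := by rw [h.central q hq]; group
  have q2 : q * z' * q⁻¹ = z * z' := h.conj_eq_mul_z hq hin (Ne.symm hqc)
  have q3 : q * (z * z') * q⁻¹ = z' := by
    calc q * (z * z') * q⁻¹ = (q * z * q⁻¹) * (q * z' * q⁻¹) := by group
      _ = z' := by rw [q1, q2, ← mul_assoc, h.sq, one_mul]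
  have p1 : p * z * p⁻¹ = z * z' := by rw [hzz]; exact h'.conj_eq_mul_z hp hzP (Ne.symm hpc)
  have p2 : p * z' * p⁻¹ = z' := by rw [h'.central p hp]; group
  have p3 : p * (z * z') * p⁻¹ = z := by
    calc p * (z * z') * p⁻¹ = (p * z * p⁻¹) * (p * z' * p⁻¹) := by group
      _ = z := by rw [p1, p2, mul_assoc, h'.sq, mul_one]
  have hV : ∀ u ∈ Subgroup.closure ({z, z'} : Set G), u = 1 ∨ u = z ∨ u = z' ∨ u = z * z' := by
    intro u hu
    have m1 : z * (z * z') = z' := by rw [← mul_assoc, h.sq, one_mul]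
    have m2 : z' * (z * z') = z := by rw [hzz, ← mul_assoc, h'.sq, one_mul]
    have m3 : z * z' * z = z' := by rw [hzz, mul_assoc, h.sq, mul_one]
    have m4 : z * z' * z' = z := by rw [mul_assoc, h'.sq, mul_one]
    have m5 : z * z' * (z * z') = 1 := by rw [← mul_assoc, m3, h'.sq]
    induction hu using Subgroup.closure_induction with
    | mem x hx =>
      rcases hx with rfl | rfl <;> simp
    | one => simp
    | mul x y _ _ hx hy =>
      rcases hx with rfl | rfl | rfl | rfl <;> rcases hy with hy | hy | hy | hy <;> rw [hy] <;>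
        simp only [one_mul, mul_one, m1, m2, m3, m4, m5, h.sq, h'.sq, ← hzz, true_or, or_true]
    | inv x _ hx =>
      rcases hx with rfl | rfl | rfl | rfl
      · simp
      · rw [h.inv_z]; simp
      · rw [h'.inv_z]; simp
      · rw [inv_eq_of_mul_eq_one_right m5]; simp
  have hq' : q ∈ Q ⊔ P := Subgroup.mem_sup_left hq
  have hp' : p ∈ Q ⊔ P := Subgroup.mem_sup_right hp
  have cj2 : ∀ a b x : G, (a * b) * x * (a * b)⁻¹ = a * (b * x * b⁻¹) * a⁻¹ := by
    intro a b x; group
  intro u hu v hv hu1 hv1 huv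
  rcases (hV u hu).resolve_left hu1 with rfl | rfl | rfl <;>
    rcases (hV v hv).resolve_left hv1 with hv' | hv' | hv' <;> rw [hv'] at huv ⊢
  · exact absurd rfl huv
  · exact ⟨1, Subgroup.one_mem _, by group, by group⟩
  · exact ⟨q, hq', q1, q2⟩
  · exact ⟨q * p * q, Subgroup.mul_mem _ (Subgroup.mul_mem _ hq' hp') hq',
      by rw [cj2, cj2, q1, p1, q3], by rw [cj2, cj2, q2, p3, q1]⟩
  · exact absurd rfl huv
  · exact ⟨q * p, Subgroup.mul_mem _ hq' hp', by rw [cj2, p1, q3], by rw [cj2, p2, q2]⟩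
  · exact ⟨p * q, Subgroup.mul_mem _ hp' hq', by rw [cj2, q1, p1], by rw [cj2, q2, p3]⟩
  · exact ⟨p, hp', p1, p2⟩
  · exact absurd rfl huv

end Cfsg.Agent.S1774
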