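import Cfsg.Statements.S1775
import Cfsg.Agent.PLoc.Balance
import Cfsg.Agent.Sig.Pump

set_option autoImplicit false
open Cfsg

namespace Cfsg.Agent.S1775

open Subgroup CL CL.PComp CL.PLoc
open scoped Pointwise commutatorElement

instance factTwo : Fact (Nat.Prime 2) := ⟨Nat.prime_two⟩

theorem centralizer_ne_top {G : Type*} [Group G] [Finite G]
    (hF : IsSimpleGroup ↥(Cfsg.generalizedFittingSubgroup G))
    (hF' : ¬ IsMulCommutative ↥(Cfsg.generalizedFittingSubgroup G)) {y : G} (hy : y ≠ 1) :
    centralizer ({y} : Set G) ≠ ⊤ := by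
  intro h
  have h1 : y ∈ center G := by
    rw [mem_center_iff]
    intro g
    exact mem_centralizer_singleton_iff.1 (h ▸ mem_top g)
  have h2 : y ∈ generalizedFittingSubgroup G :=
    Sig.fitting_le_genFitting (Sig.center_le_fitting h1)
  rcases hF.eq_bot_or_eq_top_of_normal (center (generalizedFittingSubgroup G)) inferInstance
    with h3 | h3
  · have : (⟨y, h2⟩ : generalizedFittingSubgroup G) ∈ center _ :=
      mem_center_iff.2 fun g => Subtype.ext (mem_center_iff.1 h1 g)
    rw [h3, mem_bot] at this
    exact hy (congrArg Subtype.val this)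
  · exact hF' ⟨⟨fun a b => mem_center_iff.1 (h3 ▸ mem_top b) a⟩⟩

theorem main {H : Type*} [Group H] [Finite H] (hB : HasBProperty (H ⧸ pPrimeCore 2 H)) {x : H}
    (hx : orderOf x = 2) {J : Subgroup H} (hJ : PCompIn 2 J (centralizer {x})) :
    IsComponent ((J.map (modCore 2 H)).subgroupOf (centralizer {modCore 2 H x})) ∧
      ∀ E : Subgroup H, E ≤ centralizer {x} → (Nat.card E).Coprime 2 →
        J ≤ normalizer (E : Set H) → ⁅J, E⁆ ≤ pPrimeCore 2 H := by
  have hk : (Nat.card (modCore 2 H).ker).Coprime 2 := by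
    rw [ker_modCore]; exact coprime_card_pPrimeCore'
  have hc : (centralizer {x}).map (modCore 2 H) = centralizer {modCore 2 H x} :=
    map_centralizer_singleton_of_coprime_ker modCore_surjective hk (k := 1)
      (by rw [pow_one, ← hx, pow_orderOf_eq_one])
  have h1 := hJ.map_of_coprime hk
  rw [hc] at h1
  have h2 := Sig.compIn_of_hasBProperty pPrimeCore_quotient_eq_bot hB
    (orderOf_map_of_coprime_ker hk hx) h1
  refine ⟨h2.isComponent, fun E hE hcop hn => ?_⟩
  rw [← map_modCore_eq_bot_iff, map_commutator]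
  exact (h2.le_or_commute_of_normalizes (hc ▸ map_mono hE)
    ((map_mono hn).trans (le_normalizer_map _))).resolve_left
    (h1.pQuasi.not_le_of_coprime (coprime_card_map _ hcop))

/-- Let G be a finite group whose generalized Fitting subgroup is a non-abelian simple group and in which every proper section (every quotient H/N of a proper subgroup H, or of G by a nontrivial normal subgroup) has the B-property. Let x, y be commuting involutions, let D be the intersection of the 2-layer of C_G(x) with C_G(y), and let J be a 2-component of D. Write Q for the quotient of C_G(y) by its largest normal odd-order subgroup. Then (i) the image of J in Q is a component of the centralizer in Q of the image of x; and (ii) for every J-invariant subgroup E of odd order of C_G(x) ∩ C_G(y), the commutator subgroup [J, E] lies in the largest normal odd-order subgroup of C_G(y). -/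
theorem result {G : Type*} [Group G] [Finite G]
    (hF : IsSimpleGroup ↥(Cfsg.generalizedFittingSubgroup G)) (hF' : ¬ IsMulCommutative ↥(Cfsg.generalizedFittingSubgroup G))
    (hsec : ∀ (H : Subgroup G) (N : Subgroup ↥H) [N.Normal], (H ≠ ⊤ ∨ N ≠ ⊥) → Cfsg.HasBProperty (↥H ⧸ N))
    (x y : G) (hx : orderOf x = 2) (hy : orderOf y = 2) (hxy : x * y = y * x)
    (J : Subgroup ↥((Cfsg.pLayer 2 ↥(Subgroup.centralizer ({x} : Set G))).map (Subgroup.centralizer ({x} : Set G)).subtype ⊓ Subgroup.centralizer ({y} : Set G)))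
    (hJ : Cfsg.IsPComponent 2 J) :
    Cfsg.IsComponent
        ((((J.map (Subgroup.subtype _)).subgroupOf (Subgroup.centralizer ({y} : Set G))).map (QuotientGroup.mk' (Cfsg.oddCore ↥(Subgroup.centralizer ({y} : Set G))))).subgroupOf
          (Subgroup.centralizer ({(QuotientGroup.mk' (Cfsg.oddCore ↥(Subgroup.centralizer ({y} : Set G))) ⟨x, Subgroup.mem_centralizer_singleton_iff.mpr hxy⟩ : ↥(Subgroup.centralizer ({y} : Set G)) ⧸ Cfsg.oddCore ↥(Subgroup.centralizer ({y} : Set G)))} : Set _))) ∧
      ∀ E : Subgroup G, E ≤ Subgroup.centralizer ({x} : Set G) ⊓ Subgroup.centralizer ({y} : Set G) → Odd (Nat.card ↥E) →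
        (∀ j ∈ J.map (Subgroup.subtype _), ∀ e ∈ E, j * e * j⁻¹ ∈ E) →
          ⁅J.map (Subgroup.subtype _), E⁆ ≤ (Cfsg.oddCore ↥(Subgroup.centralizer ({y} : Set G))).map (Subgroup.centralizer ({y} : Set G)).subtype := by
  have h1 : PCompIn 2 (J.map (Subgroup.subtype _)) (centralizer {x} ⊓ centralizer {y}) :=
    (pCompIn_map_subtype.2 hJ).trans (inf_le_inf_right _ (pLayerIn_le _))
      (isSubnormal_subgroupOf_of_le_normalizer (Sig.le_normalizer_inf
        (inf_le_left.trans (le_normalizer_pLayerIn _)) (inf_le_right.trans le_normalizer)))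
  generalize J.map (Subgroup.subtype _) = K at h1 ⊢
  have hK : K ≤ centralizer {y} := h1.le.trans inf_le_right
  have hx' : x ∈ centralizer {y} := mem_centralizer_singleton_iff.mpr hxy
  have hc : (centralizer {x} ⊓ centralizer {y}).subgroupOf (centralizer {y}) =
      centralizer {(⟨x, hx'⟩ : centralizer ({y} : Set G))} := by
    ext g
    simp only [mem_subgroupOf, mem_inf, g.2, and_true, mem_centralizer_singleton_iff,
      Subtype.ext_iff, Subgroup.coe_mul]
  have h2 : PCompIn 2 (K.subgroupOf (centralizer {y}))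
      (centralizer {(⟨x, hx'⟩ : centralizer ({y} : Set G))}) := by
    rw [← hc]
    exact pCompIn_iff.2 ⟨comap_mono h1.le,
      (SubnIn.iff_subgroupOf.1 ((SubnIn.iff_subgroupOf.2 ⟨h1.le, h1.isSubnormal⟩).comap _)).2,
      (pQuasi_subgroupOf hK).2 h1.pQuasi⟩
  obtain ⟨h3, h4⟩ := main (hsec _ _ (Or.inl (centralizer_ne_top hF hF'
    (by rintro rfl; simp at hy)))) (by rw [← hx, ← orderOf_coe]) h2
  refine ⟨h3, fun E hE hodd hn => ?_⟩
  have hE' := hE.trans inf_le_right
  have h5 := map_mono (f := (centralizer {y}).subtype)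
    (h4 (E.subgroupOf _) (hc ▸ comap_mono hE)
    (by rw [card_subgroupOf_of_le hE']; exact Nat.coprime_two_right.2 hodd)
    ((comap_mono (le_normalizer_iff.2 hn)).trans (le_normalizer_comap _)))
  rwa [map_commutator, map_subgroupOf_eq_of_le hK, map_subgroupOf_eq_of_le hE'] at h5

end Cfsg.Agent.S1775
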