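import Cfsg.Statements.S1782
import Cfsg.Agent.Base
import Cfsg.Agent.ClsK.TI2

set_option autoImplicit false
open Cfsg

namespace Cfsg.Agent.S1782

/-- Let S be a finite 2-group and Δ a set of subgroups of S closed under conjugation by S, all of the same order, each with nontrivial Frattini subgroup, and such that two distinct members of Δ meet trivially. Then any two distinct members of Δ commute elementwise. -/
theorem result {S : Type*} [Group S] [Finite S] (hS : IsPGroup 2 S)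
    (Δ : Set (Subgroup S)) (hinv : ∀ s : S, ∀ R ∈ Δ, R.map (MulAut.conj s).toMonoidHom ∈ Δ)
    (hΦ : ∀ R ∈ Δ, frattini ↥R ≠ ⊥) (hord : ∀ R ∈ Δ, ∀ T ∈ Δ, Nat.card ↥R = Nat.card ↥T)
    (hti : ∀ R ∈ Δ, ∀ T ∈ Δ, R = T ∨ R ⊓ T = ⊥) :
    ∀ R ∈ Δ, ∀ T ∈ Δ, R ≠ T → ⁅R, T⁆ = ⊥ := by
  intro R hR T hT hRT
  rw [CL.ClsK.commutator_eq_bot_iff']
  refine CL.ClsK.ti_family_comm (S := ⊤) (hS.to_subgroup ⊤) Δ (fun s _ R hR _ => hinv s R hR) ?_
    hord hti R hR T hT le_top le_top hRT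
  intro R hR
  by_contra h
  push Not at h
  exact hΦ R hR (CL.ClsK.frattini_eq_bot_of_sq fun r => Subtype.ext (by simpa using h r r.2))

end Cfsg.Agent.S1782
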