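import Cfsg.Statements.S1783
import Cfsg.Agent.ClsK.TI2
import Cfsg.Agent.PLoc.PCore
import Cfsg.Agent.S0029
import Cfsg.Agent.S0012

set_option autoImplicit false
open Cfsg

namespace Cfsg.Agent.S1783

open Subgroup CL.ClsK

/-- Elements acting trivially on `Q / Φ(Q)`. -/
def trivOn {X : Type*} [Group X] (Q F : Subgroup X) [F.Normal] [Q.Normal] : Subgroup X where
  carrier := {c | ∀ q ∈ Q, c * q * c⁻¹ * q⁻¹ ∈ F}
  one_mem' := fun q _ => by simpa using F.one_mem
  mul_mem' := by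
    intro a b ha hb q hq
    have h1 := ha q hq
    have h2 := (inferInstance : F.Normal).conj_mem _ (hb q hq) a
    have := F.mul_mem h2 h1
    have e : a * (b * q * b⁻¹ * q⁻¹) * a⁻¹ * (a * q * a⁻¹ * q⁻¹) =
        a * b * q * (a * b)⁻¹ * q⁻¹ := by group
    rwa [e] at this
  inv_mem' := by
    intro a ha q hq
    have h1 := ha q hq
    have h2 := (inferInstance : F.Normal).conj_mem _ (F.inv_mem h1) a⁻¹
    have e : a⁻¹ * (a * q * a⁻¹ * q⁻¹)⁻¹ * a⁻¹⁻¹ = a⁻¹ * q * a⁻¹⁻¹ * q⁻¹ := by group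
    rwa [e] at h2

theorem trivOn_normal {X : Type*} [Group X] (Q F : Subgroup X) [F.Normal] [Q.Normal] :
    (trivOn Q F).Normal := by
  refine ⟨fun c hc g q hq => ?_⟩
  have h1 := hc _ ((inferInstance : Q.Normal).conj_mem q hq g⁻¹)
  have h2 := (inferInstance : F.Normal).conj_mem _ h1 g
  have e : g * (c * (g⁻¹ * q * g⁻¹⁻¹) * c⁻¹ * (g⁻¹ * q * g⁻¹⁻¹)⁻¹) * g⁻¹ =
      g * c * g⁻¹ * q * (g * c * g⁻¹)⁻¹ * q⁻¹ := by group
  rwa [e] at h2

theorem mem_pCore_of_triv {X : Type*} [Group X] [Finite X]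
    (hX : Cfsg.generalizedFittingSubgroup X = Cfsg.pCore 2 X) {c : X}
    (hc : ∀ q ∈ Cfsg.pCore 2 X, c * q * c⁻¹ * q⁻¹ ∈
      (frattini (Cfsg.pCore 2 X)).map (Cfsg.pCore 2 X).subtype) : c ∈ Cfsg.pCore 2 X := by
  have : Fact (Nat.Prime 2) := ⟨Nat.prime_two⟩
  set Q := Cfsg.pCore 2 X with hQ
  have hQc : Q.Characteristic := CL.PLoc.pCore_characteristic
  have hQn : Q.Normal := inferInstance
  have hQ2 : IsPGroup 2 Q := CL.PLoc.isPGroup_pCore
  have hF : ((frattini Q).map Q.subtype).Normal := inferInstance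
  have hC : centralizer (Q : Set X) ≤ Q := by
    rw [← hX]; exact CL.Sig.centralizer_genFitting_le
  set K := trivOn Q ((frattini Q).map Q.subtype) with hK
  have hKn : K.Normal := trivOn_normal _ _
  have hK2 : IsPGroup 2 K := by
    intro x
    obtain ⟨k, m, hm, hkm⟩ := Nat.exists_eq_two_pow_mul_odd (orderOf_pos (x : X)).ne'
    refine ⟨k, Subtype.ext ?_⟩
    set y : X := (x : X) ^ 2 ^ k with hy
    have hyK : y ∈ K := K.pow_mem x.2 _
    have hym : y ^ m = 1 := by rw [hy, ← pow_mul, ← hkm, pow_orderOf_eq_one]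
    have hodd : (orderOf y).Coprime 2 := by
      have h1 : orderOf y ∣ m := orderOf_dvd_of_pow_eq_one hym
      exact Nat.Coprime.coprime_dvd_left h1 ((Nat.coprime_two_right).2 hm)
    have hcent : zpowers y ≤ centralizer (Q : Set X) := by
      refine Cfsg.Agent.S0029.result (zpowers y) Q (by rw [normalizer_eq_top]; exact le_top) ?_ ?_
      · rw [Nat.card_zpowers]
        exact (CL.PLoc.coprime_card_of_isPGroup (hQ2.to_subgroup (frattini Q)) hodd).symm
      · intro a ha q hq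
        exact (zpowers_le.2 hyK) ha q hq
    have hyQ : y ∈ Q := hC (hcent (mem_zpowers y))
    obtain ⟨j, hj⟩ := exists_pow_eq_one_of_mem hQ2 hyQ
    have h2 : orderOf y ∣ 2 ^ j := orderOf_dvd_of_pow_eq_one hj
    have h3 : orderOf y = 1 :=
      Nat.Coprime.eq_one_of_dvd (hodd.pow_right j) h2
    simpa using orderOf_eq_one_iff.1 h3
  exact CL.PLoc.le_pCore hKn hK2 hc


/-- Let X be a finite group whose generalized Fitting subgroup equals its largest normal 2-subgroup Q, and let A be an abelian 2-subgroup of X such that every conjugate of A equals A or meets A trivially. Let B be the subgroup generated by the squares of the elements of A. Then B lies in Q, and if B is not an elementary abelian 2-group then the normal closure of B in X is commutative. -/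
theorem result {X : Type*} [Group X] [Finite X]
    (hX : Cfsg.generalizedFittingSubgroup X = Cfsg.pCore 2 X) (A : Subgroup X) (hA2 : IsPGroup 2 ↥A) (hAa : IsMulCommutative ↥A)
    (hti : ∀ h : X, A.map (MulAut.conj h).toMonoidHom = A ∨ A.map (MulAut.conj h).toMonoidHom ⊓ A = ⊥) :
    Subgroup.closure ((fun a : X => a ^ 2) '' (A : Set X)) ≤ Cfsg.pCore 2 X ∧
      (¬ Cfsg.IsElementaryAbelian 2 (Subgroup.closure ((fun a : X => a ^ 2) '' (A : Set X))) →
        IsMulCommutative ↥(Subgroup.normalClosure ((fun a : X => a ^ 2) '' (A : Set X)))) := by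
  have : Fact (Nat.Prime 2) := ⟨Nat.prime_two⟩
  set Q := Cfsg.pCore 2 X with hQ
  have hQc : Q.Characteristic := CL.PLoc.pCore_characteristic
  have hQn : Q.Normal := inferInstance
  have hQ2 : IsPGroup 2 Q := CL.PLoc.isPGroup_pCore
  have hA : IsTI A := hti
  have hAc := comm_of_isMulCommutative hAa
  set B := closure ((fun a : X => a ^ 2) '' (A : Set X)) with hB
  have hBA : B ≤ A := by
    rw [hB, closure_le]
    rintro _ ⟨a, ha, rfl⟩
    exact A.pow_mem ha 2
  have hBQ : B ≤ Q := by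
    rw [hB, closure_le]
    rintro _ ⟨a, ha, rfl⟩
    show a ^ 2 ∈ Q
    by_cases ha2 : a ^ 2 = 1
    · rw [ha2]; exact Q.one_mem
    have hS : IsPGroup 2 (Q ⊔ A : Subgroup X) := IsPGroup.to_sup_of_normal_left hQ2 hA2
    have hfam := ti_family_comm hS (Set.range fun g : X => cj g A)
      (by rintro s - _ ⟨g, rfl⟩ -; exact ⟨s * g, (cj_cj s g A).symm⟩)
      (by
        rintro _ ⟨g, rfl⟩
        refine ⟨g * a * g⁻¹, conj_mem_cj ha, fun h => ha2 ?_⟩
        rw [conj_pow] at h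
        calc a ^ 2 = g⁻¹ * (g * a ^ 2 * g⁻¹) * g := by group
          _ = 1 := by rw [h]; group)
      (by rintro _ ⟨g, rfl⟩ _ ⟨h, rfl⟩; rw [card_cj, card_cj])
      (by rintro _ ⟨g, rfl⟩ _ ⟨h, rfl⟩; exact hA.cj_eq_or g h)
    have hcomm : ∀ q ∈ Q, a * (q * a * q⁻¹) = q * a * q⁻¹ * a := by
      intro q hq
      by_cases h : A = cj q A
      · exact hAc a ha _ (by rw [h]; exact conj_mem_cj ha)
      · exact hfam A ⟨1, cj_one A⟩ (cj q A) ⟨q, rfl⟩ le_sup_right
          (cj_le_of_mem (mem_sup_left hq) le_sup_right) h a ha _ (conj_mem_cj ha)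
    refine mem_pCore_of_triv hX fun q hq => ?_
    have hc : a * q * a⁻¹ * q⁻¹ ∈ Q := Q.mul_mem (hQn.conj_mem q hq a) (Q.inv_mem hq)
    have hsq := (Cfsg.Agent.S0012.result 2 hQ2).2 ⟨_, hc⟩
    refine ⟨_, hsq, ?_⟩
    have h1 := hcomm q hq
    set s := q * a * q⁻¹ with hs
    have h2 : Commute a s⁻¹ := (show Commute a s from h1).inv_right
    show (a * q * a⁻¹ * q⁻¹) ^ 2 = a ^ 2 * q * (a ^ 2)⁻¹ * q⁻¹
    have e1 : a * q * a⁻¹ * q⁻¹ = a * s⁻¹ := by rw [hs]; group
    have e2 : a ^ 2 * q * (a ^ 2)⁻¹ * q⁻¹ = a ^ 2 * s⁻¹ ^ 2 := by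
      rw [hs, pow_two, pow_two]; group
    rw [e1, e2, h2.mul_pow]
  refine ⟨hBQ, fun hne => ?_⟩
  have hBc : ∀ a ∈ B, ∀ b ∈ B, a * b = b * a := fun a ha b hb => hAc a (hBA ha) b (hBA hb)
  have hb : ∃ b ∈ B, b ^ 2 ≠ 1 := by
    by_contra h
    push Not at h
    exact hne ⟨isMulCommutative_of_comm hBc, h⟩
  obtain ⟨b, hbB, hb2⟩ := hb
  have hBN : ∀ g ∈ normalizer (A : Set X), cj g B = B := by
    intro g hg
    rw [cj_eq_iff]
    refine mem_normalizer_of_conj_mem fun x hx => ?_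
    have : B ≤ B.comap (MulAut.conj g).toMonoidHom := by
      rw [hB, closure_le]
      rintro _ ⟨a, ha, rfl⟩
      refine subset_closure ⟨g * a * g⁻¹, conj_mem_of_mem_normalizer hg ha, ?_⟩
      simp [conj_pow]
    exact this hx
  have hBti : IsTI B := by
    refine isTI_of_mem_normalizer fun g x hx hx1 hgx => ?_
    exact cj_eq_iff.1 (hBN g (hA.mem_normalizer (hBA hx) hx1 (hBA hgx)))
  have hfam := ti_family_comm hQ2 (Set.range fun g : X => cj g B)
    (by rintro s - _ ⟨g, rfl⟩ -; exact ⟨s * g, (cj_cj s g B).symm⟩)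
    (by
      rintro _ ⟨g, rfl⟩
      refine ⟨g * b * g⁻¹, conj_mem_cj hbB, fun h => hb2 ?_⟩
      rw [conj_pow] at h
      calc b ^ 2 = g⁻¹ * (g * b ^ 2 * g⁻¹) * g := by group
        _ = 1 := by rw [h]; group)
    (by rintro _ ⟨g, rfl⟩ _ ⟨h, rfl⟩; rw [card_cj, card_cj])
    (by rintro _ ⟨g, rfl⟩ _ ⟨h, rfl⟩; exact hBti.cj_eq_or g h)
  have hcjQ : ∀ g : X, cj g B ≤ Q := fun g =>
    cj_le_of_mem_normalizer (by rw [normalizer_eq_top]; exact mem_top g) hBQ
  have hall : ∀ g h : X, ∀ x ∈ cj g B, ∀ y ∈ cj h B, x * y = y * x := by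
    intro g h
    by_cases hgh : cj g B = cj h B
    · rw [hgh]; exact comm_cj hBc h
    · exact hfam _ ⟨g, rfl⟩ _ ⟨h, rfl⟩ (hcjQ g) (hcjQ h) hgh
  have hset : ∀ x ∈ Group.conjugatesOfSet ((fun a : X => a ^ 2) '' (A : Set X)),
      ∃ g : X, x ∈ cj g B := by
    intro x hx
    obtain ⟨y, hy, hxy⟩ := Group.mem_conjugatesOfSet_iff.1 hx
    obtain ⟨g, rfl⟩ := isConj_iff.1 hxy
    exact ⟨g, conj_mem_cj (subset_closure hy)⟩
  refine isMulCommutative_of_comm fun x hx y hy => ?_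
  have h1 : normalClosure ((fun a : X => a ^ 2) '' (A : Set X)) ≤
      centralizer (Group.conjugatesOfSet ((fun a : X => a ^ 2) '' (A : Set X))) := by
    refine (closure_le _).2 fun u hu v hv => ?_
    obtain ⟨g, hg⟩ := hset u hu
    obtain ⟨h, hh⟩ := hset v hv
    exact hall h g v hh u hg
  have h2 : normalClosure ((fun a : X => a ^ 2) '' (A : Set X)) ≤ centralizer {x} := by
    refine (closure_le _).2 fun u hu => ?_
    exact mem_centralizer_singleton_iff.2 (h1 hx u hu)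
  exact (mem_centralizer_singleton_iff.1 (h2 hy)).symm

end Cfsg.Agent.S1783
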