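import Cfsg.Statements.S1784
import Cfsg.Agent.Base
import Cfsg.Agent.ClsK.Large2

set_option autoImplicit false
open Cfsg

namespace Cfsg.Agent.S1784

open scoped commutatorElement

/-- Let G be a finite group and let z be an involution of G such that Q, the generalized Fitting subgroup of the centralizer C of z, is a 2-group of symplectic type (every characteristic abelian subgroup of Q is cyclic); suppose Q is extraspecial, and view Q inside G. Let α be an involution of C that is not in Q, and let Q₀ be the subgroup of those q ∈ Q whose commutator with α lies in the subgroup generated by z. Then (a) the subgroup generated by the commutators α q α⁻¹ q⁻¹, q ∈ Q, equals the centre of Q₀; and (b) if Q₀ is not contained in the product of the centralizer of α in Q with the subgroup generated by z, then some element of Q conjugates α to α z. -/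
theorem result {G : Type*} [Group G] [Finite G] (z : G) (hz : orderOf z = 2) (hQ : Cfsg.IsOfSymplecticType ↥(Cfsg.generalizedFittingSubgroup ↥(Subgroup.centralizer ({z} : Set G)))) (hE : Cfsg.IsExtraspecial 2 ↥(Cfsg.generalizedFittingSubgroup ↥(Subgroup.centralizer ({z} : Set G))))
    (α : G) (hα : orderOf α = 2) (hαC : α ∈ Subgroup.centralizer ({z} : Set G)) (hαQ : α ∉ (Cfsg.generalizedFittingSubgroup ↥(Subgroup.centralizer ({z} : Set G))).map (Subgroup.centralizer ({z} : Set G)).subtype)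
    (Q₀ : Subgroup G) (hQ₀ : ∀ q : G, q ∈ Q₀ ↔ (q ∈ (Cfsg.generalizedFittingSubgroup ↥(Subgroup.centralizer ({z} : Set G))).map (Subgroup.centralizer ({z} : Set G)).subtype ∧ α * q * α⁻¹ * q⁻¹ ∈ Subgroup.zpowers z)) :
    Subgroup.closure ((fun q : G => α * q * α⁻¹ * q⁻¹) '' ((Cfsg.generalizedFittingSubgroup ↥(Subgroup.centralizer ({z} : Set G))).map (Subgroup.centralizer ({z} : Set G)).subtype : Set G)) = (Subgroup.center ↥Q₀).map Q₀.subtype ∧
      (¬ Q₀ ≤ ((Cfsg.generalizedFittingSubgroup ↥(Subgroup.centralizer ({z} : Set G))).map (Subgroup.centralizer ({z} : Set G)).subtype ⊓ Subgroup.centralizer ({α} : Set G)) ⊔ Subgroup.zpowers z →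
        ∃ q ∈ (Cfsg.generalizedFittingSubgroup ↥(Subgroup.centralizer ({z} : Set G))).map (Subgroup.centralizer ({z} : Set G)).subtype, q * α * q⁻¹ = α * z) := by
  obtain ⟨h, hZ⟩ := CL.ClsK.isXS_fstarOf_of_extraspecial hz hE
  have hL := CL.ClsK.isLarge_fstarOf h
  set Q := CL.ClsK.fstarOf (Subgroup.centralizer ({z} : Set G)) with hQdef
  have hαz : α * z = z * α := Subgroup.mem_centralizer_singleton_iff.1 hαC
  have hαN := hL.norm α hαz
  have hα2 : α * α = 1 := by rw [← sq, ← hα, pow_orderOf_eq_one]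
  have hαi : α⁻¹ = α := inv_eq_of_mul_eq_one_right hα2
  have hQ₀' : ∀ q, q ∈ Q₀ ↔ q ∈ Q ∧ (⁅α, q⁆ = 1 ∨ ⁅α, q⁆ = z) := fun q => by
    rw [hQ₀, h.mem_zpowers_iff]; rfl
  have hcj : ∀ q ∈ Q, α * q * α⁻¹ ∈ Q := fun q hq => CL.ClsK.conj_mem_of_mem_normalizer hαN hq
  have hu : ∀ q ∈ Q, ⁅α, q⁆ ∈ Q := fun q hq => Q.mul_mem (hcj q hq) (Q.inv_mem hq)
  have hcj2 : ∀ q : G, α * (α * q * α⁻¹) * α⁻¹ = q := fun q => by
    calc α * (α * q * α⁻¹) * α⁻¹ = (α * α) * q * (α * α)⁻¹ := by group
      _ = q := by rw [hα2]; group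
  have hswap : ∀ a ∈ Q, ∀ q ∈ Q, ⁅⁅α, a⁆, q⁆ = ⁅a, ⁅α, q⁆⁆ := by
    intro a ha q hq
    rw [commutatorElement_def α a, commutatorElement_def α q,
      h.comm_mul_left (hcj a ha) (Q.inv_mem ha) hq, h.comm_inv_left ha hq,
      h.comm_mul_right ha (hcj q hq) (Q.inv_mem hq), h.comm_inv_right ha hq,
      ← h.comm_conj hαz ha (hcj q hq), hcj2]
  constructor
  · set W := Subgroup.closure ((fun q : G => α * q * α⁻¹ * q⁻¹) '' (Q : Set G)) with hW
    have hWQ : W ≤ Q := by
      rw [hW, Subgroup.closure_le]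
      rintro _ ⟨q, hq, rfl⟩
      exact hu q hq
    have hmem : ∀ q ∈ Q, ⁅α, q⁆ ∈ W := fun q hq => Subgroup.subset_closure ⟨q, hq, rfl⟩
    rw [CL.Sig.map_center_subtype]
    apply le_antisymm
    · rw [hW, Subgroup.closure_le]
      rintro _ ⟨q, hq, rfl⟩
      refine ⟨(hQ₀' _).2 ⟨hu q hq, ?_⟩, fun c hc => ?_⟩
      · have e : ⁅α, ⁅α, q⁆⁆ = ⁅α, q⁆⁻¹ * ⁅α, q⁆⁻¹ := by
          calc ⁅α, ⁅α, q⁆⁆ = (α * (α * q * α⁻¹) * α⁻¹) * (α * q⁻¹ * α⁻¹) * ⁅α, q⁆⁻¹ := by
                simp only [commutatorElement_def]; group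
            _ = _ := by rw [hcj2]; simp only [commutatorElement_def]; group
        show ⁅α, ⁅α, q⁆⁆ = 1 ∨ ⁅α, ⁅α, q⁆⁆ = z
        rw [e]
        exact h.sq_mem _ (Q.inv_mem (hu q hq))
      · obtain ⟨hc1, hc2⟩ := (hQ₀' c).1 hc
        show c * ⁅α, q⁆ = ⁅α, q⁆ * c
        rw [← commutatorElement_eq_one_iff_mul_comm, ← hswap c hc1 q hq, h.comm_zp_left hc2 hq]
    · have hzW : z ∈ W := by
        have hn : Q ≤ Subgroup.normalizer (W : Set G) := by
          rw [hW, Subgroup.le_normalizer_closure_iff]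
          rintro x hx _ ⟨q, hq, rfl⟩
          have e : x * (α * q * α⁻¹ * q⁻¹) * x⁻¹ = ⁅α, x⁆⁻¹ * ⁅α, x * q⁆ := by
            simp only [commutatorElement_def]; group
          rw [e]
          exact W.mul_mem (W.inv_mem (hmem x hx)) (hmem _ (Q.mul_mem hx hq))
        have hne : W ≠ ⊥ := by
          intro hb
          apply hαQ
          refine hL.mem α hαz fun q hq => Or.inl ?_
          have := hmem q hq
          rwa [hb, Subgroup.mem_bot] at this
        have : Fact (Nat.Prime 2) := ⟨Nat.prime_two⟩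
        obtain ⟨c, hcW, hc1, hcc⟩ := CL.ClsK.exists_central_of_ne_bot h.isPGroup hWQ hn hne
        rw [← (hZ c (hWQ hcW) fun b hb => (hcc b hb).symm).resolve_left hc1]
        exact hcW
      rintro c ⟨hc, hcc⟩
      refine h.mem_of_comm_centralizer hWQ (fun x hx hxc => ?_) ((hQ₀' c).1 hc).1 fun a ha haW => ?_
      · rcases hZ x hx hxc with rfl | rfl
        · exact W.one_mem
        · exact hzW
      · refine hcc a ((hQ₀' a).2 ⟨ha, hZ _ (hu a ha) fun q hq => ?_⟩)
        rw [← commutatorElement_eq_one_iff_mul_comm, hswap a ha q hq,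
          commutatorElement_eq_one_iff_mul_comm]
        exact haW _ (hmem q hq)
  · intro hnot
    obtain ⟨q, hq, hq'⟩ := SetLike.not_le_iff_exists.1 hnot
    obtain ⟨hq1, hq2⟩ := (hQ₀' q).1 hq
    refine ⟨q, hq1, ?_⟩
    rcases hq2 with h1 | h1
    · exact absurd (Subgroup.mem_sup_left (Subgroup.mem_inf.2 ⟨hq1,
        Subgroup.mem_centralizer_singleton_iff.2
          (commutatorElement_eq_one_iff_mul_comm.1 h1).symm⟩)) hq'
    · rw [← h1, commutatorElement_def, hαi]
      calc q * α * q⁻¹ = (α * α) * q * α * q⁻¹ := by rw [hα2, one_mul]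
        _ = _ := by simp only [mul_assoc]

end Cfsg.Agent.S1784
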