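import Cfsg.Statements.S1785
import Cfsg.Agent.Base
import Cfsg.Agent.ClsK.XS
import Cfsg.Agent.PLocal.ElemAb

set_option autoImplicit false
open Cfsg

namespace Cfsg.Agent.S1785

open Subgroup in
theorem card_le_sq {G : Type*} [Group G] [Finite G] {E : Subgroup G}
    (hE : IsElementaryAbelian 2 E) {v : G} (hv : v ∈ normalizer (E : Set G)) (hv2 : v ^ 2 = 1) :
    Nat.card E ≤ Nat.card (E ⊓ centralizer {v} : Subgroup G) ^ 2 := by
  have hm : ∀ e : E, v * e * v⁻¹ * e ∈ E := fun e =>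
    E.mul_mem (CL.ClsK.conj_mem_of_mem_normalizer hv e.2) e.2
  let f : E →* G := MonoidHom.mk' (fun e => v * e * v⁻¹ * e) (by
    intro a b
    have := CL.EA.comm hE a.2 (CL.ClsK.conj_mem_of_mem_normalizer hv b.2)
    calc v * ((a * b : E) : G) * v⁻¹ * ((a * b : E) : G)
        = v * a * v⁻¹ * (v * b * v⁻¹ * a) * b := by simp [mul_assoc]
      _ = _ := by rw [← this]; group)
  have hf : ∀ e : E, f e = v * e * v⁻¹ * e := fun _ => rfl
  have hvv : v * v = 1 := by rw [← sq, hv2]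
  have hvi : v⁻¹ = v := inv_eq_of_mul_eq_one_right hvv
  have h1 : f.range ≤ E ⊓ centralizer {v} := by
    rintro _ ⟨e, rfl⟩
    refine ⟨hm e, mem_centralizer_singleton_iff.2 ?_⟩
    have := CL.EA.comm hE e.2 (CL.ClsK.conj_mem_of_mem_normalizer hv e.2)
    rw [hf]
    calc v * e * v⁻¹ * e * v = v * (e * (v * e * v⁻¹)) := by rw [hvi]; group
      _ = _ := by rw [this]
  have h2 : f.ker.map E.subtype ≤ E ⊓ centralizer {v} := by
    rintro _ ⟨e, he, rfl⟩
    refine ⟨e.2, mem_centralizer_singleton_iff.2 ?_⟩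
    have h3 : v * e * v⁻¹ * e = 1 := he
    have h4 : (e : G) * e = 1 := by rw [← sq]; exact hE.2 _ e.2
    calc (e : G) * v = (v * e * v⁻¹ * e) * e * v := by rw [h3, one_mul]
      _ = v * e * v⁻¹ * (e * e) * v := by group
      _ = v * e := by rw [h4]; group
  have h3 := card_le_of_le h1
  have h4 := card_le_of_le h2
  rw [card_map_of_injective E.subtype_injective] at h4
  rw [← f.ker.card_mul_index, index_ker, sq]
  exact Nat.mul_le_mul h4 h3

open Subgroup in
theorem sup_zpowers {G : Type*} [Group G] [Finite G] {V : Subgroup G}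
    (hV : IsElementaryAbelian 2 V) {z : G} (hz : z ∉ V) (hz2 : z ^ 2 = 1)
    (hc : ∀ v ∈ V, v * z = z * v) :
    IsElementaryAbelian 2 (V ⊔ zpowers z) ∧
      Nat.card (V ⊔ zpowers z : Subgroup G) = Nat.card V * 2 := by
  have : Fact (Nat.Prime 2) := ⟨Nat.prime_two⟩
  have h1 : V ≤ centralizer (zpowers z : Set G) := by
    rw [le_centralizer_iff, zpowers_le]
    exact hc
  have hz1 : z ≠ 1 := fun h => hz (h ▸ V.one_mem)
  have h2 : Nat.card (zpowers z) = 2 := by rw [Nat.card_zpowers, orderOf_eq_prime hz2 hz1]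
  refine ⟨CL.EA.sup hV (CL.EA.zpowers hz2) h1, ?_⟩
  rw [CL.EA.card_sup_of_disjoint (CL.EA.le_normalizer_of_le_centralizer h1), h2]
  rw [eq_bot_iff]
  rintro x ⟨hx, k, rfl⟩
  rcases Int.even_or_odd' k with ⟨m, rfl | rfl⟩
  · show z ^ (2 * m) = 1
    rw [zpow_mul, zpow_two, ← sq, hz2, one_zpow]
  · exfalso
    apply hz
    have : z ^ (2 * m + 1) = z := by
      rw [zpow_add, zpow_mul, zpow_two, ← sq, hz2, one_zpow, one_mul, zpow_one]
    rw [← this]; exact hx

theorem pow_le_of_sq {n c a : ℕ} (h : 2 ^ (2 * a + 1) ≤ n) (hn : n ≤ (2 ^ c) ^ 2) :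
    2 ^ (a + 1) ≤ 2 ^ c := by
  rw [← pow_mul] at hn
  have := (Nat.pow_le_pow_iff_right (by norm_num : 1 < 2)).1 (h.trans hn)
  exact Nat.pow_le_pow_right (by norm_num) (by omega)

open Subgroup in
theorem card_centralizer {G : Type*} [Group G] [Finite G] {E : Subgroup G}
    (hE : IsElementaryAbelian 2 E) {v : G} (hv : v ∈ normalizer (E : Set G)) (hv2 : v ^ 2 = 1)
    {a : ℕ} (h : 2 ^ (2 * a + 1) ≤ Nat.card E) :
    2 ^ (a + 1) ≤ Nat.card (E ⊓ centralizer {v} : Subgroup G) := by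
  have : Fact (Nat.Prime 2) := ⟨Nat.prime_two⟩
  obtain ⟨c, hc⟩ := CL.EA.exists_card_eq (CL.EA.mono hE (inf_le_left : E ⊓ centralizer {v} ≤ E))
  rw [hc]
  exact pow_le_of_sq h (hc ▸ card_le_sq hE hv hv2)

open Subgroup in
theorem exists_four {X : Type*} [Group X] [Finite X] (hX : IsPGroup 2 X) {E : Subgroup X} [E.Normal]
    (hE : IsElementaryAbelian 2 E) (hE32 : 32 ≤ Nat.card E) {V : Subgroup X}
    (hV : IsElementaryAbelian 2 V) (hV4 : Nat.card V = 4) :
    ∃ U : Subgroup X, U ≤ E ∧ U ≤ centralizer (V : Set X) ∧ Nat.card U = 4 := by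
  have : Fact (Nat.Prime 2) := ⟨Nat.prime_two⟩
  obtain ⟨V₁, hV₁, hc₁⟩ := Sylow.exists_subgroup_le_card_pow_prime_of_le_card (n := 1)
    Nat.prime_two hX (H := V) (by rw [hV4]; norm_num)
  obtain ⟨v₁, hv₁, ho₁⟩ := CL.ClsK.exists_orderOf_eq_of_ne_bot (hX.to_subgroup V₁)
    (fun h => by rw [h] at hc₁; simp at hc₁)
  have hz : zpowers v₁ = V₁ := eq_of_le_of_card_ge (zpowers_le.2 hv₁)
    (by rw [Nat.card_zpowers, ho₁, hc₁]; norm_num)
  obtain ⟨v₂, hv₂, hv₂'⟩ := SetLike.exists_of_lt (lt_of_le_of_ne hV₁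
    (fun h => by rw [h, hV4] at hc₁; norm_num at hc₁))
  have hVeq : V₁ ⊔ zpowers v₂ = V := by
    refine eq_of_le_of_card_ge (sup_le hV₁ (zpowers_le.2 hv₂)) ?_
    rw [(sup_zpowers (CL.EA.mono hV hV₁) hv₂' (hV.2 _ hv₂)
      (fun v hv => CL.EA.comm hV (hV₁ hv) hv₂)).2, hc₁, hV4]
    norm_num
  have h1 := card_centralizer hE (v := v₁) (le_normalizer_of_normal (K := ⊤) (mem_top _))
    (hV.2 _ (hV₁ hv₁)) (a := 2) (by simpa using hE32)
  have h2 := card_centralizer (CL.EA.mono hE (inf_le_left : E ⊓ centralizer {v₁} ≤ E)) (v := v₂)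
    (by
      apply CL.ClsK.mem_normalizer_of_conj_mem
      rintro a ⟨ha, ha'⟩
      refine ⟨Normal.conj_mem inferInstance a ha v₂, ?_⟩
      have h3 : v₂ ∈ centralizer {v₁} :=
        mem_centralizer_singleton_iff.2 (CL.EA.comm hV hv₂ (hV₁ hv₁))
      exact Subgroup.mul_mem _ (Subgroup.mul_mem _ h3 ha') (Subgroup.inv_mem _ h3))
    (hV.2 _ hv₂) (a := 1) (by simpa using h1)
  obtain ⟨U, hU, hUc⟩ := Sylow.exists_subgroup_le_card_pow_prime_of_le_card (n := 2)
    Nat.prime_two hX h2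
  refine ⟨U, fun u hu => (hU hu).1.1, ?_, hUc⟩
  rw [le_centralizer_iff, ← hVeq, ← hz, sup_le_iff, zpowers_le, zpowers_le]
  exact ⟨fun u hu => mem_centralizer_singleton_iff.1 (hU hu).1.2,
    fun u hu => mem_centralizer_singleton_iff.1 (hU hu).2⟩


/-- Let X be a finite 2-group having a normal elementary abelian subgroup of order at least 32. Then (a) for any two elementary abelian subgroups A, B of X of order 8 there is a chain A = A₁, A₂, …, Aₙ = B of elementary abelian subgroups of order 8 in which consecutive members commute elementwise; and (b) every elementary abelian subgroup of X of order 4 is contained in an elementary abelian subgroup of order 8. -/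
theorem result {X : Type*} [Group X] [Finite X]
    (hX : IsPGroup 2 X) (E : Subgroup X) [E.Normal] (hE : Cfsg.IsElementaryAbelian 2 E) (hE32 : 32 ≤ Nat.card ↥E) :
    (∀ A B : Subgroup X, Cfsg.IsElementaryAbelian 2 A → Nat.card ↥A = 8 → Cfsg.IsElementaryAbelian 2 B → Nat.card ↥B = 8 →
        Relation.ReflTransGen
          (fun C D : Subgroup X => Cfsg.IsElementaryAbelian 2 C ∧ Nat.card ↥C = 8 ∧ Cfsg.IsElementaryAbelian 2 D ∧ Nat.card ↥D = 8 ∧ ⁅C, D⁆ = ⊥)
          A B) ∧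
      (∀ V : Subgroup X, Cfsg.IsElementaryAbelian 2 V → Nat.card ↥V = 4 →
        ∃ A : Subgroup X, V ≤ A ∧ Cfsg.IsElementaryAbelian 2 A ∧ Nat.card ↥A = 8) := by
  have : Fact (Nat.Prime 2) := ⟨Nat.prime_two⟩
  constructor
  · set r := (fun C D : Subgroup X => Cfsg.IsElementaryAbelian 2 C ∧ Nat.card ↥C = 8 ∧
      Cfsg.IsElementaryAbelian 2 D ∧ Nat.card ↥D = 8 ∧ ⁅C, D⁆ = ⊥) with hr
    have hsymm : Std.Symm r := ⟨fun C D h =>
      ⟨h.2.2.1, h.2.2.2.1, h.1, h.2.1, by rw [Subgroup.commutator_comm]; exact h.2.2.2.2⟩⟩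
    have key : ∀ A : Subgroup X, Cfsg.IsElementaryAbelian 2 A → Nat.card A = 8 →
        ∃ D : Subgroup X, D ≤ E ∧ Nat.card D = 8 ∧ Relation.ReflTransGen r A D := by
      intro A hA hA8
      obtain ⟨z, hzE, hz1, hzc⟩ := CL.ClsK.exists_central_of_ne_bot (hX.to_subgroup ⊤) (N := E)
        le_top Subgroup.le_normalizer_of_normal (fun h => by rw [h] at hE32; simp at hE32)
      have hz2 : z ^ 2 = 1 := hE.2 z hzE
      obtain ⟨V, hVA, hzV, hV4⟩ : ∃ V : Subgroup X, V ≤ A ∧ z ∉ V ∧ Nat.card V = 4 := by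
        by_cases hzA : z ∈ A
        · obtain ⟨M, -, hMA, hzM, hM⟩ := CL.ClsK.exists_index_two (Q := A) (W := ⊥) bot_le
            (fun a ha => by rw [← sq, hA.2 a ha]; exact Subgroup.one_mem _) (w := z) hz1
          refine ⟨M, hMA, hzM, ?_⟩
          have h1 := (sup_zpowers (CL.EA.mono hA hMA) hzM hz2
            (fun v _ => hzc v (Subgroup.mem_top _))).2
          have h2 : M ⊔ Subgroup.zpowers z = A := by
            refine le_antisymm (sup_le hMA (Subgroup.zpowers_le.2 hzA)) fun x hx => ?_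
            by_cases hxM : x ∈ M
            · exact Subgroup.mem_sup_left hxM
            · have := Subgroup.mul_mem_sup (hM hzA x hx z hzA hxM hzM)
                (Subgroup.inv_mem _ (Subgroup.mem_zpowers z))
              simpa using this
          rw [h2, hA8] at h1
          omega
        · obtain ⟨V, hV, hVc⟩ := Sylow.exists_subgroup_le_card_pow_prime_of_le_card (n := 2)
            Nat.prime_two hX (H := A) (by rw [hA8]; norm_num)
          exact ⟨V, hV, fun h => hzA (hV h), hVc⟩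
      have hV := CL.EA.mono hA hVA
      obtain ⟨hB, hB8⟩ := sup_zpowers hV hzV hz2 (fun v _ => hzc v (Subgroup.mem_top _))
      rw [hV4] at hB8
      obtain ⟨U, hUE, hUV, hU4⟩ := exists_four hX hE hE32 hV hV4
      have hU := CL.EA.mono hE hUE
      have hUB : U ≤ Subgroup.centralizer ((V ⊔ Subgroup.zpowers z : Subgroup X) : Set X) := by
        rw [Subgroup.le_centralizer_iff, sup_le_iff, Subgroup.zpowers_le,
          Subgroup.le_centralizer_iff]
        exact ⟨hUV, fun u _ => hzc u (Subgroup.mem_top _)⟩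
      obtain ⟨b, hb, hbU⟩ : ∃ b ∈ V ⊔ Subgroup.zpowers z, b ∉ U := by
        by_contra h
        push Not at h
        have := Subgroup.card_le_of_le (show V ⊔ Subgroup.zpowers z ≤ U from h)
        omega
      obtain ⟨hB', hB8'⟩ := sup_zpowers hU hbU (hB.2 b hb) (fun u hu => (hUB hu b hb).symm)
      rw [hU4] at hB8'
      have h1 := card_centralizer hE (v := b)
        (Subgroup.le_normalizer_of_normal (K := ⊤) (Subgroup.mem_top _)) (hB.2 b hb) (a := 2)
        (by simpa using hE32)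
      obtain ⟨D, hD, hD8⟩ := Sylow.exists_subgroup_le_card_pow_prime_of_le_card (n := 3)
        Nat.prime_two hX h1
      have hDE : D ≤ E := hD.trans inf_le_left
      have c1 : ⁅A, V ⊔ Subgroup.zpowers z⁆ = ⊥ := by
        rw [Subgroup.commutator_comm, Subgroup.commutator_eq_bot_iff_le_centralizer, sup_le_iff,
          Subgroup.zpowers_le]
        exact ⟨CL.EA.le_centralizer_of_le hA hVA le_rfl, fun u _ => hzc u (Subgroup.mem_top _)⟩
      have c2 : ⁅V ⊔ Subgroup.zpowers z, U ⊔ Subgroup.zpowers b⁆ = ⊥ := by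
        rw [Subgroup.commutator_comm, Subgroup.commutator_eq_bot_iff_le_centralizer, sup_le_iff,
          Subgroup.zpowers_le]
        exact ⟨hUB, CL.EA.le_centralizer hB hb⟩
      have c3 : ⁅U ⊔ Subgroup.zpowers b, D⁆ = ⊥ := by
        rw [Subgroup.commutator_eq_bot_iff_le_centralizer, sup_le_iff, Subgroup.zpowers_le]
        exact ⟨CL.EA.le_centralizer_of_le hE hUE hDE,
          fun d hd => Subgroup.mem_centralizer_singleton_iff.1 (hD hd).2⟩
      exact ⟨D, hDE, hD8, ((Relation.ReflTransGen.single ⟨hA, hA8, hB, hB8, c1⟩).tail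
        ⟨hB, hB8, hB', hB8', c2⟩).tail ⟨hB', hB8', CL.EA.mono hE hDE, hD8, c3⟩⟩
    intro A B hA hA8 hB hB8
    obtain ⟨D, hDE, hD8, hAD⟩ := key A hA hA8
    obtain ⟨D', hDE', hD8', hBD⟩ := key B hB hB8
    refine (hAD.tail ⟨CL.EA.mono hE hDE, hD8, CL.EA.mono hE hDE', hD8', ?_⟩).trans
      (Relation.ReflTransGen.stdSymm.symm _ _ hBD)
    rw [Subgroup.commutator_eq_bot_iff_le_centralizer]
    exact CL.EA.le_centralizer_of_le hE hDE hDE'
  · intro V hV hV4
    obtain ⟨U, hUE, hUV, hU4⟩ := exists_four hX hE hE32 hV hV4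
    obtain ⟨e, heE, heV, hec⟩ : ∃ e ∈ E, e ∉ V ∧ e ∈ Subgroup.centralizer (V : Set X) := by
      by_cases h : U ≤ V
      · have hUV' : U = V := Subgroup.eq_of_le_of_card_ge h (by omega)
        obtain ⟨e, he, heV⟩ : ∃ e ∈ E, e ∉ V := by
          by_contra h
          push Not at h
          have := Subgroup.card_le_of_le (show E ≤ V from h)
          omega
        exact ⟨e, he, heV, CL.EA.le_centralizer_of_le hE le_rfl (hUV' ▸ hUE) he⟩
      · obtain ⟨e, he, heV⟩ := SetLike.not_le_iff_exists.1 h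
        exact ⟨e, hUE he, heV, hUV he⟩
    obtain ⟨h1, h2⟩ := sup_zpowers hV heV (hE.2 e heE) hec
    exact ⟨_, le_sup_left, h1, by rw [h2, hV4]⟩

end Cfsg.Agent.S1785
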