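import Cfsg.Statements.S1786
import Cfsg.Agent.Base
import Cfsg.Agent.TI.Shear
import Cfsg.Agent.ClsK.TI2
import Cfsg.Agent.PGrp.Uniserial
import Cfsg.Agent.Solv.FrattiniP
import Cfsg.Agent.S1265

set_option autoImplicit false
open Cfsg

namespace Cfsg.Agent.S1786

open Subgroup CL CL.ClsK CL.TI
open scoped commutatorElement

theorem large_of {G : Type*} [Group G] [Finite G] {V Q : Subgroup G}
    (hsq : ∀ v ∈ V, v * v = 1) (hti : IsTI V) (hQM : Q ≤ normalizer (V : Set G))
    (hMQ : normalizer (V : Set G) ≤ normalizer (Q : Set G)) (hQ2 : IsPGroup 2 Q)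
    (hmax : ∀ K : Subgroup G, K ≤ normalizer (V : Set G) →
      normalizer (V : Set G) ≤ normalizer (K : Set G) → IsPGroup 2 K → K ≤ Q)
    (hCQ : ∀ y ∈ normalizer (V : Set G), (∀ u ∈ Q, y * u = u * y) → y ∈ Q)
    (h2 : ∀ A : Subgroup G, V ≤ A → A ≤ Subgroup.normalizer (V : Set G) → IsMulCommutative ↥A →
      (∀ m ∈ Subgroup.normalizer (V : Set G), ∀ a ∈ A, m * a * m⁻¹ ∈ A) → A = V) :
    Large V (Q ⊓ centralizer (V : Set G)) := by
  set P := Q ⊓ centralizer (V : Set G) with hP
  have hVQ : V ≤ Q := hmax V le_normalizer le_rfl (isPGroup_of_sq hsq)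
  have hle : V ≤ P := fun v hv => ⟨hVQ hv, fun w hw => comm_of_sq hsq w hw v hv⟩
  have hcent : ∀ x ∈ P, ∀ v ∈ V, x * v = v * x := fun x hx v hv => (hx.2 v hv).symm
  have hconj : ∀ m ∈ normalizer (V : Set G), ∀ y : G, (∀ v ∈ V, y * v = v * y) →
      ∀ v ∈ V, m * y * m⁻¹ * v = v * (m * y * m⁻¹) := by
    intro m hm y hy v hv
    have := hy _ (conj_inv_mem_of_mem_normalizer hm hv)
    calc m * y * m⁻¹ * v = m * (y * (m⁻¹ * v * m)) * m⁻¹ := by group
      _ = m * (m⁻¹ * v * m * y) * m⁻¹ := by rw [this]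
      _ = v * (m * y * m⁻¹) := by group
  have hnorm : normalizer (V : Set G) ≤ normalizer (P : Set G) := fun m hm =>
    mem_normalizer_of_conj_mem fun x hx => ⟨conj_mem_of_mem_normalizer (hMQ hm) hx.1,
      fun v hv => (hconj m hm x (hcent x hx) v hv).symm⟩
  have hPM : P ≤ normalizer (V : Set G) := inf_le_left.trans hQM
  have habel : ∀ A : Subgroup G, A ≤ P → (∀ a ∈ A, ∀ b ∈ A, a * b = b * a) →
      (∀ m ∈ normalizer (V : Set G), ∀ a ∈ A, m * a * m⁻¹ ∈ A) → A ≤ V := by
    intro A hA hc hn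
    have hd : ∀ w ∈ V ⊔ A, ∃ v ∈ V, ∃ a ∈ A, v * a = w := fun w hw =>
      exists_mul_of_mem_sup (hA.trans hPM) hw
    rw [← h2 (V ⊔ A) le_sup_left (sup_le le_normalizer (hA.trans hPM))
      (isMulCommutative_of_comm fun x hx y hy => ?_) fun m hm x hx => ?_]
    · exact le_sup_right
    · obtain ⟨v, hv, a, ha, rfl⟩ := hd x hx
      obtain ⟨w, hw, b, hb, rfl⟩ := hd y hy
      have c1 : Commute v w := comm_of_sq hsq v hv w hw
      have c2 : Commute v b := (hcent b (hA hb) v hv).symm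
      have c3 : Commute a w := hcent a (hA ha) w hw
      have c4 : Commute a b := hc a ha b hb
      exact ((c1.mul_right c2).mul_left (c3.mul_right c4)).eq
    · obtain ⟨v, hv, a, ha, rfl⟩ := hd x hx
      have e : m * (v * a) * m⁻¹ = m * v * m⁻¹ * (m * a * m⁻¹) := by group
      rw [e]
      exact mul_mem_sup (conj_mem_of_mem_normalizer hm hv) (hn m hm a ha)
  -- the subgroup of elements of `N(V)` centralizing `V` and `P/V`
  let K : Subgroup G :=
    { carrier := {y | y ∈ normalizer (V : Set G) ∧ (∀ x ∈ P, ⁅y, x⁆ ∈ V) ∧ ∀ v ∈ V, y * v = v * y}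
      mul_mem' := by
        rintro y z ⟨hy, hy1, hy2⟩ ⟨hz, hz1, hz2⟩
        refine ⟨mul_mem hy hz, fun x hx => ?_, fun v hv => ?_⟩
        · have e : ⁅y * z, x⁆ = y * ⁅z, x⁆ * y⁻¹ * ⁅y, x⁆ := by
            simp only [commutatorElement_def]; group
          rw [e]
          exact V.mul_mem (conj_mem_of_mem_normalizer hy (hz1 x hx)) (hy1 x hx)
        · rw [mul_assoc, hz2 v hv, ← mul_assoc, hy2 v hv, mul_assoc]
      one_mem' := ⟨one_mem _, fun x _ => by simp, fun v _ => by simp⟩
      inv_mem' := by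
        rintro y ⟨hy, hy1, hy2⟩
        refine ⟨inv_mem hy, fun x hx => ?_, fun v hv => (Commute.inv_left (hy2 v hv)).eq⟩
        have e : ⁅y⁻¹, x⁆ = y⁻¹ * ⁅y, x⁆⁻¹ * y := by simp only [commutatorElement_def]; group
        rw [e]
        exact conj_inv_mem_of_mem_normalizer hy (V.inv_mem (hy1 x hx)) }
  have hKn : ∀ m ∈ normalizer (V : Set G), ∀ y ∈ K, m * y * m⁻¹ ∈ K := by
    rintro m hm y ⟨hy, hy1, hy2⟩
    refine ⟨mul_mem (mul_mem hm hy) (inv_mem hm), fun x hx => ?_, hconj m hm y hy2⟩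
    have e : ⁅m * y * m⁻¹, x⁆ = m * ⁅y, m⁻¹ * x * m⁆ * m⁻¹ := by
      simp only [commutatorElement_def]; group
    rw [e]
    exact conj_mem_of_mem_normalizer hm (hy1 _ (conj_inv_mem_of_mem_normalizer (hnorm hm) hx))
  have hP2 : IsPGroup 2 P := hQ2.to_inf_left
  have hPP : ⁅P, P⁆ ≤ P := commutator_le_self P
  have hcomm : ⁅P, P⁆ ≤ V := by
    have hA : K ⊓ ⁅P, P⁆ ≤ V := by
      refine habel _ (inf_le_right.trans hPP) (fun a ha c hc => ?_) fun m hm a ha => ⟨hKn m hm a ha.1, ?_⟩
      · have : ⁅P, P⁆ ≤ centralizer ({a} : Set G) := by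
          rw [commutator_le]
          intro x hx y hy
          rw [mem_centralizer_singleton_iff]
          have e1 := conj_eq_cm_mul a x
          have e2 := conj_eq_cm_mul a y
          have hv := ha.1.2.1 x hx
          have hw := ha.1.2.1 y hy
          have c1 : Commute ⁅a, x⁆ x := (hcent x hx _ hv).symm
          have c2 : Commute ⁅a, x⁆ y := (hcent y hy _ hv).symm
          have c3 : Commute ⁅a, y⁆ x := (hcent x hx _ hw).symm
          have c5 : Commute ⁅a, x⁆ ⁅a, y⁆ := comm_of_sq hsq _ hv _ hw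
          have e : a * ⁅x, y⁆ * a⁻¹ = ⁅x, y⁆ := by
            rw [conjugate_commutatorElement, e1, e2]
            have c6 : Commute ⁅a, y⁆ ⁅x, y⁆ :=
              (hcent _ (hPP (commutator_mem_commutator hx hy)) _ hw).symm
            generalize ⁅a, x⁆ = v at c1 c2 c5
            generalize ⁅a, y⁆ = w at c3 c5 c6
            calc ⁅v * x, w * y⁆ = v * (x * w) * y * x⁻¹ * v⁻¹ * y⁻¹ * w⁻¹ := by
                  simp only [commutatorElement_def]; group
              _ = (v * (w * x * y * x⁻¹)) * v⁻¹ * y⁻¹ * w⁻¹ := by rw [← c3.eq]; group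
              _ = w * (x * y * x⁻¹ * y⁻¹) * w⁻¹ := by
                  rw [(((c5.mul_right c1).mul_right c2).mul_right c1.inv_right).eq]; group
              _ = ⁅x, y⁆ := by
                  rw [← commutatorElement_def, c6.eq, mul_inv_cancel_right]
          exact (mul_inv_eq_iff_eq_mul.1 e).symm
        exact (mem_centralizer_singleton_iff.1 (this hc.2)).symm
      · have := conj_mem_cj (g := m) ha.2
        rwa [cj, map_commutator, show P.map _ = P from cj_eq_iff.2 (hnorm hm)] at this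
    have hN : P ≤ normalizer ((⁅P, P⁆ : Subgroup G) : Set G) := fun m hm => by
      rw [← cj_eq_iff, cj, map_commutator, show P.map _ = P from cj_eq_iff.2 (le_normalizer hm)]
    obtain ⟨k, hk⟩ := PGrp.Chain.exists_iterCommutator_eq_bot (hP2.to_le hPP) hP2 hN
    have hsub : ∀ i, Cfsg.iterCommutator ⁅P, P⁆ P i ≤ ⁅P, P⁆ := by
      intro i
      induction i with
      | zero => exact le_rfl
      | succ i ih => exact commutator_mono (ih.trans hPP) le_rfl
    have hdesc : ∀ i, Cfsg.iterCommutator ⁅P, P⁆ P i ≤ V → ⁅P, P⁆ ≤ V := by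
      intro i
      induction i with
      | zero => exact id
      | succ i ih =>
        intro hi
        refine ih fun y hy => hA ⟨⟨hPM (hPP (hsub i hy)), fun x hx =>
          hi (commutator_mem_commutator hy hx), hcent y (hPP (hsub i hy))⟩, hsub i hy⟩
    exact hdesc k (hk ▸ bot_le)
  have hcenter : ∀ x ∈ P, (∀ y ∈ P, x * y = y * x) → x ∈ V := by
    intro x hx hc
    refine habel (P ⊓ centralizer (P : Set G)) inf_le_left
      (fun a ha b hb => (hb.2 a ha.1)) (fun m hm a ha => ?_) ⟨hx, fun y hy => (hc y hy).symm⟩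
    refine ⟨conj_mem_of_mem_normalizer (hnorm hm) ha.1, fun y hy => ?_⟩
    have := ha.2 _ (conj_inv_mem_of_mem_normalizer (hnorm hm) hy)
    calc y * (m * a * m⁻¹) = m * (m⁻¹ * y * m * a) * m⁻¹ := by group
      _ = m * (a * (m⁻¹ * y * m)) * m⁻¹ := by rw [this]
      _ = m * a * m⁻¹ * y := by group
  have hsq2 : ∀ y x : G, ⁅y, x⁆ ∈ V → (∀ v ∈ V, y * v = v * y) → y * y * x = x * (y * y) := by
    intro y x hv hy
    have e : ⁅y * y, x⁆ = y * ⁅y, x⁆ * y⁻¹ * ⁅y, x⁆ := by simp only [commutatorElement_def]; group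
    rw [← cm_eq_one, e, hy _ hv, mul_inv_cancel_right, hsq _ hv]
  have hK2 : IsPGroup 2 K := by
    rintro ⟨y, hy, hy1, hy2⟩
    have hz : ∀ x ∈ P, y * y * x = x * (y * y) := fun x hx => hsq2 y x (hy1 x hx) hy2
    have hzM : y * y ∈ normalizer (V : Set G) := mul_mem hy hy
    have hz2 : ∀ u ∈ Q, y * y * (y * y) * u = u * (y * y * (y * y)) := by
      intro u hu
      refine hsq2 _ u ?_ fun v hv => hz v (hle hv)
      have hc : ∀ x ∈ P, ⁅y * y, u⁆ * x = x * ⁅y * y, u⁆ := by
        intro x hx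
        have h1 : Commute (y * y) x := hz x hx
        have h3 : Commute (y * y) (u⁻¹ * x * u) :=
          hz _ (conj_inv_mem_of_mem_normalizer (hnorm (hQM hu)) hx)
        calc ⁅y * y, u⁆ * x = y * y * u * ((y * y)⁻¹ * (u⁻¹ * x * u)) * u⁻¹ := by
              simp only [commutatorElement_def]; group
          _ = y * y * x * u * (y * y)⁻¹ * u⁻¹ := by rw [h3.inv_left.eq]; group
          _ = x * ⁅y * y, u⁆ := by rw [h1.eq]; simp only [commutatorElement_def]; group
      exact hcenter _ ⟨cm_mem_left (hMQ hzM) hu, fun v hv => (hc v (hle hv)).symm⟩ hc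
    obtain ⟨k, hk⟩ := exists_pow_eq_one_of_mem hQ2 (hCQ _ (mul_mem hzM hzM) hz2)
    refine ⟨2 + k, Subtype.ext ?_⟩
    change y ^ 2 ^ (2 + k) = 1
    rw [pow_add, pow_mul, ← hk]
    congr 1
    rw [show 2 ^ 2 = 1 + 1 + 1 + 1 from rfl]
    simp only [pow_add, pow_one, mul_assoc]
  exact ⟨hsq, hti, hle, hcent, hnorm, fun x hx y hy => hcomm (commutator_mem_commutator hx hy),
    habel, fun y hy hy1 hy2 => ⟨hmax K (fun _ h => h.1)
      (fun m hm => mem_normalizer_of_conj_mem (hKn m hm)) hK2 ⟨hy, hy1, hy2⟩,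
      fun v hv => (hy2 v hv).symm⟩⟩


/-- Let G be a finite group, V an elementary abelian 2-subgroup of G and M the normalizer of V; write Q for the largest normal 2-subgroup of M. Suppose (1) the generalized Fitting subgroup of M equals Q; (2) V is a maximal abelian normal subgroup of M; (3) every conjugate of V equals V or meets V trivially, and for some g ∈ G the conjugate V' = g V g⁻¹ is different from V and contained in Q. Let P be the centralizer of V in Q, W the subgroup generated by V and V', and H the subgroup generated by P and g P g⁻¹. Then: (a) V is contained in g Q g⁻¹; (b) every non-identity element of W lies in exactly one conjugate of V contained in W, H normalizes W, and H modulo the centralizer of W in H is isomorphic to the special linear group of dimension 2 over the field with |V| elements; (c) P = Q, and V equals the Frattini subgroup, the centre and the commutator subgroup of Q. -/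
theorem result {G : Type*} [Group G] [Finite G] (V : Subgroup G)
    (hV : Cfsg.IsElementaryAbelian 2 V)
    (h1 : (Cfsg.generalizedFittingSubgroup ↥(Subgroup.normalizer (V : Set G))).map (Subgroup.normalizer (V : Set G)).subtype =
      (Cfsg.pCore 2 ↥(Subgroup.normalizer (V : Set G))).map (Subgroup.normalizer (V : Set G)).subtype)
    (h2 : ∀ A : Subgroup G, V ≤ A → A ≤ Subgroup.normalizer (V : Set G) → IsMulCommutative ↥A →
      (∀ m ∈ Subgroup.normalizer (V : Set G), ∀ a ∈ A, m * a * m⁻¹ ∈ A) → A = V)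
    (hti : ∀ x : G, V.map (MulAut.conj x).toMonoidHom = V ∨ V.map (MulAut.conj x).toMonoidHom ⊓ V = ⊥)
    (g : G) (hg : V.map (MulAut.conj g).toMonoidHom ≠ V)
    (hgQ : V.map (MulAut.conj g).toMonoidHom ≤ (Cfsg.pCore 2 ↥(Subgroup.normalizer (V : Set G))).map (Subgroup.normalizer (V : Set G)).subtype) :
    let Q : Subgroup G := (Cfsg.pCore 2 ↥(Subgroup.normalizer (V : Set G))).map (Subgroup.normalizer (V : Set G)).subtype
    let P : Subgroup G := Q ⊓ Subgroup.centralizer (V : Set G)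
    let W : Subgroup G := V ⊔ V.map (MulAut.conj g).toMonoidHom
    let H : Subgroup G := P ⊔ P.map (MulAut.conj g).toMonoidHom
    V ≤ Q.map (MulAut.conj g).toMonoidHom ∧
      (∀ w ∈ W, w ≠ 1 → ∃! U : Subgroup G, (∃ x : G, U = V.map (MulAut.conj x).toMonoidHom) ∧ U ≤ W ∧ w ∈ U) ∧
      H ≤ Subgroup.normalizer (W : Set G) ∧
      (∀ hN : ((Subgroup.centralizer (W : Set G)).subgroupOf H).Normal, ∃ (F : Type) (_ : Field F) (_ : Fintype F), Fintype.card F = Nat.card ↥V ∧
        Nonempty (↥H ⧸ (Subgroup.centralizer (W : Set G)).subgroupOf H ≃* Matrix.SpecialLinearGroup (Fin 2) F)) ∧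
      P = Q ∧ (frattini ↥Q).map Q.subtype = V ∧ (Subgroup.center ↥Q).map Q.subtype = V ∧ (commutator ↥Q).map Q.subtype = V := by
  intro Q P W H
  have hsq : ∀ v ∈ V, v * v = 1 := fun v hv => by rw [← sq]; exact hV.2 v hv
  have hti' : IsTI V := hti
  have hQM : Q ≤ normalizer (V : Set G) := map_subtype_le _
  have hMQ : normalizer (V : Set G) ≤ normalizer (Q : Set G) :=
    le_normalizer.trans (normalizer_le_normalizer_pCore 2 _)
  have hQ2 : IsPGroup 2 Q := (pCore_isPGroup 2 _).map _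
  have hL : Large V P := by
    refine large_of hsq hti' hQM hMQ hQ2 (fun K h1 h2 h3 => le_map_subtype_pCore h1 h2 h3)
      (fun y hy hc => ?_) h2
    have := Cfsg.Agent.S1265.result (G := ↥(normalizer (V : Set G))) (x := ⟨y, hy⟩) (by
      intro u hu
      have hu' : (u : G) ∈ Q := by
        change (u : G) ∈ (Cfsg.pCore 2 ↥(normalizer (V : Set G))).map _
        rw [← h1]; exact ⟨u, hu, rfl⟩
      exact Subtype.ext (hc u hu').symm)
    change y ∈ (Cfsg.pCore 2 ↥(normalizer (V : Set G))).map _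
    rw [← h1]; exact ⟨_, this, rfl⟩
  have hB : IsCj V (cj g V) := (IsCj.refl V).cj g
  have hBP : cj g V ≤ P := fun b hb => ⟨hgQ hb, fun v hv =>
    IsCj.comm_of_le_normalizer hti' hsq (IsCj.refl V) hB (hgQ.trans hQM) v hv b hb⟩
  have hVX := hL.le_cj hBP hg
  have hX := hL.cj g
  obtain ⟨F, iF, fF, hF, ⟨ρ, hρ, hker⟩, htr⟩ := exists_sl2 hL hBP hg
  have hPQ : P = Q := by
    refine le_antisymm inf_le_left fun u hu => ⟨hu, fun v hv => ?_⟩
    obtain ⟨v₀, hv₀, hv1⟩ := hB.symm.exists_ne_one (Ne.symm hg)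
    obtain ⟨z, hz, hz1, hzc⟩ := exists_central_of_ne_bot hQ2 (hL.le.trans inf_le_left) hQM
      (fun h => hv1 (by rwa [h, mem_bot] at hv₀))
    by_cases hv1 : v = 1
    · simp [hv1]
    obtain ⟨n, hn, rfl⟩ := htr z hz hz1 v hv hv1
    have := hzc _ (conj_inv_mem_of_mem_normalizer (hMQ hn) hu)
    calc n * z * n⁻¹ * u = n * (z * (n⁻¹ * u * n)) * n⁻¹ := by group
      _ = n * (n⁻¹ * u * n * z) * n⁻¹ := by rw [this]
      _ = u * (n * z * n⁻¹) := by group
  have hWP : ∀ y ∈ P, y ∈ normalizer (W : Set G) := fun y hy =>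
    mem_normalizer_of_conj_mem fun w hw => by
      rw [conj_eq_cm_mul]
      exact mul_mem (mem_sup_left (hL.comm y hy w (sup_le hL.le hBP hw))) hw
  have hWX : ∀ y ∈ cj g P, y ∈ normalizer (W : Set G) := fun y hy =>
    mem_normalizer_of_conj_mem fun w hw => by
      rw [conj_eq_cm_mul]
      exact mul_mem (mem_sup_right (hX.comm y hy w (sup_le hVX hX.le hw))) hw
  have hcm : ⁅Q, Q⁆ = V := by
    rw [← hPQ]
    refine le_antisymm (commutator_le.2 hL.comm) fun v hv => ?_
    obtain ⟨b, hb, hb1⟩ := hB.exists_ne_one hg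
    obtain ⟨y, hy, rfl⟩ := hL.exists_cm_eq hB hBP hg hb hb1 hv
    exact commutator_mem_commutator hy (hBP hb)
  refine ⟨hVX.trans (cj_mono g inf_le_left), fun w hw hw1 => ?_, sup_le hWP hWX,
    fun hN => ⟨F, iF, fF, hF, ⟨(QuotientGroup.quotientMulEquivOfEq hker.symm).trans
      (QuotientGroup.quotientKerEquivOfSurjective ρ hρ)⟩⟩, hPQ, ?_, ?_, ?_⟩
  · refine existsUnique_of_exists_of_unique ?_ fun A B hA hB =>
      IsCj.eq_of_mem hti' hA.1 hB.1 hw1 hA.2.2 hB.2.2
    obtain ⟨v, hv, b, hb, rfl⟩ := (hL.mem_sup_iff hBP).1 hw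
    by_cases hb1 : b = 1
    · exact ⟨V, IsCj.refl V, le_sup_left, by rwa [hb1, mul_one]⟩
    obtain ⟨y, hy, he⟩ := hL.exists_conj_eq hB hBP hg hb hb1 hv
    exact ⟨cj y (cj g V), hB.cj y, cj_le_of_mem_normalizer (hWP y hy) le_sup_right,
      he ▸ conj_mem_cj hb⟩
  · have := hQ2.isNilpotent
    refine le_antisymm (map_le_iff_le_comap.2 (frattini_le_of_commutator_le_of_pow_mem (p := 2)
      ?_ fun x => ?_)) (hcm ▸ commutator_le_map_frattini Q)
    · rw [← map_le_iff_le_comap, map_subtype_commutator, hcm]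
    · change (x : G) ^ 2 ∈ V
      rw [sq]; exact hL.sq_mem (hPQ.ge x.2)
  · refine le_antisymm ?_ fun v hv => ⟨⟨v, hPQ.le (hL.le hv)⟩, mem_center_iff.2 fun y =>
      Subtype.ext (hL.cent y (hPQ.ge y.2) v hv), rfl⟩
    rintro _ ⟨x, hx, rfl⟩
    exact hL.center (hPQ.ge x.2) fun y hy =>
      (congrArg Subtype.val (mem_center_iff.1 hx ⟨y, hPQ.le hy⟩)).symm
  · rw [map_subtype_commutator, hcm]

end Cfsg.Agent.S1786
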